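import Mathlib
import Cfsg.Agent.Helper7.MinDegB

/-!
# Doubly transitive groups: the second moment of the intersection of a set with its translates,
and the commutator of two permutations whose supports meet in one point
-/

set_option autoImplicit false

namespace Cfsg.Agent.Helper7.MinDeg

open MulAction

/-- two permutations whose supports meet in exactly one point have a `3`-cycle as commutator. -/
theorem isThreeCycle_comm {Ω : Type*} [DecidableEq Ω] [Fintype Ω] {x y : Equiv.Perm Ω} {α : Ω} (hx : x α ≠ α)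
    (hy : y α ≠ α) (h : ∀ p, x p ≠ p → y p ≠ p → p = α) : (x⁻¹ * y⁻¹ * x * y).IsThreeCycle := by
  have hc : ∀ p, (x⁻¹ * y⁻¹ * x * y) p = x⁻¹ (y⁻¹ (x (y p))) := fun p => rfl
  have hfx : ∀ p, y p ≠ p → p ≠ α → x p = p := by
    intro p hp hpa
    by_contra hcon
    exact hpa (h p hcon hp)
  have hfy : ∀ p, x p ≠ p → p ≠ α → y p = p := by
    intro p hp hpa
    by_contra hcon
    exact hpa (h p hp hcon)
  have hinv1 : ∀ (σ : Equiv.Perm Ω) (p : Ω), σ⁻¹ (σ p) = p := fun σ p => by rw [Equiv.Perm.inv_eq_iff_eq]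
  have hinv2 : ∀ (σ : Equiv.Perm Ω) (p : Ω), σ (σ⁻¹ p) = p := fun σ p =>
    (Equiv.Perm.eq_inv_iff_eq (f := σ) (x := σ⁻¹ p) (y := p)).mp rfl
  have hinvx : ∀ p, x p = p → x⁻¹ p = p := fun p hp => by rw [Equiv.Perm.inv_eq_iff_eq, hp]
  have hinvy : ∀ p, y p = p → y⁻¹ p = p := fun p hp => by rw [Equiv.Perm.inv_eq_iff_eq, hp]
  obtain ⟨a, ha⟩ : ∃ a, a = x⁻¹ α := ⟨_, rfl⟩
  obtain ⟨b, hb⟩ : ∃ b, b = y⁻¹ α := ⟨_, rfl⟩
  have hxa : x a = α := by rw [ha, hinv2]
  have hyb : y b = α := by rw [hb, hinv2]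
  have haα : a ≠ α := by
    intro h1
    rw [h1] at hxa
    exact hx hxa
  have hbα : b ≠ α := by
    intro h1
    rw [h1] at hyb
    exact hy hyb
  have hxa' : x a ≠ a := by rw [hxa]; exact haα.symm
  have hyb' : y b ≠ b := by rw [hyb]; exact hbα.symm
  have hab : a ≠ b := by
    intro h1
    apply haα
    apply h a hxa'
    rw [h1]
    exact hyb'
  have hya : y a = a := hfy a hxa' haα
  have hxb : x b = b := hfx b hyb' hbα
  -- images
  have hxβ : x (x α) ≠ x α := fun h1 => hx (x.injective h1)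
  have hyδ : y (y α) ≠ y α := fun h1 => hy (y.injective h1)
  have hyβ : y (x α) = x α := hfy _ hxβ hx
  have hxδ : x (y α) = y α := hfx _ hyδ hy
  have hcα : (x⁻¹ * y⁻¹ * x * y) α = a := by
    rw [hc, hxδ, hinv1, ha]
  have hca : (x⁻¹ * y⁻¹ * x * y) a = b := by
    rw [hc, hya, hxa, ← hb, hinvx b hxb]
  have hcb : (x⁻¹ * y⁻¹ * x * y) b = α := by
    rw [hc, hyb, hinvy _ hyβ, hinv1]
  have hother : ∀ p, p ≠ α → p ≠ a → p ≠ b → (x⁻¹ * y⁻¹ * x * y) p = p := by
    intro p hpα hpa hpb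
    rw [hc]
    by_cases hyp : y p = p
    · rw [hyp]
      by_cases hxp : x p = p
      · rw [hxp, hinvy p hyp, hinvx p hxp]
      · have h1 : x (x p) ≠ x p := fun h1 => hxp (x.injective h1)
        have h2 : x p ≠ α := by
          intro h2
          apply hpa
          rw [ha, ← h2, hinv1]
        rw [hinvy _ (hfy _ h1 h2), hinv1]
    · have hxp : x p = p := hfx p hyp hpα
      have h1 : y (y p) ≠ y p := fun h1 => hyp (y.injective h1)
      have h2 : y p ≠ α := by
        intro h2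
        apply hpb
        rw [hb, ← h2, hinv1]
      rw [hfx _ h1 h2, hinv1, hinvx p hxp]
  rw [← card_support_eq_three_iff]
  have hsupp : (x⁻¹ * y⁻¹ * x * y).support = {α, a, b} := by
    ext p
    rw [Equiv.Perm.mem_support, Finset.mem_insert, Finset.mem_insert, Finset.mem_singleton]
    constructor
    · intro hp
      by_contra hcon
      rw [not_or, not_or] at hcon
      exact hp (hother p hcon.1 hcon.2.1 hcon.2.2)
    · rintro (rfl | rfl | rfl)
      · rw [hcα]; exact haα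
      · rw [hca]; exact hab.symm
      · rw [hcb]; exact hbα.symm
  rw [hsupp, Finset.card_insert_of_notMem, Finset.card_insert_of_notMem, Finset.card_singleton]
  · rw [Finset.mem_singleton]; exact hab
  · rw [Finset.mem_insert, Finset.mem_singleton, not_or]
    exact ⟨haα.symm, hbα.symm⟩

variable {G : Type*} [Group G] [Fintype G]

/-- translating the two points does not change the number of group elements mapping one to the other. -/
theorem card_fibre_eq {X : Type*} [MulAction G X] [DecidableEq X] {x y x' y' : X} {a b : G} (ha : a • x' = x)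
    (hb : b • y = y') :
    (Finset.univ.filter (fun h : G => h • x = y)).card = (Finset.univ.filter (fun h : G => h • x' = y')).card := by
  apply Finset.card_equiv ((Equiv.mulLeft b).trans (Equiv.mulRight a))
  intro h
  rw [Finset.mem_filter, Finset.mem_filter]
  simp only [Finset.mem_univ, true_and, Equiv.trans_apply, Equiv.coe_mulLeft, Equiv.coe_mulRight]
  rw [mul_smul, mul_smul, ha, ← hb]
  exact ⟨fun h1 => by rw [h1], fun h1 => MulAction.injective b h1⟩

/-- the first moment of the intersection numbers. -/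
theorem sum_card_filter_inv {X : Type*} [MulAction G X] [DecidableEq X] (A : Finset X) (s : ℕ)
    (hs : ∀ x ∈ A, ∀ y ∈ A, (Finset.univ.filter (fun h : G => h • x = y)).card = s) :
    ∑ h : G, (A.filter (fun a => h⁻¹ • a ∈ A)).card = A.card * A.card * s := by
  classical
  have h1 := Finset.sum_card_bipartiteAbove_eq_sum_card_bipartiteBelow
    (s := (Finset.univ : Finset G)) (t := A) (fun h a => h⁻¹ • a ∈ A)
  unfold Finset.bipartiteAbove Finset.bipartiteBelow at h1
  rw [h1]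
  have h2 : ∀ a ∈ A, (Finset.univ.filter (fun h : G => h⁻¹ • a ∈ A)).card = A.card * s := by
    intro a ha
    rw [Finset.card_eq_sum_card_fiberwise (s := Finset.univ.filter (fun h : G => h⁻¹ • a ∈ A))
      (f := fun h : G => h⁻¹ • a) (t := A) (fun h hh => (Finset.mem_filter.mp hh).2)]
    rw [Finset.sum_congr rfl (g := fun _ => s), Finset.sum_const, smul_eq_mul]
    intro b hb
    rw [← hs b hb a ha]
    congr 1
    ext h
    simp only [Finset.mem_filter, Finset.mem_univ, true_and]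
    constructor
    · rintro ⟨-, h3⟩
      rw [← h3, smul_inv_smul]
    · intro h3
      rw [← h3, inv_smul_smul]
      exact ⟨hb, rfl⟩
  rw [Finset.sum_congr rfl h2, Finset.sum_const, smul_eq_mul, mul_assoc]

variable {Ω : Type*} [MulAction G Ω] [Fintype Ω] [DecidableEq Ω]

/-- **doubly transitive groups**: if no translate of `Γ` meets `Γ` in exactly one point, then
`n - 1 ≤ (|Γ| - 1) ^ 2`. -/
theorem two_trans_bound [IsPretransitive G Ω]
    (h2 : ∀ z a b : Ω, a ≠ z → b ≠ z → ∃ k : G, k • z = z ∧ k • a = b) (Γ : Finset Ω) {m : ℕ}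
    (hm : Γ.card = m) (hm2 : 2 ≤ m)
    (hno : ∀ k : G, (Γ.filter (fun ω => k⁻¹ • ω ∈ Γ)).card ≠ 1) : Fintype.card Ω - 1 ≤ (m - 1) ^ 2 := by
  classical
  have h2' : ∀ x₁ x₂ y₁ y₂ : Ω, x₁ ≠ x₂ → y₁ ≠ y₂ → ∃ k : G, k • x₁ = y₁ ∧ k • x₂ = y₂ := by
    intro x₁ x₂ y₁ y₂ hx hy
    obtain ⟨k, hk⟩ := exists_smul_eq G x₁ y₁
    obtain ⟨l, hl1, hl2⟩ := h2 y₁ (k • x₂) y₂
      (fun h => hx (MulAction.injective k (hk.trans h.symm))) hy.symm
    exact ⟨l * k, by rw [mul_smul, hk, hl1], by rw [mul_smul, hl2]⟩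
  obtain ⟨x₁, hx₁, x₂, hx₂, hx12⟩ := Finset.one_lt_card.mp (by rw [hm]; omega : 1 < Γ.card)
  obtain ⟨s₂, hs₂def⟩ : ∃ s₂, s₂ = (Finset.univ.filter (fun h : G => h • (x₁, x₂) = (x₁, x₂))).card := ⟨_, rfl⟩
  obtain ⟨s₁, hs₁def⟩ : ∃ s₁, s₁ = (Finset.univ.filter (fun h : G => h • x₁ = x₁)).card := ⟨_, rfl⟩
  have hs₂pos : 0 < s₂ := by
    rw [hs₂def, Finset.card_pos]
    exact ⟨1, Finset.mem_filter.mpr ⟨Finset.mem_univ _, one_smul _ _⟩⟩
  have hs₁ : ∀ x y : Ω, (Finset.univ.filter (fun h : G => h • x = y)).card = s₁ := by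
    intro x y
    obtain ⟨a, ha⟩ := exists_smul_eq G x₁ x
    obtain ⟨b, hb⟩ := exists_smul_eq G y x₁
    rw [hs₁def]
    exact card_fibre_eq ha hb
  have hs₂ : ∀ p ∈ Γ.offDiag, ∀ q ∈ Γ.offDiag,
      (Finset.univ.filter (fun h : G => h • p = q)).card = s₂ := by
    intro p hp q hq
    rw [Finset.mem_offDiag] at hp hq
    obtain ⟨a, ha1, ha2⟩ := h2' x₁ x₂ p.1 p.2 hx12 hp.2.2
    obtain ⟨b, hb1, hb2⟩ := h2' q.1 q.2 x₁ x₂ hq.2.2 hx12
    rw [hs₂def]
    apply card_fibre_eq (a := a) (b := b)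
    · exact Prod.ext ha1 ha2
    · exact Prod.ext hb1 hb2
  -- the relation between the two fibre sizes
  have hs12 : s₁ = (Fintype.card Ω - 1) * s₂ := by
    rw [← hs₁ x₁ x₁]
    rw [Finset.card_eq_sum_card_fiberwise (s := Finset.univ.filter (fun h : G => h • x₁ = x₁))
      (f := fun h : G => h • x₂) (t := Finset.univ.erase x₁) (by
      intro h hh
      refine Finset.mem_erase.mpr ⟨fun h3 => hx12 ?_, Finset.mem_univ _⟩
      have h4 := (Finset.mem_filter.mp hh).2
      exact (MulAction.injective h (h4.trans h3.symm)))]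
    rw [Finset.sum_congr rfl (g := fun _ => s₂), Finset.sum_const, smul_eq_mul,
      Finset.card_erase_of_mem (Finset.mem_univ _), Finset.card_univ]
    intro y₂ hy₂
    rw [Finset.mem_erase] at hy₂
    obtain ⟨b, hb1, hb2⟩ := h2' x₁ y₂ x₁ x₂ hy₂.1.symm hx12
    rw [hs₂def]
    rw [← card_fibre_eq (x := (x₁, x₂)) (y := (x₁, y₂)) (x' := (x₁, x₂)) (y' := (x₁, x₂)) (a := 1) (b := b)
      (one_smul _ _) (Prod.ext hb1 hb2)]
    congr 1
    ext h
    simp only [Finset.mem_filter, Finset.mem_univ, true_and, Prod.smul_mk, Prod.mk.injEq]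
  -- the two moments
  have hS1 := sum_card_filter_inv (G := G) Γ s₁ (fun x _ y _ => hs₁ x y)
  have hS2 := sum_card_filter_inv (G := G) Γ.offDiag s₂ hs₂
  have hoff : ∀ k : G, (Γ.offDiag.filter (fun p => k⁻¹ • p ∈ Γ.offDiag)).card =
      (Γ.filter (fun ω => k⁻¹ • ω ∈ Γ)).card * (Γ.filter (fun ω => k⁻¹ • ω ∈ Γ)).card -
        (Γ.filter (fun ω => k⁻¹ • ω ∈ Γ)).card := by
    intro k
    rw [← Finset.offDiag_card]
    congr 1
    ext p
    simp only [Finset.mem_filter, Finset.mem_offDiag, Prod.smul_fst, Prod.smul_snd]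
    constructor
    · rintro ⟨⟨h1, h2, h3⟩, h4, h5, -⟩
      exact ⟨⟨h1, h4⟩, ⟨h2, h5⟩, h3⟩
    · rintro ⟨⟨h1, h4⟩, ⟨h2, h5⟩, h3⟩
      exact ⟨⟨h1, h2, h3⟩, h4, h5, fun h6 => h3 (MulAction.injective k⁻¹ h6)⟩
  have hpt : ∀ k : G, (Γ.filter (fun ω => k⁻¹ • ω ∈ Γ)).card ≤
      (Γ.offDiag.filter (fun p => k⁻¹ • p ∈ Γ.offDiag)).card := by
    intro k
    rw [hoff]
    have h1 := hno k
    obtain ⟨N, hN⟩ : ∃ N, N = (Γ.filter (fun ω => k⁻¹ • ω ∈ Γ)).card := ⟨_, rfl⟩
    rw [← hN] at h1 ⊢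
    rcases Nat.lt_or_ge N 2 with h3 | h3
    · have : N = 0 := by omega
      rw [this]
    · have : 2 * N ≤ N * N := Nat.mul_le_mul_right N h3
      omega
  have hle := Finset.sum_le_sum (fun k (_ : k ∈ (Finset.univ : Finset G)) => hpt k)
  rw [hS1, hS2, Finset.offDiag_card, hm, hs12] at hle
  -- arithmetic
  obtain ⟨N, hN⟩ : ∃ N, N = Fintype.card Ω - 1 := ⟨_, rfl⟩
  rw [← hN] at hle ⊢
  obtain ⟨j, hj⟩ : ∃ j, m = j + 1 := ⟨m - 1, by omega⟩
  have hj' : m - 1 = j := by omega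
  rw [hj']
  have e1 : m * m - m = m * j := by
    rw [hj]
    have : (j + 1) * (j + 1) = (j + 1) * j + (j + 1) := by ring
    omega
  rw [e1] at hle
  have hmpos : 0 < m * m * s₂ := Nat.mul_pos (Nat.mul_pos (by omega) (by omega)) hs₂pos
  have e2 : m * m * (N * s₂) = (m * m * s₂) * N := by ring
  have e3 : m * j * (m * j) * s₂ = (m * m * s₂) * (j ^ 2) := by ring
  rw [e2, e3] at hle
  exact Nat.le_of_mul_le_mul_left hle hmpos

end Cfsg.Agent.Helper7.MinDeg
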