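import Cfsg.Agent.Helper7.DcpA
import Cfsg.Agent.Helper7.ParabolicMax

/-!
# Monomial group: basic elements (diagonal, permutation, elementary transvections) in `GL ι F`
-/

set_option autoImplicit false

namespace Cfsg.Agent.Helper7.Mono

open Matrix Cfsg.Geo Cfsg.Agent.Helper7.Dcp Cfsg.Agent.Helper7.TGL

variable {ι : Type} [Fintype ι] [DecidableEq ι] {F : Type*} [Field F]

/-! ### entries of `g` and `g⁻¹` -/

theorem mul_inv_apply (g : GL ι F) (a b : ι) :
    ∑ k, (g : Matrix ι ι F) a k * ((g⁻¹ : GL ι F) : Matrix ι ι F) k b = if a = b then 1 else 0 := by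
  have h : (g : Matrix ι ι F) * ((g⁻¹ : GL ι F) : Matrix ι ι F) = 1 := by
    rw [← Units.val_mul, mul_inv_cancel, Units.val_one]
  have := congrFun (congrFun h a) b
  rwa [Matrix.mul_apply, Matrix.one_apply] at this

theorem inv_mul_apply (g : GL ι F) (a b : ι) :
    ∑ k, ((g⁻¹ : GL ι F) : Matrix ι ι F) a k * (g : Matrix ι ι F) k b = if a = b then 1 else 0 := by
  have h : ((g⁻¹ : GL ι F) : Matrix ι ι F) * (g : Matrix ι ι F) = 1 := by
    rw [← Units.val_mul, inv_mul_cancel, Units.val_one]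
  have := congrFun (congrFun h a) b
  rwa [Matrix.mul_apply, Matrix.one_apply] at this

/-- no column of an invertible matrix vanishes -/
theorem exists_col_ne_zero (g : GL ι F) (l : ι) : ∃ k, (g : Matrix ι ι F) k l ≠ 0 := by
  by_contra h
  push Not at h
  have := inv_mul_apply g l l
  rw [if_pos rfl] at this
  have h0 : ∑ k, ((g⁻¹ : GL ι F) : Matrix ι ι F) l k * (g : Matrix ι ι F) k l = 0 :=
    Finset.sum_eq_zero fun k _ => by rw [h k, mul_zero]
  rw [h0] at this
  exact zero_ne_one this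

/-- no row of an invertible matrix vanishes -/
theorem exists_row_ne_zero (g : GL ι F) (k : ι) : ∃ l, (g : Matrix ι ι F) k l ≠ 0 := by
  by_contra h
  push Not at h
  have := mul_inv_apply g k k
  rw [if_pos rfl] at this
  have h0 : ∑ l, (g : Matrix ι ι F) k l * ((g⁻¹ : GL ι F) : Matrix ι ι F) l k = 0 :=
    Finset.sum_eq_zero fun l _ => by rw [h l, zero_mul]
  rw [h0] at this
  exact zero_ne_one this

/-! ### diagonal elements -/

/-- The diagonal matrix with unit entries `d`, as an element of `GL ι F`. -/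
def diagGL (d : ι → Fˣ) : GL ι F where
  val := Matrix.diagonal fun k => (d k : F)
  inv := Matrix.diagonal fun k => (((d k)⁻¹ : Fˣ) : F)
  val_inv := by
    rw [Matrix.diagonal_mul_diagonal]
    simp
  inv_val := by
    rw [Matrix.diagonal_mul_diagonal]
    simp

@[simp] theorem diagGL_coe (d : ι → Fˣ) :
    ((diagGL d : GL ι F) : Matrix ι ι F) = Matrix.diagonal fun k => (d k : F) := rfl

@[simp] theorem diagGL_inv_coe (d : ι → Fˣ) :
    (((diagGL d)⁻¹ : GL ι F) : Matrix ι ι F) = Matrix.diagonal fun k => (((d k)⁻¹ : Fˣ) : F) := rfl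

theorem diagGL_apply (d : ι → Fˣ) (a b : ι) :
    ((diagGL d : GL ι F) : Matrix ι ι F) a b = if a = b then (d a : F) else 0 := by
  rw [diagGL_coe, Matrix.diagonal_apply]

theorem diagGL_mem_monomialGL (d : ι → Fˣ) : diagGL d ∈ monomialGL ι F := by
  refine ⟨1, ?_, ?_⟩
  · intro k l h
    rw [diagGL_coe, Matrix.diagonal_apply] at h
    by_contra hne
    exact h (if_neg hne)
  · intro k l h
    rw [diagGL_inv_coe, Matrix.diagonal_apply] at h
    by_contra hne
    exact h (if_neg hne)

theorem diagGL_det (d : ι → Fˣ) : ((diagGL d : GL ι F) : Matrix ι ι F).det = ∏ k, (d k : F) := by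
  rw [diagGL_coe, Matrix.det_diagonal]

theorem mem_specialLinear_iff (g : GL ι F) :
    g ∈ specialLinear ι F ↔ (g : Matrix ι ι F).det = 1 := by
  unfold specialLinear
  rw [MonoidHom.mem_ker]
  constructor
  · intro h
    have := congrArg Units.val h
    simpa using this
  · intro h
    apply Units.ext
    simpa using h

/-- entries of a conjugate of a diagonal element -/
theorem conj_diagGL_apply (g : GL ι F) (d : ι → Fˣ) (a b : ι) :
    ((g * diagGL d * g⁻¹ : GL ι F) : Matrix ι ι F) a b =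
      ∑ k, (g : Matrix ι ι F) a k * (d k : F) * ((g⁻¹ : GL ι F) : Matrix ι ι F) k b := by
  rw [Units.val_mul, Units.val_mul, diagGL_coe, Matrix.mul_apply]
  refine Finset.sum_congr rfl fun k _ => ?_
  rw [Matrix.mul_diagonal]

/-- The torus element `h_{ij}(ε)`: `ε` at `i`, `ε⁻¹` at `j`. -/
def hGL (i j : ι) (ε : Fˣ) : GL ι F :=
  diagGL fun k => if k = i then ε else if k = j then ε⁻¹ else 1

/-- The homology `d_k(ε)`. -/
def dGL (i : ι) (ε : Fˣ) : GL ι F :=
  diagGL fun k => if k = i then ε else 1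

theorem hGL_mem_monomialGL (i j : ι) (ε : Fˣ) : hGL i j ε ∈ monomialGL ι F := diagGL_mem_monomialGL _

theorem dGL_mem_monomialGL (i : ι) (ε : Fˣ) : dGL i ε ∈ monomialGL ι F := diagGL_mem_monomialGL _

theorem hGL_mem_specialLinear {i j : ι} (hij : i ≠ j) (ε : Fˣ) : hGL i j ε ∈ specialLinear ι F := by
  rw [mem_specialLinear_iff]
  unfold hGL
  rw [diagGL_det]
  have : ∀ k : ι, ((if k = i then ε else if k = j then ε⁻¹ else 1 : Fˣ) : F) =
      (if k = i then (ε : F) else 1) * (if k = j then ((ε⁻¹ : Fˣ) : F) else 1) := by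
    intro k
    by_cases h1 : k = i
    · subst h1; simp [hij]
    · by_cases h2 : k = j
      · subst h2; simp [h1]
      · simp [h1, h2]
  simp_rw [this]
  rw [Finset.prod_mul_distrib, Finset.prod_ite_eq', Finset.prod_ite_eq']
  simp

/-- entries of a conjugate of `h_{ij}(ε)` -/
theorem conj_hGL_apply (g : GL ι F) {i j : ι} (hij : i ≠ j) (ε : Fˣ) (a b : ι) :
    ((g * hGL i j ε * g⁻¹ : GL ι F) : Matrix ι ι F) a b =
      (if a = b then 1 else 0) +
        ((ε : F) - 1) * ((g : Matrix ι ι F) a i * ((g⁻¹ : GL ι F) : Matrix ι ι F) i b) +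
        (((ε⁻¹ : Fˣ) : F) - 1) * ((g : Matrix ι ι F) a j * ((g⁻¹ : GL ι F) : Matrix ι ι F) j b) := by
  unfold hGL
  rw [conj_diagGL_apply, ← mul_inv_apply g a b]
  have : ∀ k : ι, (g : Matrix ι ι F) a k * ((if k = i then ε else if k = j then ε⁻¹ else 1 : Fˣ) : F) *
        ((g⁻¹ : GL ι F) : Matrix ι ι F) k b =
      (g : Matrix ι ι F) a k * ((g⁻¹ : GL ι F) : Matrix ι ι F) k b +
        (if k = i then ((ε : F) - 1) * ((g : Matrix ι ι F) a i * ((g⁻¹ : GL ι F) : Matrix ι ι F) i b) else 0) +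
        (if k = j then (((ε⁻¹ : Fˣ) : F) - 1) *
          ((g : Matrix ι ι F) a j * ((g⁻¹ : GL ι F) : Matrix ι ι F) j b) else 0) := by
    intro k
    by_cases h1 : k = i
    · subst h1; simp [hij]; ring
    · by_cases h2 : k = j
      · subst h2; simp [h1]; ring
      · simp [h1, h2]
  simp_rw [this]
  rw [Finset.sum_add_distrib, Finset.sum_add_distrib, Finset.sum_ite_eq', Finset.sum_ite_eq']
  simp

/-- entries of a conjugate of the homology `d_k(ε)` -/
theorem conj_dGL_apply (g : GL ι F) (i : ι) (ε : Fˣ) (a b : ι) :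
    ((g * dGL i ε * g⁻¹ : GL ι F) : Matrix ι ι F) a b =
      (if a = b then 1 else 0) +
        ((ε : F) - 1) * ((g : Matrix ι ι F) a i * ((g⁻¹ : GL ι F) : Matrix ι ι F) i b) := by
  unfold dGL
  rw [conj_diagGL_apply, ← mul_inv_apply g a b]
  have : ∀ k : ι, (g : Matrix ι ι F) a k * ((if k = i then ε else 1 : Fˣ) : F) *
        ((g⁻¹ : GL ι F) : Matrix ι ι F) k b =
      (g : Matrix ι ι F) a k * ((g⁻¹ : GL ι F) : Matrix ι ι F) k b +
        (if k = i then ((ε : F) - 1) * ((g : Matrix ι ι F) a i * ((g⁻¹ : GL ι F) : Matrix ι ι F) i b) else 0) := by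
    intro k
    by_cases h1 : k = i
    · subst h1; simp; ring
    · simp [h1]
  simp_rw [this]
  rw [Finset.sum_add_distrib, Finset.sum_ite_eq']
  simp

end Cfsg.Agent.Helper7.Mono
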