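import Cfsg.Agent.Helper7.MonoA
import Cfsg.Agent.Helper7.SLMaxA

/-!
# Monomial group: permutation matrices, elementary transvections, generation of `SL`
-/

set_option autoImplicit false

namespace Cfsg.Agent.Helper7.Mono

open Matrix Cfsg.Geo Cfsg.Agent.Helper7.Dcp Cfsg.Agent.Helper7.TGL Cfsg.Agent.Helper7.SLMax

variable {ι : Type} [Fintype ι] [DecidableEq ι] {F : Type*} [Field F]

/-! ### permutation matrices -/

/-- The permutation matrix `e_l ↦ e_{σ l}` as an element of `GL ι F`. -/
def permGL (σ : Equiv.Perm ι) : GL ι F where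
  val := Matrix.of fun a b => if a = σ b then (1 : F) else 0
  inv := Matrix.of fun a b => if a = σ.symm b then (1 : F) else 0
  val_inv := by
    ext a b
    rw [Matrix.mul_apply, Matrix.one_apply]
    simp only [Matrix.of_apply]
    rw [Finset.sum_eq_single (σ.symm a)]
    · simp only [Equiv.apply_symm_apply, if_true, one_mul]
      by_cases h : a = b
      · subst h; simp
      · rw [if_neg h, if_neg]
        intro h'
        exact h (σ.symm.injective h')
    · intro k _ hk
      rw [if_neg, zero_mul]
      intro h
      exact hk (by rw [h, Equiv.symm_apply_apply])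
    · intro h; exact absurd (Finset.mem_univ _) h
  inv_val := by
    ext a b
    rw [Matrix.mul_apply, Matrix.one_apply]
    simp only [Matrix.of_apply]
    rw [Finset.sum_eq_single (σ a)]
    · simp only [Equiv.symm_apply_apply, if_true, one_mul]
      by_cases h : a = b
      · subst h; simp
      · rw [if_neg h, if_neg]
        intro h'
        exact h (σ.injective h')
    · intro k _ hk
      rw [if_neg, zero_mul]
      intro h
      exact hk (by rw [h, Equiv.apply_symm_apply])
    · intro h; exact absurd (Finset.mem_univ _) h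

theorem permGL_apply (σ : Equiv.Perm ι) (a b : ι) :
    ((permGL σ : GL ι F) : Matrix ι ι F) a b = if a = σ b then 1 else 0 := rfl

theorem permGL_inv_apply (σ : Equiv.Perm ι) (a b : ι) :
    (((permGL σ)⁻¹ : GL ι F) : Matrix ι ι F) a b = if a = σ.symm b then 1 else 0 := rfl

theorem permGL_mem_monomialGL (σ : Equiv.Perm ι) : (permGL σ : GL ι F) ∈ monomialGL ι F := by
  refine ⟨σ, ?_, ?_⟩
  · intro k l h
    rw [permGL_apply] at h
    by_contra hne
    exact h (if_neg hne)
  · intro k l h
    rw [permGL_inv_apply] at h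
    by_contra hne
    exact h (if_neg hne)

theorem permGL_mulVec (σ : Equiv.Perm ι) (v : ι → F) (a : ι) :
    (((permGL σ : GL ι F) : Matrix ι ι F) *ᵥ v) a = v (σ.symm a) := by
  rw [Matrix.mulVec, dotProduct]
  simp only [permGL_apply]
  rw [Finset.sum_eq_single (σ.symm a)]
  · simp
  · intro k _ hk
    rw [if_neg, zero_mul]
    intro h
    exact hk (by rw [h, Equiv.symm_apply_apply])
  · intro h; exact absurd (Finset.mem_univ _) h

theorem permGL_mulVec_single (σ : Equiv.Perm ι) (l : ι) (c : F) :
    ((permGL σ : GL ι F) : Matrix ι ι F) *ᵥ (Pi.single l c) = Pi.single (σ l) c := by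
  funext a
  rw [permGL_mulVec]
  by_cases h : a = σ l
  · subst h; simp
  · rw [Pi.single_apply, Pi.single_apply, if_neg h, if_neg]
    intro h'
    exact h (by rw [← h', Equiv.apply_symm_apply])

theorem permGL_det (σ : Equiv.Perm ι) :
    ((permGL σ : GL ι F) : Matrix ι ι F).det = ((Equiv.Perm.sign σ : ℤˣ) : ℤ) := by
  have : ((permGL σ : GL ι F) : Matrix ι ι F) = (σ⁻¹).permMatrix F := by
    ext a b
    rw [permGL_apply, Equiv.Perm.permMatrix, PEquiv.toMatrix_apply]
    simp only [Equiv.toPEquiv_apply, Option.mem_def, Option.some.injEq]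
    by_cases h : a = σ b
    · subst h; simp
    · rw [if_neg h, if_neg]
      intro h'
      apply h
      rw [← h']
      simp
  rw [this, Matrix.det_permutation]
  simp

theorem permGL_mem_specialLinear (σ : Equiv.Perm ι) (h : Equiv.Perm.sign σ = 1) :
    (permGL σ : GL ι F) ∈ specialLinear ι F := by
  rw [mem_specialLinear_iff, permGL_det, h]
  simp

/-! ### elementary transvections -/

theorem single_dot_single {k l : ι} (h : k ≠ l) (a b : F) :
    (Pi.single l b : ι → F) ⬝ᵥ (Pi.single k a : ι → F) = 0 := by
  rw [single_dotProduct, Pi.single_apply, if_neg (Ne.symm h), mul_zero]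

/-- The elementary transvection `1 + a E_{kl}`. -/
def xGL (k l : ι) (h : k ≠ l) (a : F) : GL ι F :=
  tau (Pi.single k a) (Pi.single l 1) (single_dot_single h a 1)

theorem xGL_mulVec (k l : ι) (h : k ≠ l) (a : F) (v : ι → F) :
    ((xGL k l h a : GL ι F) : Matrix ι ι F) *ᵥ v = v + Pi.single k (a * v l) := by
  unfold xGL
  rw [tau_mulVec, single_dotProduct, one_mul]
  congr 1
  funext x
  by_cases hx : x = k
  · subst hx; simp [mul_comm]
  · simp [hx]

/-- A subgroup containing all elementary transvections contains `SL`. -/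
theorem specialLinear_le_of_xGL [Nontrivial ι] (X : Subgroup (GL ι F))
    (hX : ∀ (k l : ι) (h : k ≠ l) (a : F), xGL k l h a ∈ X) : specialLinear ι F ≤ X := by
  intro g hg
  have hdet : (g : Matrix ι ι F).det = 1 := (mem_specialLinear_iff g).mp hg
  have hg' : g = Matrix.SpecialLinearGroup.toGL ⟨(g : Matrix ι ι F), hdet⟩ := by
    apply Units.ext
    rfl
  rw [hg']
  refine Cfsg.Agent.Helper7.Transv.transvection_induction
    (fun M => Matrix.SpecialLinearGroup.toGL M ∈ X) ?_ ?_ _
  · intro i j hij a
    have : Matrix.SpecialLinearGroup.toGL (SpecialLinearGroup.transvection hij a) = xGL i j hij a := by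
      apply Units.ext
      change (1 : Matrix ι ι F) + single i j a = 1 + vecMulVec (Pi.single i a) (Pi.single j (1 : F))
      congr 1
      ext x y
      simp only [single, of_apply, vecMulVec_apply, Pi.single_apply]
      by_cases hx : x = i <;> by_cases hy : y = j
      · subst hx hy; simp
      · have hy' : ¬ j = y := fun h => hy h.symm
        subst hx; simp [hy, hy']
      · have hx' : ¬ i = x := fun h => hx h.symm
        subst hy; simp [hx, hx']
      · have hx' : ¬ i = x := fun h => hx h.symm
        simp [hx, hx']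
    rw [this]
    exact hX _ _ _ _
  · intro A B hA hB
    rw [map_mul]
    exact X.mul_mem hA hB

/-- conjugating an elementary transvection by a diagonal element -/
theorem diagGL_conj_xGL (d : ι → Fˣ) (k l : ι) (h : k ≠ l) (a : F) :
    diagGL d * xGL k l h a * (diagGL d)⁻¹ = xGL k l h ((d k : F) * a * ((d l)⁻¹ : Fˣ)) := by
  apply gl_ext
  intro v
  rw [gl_mul_mulVec, gl_mul_mulVec, xGL_mulVec, xGL_mulVec]
  funext x
  rw [diagGL_coe, diagGL_inv_coe, Matrix.mulVec_diagonal, Pi.add_apply, Pi.add_apply, Matrix.mulVec_diagonal,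
    Matrix.mulVec_diagonal]
  by_cases hx : x = k
  · subst hx
    rw [Pi.single_eq_same, Pi.single_eq_same]
    have h1 : ((d x : F)) * (((d x)⁻¹ : Fˣ) : F) = 1 := by simp
    linear_combination (v x) * h1
  · rw [Pi.single_eq_of_ne hx, Pi.single_eq_of_ne hx]
    have h1 : ((d x : F)) * (((d x)⁻¹ : Fˣ) : F) = 1 := by simp
    linear_combination (v x) * h1

/-- conjugating an elementary transvection by a permutation matrix -/
theorem permGL_conj_xGL (σ : Equiv.Perm ι) (k l : ι) (h : k ≠ l) (a : F) :
    permGL σ * xGL k l h a * (permGL σ)⁻¹ =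
      xGL (σ k) (σ l) (fun h' => h (σ.injective h')) a := by
  have key : permGL σ * xGL k l h a = xGL (σ k) (σ l) (fun h' => h (σ.injective h')) a * permGL σ := by
    apply gl_ext
    intro v
    rw [gl_mul_mulVec, gl_mul_mulVec, xGL_mulVec, xGL_mulVec, Matrix.mulVec_add, permGL_mulVec_single,
      permGL_mulVec, Equiv.symm_apply_apply]
  rw [key, mul_assoc, mul_inv_cancel, mul_one]

end Cfsg.Agent.Helper7.Mono
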