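import Cfsg.Agent.Helper7.MonoB

/-!
# Monomial group: from one (semi-)elementary transvection to `SL`
-/

set_option autoImplicit false

namespace Cfsg.Agent.Helper7.Mono

open Matrix Cfsg.Geo Cfsg.Agent.Helper7.Dcp Cfsg.Agent.Helper7.TGL Cfsg.Agent.Helper7.SLMax

variable {ι : Type} [Fintype ι] [DecidableEq ι] {F : Type*} [Field F]

theorem tau_eq_of {v v' φ φ' : ι → F} (hv : v = v') (hφ : φ = φ') (h : φ ⬝ᵥ v = 0)
    (h' : φ' ⬝ᵥ v' = 0) : tau v φ h = tau v' φ' h' := by
  subst hv hφ; rfl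

theorem tau_zero_right (v : ι → F) : tau v (0 : ι → F) (zero_dotProduct v) = 1 := by
  apply gl_ext
  intro x
  rw [tau_mulVec, zero_dotProduct, zero_smul, add_zero, Units.val_one, one_mulVec]

theorem xGL_zero (k l : ι) (h : k ≠ l) : xGL k l h (0 : F) = 1 := by
  apply gl_ext
  intro x
  rw [xGL_mulVec, zero_mul, Pi.single_zero, add_zero, Units.val_one, one_mulVec]

theorem tau_single_single (k l : ι) (h : k ≠ l) (a b : F) :
    tau (Pi.single k a) (Pi.single l b) (single_dot_single h a b) = xGL k l h (a * b) := by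
  apply gl_ext
  intro x
  rw [tau_mulVec, xGL_mulVec, single_dotProduct]
  congr 1
  funext y
  by_cases hy : y = k
  · subst hy; simp; ring
  · simp [hy]

/-- All elementary transvections from one, given enough diagonal and permutation matrices. -/
theorem all_xGL_of_one (K : Subgroup (GL ι F))
    (hd : ∀ k l : ι, k ≠ l → ∀ c : Fˣ, ∃ d : ι → Fˣ, diagGL d ∈ K ∧ d k * (d l)⁻¹ = c)
    (hp : ∀ k l k' l' : ι, k ≠ l → k' ≠ l' → ∃ σ : Equiv.Perm ι, σ k = k' ∧ σ l = l' ∧
      (permGL σ : GL ι F) ∈ K)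
    {k l : ι} (h : k ≠ l) {a : F} (ha : a ≠ 0) (hx : xGL k l h a ∈ K)
    (k' l' : ι) (h' : k' ≠ l') (a' : F) : xGL k' l' h' a' ∈ K := by
  by_cases ha' : a' = 0
  · rw [ha', xGL_zero]; exact K.one_mem
  · obtain ⟨d, hdK, hdc⟩ := hd k l h (Units.mk0 (a' / a) (div_ne_zero ha' ha))
    have h1 : xGL k l h a' ∈ K := by
      have := K.mul_mem (K.mul_mem hdK hx) (K.inv_mem hdK)
      rw [diagGL_conj_xGL] at this
      have hc : (d k : F) * a * ((d l)⁻¹ : Fˣ) = a' := by
        have := congrArg Units.val hdc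
        rw [Units.val_mul, Units.val_mk0] at this
        calc (d k : F) * a * ((d l)⁻¹ : Fˣ) = ((d k : F) * ((d l)⁻¹ : Fˣ)) * a := by ring
          _ = a' / a * a := by rw [this]
          _ = a' := div_mul_cancel₀ a' ha
      rwa [hc] at this
    obtain ⟨σ, hk, hl, hσ⟩ := hp k l k' l' h h'
    have := K.mul_mem (K.mul_mem hσ h1) (K.inv_mem hσ)
    rw [permGL_conj_xGL] at this
    have e : xGL (σ k) (σ l) (fun h'' => h (σ.injective h'')) a' = xGL k' l' h' a' := by
      subst hk hl; rfl
    rwa [e] at this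

/-- GL version: full monomial group and one elementary transvection generate at least `SL`. -/
theorem specialLinear_le_of_xGL_mem_of_monomialGL_le [Nontrivial ι] (K : Subgroup (GL ι F))
    (hM : monomialGL ι F ≤ K) {k l : ι} (h : k ≠ l) {a : F} (ha : a ≠ 0) (hx : xGL k l h a ∈ K) :
    specialLinear ι F ≤ K := by
  apply specialLinear_le_of_xGL
  intro k' l' h' a'
  refine all_xGL_of_one K ?_ ?_ h ha hx k' l' h' a'
  · intro k l hkl c
    refine ⟨fun x => if x = k then c else 1, hM (diagGL_mem_monomialGL _), ?_⟩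
    simp [hkl.symm]
  · intro k l k' l' hkl hkl'
    refine ⟨Equiv.swap (Equiv.swap k k' l) l' * Equiv.swap k k', ?_, ?_, hM (permGL_mem_monomialGL _)⟩
    · rw [Equiv.Perm.mul_apply, Equiv.swap_apply_left]
      apply Equiv.swap_apply_of_ne_of_ne
      · intro h1
        have := (Equiv.swap k k').injective ((Equiv.swap_apply_left k k').trans h1)
        exact hkl this
      · exact hkl'
    · rw [Equiv.Perm.mul_apply, Equiv.swap_apply_left]

/-- there is an even permutation with prescribed values at two points (at least 4 points) -/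
theorem exists_even_perm (h4 : 4 ≤ Fintype.card ι) {k l k' l' : ι} (hkl : k ≠ l) (hkl' : k' ≠ l') :
    ∃ σ : Equiv.Perm ι, σ k = k' ∧ σ l = l' ∧ Equiv.Perm.sign σ = 1 := by
  set σ₀ : Equiv.Perm ι := Equiv.swap (Equiv.swap k k' l) l' * Equiv.swap k k' with hσ₀
  have h1 : σ₀ k = k' := by
    rw [hσ₀, Equiv.Perm.mul_apply, Equiv.swap_apply_left]
    apply Equiv.swap_apply_of_ne_of_ne
    · intro h1
      have := (Equiv.swap k k').injective ((Equiv.swap_apply_left k k').trans h1)
      exact hkl this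
    · exact hkl'
  have h2 : σ₀ l = l' := by
    rw [hσ₀, Equiv.Perm.mul_apply, Equiv.swap_apply_left]
  rcases Int.units_eq_one_or (Equiv.Perm.sign σ₀) with hs | hs
  · exact ⟨σ₀, h1, h2, hs⟩
  · -- two further points
    have hc : 2 ≤ ((Finset.univ.erase k).erase l).card := by
      rw [Finset.card_erase_of_mem (by simp [hkl.symm]), Finset.card_erase_of_mem (Finset.mem_univ _),
        Finset.card_univ]
      omega
    obtain ⟨x, hx, y, hy, hxy⟩ := Finset.one_lt_card.mp hc
    simp only [Finset.mem_erase, Finset.mem_univ, and_true] at hx hy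
    refine ⟨σ₀ * Equiv.swap x y, ?_, ?_, ?_⟩
    · rw [Equiv.Perm.mul_apply, Equiv.swap_apply_of_ne_of_ne (Ne.symm hx.2) (Ne.symm hy.2), h1]
    · rw [Equiv.Perm.mul_apply, Equiv.swap_apply_of_ne_of_ne (Ne.symm hx.1) (Ne.symm hy.1), h2]
    · rw [Equiv.Perm.sign_mul, hs, Equiv.Perm.sign_swap hxy]
      rfl

/-- SL version: `N = monomialGL ⊓ SL` and one elementary transvection generate `SL` (at least 4 points). -/
theorem specialLinear_le_of_xGL_mem_of_N_le (h4 : 4 ≤ Fintype.card ι) (K : Subgroup (GL ι F))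
    (hN : monomialGL ι F ⊓ specialLinear ι F ≤ K) {k l : ι} (h : k ≠ l) {a : F} (ha : a ≠ 0)
    (hx : xGL k l h a ∈ K) : specialLinear ι F ≤ K := by
  have : Nontrivial ι := Fintype.one_lt_card_iff_nontrivial.mp (by omega)
  apply specialLinear_le_of_xGL
  intro k' l' h' a'
  refine all_xGL_of_one K ?_ ?_ h ha hx k' l' h' a'
  · intro k l hkl c
    -- a third point
    have hc : 1 ≤ ((Finset.univ.erase k).erase l).card := by
      rw [Finset.card_erase_of_mem (by simp [hkl.symm]), Finset.card_erase_of_mem (Finset.mem_univ _),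
        Finset.card_univ]
      omega
    obtain ⟨m, hm⟩ := Finset.card_pos.mp hc
    simp only [Finset.mem_erase, Finset.mem_univ, and_true] at hm
    refine ⟨fun x => if x = k then c else if x = m then c⁻¹ else 1,
      hN ⟨hGL_mem_monomialGL k m c, hGL_mem_specialLinear (Ne.symm hm.2) c⟩, ?_⟩
    simp [hkl.symm, Ne.symm hm.1]
  · intro k l k' l' hkl hkl'
    obtain ⟨σ, h1, h2, h3⟩ := exists_even_perm h4 hkl hkl'
    exact ⟨σ, h1, h2, hN ⟨permGL_mem_monomialGL σ, permGL_mem_specialLinear σ h3⟩⟩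

end Cfsg.Agent.Helper7.Mono
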