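import Cfsg.Agent.Helper7.MonoC

/-!
# Monomial group: from a transvection with coordinate centre or axis to `SL`
-/

set_option autoImplicit false

namespace Cfsg.Agent.Helper7.Mono

open Matrix Cfsg.Geo Cfsg.Agent.Helper7.Dcp Cfsg.Agent.Helper7.TGL Cfsg.Agent.Helper7.SLMax

variable {ι : Type} [Fintype ι] [DecidableEq ι] {F : Type*} [Field F]

theorem diag_dot (d : ι → Fˣ) (v φ : ι → F) (h : φ ⬝ᵥ v = 0) :
    (fun x => φ x * (((d x)⁻¹ : Fˣ) : F)) ⬝ᵥ (fun x => (d x : F) * v x) = 0 := by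
  rw [← h, dotProduct, dotProduct]
  refine Finset.sum_congr rfl fun x _ => ?_
  have h1 : ((d x : F)) * (((d x)⁻¹ : Fˣ) : F) = 1 := by simp
  linear_combination (φ x * v x) * h1

/-- conjugating a transvection by a diagonal element -/
theorem diagGL_conj_tau (d : ι → Fˣ) (v φ : ι → F) (h : φ ⬝ᵥ v = 0) :
    diagGL d * tau v φ h * (diagGL d)⁻¹ =
      tau (fun x => (d x : F) * v x) (fun x => φ x * (((d x)⁻¹ : Fˣ) : F)) (diag_dot d v φ h) := by
  rw [tau_conj']
  apply tau_eq_of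
  · funext x
    rw [diagGL_coe, Matrix.mulVec_diagonal]
  · funext x
    rw [diagGL_inv_coe, Matrix.vecMul_diagonal]

theorem tau_mul_tau_inv (v φ ψ : ι → F) (h : φ ⬝ᵥ v = 0) (h' : ψ ⬝ᵥ v = 0) :
    tau v φ h * (tau v ψ h')⁻¹ = tau v (φ - ψ) (by rw [sub_dotProduct, h, h', sub_zero]) := by
  rw [tau_inv, tau_mul_tau]
  apply tau_eq_of rfl
  rw [sub_eq_add_neg]

theorem tau_mul_tau_inv' (v w φ : ι → F) (h : φ ⬝ᵥ v = 0) (h' : φ ⬝ᵥ w = 0) :
    tau v φ h * (tau w φ h')⁻¹ = tau (v - w) φ (by rw [dotProduct_sub, h, h', sub_zero]) := by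
  apply gl_ext
  intro x
  rw [tau_inv, gl_mul_mulVec, tau_mulVec, tau_mulVec, tau_mulVec, dotProduct_add, dotProduct_smul, h',
    smul_zero, add_zero, neg_dotProduct, neg_smul, smul_sub]
  abel

/-- (E1, GL) a transvection with coordinate centre, together with the full monomial group, gives `SL`. -/
theorem specialLinear_le_of_tau_single_left [Nontrivial ι] (K : Subgroup (GL ι F))
    (hM : monomialGL ι F ≤ K) (ε : Fˣ) (hε : ε ≠ 1) (k : ι) (β : ι → F)
    (h : β ⬝ᵥ (Pi.single k 1 : ι → F) = 0) (hβ : β ≠ 0) (hx : tau (Pi.single k 1) β h ∈ K) :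
    specialLinear ι F ≤ K := by
  have hβk : β k = 0 := by rwa [dotProduct_single, mul_one] at h
  obtain ⟨l, hl⟩ : ∃ l, β l ≠ 0 := by
    by_contra hne
    push Not at hne
    exact hβ (funext hne)
  have hlk : k ≠ l := by rintro rfl; exact hl hβk
  have hd : dGL l ε ∈ K := hM (dGL_mem_monomialGL l ε)
  have h1 := K.mul_mem (K.mul_mem (K.mul_mem hd hx) (K.inv_mem hd)) (K.inv_mem hx)
  unfold dGL at h1
  rw [diagGL_conj_tau] at h1
  have e1 : (fun x => ((if x = l then ε else 1 : Fˣ) : F) * (Pi.single k 1 : ι → F) x) =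
      (Pi.single k 1 : ι → F) := by
    funext x
    by_cases hx : x = k
    · subst hx; simp [hlk]
    · simp [hx]
  have h2 : tau (Pi.single k 1) (fun x => β x * (((if x = l then ε else 1 : Fˣ)⁻¹ : Fˣ) : F))
      (by rw [← e1]; exact diag_dot _ _ _ h) * (tau (Pi.single k 1) β h)⁻¹ ∈ K := by
    convert h1 using 2
    exact tau_eq_of e1.symm rfl _ _
  rw [tau_mul_tau_inv] at h2
  have e2 : (fun x => β x * (((if x = l then ε else 1 : Fˣ)⁻¹ : Fˣ) : F)) - β =
      Pi.single l (β l * (((ε⁻¹ : Fˣ) : F) - 1)) := by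
    funext x
    by_cases hx : x = l
    · subst hx; simp; ring
    · simp [hx]
  have h3 : xGL k l hlk (1 * (β l * (((ε⁻¹ : Fˣ) : F) - 1))) ∈ K := by
    rw [← tau_single_single]
    convert h2 using 1
    exact tau_eq_of rfl e2.symm _ _
  refine specialLinear_le_of_xGL_mem_of_monomialGL_le K hM hlk ?_ h3
  rw [one_mul]
  refine mul_ne_zero hl ?_
  intro h0
  apply hε
  have : ((ε⁻¹ : Fˣ) : F) = 1 := by linear_combination h0
  have h4 : (ε⁻¹ : Fˣ) = 1 := Units.ext this
  rwa [inv_eq_one] at h4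

/-- (E2, GL) a transvection with coordinate axis, together with the full monomial group, gives `SL`. -/
theorem specialLinear_le_of_tau_single_right [Nontrivial ι] (K : Subgroup (GL ι F))
    (hM : monomialGL ι F ≤ K) (ε : Fˣ) (hε : ε ≠ 1) (l : ι) (c : ι → F)
    (h : (Pi.single l 1 : ι → F) ⬝ᵥ c = 0) (hc : c ≠ 0) (hx : tau c (Pi.single l 1) h ∈ K) :
    specialLinear ι F ≤ K := by
  have hcl : c l = 0 := by rwa [single_dotProduct, one_mul] at h
  obtain ⟨k, hk⟩ : ∃ k, c k ≠ 0 := by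
    by_contra hne
    push Not at hne
    exact hc (funext hne)
  have hkl : k ≠ l := by rintro rfl; exact hk hcl
  have hd : dGL k ε ∈ K := hM (dGL_mem_monomialGL k ε)
  have h1 := K.mul_mem (K.mul_mem (K.mul_mem hd hx) (K.inv_mem hd)) (K.inv_mem hx)
  unfold dGL at h1
  rw [diagGL_conj_tau] at h1
  have e1 : (fun x => (Pi.single l 1 : ι → F) x * (((if x = k then ε else 1 : Fˣ)⁻¹ : Fˣ) : F)) =
      (Pi.single l 1 : ι → F) := by
    funext x
    by_cases hx : x = l
    · subst hx; simp [hkl.symm]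
    · simp [hx]
  have h2 : tau (fun x => ((if x = k then ε else 1 : Fˣ) : F) * c x) (Pi.single l 1)
      (by rw [← e1]; exact diag_dot _ _ _ h) * (tau c (Pi.single l 1) h)⁻¹ ∈ K := by
    convert h1 using 2
    exact tau_eq_of rfl e1.symm _ _
  rw [tau_mul_tau_inv'] at h2
  have e2 : (fun x => ((if x = k then ε else 1 : Fˣ) : F) * c x) - c =
      Pi.single k (((ε : F) - 1) * c k) := by
    funext x
    by_cases hx : x = k
    · subst hx; simp; ring
    · simp [hx]
  have h3 : xGL k l hkl ((((ε : F) - 1) * c k) * 1) ∈ K := by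
    rw [← tau_single_single]
    convert h2 using 1
    exact tau_eq_of e2.symm rfl _ _
  refine specialLinear_le_of_xGL_mem_of_monomialGL_le K hM hkl ?_ h3
  rw [mul_one]
  refine mul_ne_zero ?_ hk
  intro h0
  apply hε
  exact Units.ext (by rw [Units.val_one]; linear_combination h0)

end Cfsg.Agent.Helper7.Mono
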