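import Cfsg.Agent.Helper7.MonoD

/-!
# Monomial group in `SL`: from a transvection with coordinate centre to `SL`
-/

set_option autoImplicit false

namespace Cfsg.Agent.Helper7.Mono

open Matrix Cfsg.Geo Cfsg.Agent.Helper7.Dcp Cfsg.Agent.Helper7.TGL Cfsg.Agent.Helper7.SLMax

variable {ι : Type} [Fintype ι] [DecidableEq ι] {F : Type*} [Field F]

theorem step_dot (d : ι → Fˣ) (k : ι) (β : ι → F) (h : β ⬝ᵥ (Pi.single k 1 : ι → F) = 0) :
    (fun x => β x * ((((d x)⁻¹ : Fˣ) : F) - 1)) ⬝ᵥ (Pi.single k 1 : ι → F) = 0 := by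
  rw [dotProduct_single, mul_one] at h ⊢
  rw [h, zero_mul]

/-- one torus step on the axis of a transvection with coordinate centre -/
theorem tau_step (K : Subgroup (GL ι F)) (d : ι → Fˣ) (hd : diagGL d ∈ K) (k : ι) (hdk : d k = 1)
    (β : ι → F) (h : β ⬝ᵥ (Pi.single k 1 : ι → F) = 0) (hx : tau (Pi.single k 1) β h ∈ K) :
    tau (Pi.single k 1) (fun x => β x * ((((d x)⁻¹ : Fˣ) : F) - 1)) (step_dot d k β h) ∈ K := by
  have h1 := K.mul_mem (K.mul_mem (K.mul_mem hd hx) (K.inv_mem hd)) (K.inv_mem hx)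
  rw [diagGL_conj_tau] at h1
  have e1 : (fun x => ((d x : Fˣ) : F) * (Pi.single k 1 : ι → F) x) = (Pi.single k 1 : ι → F) := by
    funext x
    by_cases hx : x = k
    · subst hx; simp [hdk]
    · simp [hx]
  have h2 : tau (Pi.single k 1) (fun x => β x * (((d x)⁻¹ : Fˣ) : F))
      (by rw [← e1]; exact diag_dot _ _ _ h) * (tau (Pi.single k 1) β h)⁻¹ ∈ K := by
    convert h1 using 2
    exact tau_eq_of e1.symm rfl _ _
  rw [tau_mul_tau_inv] at h2
  convert h2 using 1
  apply tau_eq_of rfl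
  funext x
  simp only [Pi.sub_apply]
  ring

/-- (E1, SL) a transvection with coordinate centre, together with `N`, gives `SL` (at least 4 points). -/
theorem specialLinear_le_of_tau_single_left_N (h4 : 4 ≤ Fintype.card ι) (K : Subgroup (GL ι F))
    (hN : monomialGL ι F ⊓ specialLinear ι F ≤ K) (ε : Fˣ) (hε : ε ≠ 1) (k : ι) (β : ι → F)
    (h : β ⬝ᵥ (Pi.single k 1 : ι → F) = 0) (hβ : β ≠ 0) (hx : tau (Pi.single k 1) β h ∈ K) :
    specialLinear ι F ≤ K := by
  have hβk : β k = 0 := by rwa [dotProduct_single, mul_one] at h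
  obtain ⟨l, hl⟩ : ∃ l, β l ≠ 0 := by
    by_contra hne
    push Not at hne
    exact hβ (funext hne)
  have hkl : k ≠ l := by rintro rfl; exact hl hβk
  -- two further points
  have hc : 2 ≤ ((Finset.univ.erase k).erase l).card := by
    rw [Finset.card_erase_of_mem (by simp [hkl.symm]), Finset.card_erase_of_mem (Finset.mem_univ _),
      Finset.card_univ]
    omega
  obtain ⟨b, hb, b', hb', hbb'⟩ := Finset.one_lt_card.mp hc
  simp only [Finset.mem_erase, Finset.mem_univ, and_true] at hb hb'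
  have hε' : ((ε⁻¹ : Fˣ) : F) - 1 ≠ 0 := by
    intro h0
    apply hε
    have h4 : (ε⁻¹ : Fˣ) = 1 := Units.ext (by rw [Units.val_one]; linear_combination h0)
    rwa [inv_eq_one] at h4
  -- first step
  have s1 := tau_step K (fun x => if x = l then ε else if x = b then ε⁻¹ else 1)
    (hN ⟨hGL_mem_monomialGL l b ε, hGL_mem_specialLinear (Ne.symm hb.1) ε⟩) k
    (by simp [hkl, Ne.symm hb.2]) β h hx
  -- second step
  have s2 := tau_step K (fun x => if x = l then ε else if x = b' then ε⁻¹ else 1)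
    (hN ⟨hGL_mem_monomialGL l b' ε, hGL_mem_specialLinear (Ne.symm hb'.1) ε⟩) k
    (by simp [hkl, Ne.symm hb'.2]) _ _ s1
  have e : (fun x => β x * ((((if x = l then ε else if x = b then ε⁻¹ else 1 : Fˣ)⁻¹ : Fˣ) : F) - 1) *
        ((((if x = l then ε else if x = b' then ε⁻¹ else 1 : Fˣ)⁻¹ : Fˣ) : F) - 1)) =
      Pi.single l (β l * ((((ε⁻¹ : Fˣ) : F) - 1) * (((ε⁻¹ : Fˣ) : F) - 1))) := by
    funext x
    by_cases hxl : x = l
    · subst hxl; simp; ring
    · by_cases hxb' : x = b'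
      · subst hxb'
        simp [hxl, Ne.symm hbb']
      · simp [hxl, hxb']
  have h3 : xGL k l hkl (1 * (β l * ((((ε⁻¹ : Fˣ) : F) - 1) * (((ε⁻¹ : Fˣ) : F) - 1)))) ∈ K := by
    rw [← tau_single_single]
    convert s2 using 1
    exact tau_eq_of rfl e.symm _ _
  refine specialLinear_le_of_xGL_mem_of_N_le h4 K hN hkl ?_ h3
  rw [one_mul]
  exact mul_ne_zero hl (mul_ne_zero hε' hε')

end Cfsg.Agent.Helper7.Mono
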