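import Cfsg.Agent.Helper7.MonoE

/-!
# Block-triangular elements, projection to a coordinate block and extension by the identity
-/

set_option autoImplicit false

namespace Cfsg.Agent.Helper7.Mono

open Matrix Cfsg.Geo Cfsg.Agent.Helper7.Dcp Cfsg.Agent.Helper7.TGL Cfsg.Agent.Helper7.SLMax

variable {ι : Type} [Fintype ι] [DecidableEq ι] {F : Type*} [Field F]
variable (p : ι → Prop) [DecidablePred p]

/-- Elements `g` of `GL ι F` with `g k l = 0` and `g⁻¹ k l = 0` whenever `p k` and `¬ p l`
(block upper triangular for the splitting `¬p | p`). -/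
def UT : Subgroup (GL ι F) where
  carrier := {g | (∀ k l, p k → ¬ p l → (g : Matrix ι ι F) k l = 0) ∧
    (∀ k l, p k → ¬ p l → ((g⁻¹ : GL ι F) : Matrix ι ι F) k l = 0)}
  mul_mem' := by
    rintro a b ⟨ha, ha'⟩ ⟨hb, hb'⟩
    constructor
    · intro k l hk hl
      rw [Units.val_mul, Matrix.mul_apply]
      refine Finset.sum_eq_zero fun x _ => ?_
      by_cases hx : p x
      · rw [hb x l hx hl, mul_zero]
      · rw [ha k x hk hx, zero_mul]
    · intro k l hk hl
      rw [_root_.mul_inv_rev, Units.val_mul, Matrix.mul_apply]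
      refine Finset.sum_eq_zero fun x _ => ?_
      by_cases hx : p x
      · rw [ha' x l hx hl, mul_zero]
      · rw [hb' k x hk hx, zero_mul]
  one_mem' := by
    constructor
    · intro k l hk hl
      rw [Units.val_one, Matrix.one_apply, if_neg]
      rintro rfl; exact hl hk
    · intro k l hk hl
      rw [inv_one, Units.val_one, Matrix.one_apply, if_neg]
      rintro rfl; exact hl hk
  inv_mem' := by
    rintro a ⟨ha, ha'⟩
    refine ⟨ha', ?_⟩
    rw [inv_inv]
    exact ha

theorem mem_UT (g : GL ι F) : g ∈ UT (F := F) p ↔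
    (∀ k l, p k → ¬ p l → (g : Matrix ι ι F) k l = 0) ∧
    (∀ k l, p k → ¬ p l → ((g⁻¹ : GL ι F) : Matrix ι ι F) k l = 0) := Iff.rfl

/-- The `p`-block of a matrix. -/
def projMat (g : GL ι F) : Matrix {x // p x} {x // p x} F :=
  (g : Matrix ι ι F).submatrix Subtype.val Subtype.val

theorem projMat_apply (g : GL ι F) (k l : {x // p x}) : projMat p g k l = (g : Matrix ι ι F) k l := rfl

theorem projMat_mul (g h : GL ι F) (hg : ∀ k l, p k → ¬ p l → (g : Matrix ι ι F) k l = 0) :
    projMat p (g * h) = projMat p g * projMat p h := by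
  ext k l
  rw [projMat_apply, Units.val_mul, Matrix.mul_apply, Matrix.mul_apply,
    ← Fintype.sum_subtype_add_sum_subtype p]
  have : ∑ x : {x // ¬ p x}, (g : Matrix ι ι F) k x * (h : Matrix ι ι F) x l = 0 :=
    Finset.sum_eq_zero fun x _ => by rw [hg k x k.2 x.2, zero_mul]
  rw [this, add_zero]
  rfl

theorem projMat_one : projMat p (1 : GL ι F) = 1 := by
  ext k l
  rw [projMat_apply, Units.val_one, Matrix.one_apply, Matrix.one_apply]
  simp [Subtype.ext_iff]

/-- The projection of a block-triangular element to the `p`-block. -/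
def proj : UT (F := F) p →* GL {x // p x} F where
  toFun g :=
    { val := projMat p g.1
      inv := projMat p g.1⁻¹
      val_inv := by rw [← projMat_mul p _ _ g.2.1, mul_inv_cancel, projMat_one]
      inv_val := by rw [← projMat_mul p _ _ g.2.2, inv_mul_cancel, projMat_one] }
  map_one' := by
    apply Units.ext
    exact projMat_one p
  map_mul' := by
    intro a b
    apply Units.ext
    exact projMat_mul p _ _ a.2.1

theorem proj_apply (g : UT (F := F) p) (k l : {x // p x}) :
    ((proj p g : GL {x // p x} F) : Matrix _ _ F) k l = (g.1 : Matrix ι ι F) k l := rfl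

/-! ### extension by the identity -/

/-- block-diagonal embedding `y ↦ y ⊕ 1` at matrix level -/
def blockHom : Matrix {x // p x} {x // p x} F →* Matrix ({x // p x} ⊕ {x // ¬ p x}) ({x // p x} ⊕ {x // ¬ p x}) F where
  toFun y := Matrix.fromBlocks y 0 0 1
  map_one' := Matrix.fromBlocks_one
  map_mul' := by
    intro a b
    rw [Matrix.fromBlocks_multiply]
    simp

/-- The extension of an element of `GL` of the `p`-block by the identity on the other coordinates. -/
def ext : GL {x // p x} F →* GL ι F :=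
  Units.map (((Matrix.reindexAlgEquiv F F (Equiv.sumCompl p)).toAlgHom.toRingHom.toMonoidHom).comp
    (blockHom p))

theorem ext_coe (y : GL {x // p x} F) (k l : ι) :
    ((ext p y : GL ι F) : Matrix ι ι F) k l =
      (Matrix.fromBlocks (y : Matrix {x // p x} {x // p x} F) 0 0 1 :
        Matrix ({x // p x} ⊕ {x // ¬ p x}) ({x // p x} ⊕ {x // ¬ p x}) F)
        ((Equiv.sumCompl p).symm k) ((Equiv.sumCompl p).symm l) := rfl

theorem ext_apply_pos_pos (y : GL {x // p x} F) {k l : ι} (hk : p k) (hl : p l) :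
    ((ext p y : GL ι F) : Matrix ι ι F) k l =
      (y : Matrix {x // p x} {x // p x} F) ⟨k, hk⟩ ⟨l, hl⟩ := by
  rw [ext_coe, Equiv.sumCompl_symm_apply_of_pos hk, Equiv.sumCompl_symm_apply_of_pos hl,
    Matrix.fromBlocks_apply₁₁]

theorem ext_apply_pos_neg (y : GL {x // p x} F) {k l : ι} (hk : p k) (hl : ¬ p l) :
    ((ext p y : GL ι F) : Matrix ι ι F) k l = 0 := by
  rw [ext_coe, Equiv.sumCompl_symm_apply_of_pos hk, Equiv.sumCompl_symm_apply_of_neg hl,
    Matrix.fromBlocks_apply₁₂]
  rfl

theorem ext_apply_neg_pos (y : GL {x // p x} F) {k l : ι} (hk : ¬ p k) (hl : p l) :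
    ((ext p y : GL ι F) : Matrix ι ι F) k l = 0 := by
  rw [ext_coe, Equiv.sumCompl_symm_apply_of_neg hk, Equiv.sumCompl_symm_apply_of_pos hl,
    Matrix.fromBlocks_apply₂₁]
  rfl

theorem ext_apply_neg_neg (y : GL {x // p x} F) {k l : ι} (hk : ¬ p k) (hl : ¬ p l) :
    ((ext p y : GL ι F) : Matrix ι ι F) k l = if k = l then 1 else 0 := by
  rw [ext_coe, Equiv.sumCompl_symm_apply_of_neg hk, Equiv.sumCompl_symm_apply_of_neg hl,
    Matrix.fromBlocks_apply₂₂, Matrix.one_apply]
  simp [Subtype.ext_iff]

theorem ext_mem_UT (y : GL {x // p x} F) : ext p y ∈ UT (F := F) p := by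
  constructor
  · intro k l hk hl
    exact ext_apply_pos_neg p y hk hl
  · intro k l hk hl
    rw [← map_inv]
    exact ext_apply_pos_neg p y⁻¹ hk hl

theorem proj_ext (y : GL {x // p x} F) : proj p ⟨ext p y, ext_mem_UT p y⟩ = y := by
  apply Units.ext
  ext k l
  rw [proj_apply]
  exact ext_apply_pos_pos p y k.2 l.2

theorem ext_det (y : GL {x // p x} F) :
    ((ext p y : GL ι F) : Matrix ι ι F).det = (y : Matrix {x // p x} {x // p x} F).det := by
  have : ((ext p y : GL ι F) : Matrix ι ι F) =
      Matrix.reindex (Equiv.sumCompl p) (Equiv.sumCompl p)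
        (Matrix.fromBlocks (y : Matrix {x // p x} {x // p x} F) 0 0 1) := rfl
  rw [this, Matrix.det_reindex_self, Matrix.det_fromBlocks_zero₂₁, Matrix.det_one, mul_one]

theorem ext_mem_monomialGL (y : GL {x // p x} F) (hy : y ∈ monomialGL {x // p x} F) :
    ext p y ∈ monomialGL ι F := by
  obtain ⟨σ, h1, h2⟩ := hy
  have key : ∀ (z : GL {x // p x} F) (ρ : Equiv.Perm {x // p x}),
      (∀ k l, (z : Matrix {x // p x} {x // p x} F) k l ≠ 0 → id k = ρ (id l)) →
      ∀ k l, ((ext p z : GL ι F) : Matrix ι ι F) k l ≠ 0 → id k = (Equiv.Perm.ofSubtype ρ) (id l) := by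
    intro z ρ hz k l hne
    by_cases hk : p k
    · by_cases hl : p l
      · rw [ext_apply_pos_pos p z hk hl] at hne
        have := hz ⟨k, hk⟩ ⟨l, hl⟩ hne
        simp only [id] at this ⊢
        rw [Equiv.Perm.ofSubtype_apply_of_mem ρ hl, ← this]
      · exact absurd (ext_apply_pos_neg p z hk hl) hne
    · by_cases hl : p l
      · exact absurd (ext_apply_neg_pos p z hk hl) hne
      · rw [ext_apply_neg_neg p z hk hl] at hne
        have hkl : k = l := by by_contra h; exact hne (if_neg h)
        simp only [id]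
        rw [Equiv.Perm.ofSubtype_apply_of_not_mem ρ hl, hkl]
  refine ⟨Equiv.Perm.ofSubtype σ, key y σ h1, ?_⟩
  rw [← map_inv]
  have := key y⁻¹ σ.symm h2
  intro k l hne
  rw [this k l hne]
  congr 1

end Cfsg.Agent.Helper7.Mono
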