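import Cfsg.Agent.Helper7.MonoF

/-!
# Conjugates of homologies: not monomial; the homology trick
-/

set_option autoImplicit false

namespace Cfsg.Agent.Helper7.Mono

open Matrix Cfsg.Geo Cfsg.Agent.Helper7.Dcp Cfsg.Agent.Helper7.TGL Cfsg.Agent.Helper7.SLMax

variable {ι : Type} [Fintype ι] [DecidableEq ι] {F : Type*} [Field F]

theorem diagGL_inv (d : ι → Fˣ) : (diagGL d : GL ι F)⁻¹ = diagGL fun k => (d k)⁻¹ := by
  apply Units.ext
  rfl

theorem dGL_inv (i : ι) (ε : Fˣ) : (dGL i ε : GL ι F)⁻¹ = dGL i ε⁻¹ := by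
  unfold dGL
  rw [diagGL_inv]
  congr 1
  funext k
  by_cases h : k = i <;> simp [h]

theorem hGL_inv (i j : ι) (ε : Fˣ) : (hGL i j ε : GL ι F)⁻¹ = hGL i j ε⁻¹ := by
  unfold hGL
  rw [diagGL_inv]
  congr 1
  funext k
  by_cases h : k = i
  · simp [h]
  · by_cases h' : k = j
    · subst h'
      simp [h]
    · simp [h, h']

theorem conj_inv (g d : GL ι F) : (g * d * g⁻¹)⁻¹ = g * d⁻¹ * g⁻¹ := by group

/-- columns of a monomial matrix have at most one nonzero entry -/
theorem monomial_col {y : GL ι F} (hy : y ∈ monomialGL ι F) {a b l : ι}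
    (ha : (y : Matrix ι ι F) a l ≠ 0) (hb : (y : Matrix ι ι F) b l ≠ 0) : a = b := by
  obtain ⟨σ, h1, -⟩ := hy
  have h1a := h1 a l ha
  have h1b := h1 b l hb
  simp only [id] at h1a h1b
  rw [h1a, h1b]

/-- rows of a monomial matrix have at most one nonzero entry -/
theorem monomial_row {y : GL ι F} (hy : y ∈ monomialGL ι F) {a k l : ι}
    (hk : (y : Matrix ι ι F) a k ≠ 0) (hl : (y : Matrix ι ι F) a l ≠ 0) : k = l := by
  obtain ⟨σ, h1, -⟩ := hy
  have h1a := h1 a k hk
  have h1b := h1 a l hl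
  simp only [id] at h1a h1b
  exact σ.injective (h1a.symm.trans h1b)

/-- A conjugate `x d_k(ε) x⁻¹` of a homology (`ε ≠ ±1`) whose centre (column `k` of `x`) has two nonzero
entries is not monomial. -/
theorem homology_not_monomial (x : GL ι F) (k : ι) (ε : Fˣ) (h1 : ε ≠ 1) (hm1 : (ε : F) ≠ -1)
    {a₁ a₂ : ι} (ha : a₁ ≠ a₂) (hc1 : (x : Matrix ι ι F) a₁ k ≠ 0) (hc2 : (x : Matrix ι ι F) a₂ k ≠ 0) :
    x * dGL k ε * x⁻¹ ∉ monomialGL ι F := by
  intro hmon
  set c : ι → F := fun a => (x : Matrix ι ι F) a k with hc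
  set r : ι → F := fun b => ((x⁻¹ : GL ι F) : Matrix ι ι F) k b with hr
  have hε : (ε : F) - 1 ≠ 0 := by
    intro h0
    exact h1 (Units.ext (by rw [Units.val_one]; linear_combination h0))
  have hent : ∀ a b, ((x * dGL k ε * x⁻¹ : GL ι F) : Matrix ι ι F) a b =
      (if a = b then 1 else 0) + ((ε : F) - 1) * (c a * r b) := fun a b => conj_dGL_apply x k ε a b
  have hrc : ∑ b, r b * c b = 1 := by
    have := inv_mul_apply x k k
    rwa [if_pos rfl] at this
  -- some b with r b c b ≠ 0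
  obtain ⟨b, -, hb⟩ : ∃ b ∈ Finset.univ, r b * c b ≠ 0 := by
    apply Finset.exists_ne_zero_of_sum_ne_zero
    rw [hrc]; exact one_ne_zero
  have hrb : r b ≠ 0 := left_ne_zero_of_mul hb
  have hcb : c b ≠ 0 := right_ne_zero_of_mul hb
  -- support of c is {b, a'}
  have hsupp : ∀ a a', a ≠ b → a' ≠ b → c a ≠ 0 → c a' ≠ 0 → a = a' := by
    intro a a' hab ha'b hca hca'
    apply monomial_col hmon (l := b)
    · rw [hent, if_neg hab, zero_add]
      exact mul_ne_zero hε (mul_ne_zero hca hrb)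
    · rw [hent, if_neg ha'b, zero_add]
      exact mul_ne_zero hε (mul_ne_zero hca' hrb)
  -- there is a' ≠ b with c a' ≠ 0
  obtain ⟨a', ha'b, hca'⟩ : ∃ a', a' ≠ b ∧ c a' ≠ 0 := by
    by_cases h : a₁ = b
    · exact ⟨a₂, fun h' => ha (h.trans h'.symm), hc2⟩
    · exact ⟨a₁, h, hc1⟩
  have hzero : ∀ a, a ≠ b → a ≠ a' → c a = 0 := by
    intro a hab haa'
    by_contra hca
    exact haa' (hsupp a a' hab ha'b hca hca')
  -- entry (b,b) vanishes
  have hbb : 1 + ((ε : F) - 1) * (c b * r b) = 0 := by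
    by_contra hne
    have h1' : ((x * dGL k ε * x⁻¹ : GL ι F) : Matrix ι ι F) b b ≠ 0 := by
      rw [hent, if_pos rfl]; exact hne
    have h2' : ((x * dGL k ε * x⁻¹ : GL ι F) : Matrix ι ι F) a' b ≠ 0 := by
      rw [hent, if_neg ha'b, zero_add]
      exact mul_ne_zero hε (mul_ne_zero hca' hrb)
    exact ha'b (monomial_col hmon h2' h1')
  have hsum : r b * c b + r a' * c a' = 1 := by
    rw [← hrc, ← Finset.sum_erase_add _ _ (Finset.mem_univ b), ← Finset.sum_erase_add _ _
      (Finset.mem_erase.mpr ⟨ha'b, Finset.mem_univ a'⟩)]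
    have : ∑ y ∈ (Finset.univ.erase b).erase a', r y * c y = 0 := by
      refine Finset.sum_eq_zero fun y hy => ?_
      rw [Finset.mem_erase, Finset.mem_erase] at hy
      rw [hzero y hy.2.1 hy.1, mul_zero]
    rw [this]
    ring
  by_cases hra' : r a' = 0
  · rw [hra', zero_mul, add_zero] at hsum
    have : (ε : F) = 0 := by linear_combination hbb - ((ε : F) - 1) * hsum
    exact ε.ne_zero this
  · -- entry (a', a') vanishes as well
    have ha'a' : 1 + ((ε : F) - 1) * (c a' * r a') = 0 := by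
      by_contra hne
      have h1' : ((x * dGL k ε * x⁻¹ : GL ι F) : Matrix ι ι F) a' a' ≠ 0 := by
        rw [hent, if_pos rfl]; exact hne
      have h2' : ((x * dGL k ε * x⁻¹ : GL ι F) : Matrix ι ι F) b a' ≠ 0 := by
        rw [hent, if_neg (Ne.symm ha'b), zero_add]
        exact mul_ne_zero hε (mul_ne_zero hcb hra')
      exact ha'b (monomial_col hmon h1' h2')
    apply hm1
    linear_combination hbb + ha'a' - ((ε : F) - 1) * hsum

/-- the action of a conjugate of a homology on vectors -/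
theorem conj_dGL_mulVec (x : GL ι F) (k : ι) (ε : Fˣ) (v : ι → F) :
    ((x * dGL k ε * x⁻¹ : GL ι F) : Matrix ι ι F) *ᵥ v =
      v + ((((ε : F) - 1)) * ((fun b => ((x⁻¹ : GL ι F) : Matrix ι ι F) k b) ⬝ᵥ v)) •
        (fun a => (x : Matrix ι ι F) a k) := by
  funext a
  rw [Matrix.mulVec, dotProduct]
  simp only [conj_dGL_apply, Pi.add_apply, Pi.smul_apply, smul_eq_mul]
  simp_rw [add_mul]
  rw [Finset.sum_add_distrib]
  simp only [ite_mul, one_mul, zero_mul, Finset.sum_ite_eq, Finset.mem_univ, if_true]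
  congr 1
  rw [dotProduct, Finset.mul_sum, Finset.sum_mul]
  refine Finset.sum_congr rfl fun b _ => ?_
  ring

end Cfsg.Agent.Helper7.Mono
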