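import Cfsg.Agent.Helper7.MonoG

/-!
# Overgroups of the full monomial group in which every element with a monomial column is monomial
-/

set_option autoImplicit false

namespace Cfsg.Agent.Helper7.Mono

open Matrix Cfsg.Geo Cfsg.Agent.Helper7.Dcp Cfsg.Agent.Helper7.TGL Cfsg.Agent.Helper7.SLMax

variable {ι : Type} [Fintype ι] [DecidableEq ι] {F : Type*} [Field F]

/-- `K` contains the full monomial group and every element of `K` with a monomial column is monomial. -/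
structure Ov0 (K : Subgroup (GL ι F)) : Prop where
  mono_le : monomialGL ι F ≤ K
  col : ∀ g ∈ K, ∀ l m, (∀ k, k ≠ m → (g : Matrix ι ι F) k l = 0) → g ∈ monomialGL ι F

/-- `x` is wild: in `K` but not monomial. -/
def Wild (K : Subgroup (GL ι F)) (x : GL ι F) : Prop := x ∈ K ∧ x ∉ monomialGL ι F

variable {K : Subgroup (GL ι F)}

theorem Wild.inv {x : GL ι F} (hx : Wild K x) : Wild K x⁻¹ :=
  ⟨K.inv_mem hx.1, fun h => hx.2 (by simpa using (monomialGL ι F).inv_mem h)⟩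

theorem Ov0.col2 (hK : Ov0 K) {x : GL ι F} (hx : Wild K x) (k : ι) :
    ∃ a₁ a₂, a₁ ≠ a₂ ∧ (x : Matrix ι ι F) a₁ k ≠ 0 ∧ (x : Matrix ι ι F) a₂ k ≠ 0 := by
  obtain ⟨a₁, h1⟩ := exists_col_ne_zero x k
  by_contra hne
  push Not at hne
  apply hx.2
  apply hK.col x hx.1 k a₁
  intro a ha
  by_contra h2
  exact h2 (hne a₁ a (Ne.symm ha) h1)

theorem Ov0.conj_wild (hK : Ov0 K) {x : GL ι F} (hx : Wild K x) (k : ι) (ε : Fˣ) (h1 : ε ≠ 1)
    (hm1 : (ε : F) ≠ -1) : Wild K (x * dGL k ε * x⁻¹) := by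
  refine ⟨K.mul_mem (K.mul_mem hx.1 (hK.mono_le (dGL_mem_monomialGL k ε))) (K.inv_mem hx.1), ?_⟩
  obtain ⟨a₁, a₂, ha, h1', h2'⟩ := hK.col2 hx k
  exact homology_not_monomial x k ε h1 hm1 ha h1' h2'

/-- Step 1: all entries of the inverse of a wild element are nonzero. -/
theorem Ov0.inv_ne_zero (hK : Ov0 K) (ε : Fˣ) (h1 : ε ≠ 1) (hm1 : (ε : F) ≠ -1) {x : GL ι F}
    (hx : Wild K x) (k l : ι) : ((x⁻¹ : GL ι F) : Matrix ι ι F) k l ≠ 0 := by
  intro h0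
  have hw := hK.conj_wild hx k ε h1 hm1
  apply hw.2
  apply hK.col _ hw.1 l l
  intro a ha
  rw [conj_dGL_apply, if_neg ha, h0, mul_zero, mul_zero, add_zero]

/-- all entries of a wild element are nonzero -/
theorem Ov0.ne_zero (hK : Ov0 K) (ε : Fˣ) (h1 : ε ≠ 1) (hm1 : (ε : F) ≠ -1) {x : GL ι F}
    (hx : Wild K x) (k l : ι) : (x : Matrix ι ι F) k l ≠ 0 := by
  have := hK.inv_ne_zero ε h1 hm1 hx.inv k l
  rwa [inv_inv] at this

/-- Step 2a: `κ = x l k * x⁻¹ k l` is `1` or `1/2`. -/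
theorem Ov0.kappa (hK : Ov0 K) (ε : Fˣ) (h1 : ε ≠ 1) (hm1 : (ε : F) ≠ -1) {x : GL ι F}
    (hx : Wild K x) (l k : ι) :
    (x : Matrix ι ι F) l k * ((x⁻¹ : GL ι F) : Matrix ι ι F) k l = 1 ∨
      2 * ((x : Matrix ι ι F) l k * ((x⁻¹ : GL ι F) : Matrix ι ι F) k l) = 1 := by
  set κ := (x : Matrix ι ι F) l k * ((x⁻¹ : GL ι F) : Matrix ι ι F) k l with hκ
  have hκ0 : κ ≠ 0 := mul_ne_zero (hK.ne_zero ε h1 hm1 hx l k) (hK.inv_ne_zero ε h1 hm1 hx k l)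
  by_contra hne
  push Not at hne
  obtain ⟨hk1, hk2⟩ := hne
  have he0 : (1 : F) - κ⁻¹ ≠ 0 := by
    intro h
    apply hk1
    have : κ⁻¹ = 1 := by linear_combination -h
    have h2 : κ⁻¹ * κ = 1 := inv_mul_cancel₀ hκ0
    rw [this, one_mul] at h2
    exact h2
  set η : Fˣ := Units.mk0 (1 - κ⁻¹) he0 with hη
  have hη1 : η ≠ 1 := by
    intro h
    have := congrArg Units.val h
    rw [hη, Units.val_mk0, Units.val_one] at this
    have h' : κ⁻¹ = 0 := by linear_combination -this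
    exact hκ0 (inv_eq_zero.mp h')
  have hηm1 : (η : F) ≠ -1 := by
    rw [hη, Units.val_mk0]
    intro h
    apply hk2
    have h' : κ⁻¹ = 2 := by linear_combination -h
    have : κ⁻¹ * κ = 1 := inv_mul_cancel₀ hκ0
    rw [h'] at this
    exact this
  have hw := hK.conj_wild hx k η hη1 hηm1
  have := hK.ne_zero ε h1 hm1 hw l l
  apply this
  rw [conj_dGL_apply, if_pos rfl, hη, Units.val_mk0]
  have : κ⁻¹ * κ = 1 := inv_mul_cancel₀ hκ0
  linear_combination -this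

/-- Step 2b (off-diagonal): for `l ≠ k'` and `θ = (ε' − 1)(ε'⁻¹ − 1)`, `θ κ_l κ_k'` is `1` or `1/2`. -/
theorem Ov0.kappa_off (hK : Ov0 K) (ε : Fˣ) (h1 : ε ≠ 1) (hm1 : (ε : F) ≠ -1) {x : GL ι F}
    (hx : Wild K x) (k : ι) {l k' : ι} (hlk : l ≠ k') (ε' : Fˣ) (h1' : ε' ≠ 1) (hm1' : (ε' : F) ≠ -1) :
    let c := ((x : Matrix ι ι F) l k * ((x⁻¹ : GL ι F) : Matrix ι ι F) k l) *
      ((x : Matrix ι ι F) k' k * ((x⁻¹ : GL ι F) : Matrix ι ι F) k k')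
    let θ := ((ε' : F) - 1) * (((ε'⁻¹ : Fˣ) : F) - 1)
    θ * c = 1 ∨ 2 * (θ * c) = 1 := by
  intro c θ
  have hw := hK.conj_wild hx k ε' h1' hm1'
  have h := hK.kappa ε h1 hm1 hw l k'
  rw [conj_inv, dGL_inv, conj_dGL_apply, conj_dGL_apply, if_neg hlk, if_neg (Ne.symm hlk), zero_add,
    zero_add] at h
  have e : ((ε' : F) - 1) * ((x : Matrix ι ι F) l k * ((x⁻¹ : GL ι F) : Matrix ι ι F) k k') *
      ((((ε'⁻¹ : Fˣ) : F) - 1) * ((x : Matrix ι ι F) k' k * ((x⁻¹ : GL ι F) : Matrix ι ι F) k l)) =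
      θ * c := by
    simp only [θ, c]; ring
  rwa [e] at h

/-- Step 2b (diagonal) -/
theorem Ov0.kappa_diag (hK : Ov0 K) (ε : Fˣ) (h1 : ε ≠ 1) (hm1 : (ε : F) ≠ -1) {x : GL ι F}
    (hx : Wild K x) (k l : ι) (ε' : Fˣ) (h1' : ε' ≠ 1) (hm1' : (ε' : F) ≠ -1) :
    let κ := (x : Matrix ι ι F) l k * ((x⁻¹ : GL ι F) : Matrix ι ι F) k l
    let P := (1 + ((ε' : F) - 1) * κ) * (1 + (((ε'⁻¹ : Fˣ) : F) - 1) * κ)
    P = 1 ∨ 2 * P = 1 := by
  intro κ P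
  have hw := hK.conj_wild hx k ε' h1' hm1'
  have h := hK.kappa ε h1 hm1 hw l l
  rw [conj_inv, dGL_inv, conj_dGL_apply, conj_dGL_apply, if_pos rfl] at h
  exact h

/-- the sum of the `κ` over a column is `1` -/
theorem kappa_sum (x : GL ι F) (k : ι) :
    ∑ l, (x : Matrix ι ι F) l k * ((x⁻¹ : GL ι F) : Matrix ι ι F) k l = 1 := by
  have := inv_mul_apply x k k
  rw [if_pos rfl] at this
  rw [← this]
  refine Finset.sum_congr rfl fun l _ => mul_comm _ _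

end Cfsg.Agent.Helper7.Mono
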