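import Cfsg.Agent.Helper7.MonoH

/-!
# Choice of units in a finite field; overlap-0 overgroups of the monomial group for `q ≥ 7`
-/

set_option autoImplicit false

namespace Cfsg.Agent.Helper7.Mono

open Matrix Cfsg.Geo Cfsg.Agent.Helper7.Dcp Cfsg.Agent.Helper7.TGL Cfsg.Agent.Helper7.SLMax

variable {ι : Type} [Fintype ι] [DecidableEq ι] {F : Type*} [Field F]

theorem fiber_card_le_two [Fintype F] [DecidableEq F] (s : F) :
    (Finset.univ.filter fun e : F => e ≠ 0 ∧ e + e⁻¹ = s).card ≤ 2 := by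
  by_cases hne : (Finset.univ.filter fun e : F => e ≠ 0 ∧ e + e⁻¹ = s).Nonempty
  · obtain ⟨e₀, he₀⟩ := hne
    rw [Finset.mem_filter] at he₀
    obtain ⟨-, h0, hs⟩ := he₀
    have hsub : (Finset.univ.filter fun e : F => e ≠ 0 ∧ e + e⁻¹ = s) ⊆ {e₀, e₀⁻¹} := by
      intro e he
      rw [Finset.mem_filter] at he
      obtain ⟨-, he0, hes⟩ := he
      rw [Finset.mem_insert, Finset.mem_singleton]
      have h1 : e * e⁻¹ = 1 := mul_inv_cancel₀ he0
      have h2 : e₀ * e₀⁻¹ = 1 := mul_inv_cancel₀ h0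
      have key : (e - e₀) * (e * e₀ - 1) = 0 := by
        have : e + e⁻¹ = e₀ + e₀⁻¹ := hes.trans hs.symm
        linear_combination (e * e₀) * this - e₀ * h1 + e * h2
      rcases mul_eq_zero.mp key with h | h
      · left; linear_combination h
      · right
        have : e * e₀ = 1 := by linear_combination h
        exact eq_inv_of_mul_eq_one_left this
    exact (Finset.card_le_card hsub).trans Finset.card_le_two
  · rw [Finset.not_nonempty_iff_eq_empty] at hne
    rw [hne]; simp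

/-- a unit `ε ≠ ±1` with `ε + ε⁻¹` outside a small set -/
theorem exists_unit_tau [Fintype F] [DecidableEq F] (S : Finset F)
    (hS : 3 + 2 * S.card < Fintype.card F) :
    ∃ ε : Fˣ, ε ≠ 1 ∧ (ε : F) ≠ -1 ∧ ((ε : F) + ((ε⁻¹ : Fˣ) : F)) ∉ S := by
  set B : Finset F := {0, 1, -1} ∪ S.biUnion fun s => Finset.univ.filter fun e : F => e ≠ 0 ∧ e + e⁻¹ = s
    with hB
  have hcard : B.card ≤ 3 + 2 * S.card := by
    refine (Finset.card_union_le _ _).trans ?_
    refine add_le_add Finset.card_le_three ?_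
    refine Finset.card_biUnion_le.trans ?_
    calc ∑ s ∈ S, (Finset.univ.filter fun e : F => e ≠ 0 ∧ e + e⁻¹ = s).card
        ≤ ∑ _s ∈ S, 2 := Finset.sum_le_sum fun s _ => fiber_card_le_two s
      _ = 2 * S.card := by rw [Finset.sum_const, smul_eq_mul, mul_comm]
  obtain ⟨e, he⟩ : ∃ e : F, e ∉ B := by
    by_contra hne
    push Not at hne
    have : Fintype.card F ≤ B.card := by
      rw [← Finset.card_univ]
      exact Finset.card_le_card fun x _ => hne x
    omega
  rw [hB, Finset.mem_union, not_or] at he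
  obtain ⟨he1, he2⟩ := he
  simp only [Finset.mem_insert, Finset.mem_singleton, not_or] at he1
  obtain ⟨h0, h1, hm1⟩ := he1
  refine ⟨Units.mk0 e h0, ?_, ?_, ?_⟩
  · intro h
    exact h1 (by have := congrArg Units.val h; simpa using this)
  · simpa using hm1
  · intro hmem
    apply he2
    rw [Finset.mem_biUnion]
    refine ⟨_, hmem, ?_⟩
    rw [Finset.mem_filter]
    refine ⟨Finset.mem_univ _, h0, ?_⟩
    simp

/-- characteristic 7 from cardinality 7 -/
theorem charP_seven [Fintype F] (h7 : Fintype.card F = 7) : CharP F 7 := by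
  obtain ⟨p, hp⟩ := CharP.exists F
  obtain ⟨n, hprime, hcard⟩ := FiniteField.card F p
  rw [h7] at hcard
  have : p = 7 := by
    have h7p : Nat.Prime 7 := by norm_num
    have hdvd : p ∣ 7 := by
      rw [hcard]
      exact dvd_pow_self p n.ne_zero
    exact (Nat.prime_dvd_prime_iff_eq hprime h7p).mp hdvd
  subst this
  exact hp

/-- the special unit for `q = 7` -/
theorem exists_unit_seven [Fintype F] (h7 : Fintype.card F = 7) :
    ∃ ε : Fˣ, ε ≠ 1 ∧ (ε : F) ≠ -1 ∧ ((ε : F) + ((ε⁻¹ : Fˣ) : F)) ≠ 1 ∧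
      2 * ((ε : F) + ((ε⁻¹ : Fˣ) : F)) ≠ 3 := by
  haveI := charP_seven h7
  have h7' : (7 : F) = 0 := by
    have := (CharP.cast_eq_zero_iff F 7 7).mpr (dvd_refl 7)
    exact_mod_cast this
  have hne : ∀ n : ℕ, 0 < n → n < 7 → (n : F) ≠ 0 := by
    intro n h0 h7 h
    have := (CharP.cast_eq_zero_iff F 7 n).mp h
    exact absurd (Nat.le_of_dvd h0 this) (by omega)
  have h2 : (2 : F) ≠ 0 := by simpa using hne 2 (by norm_num) (by norm_num)
  have hinv : ((Units.mk0 (2 : F) h2)⁻¹ : Fˣ) = Units.mk0 (4 : F) (by simpa using hne 4 (by norm_num) (by norm_num)) := by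
    apply inv_eq_of_mul_eq_one_right
    apply Units.ext
    simp only [Units.val_mul, Units.val_mk0, Units.val_one]
    linear_combination h7'
  refine ⟨Units.mk0 2 h2, ?_, ?_, ?_, ?_⟩
  · intro h
    have := congrArg Units.val h
    simp only [Units.val_mk0, Units.val_one] at this
    have h1 : (1 : F) = 0 := by linear_combination this
    exact one_ne_zero h1
  · simp only [Units.val_mk0]
    intro h
    have h3 := hne 3 (by norm_num) (by norm_num)
    apply h3
    push_cast
    linear_combination h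
  · rw [hinv]
    simp only [Units.val_mk0]
    intro h
    have h5 := hne 5 (by norm_num) (by norm_num)
    apply h5
    push_cast
    linear_combination h
  · rw [hinv]
    simp only [Units.val_mk0]
    intro h
    have h2' := hne 2 (by norm_num) (by norm_num)
    apply h2'
    push_cast
    linear_combination h - h7'

/-- a unit `ε ≠ ±1` with `τ = ε + ε⁻¹` satisfying `τ ≠ 1` and `2τ ≠ 3` (for `q ≥ 7`) -/
theorem exists_unit_of_seven_le [Fintype F] (hq : 7 ≤ Fintype.card F) :
    ∃ ε : Fˣ, ε ≠ 1 ∧ (ε : F) ≠ -1 ∧ ((ε : F) + ((ε⁻¹ : Fˣ) : F)) ≠ 1 ∧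
      2 * ((ε : F) + ((ε⁻¹ : Fˣ) : F)) ≠ 3 := by
  classical
  rcases Nat.eq_or_lt_of_le hq with h7 | h8
  · exact exists_unit_seven h7.symm
  · obtain ⟨ε, h1, hm1, hS⟩ := exists_unit_tau (F := F) {1, 3 * 2⁻¹} (by
      have : ({1, 3 * 2⁻¹} : Finset F).card ≤ 2 := Finset.card_le_two
      omega)
    rw [Finset.mem_insert, Finset.mem_singleton, not_or] at hS
    refine ⟨ε, h1, hm1, hS.1, ?_⟩
    intro h
    by_cases h2 : (2 : F) = 0
    · have : (1 : F) = 0 := by linear_combination -h + ((ε : F) + ((ε⁻¹ : Fˣ) : F) - 1) * h2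
      exact one_ne_zero this
    · apply hS.2
      field_simp
      linear_combination h

variable {K : Subgroup (GL ι F)}

/-- For `q ≥ 7` and at least two coordinates there are no wild elements in the overlap-0 situation. -/
theorem Ov0.false_of_seven_le [Fintype F] (hK : Ov0 K) (hq : 7 ≤ Fintype.card F)
    (hj : 2 ≤ Fintype.card ι) {x : GL ι F} (hx : Wild K x) : False := by
  classical
  obtain ⟨ε, h1, hm1, -⟩ := exists_unit_tau (F := F) ∅ (by simp; omega)
  obtain ⟨ε₁, h11, h1m1, hτ1⟩ := exists_unit_tau (F := F) {0} (by simp; omega)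
  rw [Finset.mem_singleton] at hτ1
  have hε₁ : (ε₁ : F) * ((ε₁⁻¹ : Fˣ) : F) = 1 := by simp
  -- two distinct indices
  obtain ⟨l, k', hlk⟩ : ∃ l k' : ι, l ≠ k' := by
    have : 1 < Fintype.card ι := by omega
    exact Fintype.exists_pair_of_one_lt_card this
  -- all κ are 1
  have hκ : ∀ l k, (x : Matrix ι ι F) l k * ((x⁻¹ : GL ι F) : Matrix ι ι F) k l = 1 := by
    intro l k
    rcases hK.kappa ε h1 hm1 hx l k with h | h
    · exact h
    · exfalso
      have hd := hK.kappa_diag ε h1 hm1 hx k l ε₁ h11 h1m1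
      simp only at hd
      set κ := (x : Matrix ι ι F) l k * ((x⁻¹ : GL ι F) : Matrix ι ι F) k l with hκdef
      have h4P : 4 * ((1 + ((ε₁ : F) - 1) * κ) * (1 + (((ε₁⁻¹ : Fˣ) : F) - 1) * κ)) =
          2 + ((ε₁ : F) + ((ε₁⁻¹ : Fˣ) : F)) := by
        linear_combination hε₁ + ((1 + (ε₁ : F)) * (((ε₁⁻¹ : Fˣ) : F) - 1) +
          ((ε₁ : F) - 1) * (1 + ((ε₁⁻¹ : Fˣ) : F)) +
          (2 * κ - 1) * ((ε₁ : F) - 1) * (((ε₁⁻¹ : Fˣ) : F) - 1)) * h
      rcases hd with hd | hd
      · -- τ = 2, so ε₁ = 1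
        have hτ2 : (ε₁ : F) + ((ε₁⁻¹ : Fˣ) : F) = 2 := by
          rw [hd] at h4P
          linear_combination -h4P
        have h2 : ((ε₁ : F) - 1) * ((ε₁ : F) - 1) = 0 := by
          linear_combination (ε₁ : F) * hτ2 - hε₁
        have h3 : (ε₁ : F) - 1 = 0 := by
          rcases mul_eq_zero.mp h2 with h | h <;> exact h
        apply h11
        apply Units.ext
        rw [Units.val_one]
        linear_combination h3
      · apply hτ1
        linear_combination -h4P + 2 * hd
  obtain ⟨ε₂, h21, h2m1, hτ2, hτ3⟩ := exists_unit_of_seven_le (F := F) hq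
  have hε₂ : (ε₂ : F) * ((ε₂⁻¹ : Fˣ) : F) = 1 := by simp
  have ho := hK.kappa_off ε h1 hm1 hx l hlk ε₂ h21 h2m1
  simp only at ho
  rw [hκ l l, hκ k' l] at ho
  rcases ho with ho | ho
  · apply hτ2
    linear_combination -ho + hε₂
  · apply hτ3
    linear_combination -ho + 2 * hε₂

end Cfsg.Agent.Helper7.Mono
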