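import Cfsg.Agent.Helper7.MonoI

/-!
# The homology trick and the zero-symmetry property

If `K` contains the full monomial group and some `w ∈ K` has `w l k = 0` but `w⁻¹ k l ≠ 0`, then `K`
contains a transvection with coordinate axis, hence `SL`.  Otherwise zero patterns of elements of `K`
and of their inverses are transposes of each other (`ZS`), which forces strong restrictions.
-/

set_option autoImplicit false

namespace Cfsg.Agent.Helper7.Mono

open Matrix Cfsg.Geo Cfsg.Agent.Helper7.Dcp Cfsg.Agent.Helper7.TGL Cfsg.Agent.Helper7.SLMax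

variable {ι : Type} [Fintype ι] [DecidableEq ι] {F : Type*} [Field F]

theorem tau_apply (v φ : ι → F) (h : φ ⬝ᵥ v = 0) (a b : ι) :
    ((tau v φ h : GL ι F) : Matrix ι ι F) a b = (if a = b then 1 else 0) + v a * φ b := by
  change (1 + vecMulVec v φ) a b = _
  rw [Matrix.add_apply, Matrix.one_apply, vecMulVec_apply]

theorem dGL_apply (l : ι) (ε : Fˣ) (a b : ι) :
    ((dGL l ε : GL ι F) : Matrix ι ι F) a b = if a = b then (if a = l then (ε : F) else 1) else 0 := by
  unfold dGL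
  rw [diagGL_apply]
  by_cases hab : a = b
  · rw [if_pos hab, if_pos hab]
    by_cases hal : a = l
    · rw [if_pos hal, if_pos hal]
    · rw [if_neg hal, if_neg hal, Units.val_one]
  · rw [if_neg hab, if_neg hab]

theorem dGL_mul_apply (l : ι) (ε : Fˣ) (A : Matrix ι ι F) (a b : ι) :
    (((dGL l ε : GL ι F) : Matrix ι ι F) * A) a b = (if a = l then (ε : F) else 1) * A a b := by
  unfold dGL
  rw [diagGL_coe, Matrix.diagonal_mul]
  by_cases hal : a = l
  · rw [if_pos hal, if_pos hal]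
  · rw [if_neg hal, if_neg hal, Units.val_one]

theorem mul_dGL_apply (l : ι) (ε : Fˣ) (A : Matrix ι ι F) (a b : ι) :
    (A * ((dGL l ε : GL ι F) : Matrix ι ι F)) a b = A a b * (if b = l then (ε : F) else 1) := by
  unfold dGL
  rw [diagGL_coe, Matrix.mul_diagonal]
  by_cases hal : b = l
  · rw [if_pos hal, if_pos hal]
  · rw [if_neg hal, if_neg hal, Units.val_one]

/-- the homology trick -/
theorem specialLinear_le_of_zero_of_inv_ne_zero [Nontrivial ι] (K : Subgroup (GL ι F))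
    (hM : monomialGL ι F ≤ K) (ε : Fˣ) (hε : ε ≠ 1) {w : GL ι F} (hw : w ∈ K) {l k : ι}
    (h0 : (w : Matrix ι ι F) l k = 0) (h1 : ((w⁻¹ : GL ι F) : Matrix ι ι F) k l ≠ 0) :
    specialLinear ι F ≤ K := by
  set γ : F := ((ε : F) - 1) * (((ε⁻¹ : Fˣ) : F) - 1) * ((w⁻¹ : GL ι F) : Matrix ι ι F) k l with hγ
  set c : ι → F := fun a => γ * (w : Matrix ι ι F) a k with hc
  have hdot : (Pi.single l 1 : ι → F) ⬝ᵥ c = 0 := by
    rw [single_dotProduct, one_mul, hc]
    simp only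
    rw [h0, mul_zero]
  have hεε : (ε : F) * ((ε⁻¹ : Fˣ) : F) = 1 := by simp
  obtain ⟨h, hh⟩ : ∃ h : GL ι F, h = w * dGL k ε * w⁻¹ := ⟨_, rfl⟩
  have hent : ∀ a b, (h : Matrix ι ι F) a b = (if a = b then 1 else 0) +
      ((ε : F) - 1) * ((w : Matrix ι ι F) a k * ((w⁻¹ : GL ι F) : Matrix ι ι F) k b) := by
    intro a b
    rw [hh]
    exact conj_dGL_apply w k ε a b
  have key : dGL l ε * h * (dGL l ε)⁻¹ = tau c (Pi.single l 1) hdot * h := by
    apply Units.ext
    ext a b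
    rw [Units.val_mul, Units.val_mul, Units.val_mul, dGL_inv, mul_dGL_apply, dGL_mul_apply,
      Matrix.mul_apply]
    have hsum : ∑ j, ((tau c (Pi.single l 1) hdot : GL ι F) : Matrix ι ι F) a j * (h : Matrix ι ι F) j b =
        (h : Matrix ι ι F) a b + c a * (h : Matrix ι ι F) l b := by
      simp_rw [tau_apply, add_mul]
      rw [Finset.sum_add_distrib]
      congr 1
      · simp
      · simp [Pi.single_apply]
    rw [hsum]
    have hl : (h : Matrix ι ι F) l b = if l = b then 1 else 0 := by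
      rw [hent, h0, zero_mul, mul_zero, add_zero]
    rw [hl]
    by_cases hal : a = l
    · subst hal
      rw [if_pos rfl, hent, h0, zero_mul, mul_zero, add_zero, hc]
      simp only
      rw [h0, mul_zero, zero_mul, add_zero]
      by_cases hab : a = b
      · subst hab
        rw [if_pos rfl, if_pos rfl]
        simp
      · rw [if_neg hab]
        simp
    · rw [if_neg hal, one_mul]
      by_cases hbl : b = l
      · subst hbl
        rw [if_pos rfl, if_pos rfl, hent, if_neg hal, hc, hγ]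
        simp only
        ring
      · rw [if_neg hbl, if_neg (Ne.symm hbl), mul_one, mul_zero, add_zero]
  have hd : dGL l ε ∈ K := hM (dGL_mem_monomialGL l ε)
  have hhK : h ∈ K := by
    rw [hh]
    exact K.mul_mem (K.mul_mem hw (hM (dGL_mem_monomialGL k ε))) (K.inv_mem hw)
  have hmem : tau c (Pi.single l 1) hdot ∈ K := by
    have : tau c (Pi.single l 1) hdot = dGL l ε * h * (dGL l ε)⁻¹ * h⁻¹ := by
      rw [key]; group
    rw [this]
    exact K.mul_mem (K.mul_mem (K.mul_mem hd hhK) (K.inv_mem hd)) (K.inv_mem hhK)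
  refine specialLinear_le_of_tau_single_right K hM ε hε l c hdot ?_ hmem
  obtain ⟨a, ha⟩ := exists_col_ne_zero w k
  intro hc0
  have := congrFun hc0 a
  rw [hc] at this
  simp only [Pi.zero_apply] at this
  have hγ0 : γ ≠ 0 := by
    rw [hγ]
    refine mul_ne_zero (mul_ne_zero ?_ ?_) h1
    · intro h'
      exact hε (Units.ext (by rw [Units.val_one]; linear_combination h'))
    · intro h'
      apply hε
      have : ((ε⁻¹ : Fˣ) : F) = 1 := by linear_combination h'
      have h4 : (ε⁻¹ : Fˣ) = 1 := Units.ext this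
      rwa [inv_eq_one] at h4
  exact (mul_ne_zero hγ0 ha) this

/-- zero-symmetry: zero entries of `w` give zero entries of `w⁻¹` at the transposed position -/
def ZS (K : Subgroup (GL ι F)) : Prop :=
  ∀ w ∈ K, ∀ l k, (w : Matrix ι ι F) l k = 0 → ((w⁻¹ : GL ι F) : Matrix ι ι F) k l = 0

theorem specialLinear_le_of_not_ZS [Nontrivial ι] (K : Subgroup (GL ι F))
    (hM : monomialGL ι F ≤ K) (ε : Fˣ) (hε : ε ≠ 1) (h : ¬ ZS K) : specialLinear ι F ≤ K := by
  unfold ZS at h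
  push Not at h
  obtain ⟨w, hw, l, k, h0, h1⟩ := h
  exact specialLinear_le_of_zero_of_inv_ne_zero K hM ε hε hw h0 h1

variable {K : Subgroup (GL ι F)}

theorem ZS.ne_zero (hZ : ZS K) {w : GL ι F} (hw : w ∈ K) {l k : ι}
    (h : (w : Matrix ι ι F) l k ≠ 0) : ((w⁻¹ : GL ι F) : Matrix ι ι F) k l ≠ 0 := by
  intro h0
  have := hZ w⁻¹ (K.inv_mem hw) k l h0
  rw [inv_inv] at this
  exact h this

/-- Under `ZS`, `κ = x l k * x⁻¹ k l` is `0`, `1` or `1/2`. -/
theorem ZS.kappa (hZ : ZS K) (hM : monomialGL ι F ≤ K) {x : GL ι F} (hx : x ∈ K) (l k : ι) :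
    (x : Matrix ι ι F) l k * ((x⁻¹ : GL ι F) : Matrix ι ι F) k l = 0 ∨
    (x : Matrix ι ι F) l k * ((x⁻¹ : GL ι F) : Matrix ι ι F) k l = 1 ∨
      2 * ((x : Matrix ι ι F) l k * ((x⁻¹ : GL ι F) : Matrix ι ι F) k l) = 1 := by
  set κ := (x : Matrix ι ι F) l k * ((x⁻¹ : GL ι F) : Matrix ι ι F) k l with hκ
  by_contra hne
  push Not at hne
  obtain ⟨hκ0, hk1, hk2⟩ := hne
  have he0 : (1 : F) - κ⁻¹ ≠ 0 := by
    intro h
    apply hk1
    have : κ⁻¹ = 1 := by linear_combination -h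
    have h2 : κ⁻¹ * κ = 1 := inv_mul_cancel₀ hκ0
    rw [this, one_mul] at h2
    exact h2
  set η : Fˣ := Units.mk0 (1 - κ⁻¹) he0 with hη
  have hw : x * dGL k η * x⁻¹ ∈ K :=
    K.mul_mem (K.mul_mem hx (hM (dGL_mem_monomialGL k η))) (K.inv_mem hx)
  have hκκ : κ⁻¹ * κ = 1 := inv_mul_cancel₀ hκ0
  have e1 : ((x * dGL k η * x⁻¹ : GL ι F) : Matrix ι ι F) l l = 0 := by
    rw [conj_dGL_apply, if_pos rfl, hη, Units.val_mk0]
    linear_combination -hκκ
  have e2 := hZ _ hw l l e1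
  rw [conj_inv, dGL_inv, conj_dGL_apply, if_pos rfl] at e2
  have e1' : 1 + ((η : F) - 1) * κ = 0 := by
    rw [hη, Units.val_mk0]
    linear_combination -hκκ
  have hC : (η : F) * ((η⁻¹ : Fˣ) : F) = 1 := by simp
  apply hk2
  linear_combination (((η⁻¹ : Fˣ) : F) * κ - κ + 1 + κ - 1) * e1' + (κ - 1) * e2 - κ ^ 2 * hC

/-- second level, off-diagonal -/
theorem ZS.kappa_off (hZ : ZS K) (hM : monomialGL ι F ≤ K) {x : GL ι F} (hx : x ∈ K) (k : ι)
    {a b : ι} (hab : a ≠ b) (ε' : Fˣ) :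
    let c := ((x : Matrix ι ι F) a k * ((x⁻¹ : GL ι F) : Matrix ι ι F) k a) *
      ((x : Matrix ι ι F) b k * ((x⁻¹ : GL ι F) : Matrix ι ι F) k b)
    let θ := ((ε' : F) - 1) * (((ε'⁻¹ : Fˣ) : F) - 1)
    θ * c = 0 ∨ θ * c = 1 ∨ 2 * (θ * c) = 1 := by
  intro c θ
  have hw : x * dGL k ε' * x⁻¹ ∈ K :=
    K.mul_mem (K.mul_mem hx (hM (dGL_mem_monomialGL k ε'))) (K.inv_mem hx)
  have h := hZ.kappa hM hw a b
  rw [conj_inv, dGL_inv, conj_dGL_apply, conj_dGL_apply, if_neg hab, if_neg (Ne.symm hab), zero_add,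
    zero_add] at h
  have e : ((ε' : F) - 1) * ((x : Matrix ι ι F) a k * ((x⁻¹ : GL ι F) : Matrix ι ι F) k b) *
      ((((ε'⁻¹ : Fˣ) : F) - 1) * ((x : Matrix ι ι F) b k * ((x⁻¹ : GL ι F) : Matrix ι ι F) k a)) =
      θ * c := by
    simp only [θ, c]; ring
  rwa [e] at h

/-- second level, diagonal -/
theorem ZS.kappa_diag (hZ : ZS K) (hM : monomialGL ι F ≤ K) {x : GL ι F} (hx : x ∈ K) (k l : ι)
    (ε' : Fˣ) :
    let κ := (x : Matrix ι ι F) l k * ((x⁻¹ : GL ι F) : Matrix ι ι F) k l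
    let P := (1 + ((ε' : F) - 1) * κ) * (1 + (((ε'⁻¹ : Fˣ) : F) - 1) * κ)
    P = 0 ∨ P = 1 ∨ 2 * P = 1 := by
  intro κ P
  have hw : x * dGL k ε' * x⁻¹ ∈ K :=
    K.mul_mem (K.mul_mem hx (hM (dGL_mem_monomialGL k ε'))) (K.inv_mem hx)
  have h := hZ.kappa hM hw l l
  rw [conj_inv, dGL_inv, conj_dGL_apply, conj_dGL_apply, if_pos rfl] at h
  exact h

/-- Under `ZS`, if all columns of all elements of `K` have at most one nonzero entry, `K` is monomial. -/
theorem ZS.mem_monomialGL (hZ : ZS K)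
    (hcol : ∀ y ∈ K, ∀ l a b, (y : Matrix ι ι F) a l ≠ 0 → (y : Matrix ι ι F) b l ≠ 0 → a = b)
    {x : GL ι F} (hx : x ∈ K) : x ∈ monomialGL ι F := by
  classical
  choose σ₀ hσ₀ using fun l => exists_col_ne_zero x l
  have hinj : Function.Injective σ₀ := by
    intro l l' h
    have h1 : ((x⁻¹ : GL ι F) : Matrix ι ι F) l (σ₀ l) ≠ 0 := hZ.ne_zero hx (hσ₀ l)
    have h2 : ((x⁻¹ : GL ι F) : Matrix ι ι F) l' (σ₀ l) ≠ 0 := by
      rw [h]; exact hZ.ne_zero hx (hσ₀ l')
    exact hcol _ (K.inv_mem hx) _ _ _ h1 h2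
  have hbij : Function.Bijective σ₀ := Finite.injective_iff_bijective.mp hinj
  refine ⟨Equiv.ofBijective σ₀ hbij, ?_, ?_⟩
  · intro k l h
    simp only [id]
    exact hcol x hx l _ _ h (hσ₀ l)
  · intro k l h
    simp only [id]
    have h1 : (x : Matrix ι ι F) l k ≠ 0 := by
      have := hZ.ne_zero (K.inv_mem hx) h
      rwa [inv_inv] at this
    have h2 : l = σ₀ k := hcol x hx k _ _ h1 (hσ₀ k)
    rw [Equiv.eq_symm_apply]
    exact h2.symm

/-- For `q ≥ 7`, `ZS` forces `K` to be monomial. -/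
theorem ZS.le_monomialGL_of_seven_le [Fintype F] (hZ : ZS K) (hM : monomialGL ι F ≤ K)
    (hq : 7 ≤ Fintype.card F) : K ≤ monomialGL ι F := by
  classical
  obtain ⟨ε₁, h11, h1m1, hτ1⟩ := exists_unit_tau (F := F) {0} (by simp; omega)
  rw [Finset.mem_singleton] at hτ1
  have hε₁ : (ε₁ : F) * ((ε₁⁻¹ : Fˣ) : F) = 1 := by simp
  obtain ⟨ε₂, h21, h2m1, hτ2, hτ3⟩ := exists_unit_of_seven_le (F := F) hq
  have hε₂ : (ε₂ : F) * ((ε₂⁻¹ : Fˣ) : F) = 1 := by simp
  -- all κ are 0 or 1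
  have hκ : ∀ y ∈ K, ∀ l k, (y : Matrix ι ι F) l k * ((y⁻¹ : GL ι F) : Matrix ι ι F) k l = 0 ∨
      (y : Matrix ι ι F) l k * ((y⁻¹ : GL ι F) : Matrix ι ι F) k l = 1 := by
    intro y hy l k
    rcases hZ.kappa hM hy l k with h | h | h
    · exact Or.inl h
    · exact Or.inr h
    · exfalso
      have hd := hZ.kappa_diag hM hy k l ε₁
      simp only at hd
      set κ := (y : Matrix ι ι F) l k * ((y⁻¹ : GL ι F) : Matrix ι ι F) k l with hκdef
      have h4P : 4 * ((1 + ((ε₁ : F) - 1) * κ) * (1 + (((ε₁⁻¹ : Fˣ) : F) - 1) * κ)) =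
          2 + ((ε₁ : F) + ((ε₁⁻¹ : Fˣ) : F)) := by
        linear_combination hε₁ + ((1 + (ε₁ : F)) * (((ε₁⁻¹ : Fˣ) : F) - 1) +
          ((ε₁ : F) - 1) * (1 + ((ε₁⁻¹ : Fˣ) : F)) +
          (2 * κ - 1) * ((ε₁ : F) - 1) * (((ε₁⁻¹ : Fˣ) : F) - 1)) * h
      rcases hd with hd | hd | hd
      · -- τ = -2, so ε₁ = -1
        have hτm2 : (ε₁ : F) + ((ε₁⁻¹ : Fˣ) : F) = -2 := by
          rw [hd] at h4P
          linear_combination -h4P
        have h2 : ((ε₁ : F) + 1) * ((ε₁ : F) + 1) = 0 := by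
          linear_combination (ε₁ : F) * hτm2 - hε₁
        have h3 : (ε₁ : F) + 1 = 0 := by
          rcases mul_eq_zero.mp h2 with h | h <;> exact h
        apply h1m1
        linear_combination h3
      · have hτ2' : (ε₁ : F) + ((ε₁⁻¹ : Fˣ) : F) = 2 := by
          rw [hd] at h4P
          linear_combination -h4P
        have h2 : ((ε₁ : F) - 1) * ((ε₁ : F) - 1) = 0 := by
          linear_combination (ε₁ : F) * hτ2' - hε₁
        have h3 : (ε₁ : F) - 1 = 0 := by
          rcases mul_eq_zero.mp h2 with h | h <;> exact h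
        apply h11
        apply Units.ext
        rw [Units.val_one]
        linear_combination h3
      · apply hτ1
        linear_combination -h4P + 2 * hd
  refine fun x hx => hZ.mem_monomialGL ?_ hx
  intro y hy k a b hya hyb
  by_contra hab
  have hka : (y : Matrix ι ι F) a k * ((y⁻¹ : GL ι F) : Matrix ι ι F) k a = 1 := by
    rcases hκ y hy a k with h | h
    · exact absurd h (mul_ne_zero hya (hZ.ne_zero hy hya))
    · exact h
  have hkb : (y : Matrix ι ι F) b k * ((y⁻¹ : GL ι F) : Matrix ι ι F) k b = 1 := by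
    rcases hκ y hy b k with h | h
    · exact absurd h (mul_ne_zero hyb (hZ.ne_zero hy hyb))
    · exact h
  have ho := hZ.kappa_off hM hy k hab ε₂
  simp only at ho
  rw [hka, hkb] at ho
  rcases ho with ho | ho | ho
  · have : ((ε₂ : F) - 1) * (((ε₂⁻¹ : Fˣ) : F) - 1) = 0 := by linear_combination ho
    rcases mul_eq_zero.mp this with h | h
    · exact h21 (Units.ext (by rw [Units.val_one]; linear_combination h))
    · apply h21
      have h' : ((ε₂⁻¹ : Fˣ) : F) = 1 := by linear_combination h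
      have h4 : (ε₂⁻¹ : Fˣ) = 1 := Units.ext h'
      rwa [inv_eq_one] at h4
  · apply hτ2
    linear_combination -ho + hε₂
  · apply hτ3
    linear_combination -ho + 2 * hε₂

end Cfsg.Agent.Helper7.Mono
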