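import Cfsg.Agent.Helper7.MonoJ

/-!
# Zero-symmetry forces monomiality over the field with five elements (at least three coordinates)
-/

set_option autoImplicit false

namespace Cfsg.Agent.Helper7.Mono

open Matrix Cfsg.Geo Cfsg.Agent.Helper7.Dcp Cfsg.Agent.Helper7.TGL Cfsg.Agent.Helper7.SLMax

variable {ι : Type} [Fintype ι] [DecidableEq ι] {F : Type*} [Field F]

/-- characteristic 5 from cardinality 5 -/
theorem charP_five [Fintype F] (h5 : Fintype.card F = 5) : CharP F 5 := by
  obtain ⟨p, hp⟩ := CharP.exists F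
  obtain ⟨n, hprime, hcard⟩ := FiniteField.card F p
  rw [h5] at hcard
  have : p = 5 := by
    have h5p : Nat.Prime 5 := by norm_num
    have hdvd : p ∣ 5 := by
      rw [hcard]
      exact dvd_pow_self p n.ne_zero
    exact (Nat.prime_dvd_prime_iff_eq hprime h5p).mp hdvd
  subst this
  exact hp

theorem five_eq_zero [Fintype F] (h5 : Fintype.card F = 5) : (5 : F) = 0 := by
  haveI := charP_five h5
  have := (CharP.cast_eq_zero_iff F 5 5).mpr (dvd_refl 5)
  exact_mod_cast this

theorem natCast_ne_zero_of_lt_five [Fintype F] (h5 : Fintype.card F = 5) (n : ℕ) (h0 : 0 < n)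
    (hn : n < 5) : (n : F) ≠ 0 := by
  haveI := charP_five h5
  intro h
  have := (CharP.cast_eq_zero_iff F 5 n).mp h
  exact absurd (Nat.le_of_dvd h0 this) (by omega)

/-- a unit avoiding two given values -/
theorem exists_unit_ne_ne [Fintype F] (h4 : 4 ≤ Fintype.card F) (u v : F) :
    ∃ γ : Fˣ, (γ : F) ≠ u ∧ (γ : F) ≠ v := by
  classical
  obtain ⟨e, he⟩ : ∃ e : F, e ∉ ({0, u, v} : Finset F) := by
    by_contra hne
    push Not at hne
    have : Fintype.card F ≤ ({0, u, v} : Finset F).card := by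
      rw [← Finset.card_univ]
      exact Finset.card_le_card fun x _ => hne x
    have h3 : ({0, u, v} : Finset F).card ≤ 3 := Finset.card_le_three
    omega
  simp only [Finset.mem_insert, Finset.mem_singleton, not_or] at he
  exact ⟨Units.mk0 e he.1, he.2.1, he.2.2⟩

variable {K : Subgroup (GL ι F)}

/-- the test (T): partial row sums of the `κ`-matrix are never `-1` -/
theorem ZS.partial_sum_ne [Fintype F] (h5 : Fintype.card F = 5) (hZ : ZS K)
    (hM : monomialGL ι F ≤ K) {x : GL ι F} (hx : x ∈ K) (a : ι) (S : Finset ι) :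
    ∑ k ∈ S, (x : Matrix ι ι F) a k * ((x⁻¹ : GL ι F) : Matrix ι ι F) k a ≠ -1 := by
  intro hs
  have h5' := five_eq_zero (F := F) h5
  have h2 : (2 : F) ≠ 0 := by simpa using natCast_ne_zero_of_lt_five h5 2 (by norm_num) (by norm_num)
  have h3 : (3 : F) ≠ 0 := by simpa using natCast_ne_zero_of_lt_five h5 3 (by norm_num) (by norm_num)
  set u2 : Fˣ := Units.mk0 2 h2 with hu2
  have hu2inv : ((u2⁻¹ : Fˣ) : F) = 3 := by
    have : u2⁻¹ = Units.mk0 3 h3 := by
      apply inv_eq_of_mul_eq_one_right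
      apply Units.ext
      simp only [hu2, Units.val_mul, Units.val_mk0, Units.val_one]
      linear_combination h5'
    rw [this, Units.val_mk0]
  set d : ι → Fˣ := fun k => if k ∈ S then u2 else 1 with hd
  have hz : x * diagGL d * x⁻¹ ∈ K :=
    K.mul_mem (K.mul_mem hx (hM (diagGL_mem_monomialGL d))) (K.inv_mem hx)
  have hrow : ∑ k, (x : Matrix ι ι F) a k * ((x⁻¹ : GL ι F) : Matrix ι ι F) k a = 1 := by
    have := mul_inv_apply x a a
    rwa [if_pos rfl] at this
  have hsplit : ∀ c : F, ∑ k, (x : Matrix ι ι F) a k * (if k ∈ S then c else 1) *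
      ((x⁻¹ : GL ι F) : Matrix ι ι F) k a = 1 + (c - 1) * (-1) := by
    intro c
    have : ∀ k, (x : Matrix ι ι F) a k * (if k ∈ S then c else 1) *
        ((x⁻¹ : GL ι F) : Matrix ι ι F) k a =
        (x : Matrix ι ι F) a k * ((x⁻¹ : GL ι F) : Matrix ι ι F) k a +
        (c - 1) * (if k ∈ S then (x : Matrix ι ι F) a k * ((x⁻¹ : GL ι F) : Matrix ι ι F) k a else 0) := by
      intro k
      by_cases hk : k ∈ S
      · rw [if_pos hk, if_pos hk]; ring
      · rw [if_neg hk, if_neg hk]; ring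
    simp_rw [this]
    rw [Finset.sum_add_distrib, hrow, ← Finset.mul_sum, Finset.sum_ite_mem, Finset.univ_inter, hs]
  have e1 : ((x * diagGL d * x⁻¹ : GL ι F) : Matrix ι ι F) a a = 0 := by
    rw [conj_diagGL_apply]
    have : ∀ k, ((d k : Fˣ) : F) = if k ∈ S then (2 : F) else 1 := by
      intro k
      rw [hd]
      by_cases hk : k ∈ S
      · simp [hk, hu2]
      · simp [hk]
    simp_rw [this]
    rw [hsplit]
    ring
  have e2 := hZ _ hz a a e1
  rw [conj_inv, diagGL_inv, conj_diagGL_apply] at e2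
  have : ∀ k, (((d k)⁻¹ : Fˣ) : F) = if k ∈ S then (3 : F) else 1 := by
    intro k
    rw [hd]
    by_cases hk : k ∈ S
    · simp [hk, hu2inv]
    · simp [hk]
  simp_rw [this] at e2
  rw [hsplit] at e2
  have : (1 : F) = 0 := by linear_combination -e2
  exact one_ne_zero this

/-- over `𝔽₅`, `κ ∈ {0, 1, 3}` -/
theorem ZS.kappa_five [Fintype F] (h5 : Fintype.card F = 5) (hZ : ZS K)
    (hM : monomialGL ι F ≤ K) {x : GL ι F} (hx : x ∈ K) (l k : ι) :
    (x : Matrix ι ι F) l k * ((x⁻¹ : GL ι F) : Matrix ι ι F) k l = 0 ∨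
    (x : Matrix ι ι F) l k * ((x⁻¹ : GL ι F) : Matrix ι ι F) k l = 1 ∨
    (x : Matrix ι ι F) l k * ((x⁻¹ : GL ι F) : Matrix ι ι F) k l = 3 := by
  have h5' := five_eq_zero (F := F) h5
  rcases hZ.kappa hM hx l k with h | h | h
  · exact Or.inl h
  · exact Or.inr (Or.inl h)
  · right; right
    linear_combination 3 * h - ((x : Matrix ι ι F) l k * ((x⁻¹ : GL ι F) : Matrix ι ι F) k l) * h5'

/-- over `𝔽₅`, rows of elements of `K` have at most two nonzero entries -/
theorem ZS.row_support_five [Fintype F] (h5 : Fintype.card F = 5) (hZ : ZS K)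
    (hM : monomialGL ι F ≤ K) {x : GL ι F} (hx : x ∈ K) (a : ι) {k₁ k₂ k₃ : ι}
    (h12 : k₁ ≠ k₂) (h13 : k₁ ≠ k₃) (h23 : k₂ ≠ k₃) (h1 : (x : Matrix ι ι F) a k₁ ≠ 0)
    (h2 : (x : Matrix ι ι F) a k₂ ≠ 0) (h3 : (x : Matrix ι ι F) a k₃ ≠ 0) : False := by
  classical
  have h5' := five_eq_zero (F := F) h5
  set κ : ι → F := fun k => (x : Matrix ι ι F) a k * ((x⁻¹ : GL ι F) : Matrix ι ι F) k a with hκ
  have hκne : ∀ k, (x : Matrix ι ι F) a k ≠ 0 → κ k ≠ 0 := fun k hk =>
    mul_ne_zero hk (hZ.ne_zero hx hk)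
  have hval : ∀ k, (x : Matrix ι ι F) a k ≠ 0 → κ k = 1 ∨ κ k = 3 := by
    intro k hk
    rcases hZ.kappa_five h5 hM hx a k with h | h | h
    · exact absurd h (hκne k hk)
    · exact Or.inl h
    · exact Or.inr h
  have hT := fun S => hZ.partial_sum_ne h5 hM hx a S
  have hrow : ∑ k, κ k = 1 := by
    have := mul_inv_apply x a a
    rwa [if_pos rfl] at this
  -- no two ones
  have hno11 : ∀ k k', k ≠ k' → κ k = 1 → κ k' = 1 → False := by
    intro k k' hkk' hk hk'
    apply hT (Finset.univ \ {k, k'})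
    have : ∑ j ∈ Finset.univ \ {k, k'}, κ j + ∑ j ∈ ({k, k'} : Finset ι), κ j = ∑ j, κ j :=
      Finset.sum_sdiff (Finset.subset_univ _)
    rw [Finset.sum_pair hkk', hk, hk', hrow] at this
    linear_combination this
  -- no one and three
  have hno13 : ∀ k k', k ≠ k' → κ k = 1 → κ k' = 3 → False := by
    intro k k' hkk' hk hk'
    apply hT {k, k'}
    rw [Finset.sum_pair hkk']
    change κ k + κ k' = -1
    rw [hk, hk']
    linear_combination h5'
  -- no three threes
  have hno333 : κ k₁ = 3 → κ k₂ = 3 → κ k₃ = 3 → False := by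
    intro e1 e2 e3
    apply hT {k₁, k₂, k₃}
    rw [Finset.sum_insert (by simp [h12, h13]), Finset.sum_pair h23]
    change κ k₁ + (κ k₂ + κ k₃) = -1
    rw [e1, e2, e3]
    linear_combination 2 * h5'
  rcases hval k₁ h1 with e1 | e1 <;> rcases hval k₂ h2 with e2 | e2 <;> rcases hval k₃ h3 with e3 | e3
  · exact hno11 _ _ h12 e1 e2
  · exact hno11 _ _ h12 e1 e2
  · exact hno11 _ _ h13 e1 e3
  · exact hno13 _ _ h12 e1 e2
  · exact hno11 _ _ h23 e2 e3
  · exact hno13 _ _ h12.symm e2 e1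
  · exact hno13 _ _ h13.symm e3 e1
  · exact hno333 e1 e2 e3

/-- a permutation with two prescribed values -/
theorem exists_perm_two {a a' k k' : ι} (ha : a ≠ a') (hk : k ≠ k') :
    ∃ σ : Equiv.Perm ι, σ a = k ∧ σ a' = k' := by
  set σ₁ : Equiv.Perm ι := Equiv.swap a k with hσ₁
  have h1 : σ₁ a = k := Equiv.swap_apply_left a k
  have hb : σ₁ a' ≠ k := by
    intro h
    rw [← h1] at h
    exact ha (σ₁.injective h).symm
  refine ⟨σ₁.trans (Equiv.swap (σ₁ a') k'), ?_, ?_⟩
  · rw [Equiv.trans_apply, h1, Equiv.swap_apply_of_ne_of_ne (Ne.symm hb) hk]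
  · rw [Equiv.trans_apply, Equiv.swap_apply_left]

/-- For `q = 5` and at least three coordinates, `ZS` forces `K` to be monomial. -/
theorem ZS.le_monomialGL_of_five [Fintype F] (h5 : Fintype.card F = 5) (h3 : 3 ≤ Fintype.card ι)
    (hZ : ZS K) (hM : monomialGL ι F ≤ K) : K ≤ monomialGL ι F := by
  classical
  refine fun x₀ hx₀ => hZ.mem_monomialGL ?_ hx₀
  intro y hy l a b hya hyb
  by_contra hab
  -- pass to the inverse: a row with two nonzero entries
  set x : GL ι F := y⁻¹ with hxdef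
  have hx : x ∈ K := K.inv_mem hy
  have hxa : (x : Matrix ι ι F) l a ≠ 0 := hZ.ne_zero hy hya
  have hxb : (x : Matrix ι ι F) l b ≠ 0 := hZ.ne_zero hy hyb
  have hsupp : ∀ k, k ≠ a → k ≠ b → (x : Matrix ι ι F) l k = 0 := by
    intro k hka hkb
    by_contra hne
    exact hZ.row_support_five h5 hM hx l hab (Ne.symm hka) (Ne.symm hkb) hxa hxb hne
  -- a third column
  obtain ⟨k₃, hk3a, hk3b⟩ : ∃ k₃ : ι, k₃ ≠ a ∧ k₃ ≠ b := by
    by_contra hne
    push Not at hne
    have : Fintype.card ι ≤ ({a, b} : Finset ι).card := by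
      rw [← Finset.card_univ]
      refine Finset.card_le_card fun k _ => ?_
      rw [Finset.mem_insert, Finset.mem_singleton]
      by_cases hk : k = a
      · exact Or.inl hk
      · exact Or.inr (hne k hk)
    have h2 : ({a, b} : Finset ι).card ≤ 2 := Finset.card_le_two
    omega
  obtain ⟨a', ha'⟩ := exists_col_ne_zero x k₃
  have ha'l : l ≠ a' := by
    rintro rfl
    exact ha' (hsupp k₃ hk3a hk3b)
  obtain ⟨σ, hσ1, hσ2⟩ := exists_perm_two (ι := ι) ha'l hab
  -- choice of the scalar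
  obtain ⟨γ, hγ1, hγ2⟩ := exists_unit_ne_ne (F := F) (by omega)
    (-((x : Matrix ι ι F) l b * (x : Matrix ι ι F) a' a) / ((x : Matrix ι ι F) l a * (x : Matrix ι ι F) l a))
    (-((x : Matrix ι ι F) a' b) / ((x : Matrix ι ι F) l a))
  set c : ι → Fˣ := fun k => if k = a then γ else 1 with hc
  set w : GL ι F := x * (diagGL c * permGL σ) * x with hw
  have hwK : w ∈ K :=
    K.mul_mem (K.mul_mem hx (K.mul_mem (hM (diagGL_mem_monomialGL c)) (hM (permGL_mem_monomialGL σ)))) hx
  have hnx : ∀ k b', ((diagGL c * permGL σ * x : GL ι F) : Matrix ι ι F) k b' =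
      (c k : F) * (x : Matrix ι ι F) (σ.symm k) b' := by
    intro k b'
    rw [Units.val_mul, Units.val_mul, Matrix.mul_assoc, diagGL_coe, Matrix.diagonal_mul, Matrix.mul_apply]
    congr 1
    rw [Finset.sum_eq_single (σ.symm k)]
    · rw [permGL_apply, if_pos (by simp), one_mul]
    · intro m _ hm
      rw [permGL_apply, if_neg, zero_mul]
      intro h
      apply hm
      rw [h, Equiv.symm_apply_apply]
    · intro h; exact absurd (Finset.mem_univ _) h
  have hwent : ∀ b', (w : Matrix ι ι F) l b' =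
      (x : Matrix ι ι F) l a * ((γ : F) * (x : Matrix ι ι F) l b') +
      (x : Matrix ι ι F) l b * (x : Matrix ι ι F) a' b' := by
    intro b'
    have : w = x * (diagGL c * permGL σ * x) := by rw [hw]; group
    rw [this, Units.val_mul, Matrix.mul_apply, Fintype.sum_eq_add a b hab]
    · rw [hnx, hnx]
      have e1 : σ.symm a = l := by rw [Equiv.symm_apply_eq]; exact hσ1.symm
      have e2 : σ.symm b = a' := by rw [Equiv.symm_apply_eq]; exact hσ2.symm
      rw [e1, e2, hc]
      simp only [if_true, if_neg (Ne.symm hab), Units.val_one, one_mul]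
    · intro k hk
      rw [hsupp k hk.1 hk.2, zero_mul]
  have hla2 : (x : Matrix ι ι F) l a * (x : Matrix ι ι F) l a ≠ 0 := mul_ne_zero hxa hxa
  refine hZ.row_support_five h5 hM hwK l hab (Ne.symm hk3a) (Ne.symm hk3b) ?_ ?_ ?_
  · rw [hwent]
    intro h0
    apply hγ1
    field_simp
    linear_combination h0
  · rw [hwent]
    intro h0
    apply hγ2
    field_simp
    have : (x : Matrix ι ι F) l b * ((x : Matrix ι ι F) l a * (γ : F) + (x : Matrix ι ι F) a' b) = 0 := by
      linear_combination h0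
    rcases mul_eq_zero.mp this with h | h
    · exact absurd h hxb
    · linear_combination h
  · rw [hwent, hsupp k₃ hk3a hk3b, mul_zero, mul_zero, zero_add]
    exact mul_ne_zero hxb ha'

/-- **Theorem A**: overgroups of the full monomial group in `GL`. -/
theorem specialLinear_le_of_monomialGL_lt [Fintype F]
    (hq : (7 ≤ Fintype.card F ∧ 2 ≤ Fintype.card ι) ∨ (Fintype.card F = 5 ∧ 3 ≤ Fintype.card ι))
    (K : Subgroup (GL ι F)) (hM : monomialGL ι F ≤ K) {x : GL ι F} (hx : x ∈ K)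
    (hxM : x ∉ monomialGL ι F) : specialLinear ι F ≤ K := by
  haveI : Nontrivial ι := by
    rw [← Fintype.one_lt_card_iff_nontrivial]
    rcases hq with h | h <;> omega
  obtain ⟨ε, hε⟩ : ∃ ε : Fˣ, ε ≠ 1 := by
    obtain ⟨γ, hγ, -⟩ := exists_unit_ne_ne (F := F) (by rcases hq with h | h <;> omega) 1 1
    exact ⟨γ, fun h => hγ (by rw [h, Units.val_one])⟩
  by_contra hSL
  have hZ : ZS K := by
    by_contra hZ
    exact hSL (specialLinear_le_of_not_ZS K hM ε hε hZ)
  rcases hq with ⟨h7, -⟩ | ⟨h5, h3⟩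
  · exact hxM (hZ.le_monomialGL_of_seven_le hM h7 hx)
  · exact hxM (hZ.le_monomialGL_of_five h5 h3 hM hx)

end Cfsg.Agent.Helper7.Mono
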