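import Cfsg.Agent.Helper7.MonoK

/-!
# Overgroups of `N = monomial ∩ SL` containing a non-monomial element with a monomial column
-/

set_option autoImplicit false

namespace Cfsg.Agent.Helper7.Mono

open Matrix Cfsg.Geo Cfsg.Agent.Helper7.Dcp Cfsg.Agent.Helper7.TGL Cfsg.Agent.Helper7.SLMax

variable {ι : Type} [Fintype ι] [DecidableEq ι] {F : Type*} [Field F]

theorem diagGL_mul_apply (d : ι → Fˣ) (A : Matrix ι ι F) (a b : ι) :
    (((diagGL d : GL ι F) : Matrix ι ι F) * A) a b = (d a : F) * A a b := by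
  rw [diagGL_coe, Matrix.diagonal_mul]

theorem mul_diagGL_apply (d : ι → Fˣ) (A : Matrix ι ι F) (a b : ι) :
    (A * ((diagGL d : GL ι F) : Matrix ι ι F)) a b = A a b * (d b : F) := by
  rw [diagGL_coe, Matrix.mul_diagonal]

theorem diagGL_mem_UT (p : ι → Prop) [DecidablePred p] (d : ι → Fˣ) :
    diagGL d ∈ UT (F := F) p := by
  constructor
  · intro k l hk hl
    rw [diagGL_apply, if_neg]
    rintro rfl; exact hl hk
  · intro k l hk hl
    rw [diagGL_inv, diagGL_apply, if_neg]
    rintro rfl; exact hl hk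

theorem proj_diagGL (p : ι → Prop) [DecidablePred p] (d : ι → Fˣ) :
    proj p ⟨diagGL d, diagGL_mem_UT p d⟩ = diagGL (fun k : {x // p x} => d k.1) := by
  apply Units.ext
  ext k l
  rw [proj_apply, diagGL_apply, diagGL_apply]
  simp [Subtype.ext_iff]

theorem dGL_det (m : ι) (δ : Fˣ) : ((dGL m δ : GL ι F) : Matrix ι ι F).det = (δ : F) := by
  unfold dGL
  rw [diagGL_det]
  have : ∀ k : ι, ((if k = m then δ else 1 : Fˣ) : F) = if k = m then (δ : F) else 1 := by
    intro k
    by_cases hk : k = m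
    · rw [if_pos hk, if_pos hk]
    · rw [if_neg hk, if_neg hk, Units.val_one]
  simp_rw [this]
  rw [Finset.prod_ite_eq' Finset.univ m (fun _ => (δ : F))]
  simp

theorem diagGL_one : (diagGL (fun _ : ι => (1 : Fˣ)) : GL ι F) = 1 := by
  apply Units.ext
  rw [diagGL_coe]
  simp

/-- the image in the `p`-block of the block-triangular elements of `K` -/
def Kp (K : Subgroup (GL ι F)) (p : ι → Prop) [DecidablePred p] : Subgroup (GL {x // p x} F) :=
  (K.subgroupOf (UT (F := F) p)).map (proj p)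

theorem mem_Kp (K : Subgroup (GL ι F)) (p : ι → Prop) [DecidablePred p] (y : GL {x // p x} F) :
    y ∈ Kp K p ↔ ∃ (g : GL ι F) (hg : g ∈ UT (F := F) p), g ∈ K ∧ proj p ⟨g, hg⟩ = y := by
  unfold Kp
  rw [Subgroup.mem_map]
  constructor
  · rintro ⟨⟨g, hg⟩, hgK, rfl⟩
    exact ⟨g, hg, Subgroup.mem_subgroupOf.mp hgK, rfl⟩
  · rintro ⟨g, hg, hgK, rfl⟩
    exact ⟨⟨g, hg⟩, Subgroup.mem_subgroupOf.mpr hgK, rfl⟩

/-- monomial elements of the block lift to `N` -/
theorem ext_mul_dGL_mem (p : ι → Prop) [DecidablePred p] {m : ι} (hm : ¬ p m)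
    (y : GL {x // p x} F) (hy : y ∈ monomialGL {x // p x} F) :
    ext p y * dGL m (Matrix.GeneralLinearGroup.det y)⁻¹ ∈ monomialGL ι F ⊓ specialLinear ι F := by
  refine Subgroup.mem_inf.mpr
    ⟨(monomialGL ι F).mul_mem (ext_mem_monomialGL p y hy) (dGL_mem_monomialGL m _), ?_⟩
  rw [mem_specialLinear_iff, Units.val_mul, Matrix.det_mul, ext_det, dGL_det]
  have : ((Matrix.GeneralLinearGroup.det y : Fˣ) : F) = (y : Matrix {x // p x} {x // p x} F).det := rfl
  rw [← this]
  simp only [Units.val_inv_eq_inv_val]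
  exact mul_inv_cancel₀ (Units.ne_zero _)

theorem proj_ext_mul_dGL (p : ι → Prop) [DecidablePred p] {m : ι} (hm : ¬ p m)
    (y : GL {x // p x} F) (δ : Fˣ)
    (h : ext p y * dGL m δ ∈ UT (F := F) p) : proj p ⟨ext p y * dGL m δ, h⟩ = y := by
  have e : (⟨ext p y * dGL m δ, h⟩ : UT (F := F) p) =
      ⟨ext p y, ext_mem_UT p y⟩ * ⟨dGL m δ, diagGL_mem_UT p _⟩ := rfl
  rw [e, map_mul, proj_ext]
  have : proj p ⟨dGL m δ, diagGL_mem_UT p _⟩ = 1 := by
    unfold dGL
    rw [proj_diagGL]
    have : (fun k : {x // p x} => (if k.1 = m then δ else 1 : Fˣ)) = fun _ => 1 := by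
      funext k
      rw [if_neg]
      rintro rfl
      exact hm k.2
    rw [this, diagGL_one]
  rw [this, mul_one]

theorem monomialGL_le_Kp (K : Subgroup (GL ι F)) (hN : monomialGL ι F ⊓ specialLinear ι F ≤ K)
    (p : ι → Prop) [DecidablePred p] {m : ι} (hm : ¬ p m) :
    monomialGL {x // p x} F ≤ Kp K p := by
  intro y hy
  rw [mem_Kp]
  have hUT : ext p y * dGL m (Matrix.GeneralLinearGroup.det y)⁻¹ ∈ UT (F := F) p :=
    (UT p).mul_mem (ext_mem_UT p y) (diagGL_mem_UT p _)
  exact ⟨_, hUT, hN (ext_mul_dGL_mem p hm y hy), proj_ext_mul_dGL p hm y _ hUT⟩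

theorem ext_xGL (p : ι → Prop) [DecidablePred p] (k l : {x // p x}) (h : k ≠ l) (c : F) :
    ext p (xGL k l h c) = xGL k.1 l.1 (fun h' => h (Subtype.ext h')) c := by
  apply Units.ext
  ext a b
  unfold xGL
  rw [tau_apply]
  by_cases ha : p a
  · by_cases hb : p b
    · rw [ext_apply_pos_pos p _ ha hb, tau_apply]
      simp only [Pi.single_apply, Subtype.ext_iff]
    · have hbl : b ≠ l.1 := by rintro rfl; exact hb l.2
      have e : (Pi.single l.1 (1 : F) : ι → F) b = 0 := by rw [Pi.single_apply, if_neg hbl]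
      rw [ext_apply_pos_neg p _ ha hb, if_neg (by rintro rfl; exact hb ha), e, mul_zero, add_zero]
  · have hak : a ≠ k.1 := by rintro rfl; exact ha k.2
    have e : (Pi.single k.1 c : ι → F) a = 0 := by rw [Pi.single_apply, if_neg hak]
    by_cases hb : p b
    · rw [ext_apply_neg_pos p _ ha hb, if_neg (by rintro rfl; exact ha hb), e, zero_mul, add_zero]
    · rw [ext_apply_neg_neg p _ ha hb, e, zero_mul, add_zero]

/-- the predicate `· ≠ m` -/
abbrev neP (m : ι) : ι → Prop := fun a => a ≠ m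

section col

variable (m : ι)

/-- An element of `SL` fixing `e_m` and acting trivially on the quotient is a transvection with centre
`e_m`. -/
theorem eq_tau_of_proj_eq_one {v : GL ι F} (hv : v ∈ UT (F := F) (neP m))
    (hSL : v ∈ specialLinear ι F) (hproj : proj (neP m) ⟨v, hv⟩ = 1) :
    ∃ (β : ι → F) (h : β ⬝ᵥ (Pi.single m 1 : ι → F) = 0), v = tau (Pi.single m 1) β h := by
  set β' : ι → F := fun b => (v : Matrix ι ι F) m b - (if m = b then 1 else 0) with hβ'
  have hrow : ∀ a b, a ≠ m → (v : Matrix ι ι F) a b = if a = b then 1 else 0 := by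
    intro a b ha
    by_cases hb : b = m
    · subst hb
      rw [hv.1 a b ha (by simp [neP]), if_neg ha]
    · have := congrArg (fun y : GL {x // neP m x} F =>
        (y : Matrix {x // neP m x} {x // neP m x} F) ⟨a, ha⟩ ⟨b, hb⟩) hproj
      simp only [proj_apply, Units.val_one, Matrix.one_apply, Subtype.mk.injEq] at this
      exact this
  have hmat : (v : Matrix ι ι F) = 1 + (1 : F) • vecMulVec (Pi.single m 1) β' := by
    ext a b
    rw [Matrix.add_apply, Matrix.smul_apply, vecMulVec_apply, Matrix.one_apply, one_smul]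
    by_cases ha : a = m
    · subst ha
      rw [Pi.single_eq_same, one_mul, hβ']
      ring
    · rw [hrow a b ha, Pi.single_eq_of_ne ha, zero_mul, add_zero]
  have hdet : (v : Matrix ι ι F).det = 1 := (mem_specialLinear_iff v).mp hSL
  rw [hmat, Cfsg.Agent.Helper7.QF.det_one_add_smul_vecMulVec, one_mul, dotProduct_single, mul_one] at hdet
  have hβm : β' m = 0 := by linear_combination hdet
  have hdot : β' ⬝ᵥ (Pi.single m 1 : ι → F) = 0 := by rw [dotProduct_single, mul_one, hβm]
  refine ⟨β', hdot, ?_⟩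
  apply Units.ext
  rw [hmat, one_smul]
  rfl

/-- Uniqueness of lifts when `K` contains no transvection with centre `e_m`. -/
theorem eq_of_proj_eq (K : Subgroup (GL ι F)) (hK : K ≤ specialLinear ι F)
    (hNT : ∀ (β : ι → F) (h : β ⬝ᵥ (Pi.single m 1 : ι → F) = 0), tau (Pi.single m 1) β h ∈ K → β = 0)
    {u u' : GL ι F} (hu : u ∈ K) (hu' : u' ∈ K) (hUT : u ∈ UT (F := F) (neP m))
    (hUT' : u' ∈ UT (F := F) (neP m))
    (hp : proj (neP m) ⟨u, hUT⟩ = proj (neP m) ⟨u', hUT'⟩) : u = u' := by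
  have hvUT : u * u'⁻¹ ∈ UT (F := F) (neP m) := (UT (neP m)).mul_mem hUT ((UT (neP m)).inv_mem hUT')
  have hvK : u * u'⁻¹ ∈ K := K.mul_mem hu (K.inv_mem hu')
  have hproj : proj (neP m) ⟨u * u'⁻¹, hvUT⟩ = 1 := by
    have : (⟨u * u'⁻¹, hvUT⟩ : UT (F := F) (neP m)) = ⟨u, hUT⟩ * ⟨u', hUT'⟩⁻¹ := rfl
    rw [this, map_mul, map_inv, hp, mul_inv_cancel]
  obtain ⟨β, h, hv⟩ := eq_tau_of_proj_eq_one m hvUT (hK hvK) hproj
  have hβ : β = 0 := hNT β h (by rw [← hv]; exact hvK)
  subst hβ
  rw [tau_zero_right] at hv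
  exact mul_inv_eq_one.mp hv

theorem inv_col_of_col {g : GL ι F} (h : ∀ k, k ≠ m → (g : Matrix ι ι F) k m = 0) :
    ∀ k, k ≠ m → ((g⁻¹ : GL ι F) : Matrix ι ι F) k m = 0 := by
  intro k hk
  have hmm : (g : Matrix ι ι F) m m ≠ 0 := by
    obtain ⟨a, ha⟩ := exists_col_ne_zero g m
    by_cases ham : a = m
    · rwa [ham] at ha
    · exact absurd (h a ham) ha
  have := inv_mul_apply g k m
  rw [if_neg hk, Finset.sum_eq_single m] at this
  · exact (mul_eq_zero.mp this).resolve_right hmm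
  · intro a _ ham
    rw [h a ham, mul_zero]
  · intro h'
    exact absurd (Finset.mem_univ _) h'

theorem mem_UT_of_col {g : GL ι F} (h : ∀ k, k ≠ m → (g : Matrix ι ι F) k m = 0) :
    g ∈ UT (F := F) (neP m) := by
  constructor
  · intro k l hk hl
    have : l = m := by simpa [neP] using hl
    subst this
    exact h k hk
  · intro k l hk hl
    have : l = m := by simpa [neP] using hl
    subst this
    exact inv_col_of_col l h k hk

theorem hGL_apply (i j : ι) (ε : Fˣ) (a b : ι) :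
    ((hGL i j ε : GL ι F) : Matrix ι ι F) a b =
      if a = b then ((if a = i then ε else if a = j then ε⁻¹ else 1 : Fˣ) : F) else 0 := by
  unfold hGL
  rw [diagGL_apply]

theorem row_zero_of_commute {u : GL ι F} {j : ι} (hjm : j ≠ m) {ε : Fˣ} (hε : ε ≠ 1)
    (hc : u * hGL m j ε = hGL m j ε * u) {b : ι} (hbm : b ≠ m) (hbj : b ≠ j) :
    (u : Matrix ι ι F) m b = 0 := by
  have h := congrArg (fun y : GL ι F => (y : Matrix ι ι F) m b) hc
  simp only [Units.val_mul] at h
  unfold hGL at h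
  rw [mul_diagGL_apply, diagGL_mul_apply, if_neg hbm, if_neg hbj, if_pos rfl, Units.val_one, mul_one] at h
  have h' : ((ε : F) - 1) * (u : Matrix ι ι F) m b = 0 := by linear_combination -h
  rcases mul_eq_zero.mp h' with h0 | h0
  · exact absurd (Units.ext (by rw [Units.val_one]; linear_combination h0)) hε
  · exact h0

theorem eq_ext_of_row_zero {u : GL ι F} (hUT : u ∈ UT (F := F) (neP m))
    (hSL : u ∈ specialLinear ι F) (hrow : ∀ b, b ≠ m → (u : Matrix ι ι F) m b = 0)
    (hdet : ((proj (neP m) ⟨u, hUT⟩ : GL {x // neP m x} F) : Matrix {x // neP m x} {x // neP m x} F).det = 1) :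
    u = ext (neP m) (proj (neP m) ⟨u, hUT⟩) := by
  have hmm : (u : Matrix ι ι F) m m ≠ 0 := by
    obtain ⟨b, hb⟩ := exists_row_ne_zero u m
    by_cases hbm : b = m
    · rwa [hbm] at hb
    · exact absurd (hrow b hbm) hb
  set δ : Fˣ := Units.mk0 _ hmm with hδ
  have hprod : u = ext (neP m) (proj (neP m) ⟨u, hUT⟩) * dGL m δ := by
    apply Units.ext
    ext a b
    rw [Units.val_mul, mul_dGL_apply]
    by_cases ha : a = m
    · subst ha
      by_cases hb : b = a
      · subst hb
        rw [ext_apply_neg_neg _ _ (by simp [neP]) (by simp [neP]), if_pos rfl, if_pos rfl, one_mul, hδ,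
          Units.val_mk0]
      · rw [ext_apply_neg_pos _ _ (by simp [neP]) (show neP a b from hb), zero_mul]
        exact hrow b hb
    · by_cases hb : b = m
      · subst hb
        rw [ext_apply_pos_neg _ _ (show neP b a from ha) (by simp [neP]), zero_mul]
        exact hUT.1 a b ha (by simp [neP])
      · rw [ext_apply_pos_pos _ _ (show neP m a from ha) (show neP m b from hb), if_neg hb, mul_one,
          proj_apply]
  have hdet' : (u : Matrix ι ι F).det = 1 := (mem_specialLinear_iff u).mp hSL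
  rw [hprod, Units.val_mul, Matrix.det_mul, ext_det, hdet, dGL_det, one_mul] at hdet'
  have hδ1 : δ = 1 := Units.ext (by rw [Units.val_one]; exact hdet')
  rw [hδ1] at hprod
  have : (dGL m (1 : Fˣ) : GL ι F) = 1 := by
    unfold dGL
    have : (fun k : ι => (if k = m then (1 : Fˣ) else 1)) = fun _ => 1 := by
      funext k; simp
    rw [this, diagGL_one]
  rw [this, mul_one] at hprod
  exact hprod

/-- **(B)** with the monomial column at the diagonal position. -/
theorem specialLinear_le_of_wild_col_aux [Fintype F] (h5 : 5 ≤ Fintype.card ι)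
    (hq : Fintype.card F = 5 ∨ 7 ≤ Fintype.card F) (K : Subgroup (GL ι F))
    (hN : monomialGL ι F ⊓ specialLinear ι F ≤ K) (hK : K ≤ specialLinear ι F) {g : GL ι F}
    (hg : g ∈ K) (hgM : g ∉ monomialGL ι F) (hcol : ∀ k, k ≠ m → (g : Matrix ι ι F) k m = 0) :
    specialLinear ι F ≤ K := by
  classical
  have h4 : 4 ≤ Fintype.card ι := by omega
  obtain ⟨ε, hε⟩ : ∃ ε : Fˣ, ε ≠ 1 := by
    obtain ⟨γ, hγ, -⟩ := exists_unit_ne_ne (F := F) (by rcases hq with h | h <;> omega) 1 1
    exact ⟨γ, fun h => hγ (by rw [h, Units.val_one])⟩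
  by_cases hNT : ∀ (β : ι → F) (h : β ⬝ᵥ (Pi.single m 1 : ι → F) = 0),
      tau (Pi.single m 1) β h ∈ K → β = 0
  swap
  · push Not at hNT
    obtain ⟨β, h, hmem, hβ⟩ := hNT
    exact specialLinear_le_of_tau_single_left_N h4 K hN ε hε m β h hβ hmem
  have hmp : ¬ neP m m := by simp [neP]
  have hgUT := mem_UT_of_col m hcol
  have hMp : monomialGL {x // neP m x} F ≤ Kp K (neP m) := monomialGL_le_Kp K hN (neP m) hmp
  by_cases hy₀ : proj (neP m) ⟨g, hgUT⟩ ∈ monomialGL {x // neP m x} F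
  · exfalso
    have hl := ext_mul_dGL_mem (neP m) hmp _ hy₀
    have hlUT : ext (neP m) (proj (neP m) ⟨g, hgUT⟩) *
        dGL m (Matrix.GeneralLinearGroup.det (proj (neP m) ⟨g, hgUT⟩))⁻¹ ∈ UT (F := F) (neP m) :=
      (UT _).mul_mem (ext_mem_UT _ _) (diagGL_mem_UT _ _)
    have := eq_of_proj_eq m K hK hNT hg (hN hl) hgUT hlUT (by rw [proj_ext_mul_dGL (neP m) hmp])
    apply hgM
    rw [this]
    exact hl.1
  · have hcardp : Fintype.card {x // neP m x} = Fintype.card ι - 1 := by simp [neP]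
    have hA := specialLinear_le_of_monomialGL_lt (ι := {x // neP m x})
      (by rcases hq with h | h
          · exact Or.inr ⟨h, by omega⟩
          · exact Or.inl ⟨h, by omega⟩) (Kp K (neP m)) hMp
      ((mem_Kp _ _ _).mpr ⟨g, hgUT, hg, rfl⟩) hy₀
    -- four distinct coordinates different from `m`
    have hc : Fintype.card (Fin 4) ≤ Fintype.card {x : ι // neP m x} := by
      rw [hcardp]; simp; omega
    obtain ⟨f⟩ := Function.Embedding.nonempty_of_card_le hc
    have hne : ∀ i j : Fin 4, i ≠ j → f i ≠ f j := fun i j hij h => hij (f.injective h)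
    set k₀ := f 0 with hk₀
    set l₀ := f 1 with hl₀
    set j₁ := f 2 with hj₁
    set j₂ := f 3 with hj₂
    have hkl : k₀ ≠ l₀ := hne 0 1 (by decide)
    have hX : xGL k₀ l₀ hkl (1 : F) ∈ Kp K (neP m) := hA (tau_mem_specialLinear _ _ _)
    obtain ⟨u, huUT, huK, hu⟩ := (mem_Kp _ _ _).mp hX
    -- `u` commutes with the torus elements `h_{m j}(ε)`
    have hcomm : ∀ j : {x // neP m x}, j ≠ k₀ → j ≠ l₀ → u * hGL m j.1 ε = hGL m j.1 ε * u := by
      intro j hjk hjl
      have htK : hGL m j.1 ε ∈ K :=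
        hN ⟨hGL_mem_monomialGL m j.1 ε, hGL_mem_specialLinear (Ne.symm j.2) ε⟩
      have htUT : hGL m j.1 ε ∈ UT (F := F) (neP m) := diagGL_mem_UT _ _
      have hcUT : hGL m j.1 ε * u * (hGL m j.1 ε)⁻¹ ∈ UT (F := F) (neP m) :=
        (UT _).mul_mem ((UT _).mul_mem htUT huUT) ((UT _).inv_mem htUT)
      have hcK : hGL m j.1 ε * u * (hGL m j.1 ε)⁻¹ ∈ K :=
        K.mul_mem (K.mul_mem htK huK) (K.inv_mem htK)
      have hproj : proj (neP m) ⟨hGL m j.1 ε * u * (hGL m j.1 ε)⁻¹, hcUT⟩ = proj (neP m) ⟨u, huUT⟩ := by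
        have e : (⟨hGL m j.1 ε * u * (hGL m j.1 ε)⁻¹, hcUT⟩ : UT (F := F) (neP m)) =
            ⟨hGL m j.1 ε, htUT⟩ * ⟨u, huUT⟩ * ⟨hGL m j.1 ε, htUT⟩⁻¹ := rfl
        rw [e, map_mul, map_mul, map_inv, hu]
        have : proj (neP m) ⟨hGL m j.1 ε, htUT⟩ =
            diagGL (fun k : {x // neP m x} => if k.1 = m then ε else if k.1 = j.1 then ε⁻¹ else 1) :=
          proj_diagGL _ _
        rw [this, diagGL_conj_xGL]
        congr 1
        have e1 : k₀.1 ≠ m := k₀.2
        have e2 : l₀.1 ≠ m := l₀.2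
        have e3 : k₀.1 ≠ j.1 := fun h => hjk (Subtype.ext h.symm)
        have e4 : l₀.1 ≠ j.1 := fun h => hjl (Subtype.ext h.symm)
        simp [e1, e2, e3, e4]
      have := eq_of_proj_eq m K hK hNT hcK huK hcUT huUT hproj
      rw [mul_inv_eq_iff_eq_mul] at this
      exact this.symm
    have hrow : ∀ b, b ≠ m → (u : Matrix ι ι F) m b = 0 := by
      intro b hb
      by_cases hbj : b = j₁.1
      · refine row_zero_of_commute m j₂.2 hε (hcomm j₂ (hne 3 0 (by decide)) (hne 3 1 (by decide))) hb ?_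
        rw [hbj]
        exact fun h => hne 2 3 (by decide) (Subtype.ext h)
      · exact row_zero_of_commute m j₁.2 hε (hcomm j₁ (hne 2 0 (by decide)) (hne 2 1 (by decide))) hb hbj
    have hdet : ((proj (neP m) ⟨u, huUT⟩ : GL {x // neP m x} F) :
        Matrix {x // neP m x} {x // neP m x} F).det = 1 := by
      rw [hu]
      exact (mem_specialLinear_iff _).mp (tau_mem_specialLinear _ _ _)
    have hue := eq_ext_of_row_zero m huUT (hK huK) hrow hdet
    rw [hu, ext_xGL] at hue
    rw [hue] at huK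
    exact specialLinear_le_of_xGL_mem_of_N_le h4 K hN _ one_ne_zero huK

end col

end Cfsg.Agent.Helper7.Mono
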