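import Cfsg.Agent.Helper7.MonoL

/-!
# Transpose-inverse and the dual statement: non-monomial elements with a monomial row
-/

set_option autoImplicit false

namespace Cfsg.Agent.Helper7.Mono

open Matrix Cfsg.Geo Cfsg.Agent.Helper7.Dcp Cfsg.Agent.Helper7.TGL Cfsg.Agent.Helper7.SLMax

variable {ι : Type} [Fintype ι] [DecidableEq ι] {F : Type*} [Field F]

/-- transpose-inverse as an automorphism of `GL ι F` -/
def tinv : GL ι F ≃* GL ι F where
  toFun x :=
    { val := ((x⁻¹ : GL ι F) : Matrix ι ι F)ᵀ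
      inv := (x : Matrix ι ι F)ᵀ
      val_inv := by rw [← Matrix.transpose_mul, ← Units.val_mul, mul_inv_cancel]; simp
      inv_val := by rw [← Matrix.transpose_mul, ← Units.val_mul, inv_mul_cancel]; simp }
  invFun x :=
    { val := ((x⁻¹ : GL ι F) : Matrix ι ι F)ᵀ
      inv := (x : Matrix ι ι F)ᵀ
      val_inv := by rw [← Matrix.transpose_mul, ← Units.val_mul, mul_inv_cancel]; simp
      inv_val := by rw [← Matrix.transpose_mul, ← Units.val_mul, inv_mul_cancel]; simp }
  left_inv x := by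
    apply Units.ext
    rfl
  right_inv x := by
    apply Units.ext
    rfl
  map_mul' x y := by
    apply Units.ext
    change ((((x * y)⁻¹ : GL ι F) : Matrix ι ι F))ᵀ = ((x⁻¹ : GL ι F) : Matrix ι ι F)ᵀ * ((y⁻¹ : GL ι F) : Matrix ι ι F)ᵀ
    rw [← Matrix.transpose_mul, ← Units.val_mul, _root_.mul_inv_rev]

theorem tinv_apply (x : GL ι F) (a b : ι) :
    ((tinv x : GL ι F) : Matrix ι ι F) a b = ((x⁻¹ : GL ι F) : Matrix ι ι F) b a := rfl

theorem tinv_inv_apply (x : GL ι F) (a b : ι) :
    (((tinv x)⁻¹ : GL ι F) : Matrix ι ι F) a b = (x : Matrix ι ι F) b a := rfl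

theorem tinv_tinv (x : GL ι F) : tinv (tinv x) = x := by
  apply Units.ext
  rfl

theorem tinv_mem_monomialGL {x : GL ι F} (hx : x ∈ monomialGL ι F) : tinv x ∈ monomialGL ι F := by
  obtain ⟨σ, h1, h2⟩ := hx
  refine ⟨σ, ?_, ?_⟩
  · intro k l h
    rw [tinv_apply] at h
    have := h2 l k h
    simp only [id] at this ⊢
    rw [this, Equiv.apply_symm_apply]
  · intro k l h
    rw [tinv_inv_apply] at h
    have := h1 l k h
    simp only [id] at this ⊢
    rw [this, Equiv.symm_apply_apply]

theorem tinv_mem_specialLinear {x : GL ι F} (hx : x ∈ specialLinear ι F) :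
    tinv x ∈ specialLinear ι F := by
  rw [mem_specialLinear_iff] at hx ⊢
  change (((x⁻¹ : GL ι F) : Matrix ι ι F)ᵀ).det = 1
  rw [Matrix.det_transpose]
  have : (x : Matrix ι ι F).det * ((x⁻¹ : GL ι F) : Matrix ι ι F).det = 1 := by
    rw [← Matrix.det_mul, ← Units.val_mul, mul_inv_cancel]; simp
  rw [hx, one_mul] at this
  exact this

/-- the image of a subgroup under transpose-inverse -/
def tstar (K : Subgroup (GL ι F)) : Subgroup (GL ι F) := K.comap (tinv (ι := ι) (F := F)).toMonoidHom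

theorem mem_tstar (K : Subgroup (GL ι F)) (x : GL ι F) : x ∈ tstar K ↔ tinv x ∈ K := Iff.rfl

theorem N_le_tstar (K : Subgroup (GL ι F)) (hN : monomialGL ι F ⊓ specialLinear ι F ≤ K) :
    monomialGL ι F ⊓ specialLinear ι F ≤ tstar K := by
  intro x hx
  rw [mem_tstar]
  exact hN ⟨tinv_mem_monomialGL hx.1, tinv_mem_specialLinear hx.2⟩

theorem tstar_le_specialLinear (K : Subgroup (GL ι F)) (hK : K ≤ specialLinear ι F) :
    tstar K ≤ specialLinear ι F := by
  intro x hx
  rw [mem_tstar] at hx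
  have := tinv_mem_specialLinear (hK hx)
  rwa [tinv_tinv] at this

theorem specialLinear_le_of_tstar (K : Subgroup (GL ι F)) (h : specialLinear ι F ≤ tstar K) :
    specialLinear ι F ≤ K := by
  intro x hx
  have := h (tinv_mem_specialLinear hx)
  rw [mem_tstar, tinv_tinv] at this
  exact this

theorem mul_permGL_apply (g : GL ι F) (σ : Equiv.Perm ι) (a b : ι) :
    ((g * permGL σ : GL ι F) : Matrix ι ι F) a b = (g : Matrix ι ι F) a (σ b) := by
  rw [Units.val_mul, Matrix.mul_apply, Finset.sum_eq_single (σ b)]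
  · rw [permGL_apply, if_pos rfl, mul_one]
  · intro c _ hc
    rw [permGL_apply, if_neg hc, mul_zero]
  · intro h
    exact absurd (Finset.mem_univ _) h

/-- **(B)**: a non-monomial element with a monomial column. -/
theorem specialLinear_le_of_wild_col [Fintype F] (h5 : 5 ≤ Fintype.card ι)
    (hq : Fintype.card F = 5 ∨ 7 ≤ Fintype.card F) (K : Subgroup (GL ι F))
    (hN : monomialGL ι F ⊓ specialLinear ι F ≤ K) (hK : K ≤ specialLinear ι F) {g : GL ι F}
    (hg : g ∈ K) (hgM : g ∉ monomialGL ι F) {l m : ι}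
    (hcol : ∀ k, k ≠ m → (g : Matrix ι ι F) k l = 0) : specialLinear ι F ≤ K := by
  classical
  haveI : Nontrivial ι := by
    rw [← Fintype.one_lt_card_iff_nontrivial]; omega
  obtain ⟨m₂, hm₂⟩ := exists_ne m
  obtain ⟨l₂, hl₂⟩ := exists_ne l
  obtain ⟨σ, hσ1, -, hσs⟩ := exists_even_perm (ι := ι) (by omega) (Ne.symm hm₂) (Ne.symm hl₂)
  have hπ : (permGL σ : GL ι F) ∈ monomialGL ι F ⊓ specialLinear ι F :=
    ⟨permGL_mem_monomialGL σ, permGL_mem_specialLinear σ hσs⟩
  refine specialLinear_le_of_wild_col_aux m h5 hq K hN hK (g := g * permGL σ)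
    (K.mul_mem hg (hN hπ)) ?_ ?_
  · intro h
    apply hgM
    have := (monomialGL ι F).mul_mem h ((monomialGL ι F).inv_mem hπ.1)
    rwa [mul_inv_cancel_right] at this
  · intro k hk
    rw [mul_permGL_apply, hσ1]
    exact hcol k hk

/-- **(B*)**: a non-monomial element with a monomial row. -/
theorem specialLinear_le_of_wild_row [Fintype F] (h5 : 5 ≤ Fintype.card ι)
    (hq : Fintype.card F = 5 ∨ 7 ≤ Fintype.card F) (K : Subgroup (GL ι F))
    (hN : monomialGL ι F ⊓ specialLinear ι F ≤ K) (hK : K ≤ specialLinear ι F) {g : GL ι F}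
    (hg : g ∈ K) (hgM : g ∉ monomialGL ι F) {a m : ι}
    (hrow : ∀ l, l ≠ m → (g : Matrix ι ι F) a l = 0) : specialLinear ι F ≤ K := by
  apply specialLinear_le_of_tstar
  refine specialLinear_le_of_wild_col h5 hq (tstar K) (N_le_tstar K hN) (tstar_le_specialLinear K hK)
    (g := tinv g⁻¹) ?_ ?_ (l := a) (m := m) ?_
  · rw [mem_tstar, tinv_tinv]
    exact K.inv_mem hg
  · intro h
    apply hgM
    have := tinv_mem_monomialGL h
    rw [tinv_tinv] at this
    have := (monomialGL ι F).inv_mem this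
    rwa [inv_inv] at this
  · intro k hk
    rw [tinv_apply, inv_inv]
    exact hrow k hk

end Cfsg.Agent.Helper7.Mono
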