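import Cfsg.Agent.Helper7.MonoM

/-!
# Abstract systems of "wild" matrices: conjugates of torus elements, the flat/generic dichotomy
-/

set_option autoImplicit false

namespace Cfsg.Agent.Helper7.Mono

open Matrix Cfsg.Geo Cfsg.Agent.Helper7.Dcp Cfsg.Agent.Helper7.TGL Cfsg.Agent.Helper7.SLMax

variable {ι : Type} [Fintype ι] [DecidableEq ι] {F : Type*} [Field F]

/-- a function with at most one zero -/
def AMOZ (f : ι → F) : Prop := ∀ a a', a ≠ a' → f a = 0 → f a' = 0 → False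

theorem exists_not_mem_of_card_lt (T : Finset ι) (h : T.card < Fintype.card ι) : ∃ b, b ∉ T := by
  by_contra hne
  push Not at hne
  have : Fintype.card ι ≤ T.card := by
    rw [← Finset.card_univ]
    exact Finset.card_le_card fun x _ => hne x
  omega

/-- choose an index outside `T` at which two functions with at most one zero are nonzero -/
theorem exists_avoid {f g : ι → F} (hf : AMOZ f) (hg : AMOZ g) (T : Finset ι)
    (hT : T.card + 2 < Fintype.card ι) : ∃ b, b ∉ T ∧ f b ≠ 0 ∧ g b ≠ 0 := by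
  classical
  have hcard : ∀ {f : ι → F}, AMOZ f → (Finset.univ.filter fun a => f a = 0).card ≤ 1 := by
    intro f hf
    rw [Finset.card_le_one]
    intro a ha b hb
    rw [Finset.mem_filter] at ha hb
    by_contra hab
    exact hf a b hab ha.2 hb.2
  obtain ⟨b, hb⟩ := exists_not_mem_of_card_lt
    (T ∪ (Finset.univ.filter fun a => f a = 0) ∪ (Finset.univ.filter fun a => g a = 0)) (by
      have h1 := Finset.card_union_le (T ∪ (Finset.univ.filter fun a => f a = 0))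
        (Finset.univ.filter fun a => g a = 0)
      have h2 := Finset.card_union_le T (Finset.univ.filter fun a => f a = 0)
      have h3 := hcard hf
      have h4 := hcard hg
      omega)
  rw [Finset.mem_union, Finset.mem_union, not_or, not_or] at hb
  refine ⟨b, hb.1.1, ?_, ?_⟩
  · intro h; exact hb.1.2 (Finset.mem_filter.mpr ⟨Finset.mem_univ _, h⟩)
  · intro h; exact hb.2 (Finset.mem_filter.mpr ⟨Finset.mem_univ _, h⟩)

/-- off-diagonal entries of a conjugate of `h_{ij}(ε)` -/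
theorem conj_hGL_off (x : GL ι F) {i j : ι} (hij : i ≠ j) (ε : Fˣ) {a b : ι} (hab : a ≠ b) :
    (x * hGL i j ε * x⁻¹).1 a b =
      ((ε : F) - 1) * (x.1 a i * x⁻¹.1 i b) + (((ε⁻¹ : Fˣ) : F) - 1) * (x.1 a j * x⁻¹.1 j b) := by
  have := conj_hGL_apply x hij ε a b
  rw [if_neg hab, zero_add] at this
  exact this

theorem unit_sub_one_ne_zero {ε : Fˣ} (hε : ε ≠ 1) : (ε : F) - 1 ≠ 0 := by
  intro h
  exact hε (Units.ext (by rw [Units.val_one]; linear_combination h))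

theorem unit_inv_sub_one_ne_zero {ε : Fˣ} (hε : ε ≠ 1) : ((ε⁻¹ : Fˣ) : F) - 1 ≠ 0 := by
  apply unit_sub_one_ne_zero
  intro h
  exact hε (inv_eq_one.mp h)

theorem conj_hGL_off_eq_zero_iff (x : GL ι F) {i j : ι} (hij : i ≠ j) {ε : Fˣ} (hε : ε ≠ 1) {a b : ι}
    (hab : a ≠ b) :
    (x * hGL i j ε * x⁻¹).1 a b = 0 ↔ (ε : F) * (x.1 a i * x⁻¹.1 i b) = x.1 a j * x⁻¹.1 j b := by
  rw [conj_hGL_off x hij ε hab]
  have hεε : (ε : F) * ((ε⁻¹ : Fˣ) : F) = 1 := by simp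
  have h1 := unit_sub_one_ne_zero hε
  have key : ((ε : F) - 1) * (x.1 a i * x⁻¹.1 i b) + (((ε⁻¹ : Fˣ) : F) - 1) * (x.1 a j * x⁻¹.1 j b) =
      ((ε : F) - 1) * ((ε⁻¹ : Fˣ) : F) * ((ε : F) * (x.1 a i * x⁻¹.1 i b) - x.1 a j * x⁻¹.1 j b) := by
    linear_combination (-((ε : F) - 1) * (x.1 a i * x⁻¹.1 i b) + (x.1 a j * x⁻¹.1 j b)) * hεε
  rw [key]
  constructor
  · intro h
    rcases mul_eq_zero.mp h with h | h
    · rcases mul_eq_zero.mp h with h | h
      · exact absurd h h1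
      · exact absurd h (Units.ne_zero _)
    · linear_combination h
  · intro h
    rw [h, sub_self, mul_zero]

/-- An abstract system of wild matrices. -/
structure WSys (W : Set (GL ι F)) : Prop where
  inv : ∀ x ∈ W, x⁻¹ ∈ W
  col : ∀ x ∈ W, ∀ l a a', a ≠ a' → x.1 a l = 0 → x.1 a' l = 0 → False
  row : ∀ x ∈ W, ∀ a l l', l ≠ l' → x.1 a l = 0 → x.1 a l' = 0 → False
  conj : ∀ x ∈ W, ∀ i j, i ≠ j → ∀ ε : Fˣ, ε ≠ 1 →
    x * hGL i j ε * x⁻¹ ∈ W ∨ x * hGL i j ε * x⁻¹ ∈ monomialGL ι F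

variable {W : Set (GL ι F)}

theorem WSys.amoz_col (hW : WSys W) {x : GL ι F} (hx : x ∈ W) (l : ι) : AMOZ fun a => x.1 a l :=
  fun a a' h h1 h2 => hW.col x hx l a a' h h1 h2

theorem WSys.amoz_row (hW : WSys W) {x : GL ι F} (hx : x ∈ W) (a : ι) : AMOZ fun l => x.1 a l :=
  fun l l' h h1 h2 => hW.row x hx a l l' h h1 h2

/-- (3b): conjugates of `h_{ij}(ε)`, `ε ≠ 1`, by wild elements are never monomial -/
theorem WSys.conj_mem (hW : WSys W) (h7 : 7 ≤ Fintype.card ι) {x : GL ι F} (hx : x ∈ W) {i j : ι}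
    (hij : i ≠ j) {ε : Fˣ} (hε : ε ≠ 1) : x * hGL i j ε * x⁻¹ ∈ W := by
  classical
  rcases hW.conj x hx i j hij ε hε with h | hmon
  · exact h
  exfalso
  obtain ⟨σ, hσ, -⟩ := hmon
  simp only [id] at hσ
  have hxi := hW.inv x hx
  have he := unit_sub_one_ne_zero hε
  have he' := unit_inv_sub_one_ne_zero hε
  -- the relations
  have hR : ∀ m a, a ≠ m → a ≠ σ m →
      ((ε : F) - 1) * x⁻¹.1 i m * x.1 a i + (((ε⁻¹ : Fˣ) : F) - 1) * x⁻¹.1 j m * x.1 a j = 0 := by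
    intro m a ham haσ
    have h0 : (x * hGL i j ε * x⁻¹).1 a m = 0 := by
      by_contra hne
      exact haσ (hσ a m hne)
    rw [conj_hGL_off x hij ε ham] at h0
    linear_combination h0
  -- two rows outside a small set
  have hpick : ∀ (T : Finset ι) (l : ι), T.card ≤ 4 → ∃ a, a ∉ T ∧ x.1 a l ≠ 0 := by
    intro T l hT
    obtain ⟨a, ha, h1, -⟩ := exists_avoid (hW.amoz_col hx l) (hW.amoz_col hx l) T (by omega)
    exact ⟨a, ha, h1⟩
  -- all entries of rows i and j of the inverse are nonzero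
  have hri : ∀ m, x⁻¹.1 i m ≠ 0 := by
    intro m h0
    have hrj : x⁻¹.1 j m ≠ 0 := fun h => hW.col _ hxi m i j hij h0 h
    obtain ⟨a, ha, hax⟩ := hpick {m, σ m} j (Finset.card_le_two.trans (by norm_num))
    rw [Finset.mem_insert, Finset.mem_singleton, not_or] at ha
    have := hR m a ha.1 ha.2
    rw [h0, mul_zero, zero_mul, zero_add] at this
    exact (mul_ne_zero (mul_ne_zero he' hrj) hax) this
  have hrj : ∀ m, x⁻¹.1 j m ≠ 0 := by
    intro m h0
    obtain ⟨a, ha, hax⟩ := hpick {m, σ m} i (Finset.card_le_two.trans (by norm_num))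
    rw [Finset.mem_insert, Finset.mem_singleton, not_or] at ha
    have := hR m a ha.1 ha.2
    rw [h0, mul_zero, zero_mul, add_zero] at this
    exact (mul_ne_zero (mul_ne_zero he (hri m)) hax) this
  -- equal ratios
  have hratio : ∀ m m', (((ε : F) - 1) * x⁻¹.1 i m) * ((((ε⁻¹ : Fˣ) : F) - 1) * x⁻¹.1 j m') =
      (((ε : F) - 1) * x⁻¹.1 i m') * ((((ε⁻¹ : Fˣ) : F) - 1) * x⁻¹.1 j m) := by
    intro m m'
    obtain ⟨a, ha, hax⟩ := hpick {m, σ m, m', σ m'} i (Finset.card_le_four)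
    simp only [Finset.mem_insert, Finset.mem_singleton, not_or] at ha
    have h1 := hR m a ha.1 ha.2.1
    have h2 := hR m' a ha.2.2.1 ha.2.2.2
    have : ((((ε : F) - 1) * x⁻¹.1 i m) * ((((ε⁻¹ : Fˣ) : F) - 1) * x⁻¹.1 j m') -
      (((ε : F) - 1) * x⁻¹.1 i m') * ((((ε⁻¹ : Fˣ) : F) - 1) * x⁻¹.1 j m)) * x.1 a i = 0 := by
      linear_combination ((((ε⁻¹ : Fˣ) : F) - 1) * x⁻¹.1 j m') * h1 -
        ((((ε⁻¹ : Fˣ) : F) - 1) * x⁻¹.1 j m) * h2
    rcases mul_eq_zero.mp this with h | h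
    · linear_combination h
    · exact absurd h hax
  -- a global relation between columns `i` and `j`
  obtain ⟨m₀⟩ : Nonempty ι := by
    rw [← Fintype.card_pos_iff]; omega
  have hglob : ∀ a, ((ε : F) - 1) * x⁻¹.1 i m₀ * x.1 a i +
      (((ε⁻¹ : Fˣ) : F) - 1) * x⁻¹.1 j m₀ * x.1 a j = 0 := by
    intro a
    obtain ⟨m, hm⟩ := exists_not_mem_of_card_lt ({a, σ.symm a} : Finset ι) (by
      have : ({a, σ.symm a} : Finset ι).card ≤ 2 := Finset.card_le_two
      omega)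
    rw [Finset.mem_insert, Finset.mem_singleton, not_or] at hm
    have h1 := hR m a (Ne.symm hm.1) (by
      intro h
      apply hm.2
      rw [h, Equiv.symm_apply_apply])
    have h2 := hratio m m₀
    have hne : (((ε⁻¹ : Fˣ) : F) - 1) * x⁻¹.1 j m ≠ 0 := mul_ne_zero he' (hrj m)
    have : ((((ε⁻¹ : Fˣ) : F) - 1) * x⁻¹.1 j m) * (((ε : F) - 1) * x⁻¹.1 i m₀ * x.1 a i +
        (((ε⁻¹ : Fˣ) : F) - 1) * x⁻¹.1 j m₀ * x.1 a j) = 0 := by
      linear_combination ((((ε⁻¹ : Fˣ) : F) - 1) * x⁻¹.1 j m₀) * h1 - x.1 a i * h2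
    exact (mul_eq_zero.mp this).resolve_left hne
  have hs1 : ∑ a, x⁻¹.1 j a * x.1 a i = 0 := by
    have := inv_mul_apply x j i
    rwa [if_neg (Ne.symm hij)] at this
  have hs2 : ∑ a, x⁻¹.1 j a * x.1 a j = 1 := by
    have := inv_mul_apply x j j
    rwa [if_pos rfl] at this
  have : ∑ a, x⁻¹.1 j a * (((ε : F) - 1) * x⁻¹.1 i m₀ * x.1 a i +
      (((ε⁻¹ : Fˣ) : F) - 1) * x⁻¹.1 j m₀ * x.1 a j) = 0 :=
    Finset.sum_eq_zero fun a _ => by rw [hglob a, mul_zero]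
  have h2 : ∑ a, x⁻¹.1 j a * (((ε : F) - 1) * x⁻¹.1 i m₀ * x.1 a i +
      (((ε⁻¹ : Fˣ) : F) - 1) * x⁻¹.1 j m₀ * x.1 a j) =
      ((ε : F) - 1) * x⁻¹.1 i m₀ * ∑ a, x⁻¹.1 j a * x.1 a i +
      (((ε⁻¹ : Fˣ) : F) - 1) * x⁻¹.1 j m₀ * ∑ a, x⁻¹.1 j a * x.1 a j := by
    rw [Finset.mul_sum, Finset.mul_sum, ← Finset.sum_add_distrib]
    refine Finset.sum_congr rfl fun a _ => ?_
    ring
  rw [h2, hs1, hs2, mul_zero, zero_add, mul_one] at this
  exact (mul_ne_zero he' (hrj m₀)) this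

end Cfsg.Agent.Helper7.Mono
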