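import Cfsg.Agent.Helper7.MonoN

/-!
# The flat/generic dichotomy for pairs of columns of wild matrices
-/

set_option autoImplicit false

namespace Cfsg.Agent.Helper7.Mono

open Matrix Cfsg.Geo Cfsg.Agent.Helper7.Dcp Cfsg.Agent.Helper7.TGL Cfsg.Agent.Helper7.SLMax

variable {ι : Type} [Fintype ι] [DecidableEq ι] {F : Type*} [Field F]

/-- the basic relation `x_{aj} r_{jb} = x_{ai} r_{ib}` -/
def ERel (x : GL ι F) (i j a b : ι) : Prop := x.1 a j * x⁻¹.1 j b = x.1 a i * x⁻¹.1 i b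

/-- flat pair of columns -/
def Flat (x : GL ι F) (i j : ι) : Prop :=
  ∀ a b, x.1 a i ≠ 0 → x.1 a j ≠ 0 → x⁻¹.1 i b ≠ 0 → x⁻¹.1 j b ≠ 0 → ERel x i j a b

/-- generic pair of columns -/
def GenC (x : GL ι F) (i j : ι) : Prop :=
  ∀ a a', a ≠ a' → x.1 a i ≠ 0 → x.1 a j ≠ 0 → x.1 a' i ≠ 0 → x.1 a' j ≠ 0 →
    x.1 a i * x.1 a' j ≠ x.1 a j * x.1 a' i

/-- generic pair of rows of the inverse -/
def GenR (x : GL ι F) (i j : ι) : Prop :=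
  ∀ b b', b ≠ b' → x⁻¹.1 i b ≠ 0 → x⁻¹.1 j b ≠ 0 → x⁻¹.1 i b' ≠ 0 → x⁻¹.1 j b' ≠ 0 →
    x⁻¹.1 i b * x⁻¹.1 j b' ≠ x⁻¹.1 j b * x⁻¹.1 i b'

variable {W : Set (GL ι F)}

/-- (★) -/
theorem WSys.star_col (hW : WSys W) (h7 : 7 ≤ Fintype.card ι) {x : GL ι F} (hx : x ∈ W) {i j : ι}
    (hij : i ≠ j) {a a' b : ι} (haa' : a ≠ a') (hab : a ≠ b) (ha'b : a' ≠ b)
    (h1 : x.1 a i ≠ 0) (h2 : x.1 a j ≠ 0) (h3 : x.1 a' i ≠ 0) (h4 : x.1 a' j ≠ 0)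
    (h5 : x⁻¹.1 i b ≠ 0) (h6 : x⁻¹.1 j b ≠ 0)
    (hprop : x.1 a i * x.1 a' j = x.1 a j * x.1 a' i) : ERel x i j a b := by
  unfold ERel
  by_contra hne
  have hα : x.1 a i * x⁻¹.1 i b ≠ 0 := mul_ne_zero h1 h5
  have hβ : x.1 a j * x⁻¹.1 j b ≠ 0 := mul_ne_zero h2 h6
  set ε₀ : Fˣ := Units.mk0 ((x.1 a j * x⁻¹.1 j b) * (x.1 a i * x⁻¹.1 i b)⁻¹)
    (mul_ne_zero hβ (inv_ne_zero hα)) with hε₀
  have hε1 : ε₀ ≠ 1 := by
    intro h
    apply hne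
    have := congrArg Units.val h
    rw [hε₀, Units.val_mk0, Units.val_one] at this
    field_simp at this
    exact this
  have hy := hW.conj_mem h7 hx hij hε1
  have z1 : (x * hGL i j ε₀ * x⁻¹).1 a b = 0 := by
    rw [conj_hGL_off_eq_zero_iff x hij hε1 hab, hε₀, Units.val_mk0]
    field_simp
  have z2 : (x * hGL i j ε₀ * x⁻¹).1 a' b = 0 := by
    rw [conj_hGL_off_eq_zero_iff x hij hε1 ha'b, hε₀, Units.val_mk0]
    field_simp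
    linear_combination -hprop
  exact hW.col _ hy b a a' haa' z1 z2

/-- (★★) -/
theorem WSys.star_row (hW : WSys W) (h7 : 7 ≤ Fintype.card ι) {x : GL ι F} (hx : x ∈ W) {i j : ι}
    (hij : i ≠ j) {a b b' : ι} (hbb' : b ≠ b') (hab : a ≠ b) (hab' : a ≠ b')
    (h1 : x.1 a i ≠ 0) (h2 : x.1 a j ≠ 0) (h3 : x⁻¹.1 i b ≠ 0) (h4 : x⁻¹.1 j b ≠ 0)
    (h5 : x⁻¹.1 i b' ≠ 0) (h6 : x⁻¹.1 j b' ≠ 0)
    (hprop : x⁻¹.1 i b * x⁻¹.1 j b' = x⁻¹.1 j b * x⁻¹.1 i b') : ERel x i j a b := by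
  unfold ERel
  by_contra hne
  have hα : x.1 a i * x⁻¹.1 i b ≠ 0 := mul_ne_zero h1 h3
  have hβ : x.1 a j * x⁻¹.1 j b ≠ 0 := mul_ne_zero h2 h4
  set ε₀ : Fˣ := Units.mk0 ((x.1 a j * x⁻¹.1 j b) * (x.1 a i * x⁻¹.1 i b)⁻¹)
    (mul_ne_zero hβ (inv_ne_zero hα)) with hε₀
  have hε1 : ε₀ ≠ 1 := by
    intro h
    apply hne
    have := congrArg Units.val h
    rw [hε₀, Units.val_mk0, Units.val_one] at this
    field_simp at this
    exact this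
  have hy := hW.conj_mem h7 hx hij hε1
  have z1 : (x * hGL i j ε₀ * x⁻¹).1 a b = 0 := by
    rw [conj_hGL_off_eq_zero_iff x hij hε1 hab, hε₀, Units.val_mk0]
    field_simp
  have z2 : (x * hGL i j ε₀ * x⁻¹).1 a b' = 0 := by
    rw [conj_hGL_off_eq_zero_iff x hij hε1 hab', hε₀, Units.val_mk0]
    field_simp
    linear_combination -hprop
  exact hW.row _ hy a b b' hbb' z1 z2

theorem ERel.rowProp {x : GL ι F} {i j a b b' : ι} (h1 : x.1 a i ≠ 0) (h2 : x.1 a j ≠ 0)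
    (e : ERel x i j a b) (e' : ERel x i j a b') :
    x⁻¹.1 i b * x⁻¹.1 j b' = x⁻¹.1 j b * x⁻¹.1 i b' := by
  unfold ERel at e e'
  have : (x.1 a i * x.1 a j) * (x⁻¹.1 i b * x⁻¹.1 j b' - x⁻¹.1 j b * x⁻¹.1 i b') = 0 := by
    linear_combination (x.1 a i * x⁻¹.1 i b) * e' - (x.1 a i * x⁻¹.1 i b') * e
  rcases mul_eq_zero.mp this with h | h
  · exact absurd h (mul_ne_zero h1 h2)
  · linear_combination h

theorem ERel.colProp {x : GL ι F} {i j a a' b : ι} (h1 : x⁻¹.1 i b ≠ 0) (h2 : x⁻¹.1 j b ≠ 0)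
    (e : ERel x i j a b) (e' : ERel x i j a' b) :
    x.1 a i * x.1 a' j = x.1 a j * x.1 a' i := by
  unfold ERel at e e'
  have : (x⁻¹.1 i b * x⁻¹.1 j b) * (x.1 a i * x.1 a' j - x.1 a j * x.1 a' i) = 0 := by
    linear_combination (x.1 a i * x⁻¹.1 i b) * e' - (x.1 a' i * x⁻¹.1 i b) * e
  rcases mul_eq_zero.mp this with h | h
  · exact absurd h (mul_ne_zero h1 h2)
  · linear_combination h

/-- the dichotomy: every pair of columns of a wild matrix is flat or generic -/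
theorem WSys.dichotomy (hW : WSys W) (h9 : 9 ≤ Fintype.card ι) {x : GL ι F} (hx : x ∈ W) {i j : ι}
    (hij : i ≠ j) : Flat x i j ∨ (GenC x i j ∧ GenR x i j) := by
  classical
  have h7 : 7 ≤ Fintype.card ι := by omega
  have hxi := hW.inv x hx
  have pickA : ∀ T : Finset ι, T.card ≤ 5 → ∃ a, a ∉ T ∧ x.1 a i ≠ 0 ∧ x.1 a j ≠ 0 := fun T hT =>
    exists_avoid (hW.amoz_col hx i) (hW.amoz_col hx j) T (by omega)
  have pickB : ∀ T : Finset ι, T.card ≤ 5 → ∃ b, b ∉ T ∧ x⁻¹.1 i b ≠ 0 ∧ x⁻¹.1 j b ≠ 0 := fun T hT =>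
    exists_avoid (hW.amoz_row hxi i) (hW.amoz_row hxi j) T (by omega)
  by_cases hR : GenR x i j
  · by_cases hC : GenC x i j
    · exact Or.inr ⟨hC, hR⟩
    · exfalso
      unfold GenC at hC
      push Not at hC
      obtain ⟨a, a', haa', h1, h2, h3, h4, hprop⟩ := hC
      obtain ⟨b₁, hb₁T, hb₁i, hb₁j⟩ := pickB {a, a'} (Finset.card_le_two.trans (by norm_num))
      obtain ⟨b₂, hb₂T, hb₂i, hb₂j⟩ := pickB {a, a', b₁} (Finset.card_le_three.trans (by norm_num))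
      simp only [Finset.mem_insert, Finset.mem_singleton, not_or] at hb₁T hb₂T
      have e1 := hW.star_col h7 hx hij haa' (Ne.symm hb₁T.1) (Ne.symm hb₁T.2) h1 h2 h3 h4 hb₁i hb₁j hprop
      have e2 := hW.star_col h7 hx hij haa' (Ne.symm hb₂T.1) (Ne.symm hb₂T.2.1) h1 h2 h3 h4 hb₂i hb₂j hprop
      exact hR b₁ b₂ (Ne.symm hb₂T.2.2) hb₁i hb₁j hb₂i hb₂j (ERel.rowProp h1 h2 e1 e2)
  · left
    unfold GenR at hR
    push Not at hR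
    obtain ⟨b₁, b₂, hbb, g1, g2, g3, g4, hpropR⟩ := hR
    have hi : ∀ a, a ≠ b₁ → a ≠ b₂ → x.1 a i ≠ 0 → x.1 a j ≠ 0 → ERel x i j a b₁ :=
      fun a hab₁ hab₂ k1 k2 => hW.star_row h7 hx hij hbb hab₁ hab₂ k1 k2 g1 g2 g3 g4 hpropR
    have hiv : ∀ b b', b ≠ b' → x⁻¹.1 i b ≠ 0 → x⁻¹.1 j b ≠ 0 → x⁻¹.1 i b' ≠ 0 → x⁻¹.1 j b' ≠ 0 →
        x⁻¹.1 i b * x⁻¹.1 j b' = x⁻¹.1 j b * x⁻¹.1 i b' := by
      intro b b' hbb' k1 k2 k3 k4
      obtain ⟨a₁, ha₁T, ha₁i, ha₁j⟩ := pickA {b₁, b₂, b, b'} (Finset.card_le_four.trans (by norm_num))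
      obtain ⟨a₂, ha₂T, ha₂i, ha₂j⟩ := pickA {b₁, b₂, b, b', a₁} (Finset.card_le_five)
      simp only [Finset.mem_insert, Finset.mem_singleton, not_or] at ha₁T ha₂T
      have e1 := hi a₁ ha₁T.1 ha₁T.2.1 ha₁i ha₁j
      have e2 := hi a₂ ha₂T.1 ha₂T.2.1 ha₂i ha₂j
      have hcp := ERel.colProp g1 g2 e1 e2
      have f1 := hW.star_col h7 hx hij (Ne.symm ha₂T.2.2.2.2) ha₁T.2.2.1 ha₂T.2.2.1 ha₁i ha₁j ha₂i ha₂j
        k1 k2 hcp
      have f2 := hW.star_col h7 hx hij (Ne.symm ha₂T.2.2.2.2) ha₁T.2.2.2 ha₂T.2.2.2.1 ha₁i ha₁j ha₂i ha₂j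
        k3 k4 hcp
      exact ERel.rowProp ha₁i ha₁j f1 f2
    have hv : ∀ a b, a ≠ b → x.1 a i ≠ 0 → x.1 a j ≠ 0 → x⁻¹.1 i b ≠ 0 → x⁻¹.1 j b ≠ 0 →
        ERel x i j a b := by
      intro a b hab k1 k2 k3 k4
      obtain ⟨b', hb'T, hb'i, hb'j⟩ := pickB {a, b} (Finset.card_le_two.trans (by norm_num))
      simp only [Finset.mem_insert, Finset.mem_singleton, not_or] at hb'T
      exact hW.star_row h7 hx hij (Ne.symm hb'T.2) hab (Ne.symm hb'T.1) k1 k2 k3 k4 hb'i hb'j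
        (hiv b b' (Ne.symm hb'T.2) k3 k4 hb'i hb'j)
    intro a b h1 h2 h3 h4
    by_cases hab : a = b
    · subst hab
      obtain ⟨a', ha'T, ha'i, ha'j⟩ := pickA {a} ((Finset.card_singleton a).le.trans (by norm_num))
      obtain ⟨b, hbT, hbi, hbj⟩ := pickB {a, a'} (Finset.card_le_two.trans (by norm_num))
      simp only [Finset.mem_insert, Finset.mem_singleton, not_or] at ha'T hbT
      have E1 := hv a b (Ne.symm hbT.1) h1 h2 hbi hbj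
      have E2 := hv a' a ha'T ha'i ha'j h3 h4
      have E3 := hv a' b (Ne.symm hbT.2) ha'i ha'j hbi hbj
      unfold ERel at E1 E2 E3 ⊢
      have hne : x.1 a' j * x⁻¹.1 j b ≠ 0 := mul_ne_zero ha'j hbj
      apply mul_right_cancel₀ hne
      linear_combination (x.1 a' j * x⁻¹.1 j a) * E1 + (x.1 a i * x⁻¹.1 i b) * E2 -
        (x.1 a i * x⁻¹.1 i a) * E3
    · exact hv a b hab h1 h2 h3 h4

end Cfsg.Agent.Helper7.Mono
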