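import Cfsg.Agent.Helper7.MonoO

/-!
# Generic pairs of columns do not exist
-/

set_option autoImplicit false

namespace Cfsg.Agent.Helper7.Mono

open Matrix Cfsg.Geo Cfsg.Agent.Helper7.Dcp Cfsg.Agent.Helper7.TGL Cfsg.Agent.Helper7.SLMax

variable {ι : Type} [Fintype ι] [DecidableEq ι] {F : Type*} [Field F]

/-- choose an index outside `T` at which four functions with at most one zero are nonzero -/
theorem exists_avoid4 {f g f' g' : ι → F} (hf : AMOZ f) (hg : AMOZ g) (hf' : AMOZ f') (hg' : AMOZ g')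
    (T : Finset ι) (hT : T.card + 4 < Fintype.card ι) :
    ∃ b, b ∉ T ∧ f b ≠ 0 ∧ g b ≠ 0 ∧ f' b ≠ 0 ∧ g' b ≠ 0 := by
  classical
  have hcard : ∀ {f : ι → F}, AMOZ f → (Finset.univ.filter fun a => f a = 0).card ≤ 1 := by
    intro f hf
    rw [Finset.card_le_one]
    intro a ha b hb
    rw [Finset.mem_filter] at ha hb
    by_contra hab
    exact hf a b hab ha.2 hb.2
  obtain ⟨b, hb, h1, h2⟩ := exists_avoid hf hg
    (T ∪ (Finset.univ.filter fun a => f' a = 0) ∪ (Finset.univ.filter fun a => g' a = 0)) (by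
      have h1 := Finset.card_union_le (T ∪ (Finset.univ.filter fun a => f' a = 0))
        (Finset.univ.filter fun a => g' a = 0)
      have h2 := Finset.card_union_le T (Finset.univ.filter fun a => f' a = 0)
      have h3 := hcard hf'
      have h4 := hcard hg'
      omega)
  rw [Finset.mem_union, Finset.mem_union, not_or, not_or] at hb
  refine ⟨b, hb.1.1, h1, h2, ?_, ?_⟩
  · intro h; exact hb.1.2 (Finset.mem_filter.mpr ⟨Finset.mem_univ _, h⟩)
  · intro h; exact hb.2 (Finset.mem_filter.mpr ⟨Finset.mem_univ _, h⟩)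

/-- a nonzero linear form vanishes on at most one generic row-pair -/
theorem GenR.lin_unique {x : GL ι F} {i j : ι} (hR : GenR x i j) {α β : F} (hαβ : α ≠ 0 ∨ β ≠ 0)
    {l l' : ι} (hll' : l ≠ l') (h1 : x⁻¹.1 i l ≠ 0) (h2 : x⁻¹.1 j l ≠ 0) (h3 : x⁻¹.1 i l' ≠ 0)
    (h4 : x⁻¹.1 j l' ≠ 0) (e : α * x⁻¹.1 i l + β * x⁻¹.1 j l = 0)
    (e' : α * x⁻¹.1 i l' + β * x⁻¹.1 j l' = 0) : False := by
  have hdet := hR l l' hll' h1 h2 h3 h4
  have hd : x⁻¹.1 i l * x⁻¹.1 j l' - x⁻¹.1 j l * x⁻¹.1 i l' ≠ 0 := sub_ne_zero.mpr hdet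
  have ha : α * (x⁻¹.1 i l * x⁻¹.1 j l' - x⁻¹.1 j l * x⁻¹.1 i l') = 0 := by
    linear_combination (x⁻¹.1 j l') * e - (x⁻¹.1 j l) * e'
  have hb : β * (x⁻¹.1 i l * x⁻¹.1 j l' - x⁻¹.1 j l * x⁻¹.1 i l') = 0 := by
    linear_combination (-(x⁻¹.1 i l')) * e + (x⁻¹.1 i l) * e'
  rcases hαβ with h | h
  · exact h ((mul_eq_zero.mp ha).resolve_right hd)
  · exact h ((mul_eq_zero.mp hb).resolve_right hd)

/-- choose a generic column index avoiding `T` and the zeros of three nonzero linear forms -/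
theorem GenR.exists_avoid_lin {W : Set (GL ι F)} (hW : WSys W) {x : GL ι F} (hx : x ∈ W) {i j : ι}
    (hR : GenR x i j) (T : Finset ι) (hT : T.card + 5 < Fintype.card ι)
    {α₁ β₁ α₂ β₂ α₃ β₃ : F} (h1 : α₁ ≠ 0 ∨ β₁ ≠ 0) (h2 : α₂ ≠ 0 ∨ β₂ ≠ 0) (h3 : α₃ ≠ 0 ∨ β₃ ≠ 0) :
    ∃ l, l ∉ T ∧ x⁻¹.1 i l ≠ 0 ∧ x⁻¹.1 j l ≠ 0 ∧ α₁ * x⁻¹.1 i l + β₁ * x⁻¹.1 j l ≠ 0 ∧
      α₂ * x⁻¹.1 i l + β₂ * x⁻¹.1 j l ≠ 0 ∧ α₃ * x⁻¹.1 i l + β₃ * x⁻¹.1 j l ≠ 0 := by
  classical
  have hxi := hW.inv x hx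
  set bad : F → F → Finset ι := fun α β => Finset.univ.filter fun l =>
    x⁻¹.1 i l ≠ 0 ∧ x⁻¹.1 j l ≠ 0 ∧ α * x⁻¹.1 i l + β * x⁻¹.1 j l = 0 with hbad
  have hcard : ∀ α β : F, (α ≠ 0 ∨ β ≠ 0) → (bad α β).card ≤ 1 := by
    intro α β hαβ
    rw [Finset.card_le_one]
    intro l hl l' hl'
    rw [hbad, Finset.mem_filter] at hl hl'
    by_contra hll'
    exact hR.lin_unique hαβ hll' hl.2.1 hl.2.2.1 hl'.2.1 hl'.2.2.1 hl.2.2.2 hl'.2.2.2
  obtain ⟨l, hl, hli, hlj⟩ := exists_avoid (hW.amoz_row hxi i) (hW.amoz_row hxi j)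
    (T ∪ bad α₁ β₁ ∪ bad α₂ β₂ ∪ bad α₃ β₃) (by
      have e1 := Finset.card_union_le (T ∪ bad α₁ β₁ ∪ bad α₂ β₂) (bad α₃ β₃)
      have e2 := Finset.card_union_le (T ∪ bad α₁ β₁) (bad α₂ β₂)
      have e3 := Finset.card_union_le T (bad α₁ β₁)
      have c1 := hcard α₁ β₁ h1
      have c2 := hcard α₂ β₂ h2
      have c3 := hcard α₃ β₃ h3
      omega)
  simp only [Finset.mem_union, not_or] at hl
  refine ⟨l, hl.1.1.1, hli, hlj, ?_, ?_, ?_⟩
  · intro h
    exact hl.1.1.2 (by rw [hbad, Finset.mem_filter]; exact ⟨Finset.mem_univ _, hli, hlj, h⟩)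
  · intro h
    exact hl.1.2 (by rw [hbad, Finset.mem_filter]; exact ⟨Finset.mem_univ _, hli, hlj, h⟩)
  · intro h
    exact hl.2 (by rw [hbad, Finset.mem_filter]; exact ⟨Finset.mem_univ _, hli, hlj, h⟩)

/-- diagonal entries of a conjugate of `h_{ij}(ε)` -/
theorem conj_hGL_diag (x : GL ι F) {i j : ι} (hij : i ≠ j) (ε : Fˣ) (a : ι) :
    (x * hGL i j ε * x⁻¹).1 a a =
      1 + ((ε : F) - 1) * (x.1 a i * x⁻¹.1 i a) + (((ε⁻¹ : Fˣ) : F) - 1) * (x.1 a j * x⁻¹.1 j a) := by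
  have := conj_hGL_apply x hij ε a a
  rw [if_pos rfl] at this
  exact this

/-- generic pairs do not exist -/
theorem WSys.not_generic {W : Set (GL ι F)} (hW : WSys W) (h13 : 13 ≤ Fintype.card ι) {x : GL ι F}
    (hx : x ∈ W) {i j : ι} (hij : i ≠ j) (hC : GenC x i j) (hR : GenR x i j) : False := by
  classical
  have h7 : 7 ≤ Fintype.card ι := by omega
  have hxi := hW.inv x hx
  -- choose `a`, `k`
  obtain ⟨a, -, hai, haj⟩ := exists_avoid (hW.amoz_col hx i) (hW.amoz_col hx j) ∅ (by simp; omega)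
  obtain ⟨k, hkT, hki, hkj⟩ := exists_avoid (hW.amoz_row hxi i) (hW.amoz_row hxi j) {a} (by simp; omega)
  rw [Finset.mem_singleton] at hkT
  set μ : F := x.1 k i * x.1 a j - x.1 k j * x.1 a i with hμ
  -- choose `l`
  obtain ⟨l, hlT, hli, hlj, hL1, hL2, hL3⟩ := hR.exists_avoid_lin hW hx {a, k}
    (by have : ({a, k} : Finset ι).card ≤ 2 := Finset.card_le_two
        omega)
    (α₁ := x.1 a i + μ * x⁻¹.1 j k) (β₁ := -(μ * x⁻¹.1 i k))
    (α₂ := μ * x⁻¹.1 j k) (β₂ := x.1 a j - μ * x⁻¹.1 i k)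
    (α₃ := x.1 a i) (β₃ := -(x.1 a j))
    (by
      by_cases hμ0 : μ = 0
      · left; rw [hμ0, zero_mul, add_zero]; exact hai
      · right; exact neg_ne_zero.mpr (mul_ne_zero hμ0 hki))
    (by
      by_cases hμ0 : μ = 0
      · right; rw [hμ0, zero_mul, sub_zero]; exact haj
      · left; exact mul_ne_zero hμ0 hkj)
    (Or.inl hai)
  simp only [Finset.mem_insert, Finset.mem_singleton, not_or] at hlT
  have hla : l ≠ a := hlT.1
  have hlk : l ≠ k := hlT.2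
  have hν : x⁻¹.1 i k * x⁻¹.1 j l - x⁻¹.1 j k * x⁻¹.1 i l ≠ 0 :=
    sub_ne_zero.mpr (hR k l (Ne.symm hlk) hki hkj hli hlj)
  set L1 : F := (x.1 a i + μ * x⁻¹.1 j k) * x⁻¹.1 i l + -(μ * x⁻¹.1 i k) * x⁻¹.1 j l with hL1def
  set L2 : F := μ * x⁻¹.1 j k * x⁻¹.1 i l + (x.1 a j - μ * x⁻¹.1 i k) * x⁻¹.1 j l with hL2def
  set ε : Fˣ := Units.mk0 (L2 * L1⁻¹) (mul_ne_zero hL2 (inv_ne_zero hL1)) with hεdef
  have hεL : (ε : F) * L1 = L2 := by
    rw [hεdef, Units.val_mk0]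
    field_simp
  have hεε : (ε : F) * ((ε⁻¹ : Fˣ) : F) = 1 := by simp
  have hε1 : ε ≠ 1 := by
    intro h
    rw [h, Units.val_one, one_mul] at hεL
    apply hL3
    rw [hL1def, hL2def] at hεL
    linear_combination hεL
  have he := unit_sub_one_ne_zero hε1
  have he' := unit_inv_sub_one_ne_zero hε1
  set y : GL ι F := x * hGL i j ε * x⁻¹ with hy
  have hyW : y ∈ W := hW.conj_mem h7 hx hij hε1
  have hyi := hW.inv y hyW
  -- the vanishing minor
  have hM : y.1 k k * y.1 a l = y.1 k l * y.1 a k := by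
    rw [hy, conj_hGL_diag x hij ε k, conj_hGL_off x hij ε (Ne.symm hla), conj_hGL_off x hij ε (Ne.symm hlk),
      conj_hGL_off x hij ε (Ne.symm hkT)]
    rw [hL1def, hL2def] at hεL
    linear_combination (μ * (x⁻¹.1 i k * x⁻¹.1 j l - x⁻¹.1 j k * x⁻¹.1 i l) +
      ((x.1 a i + μ * x⁻¹.1 j k) * x⁻¹.1 i l + -(μ * x⁻¹.1 i k) * x⁻¹.1 j l)) * hεε -
      (((ε⁻¹ : Fˣ) : F) - 1) * hεL
  rcases hW.dichotomy (by omega) hyW (Ne.symm hlk) with hF | ⟨hCy, -⟩
  · -- flat: contradiction with the genericity of `x`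
    obtain ⟨a', ha'T, h1, h2, h3, h4⟩ := exists_avoid4 (hW.amoz_col hx i) (hW.amoz_col hx j)
      (hW.amoz_col hyW k) (hW.amoz_col hyW l) {k, l} (by
        have : ({k, l} : Finset ι).card ≤ 2 := Finset.card_le_two
        omega)
    obtain ⟨a'', ha''T, g1, g2, g3, g4⟩ := exists_avoid4 (hW.amoz_col hx i) (hW.amoz_col hx j)
      (hW.amoz_col hyW k) (hW.amoz_col hyW l) {k, l, a'} (by
        have : ({k, l, a'} : Finset ι).card ≤ 3 := Finset.card_le_three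
        omega)
    obtain ⟨b, -, hbk, hbl⟩ := exists_avoid (hW.amoz_row hyi k) (hW.amoz_row hyi l) ∅ (by simp; omega)
    simp only [Finset.mem_insert, Finset.mem_singleton, not_or] at ha'T ha''T
    have E1 := hF a' b h3 h4 hbk hbl
    have E2 := hF a'' b g3 g4 hbk hbl
    have hcp := ERel.colProp hbk hbl E1 E2
    rw [hy, conj_hGL_off x hij ε ha'T.1, conj_hGL_off x hij ε ha''T.2.1, conj_hGL_off x hij ε ha'T.2,
      conj_hGL_off x hij ε ha''T.1] at hcp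
    have hgen := hC a' a'' (Ne.symm ha''T.2.2) h1 h2 g1 g2
    have : ((ε : F) - 1) * (((ε⁻¹ : Fˣ) : F) - 1) *
        (x⁻¹.1 i k * x⁻¹.1 j l - x⁻¹.1 j k * x⁻¹.1 i l) *
        (x.1 a' i * x.1 a'' j - x.1 a' j * x.1 a'' i) = 0 := by
      linear_combination hcp
    rcases mul_eq_zero.mp this with h | h
    · rcases mul_eq_zero.mp h with h | h
      · rcases mul_eq_zero.mp h with h | h
        · exact he h
        · exact he' h
      · exact hν h
    · exact hgen (by linear_combination h)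
  · -- generic: rows `k` and `a` have proportional entries in columns `k`, `l`
    by_cases z1 : y.1 k k = 0
    · rw [z1, zero_mul] at hM
      rcases mul_eq_zero.mp hM.symm with h | h
      · exact hW.row y hyW k k l (Ne.symm hlk) z1 h
      · exact hW.col y hyW k k a hkT z1 h
    by_cases z2 : y.1 k l = 0
    · rw [z2, zero_mul] at hM
      rcases mul_eq_zero.mp hM with h | h
      · exact z1 h
      · exact hW.col y hyW l k a hkT z2 h
    by_cases z3 : y.1 a k = 0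
    · rw [z3, mul_zero] at hM
      rcases mul_eq_zero.mp hM with h | h
      · exact z1 h
      · exact hW.row y hyW a k l (Ne.symm hlk) z3 h
    by_cases z4 : y.1 a l = 0
    · rw [z4, mul_zero] at hM
      rcases mul_eq_zero.mp hM.symm with h | h
      · exact z2 h
      · exact z3 h
    exact hCy k a hkT z1 z2 z3 z4 hM

end Cfsg.Agent.Helper7.Mono
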