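import Cfsg.Agent.Helper7.MonoP

/-!
# Flat pairs of columns lead to a contradiction: abstract systems of wild matrices are empty
-/

set_option autoImplicit false

namespace Cfsg.Agent.Helper7.Mono

open Matrix Cfsg.Geo Cfsg.Agent.Helper7.Dcp Cfsg.Agent.Helper7.TGL Cfsg.Agent.Helper7.SLMax

variable {ι : Type} [Fintype ι] [DecidableEq ι] {F : Type*} [Field F]

variable {W : Set (GL ι F)}

/-- two zero-free columns are never flat -/
theorem WSys.flat_zero_free (hW : WSys W) (h4 : 4 ≤ Fintype.card ι) {y : GL ι F} (hy : y ∈ W)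
    {k l : ι} (hkl : k ≠ l) (hF : Flat y k l) (hk : ∀ a, y.1 a k ≠ 0) (hl : ∀ a, y.1 a l ≠ 0) : False := by
  have hyi := hW.inv y hy
  obtain ⟨b, -, hbk, hbl⟩ := exists_avoid (hW.amoz_row hyi k) (hW.amoz_row hyi l) ∅ (by simp; omega)
  have hE : ∀ a, y.1 a l * y⁻¹.1 l b = y.1 a k * y⁻¹.1 k b := fun a => hF a b (hk a) (hl a) hbk hbl
  have hs1 : ∑ a, y⁻¹.1 k a * y.1 a l = 0 := by
    have := inv_mul_apply y k l
    rwa [if_neg hkl] at this
  have hs2 : ∑ a, y⁻¹.1 k a * y.1 a k = 1 := by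
    have := inv_mul_apply y k k
    rwa [if_pos rfl] at this
  have : (∑ a, y⁻¹.1 k a * y.1 a l) * y⁻¹.1 l b = (∑ a, y⁻¹.1 k a * y.1 a k) * y⁻¹.1 k b := by
    rw [Finset.sum_mul, Finset.sum_mul]
    refine Finset.sum_congr rfl fun a _ => ?_
    rw [mul_assoc, hE a, mul_assoc]
  rw [hs1, hs2, zero_mul, one_mul] at this
  exact hbk this.symm

/-- In the all-flat situation, few diagonal entries of a conjugate `x h_{ij}(ε) x⁻¹` are nonzero. -/
theorem WSys.flat_diag_card (hW : WSys W) (h7 : 7 ≤ Fintype.card ι)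
    (hflat : ∀ y ∈ W, ∀ k l, k ≠ l → Flat y k l) {x : GL ι F} (hx : x ∈ W) {i j : ι} (hij : i ≠ j)
    {ε : Fˣ} (hε : ε ≠ 1) :
    ∃ S : Finset ι, S.card ≤ 3 ∧ ∀ b : ι, x.1 b i ≠ 0 → x.1 b j ≠ 0 → x⁻¹.1 i b ≠ 0 → x⁻¹.1 j b ≠ 0 →
      (x * hGL i j ε * x⁻¹).1 b b ≠ 0 → b ∈ S := by
  classical
  set y : GL ι F := x * hGL i j ε * x⁻¹ with hy
  have hyW : y ∈ W := hW.conj_mem h7 hx hij hε
  have hF := hflat x hx i j hij
  have he := unit_sub_one_ne_zero hε
  have he' := unit_inv_sub_one_ne_zero hε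
  have hεε : (ε : F) * ((ε⁻¹ : Fˣ) : F) = 1 := by simp
  set Nz : Finset ι := Finset.univ.filter fun b : ι => x.1 b i ≠ 0 ∧ x.1 b j ≠ 0 ∧ x⁻¹.1 i b ≠ 0 ∧
      x⁻¹.1 j b ≠ 0 ∧ y.1 b b ≠ 0 with hNz
  -- off-diagonal entries in good rows and columns are nonzero
  have hoff : ∀ a b, a ≠ b → x.1 a i ≠ 0 → x.1 a j ≠ 0 → x⁻¹.1 i b ≠ 0 → x⁻¹.1 j b ≠ 0 →
      y.1 a b ≠ 0 := by
    intro a b hab h1 h2 h3 h4 h0
    have hE := hF a b h1 h2 h3 h4
    unfold ERel at hE
    rw [hy, conj_hGL_off x hij ε hab, hE] at h0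
    have : ((ε : F) - 1) * (((ε⁻¹ : Fˣ) : F) - 1) * (x.1 a i * x⁻¹.1 i b) = 0 := by
      linear_combination -h0 + (x.1 a i * x⁻¹.1 i b) * hεε
    exact (mul_ne_zero (mul_ne_zero he he') (mul_ne_zero h1 h3)) this
  -- zero-free columns
  have hZF : (Nz.filter fun b => ∀ a, y.1 a b ≠ 0).card ≤ 1 := by
    rw [Finset.card_le_one]
    intro b hb b' hb'
    rw [Finset.mem_filter] at hb hb'
    by_contra hbb'
    exact hW.flat_zero_free (by omega) hyW hbb' (hflat y hyW b b' hbb') hb.2 hb'.2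
  -- the other columns
  have hRest : (Nz.filter fun b => ¬ ∀ a, y.1 a b ≠ 0).card ≤ 2 := by
    set Z : Finset ι := (Finset.univ.filter fun a => x.1 a i = 0) ∪
      (Finset.univ.filter fun a => x.1 a j = 0) with hZ
    have hZcard : Z.card ≤ 2 := by
      refine (Finset.card_union_le _ _).trans ?_
      have h1 : (Finset.univ.filter fun a => x.1 a i = 0).card ≤ 1 := by
        rw [Finset.card_le_one]
        intro a ha b hb
        rw [Finset.mem_filter] at ha hb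
        by_contra hab
        exact hW.col x hx i a b hab ha.2 hb.2
      have h2 : (Finset.univ.filter fun a => x.1 a j = 0).card ≤ 1 := by
        rw [Finset.card_le_one]
        intro a ha b hb
        rw [Finset.mem_filter] at ha hb
        by_contra hab
        exact hW.col x hx j a b hab ha.2 hb.2
      omega
    have hsub : (Nz.filter fun b => ¬ ∀ a, y.1 a b ≠ 0) ⊆
        Z.biUnion fun a => Finset.univ.filter fun b => y.1 a b = 0 := by
      intro b hb
      rw [Finset.mem_filter, hNz, Finset.mem_filter] at hb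
      obtain ⟨⟨-, h1, h2, h3, h4, h5⟩, hex⟩ := hb
      push Not at hex
      obtain ⟨a, ha⟩ := hex
      have hab : a ≠ b := by
        rintro rfl
        exact h5 ha
      rw [Finset.mem_biUnion]
      refine ⟨a, ?_, Finset.mem_filter.mpr ⟨Finset.mem_univ _, ha⟩⟩
      rw [hZ, Finset.mem_union, Finset.mem_filter, Finset.mem_filter]
      by_contra hne
      push Not at hne
      exact hoff a b hab (hne.1 (Finset.mem_univ _)) (hne.2 (Finset.mem_univ _)) h3 h4 ha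
    refine (Finset.card_le_card hsub).trans ?_
    refine Finset.card_biUnion_le.trans ?_
    calc ∑ a ∈ Z, (Finset.univ.filter fun b => y.1 a b = 0).card ≤ ∑ _a ∈ Z, 1 := by
          refine Finset.sum_le_sum fun a _ => ?_
          rw [Finset.card_le_one]
          intro b hb b' hb'
          rw [Finset.mem_filter] at hb hb'
          by_contra hbb'
          exact hW.row y hyW a b b' hbb' hb.2 hb'.2
      _ = Z.card := by rw [Finset.sum_const, smul_eq_mul, mul_one]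
      _ ≤ 2 := hZcard
  have hsplit := Finset.card_filter_add_card_filter_not (s := Nz) (fun b => ∀ a, y.1 a b ≠ 0)
  have : Nz.card ≤ 3 := by omega
  refine ⟨Nz, this, ?_⟩
  intro b h1 h2 h3 h4 h5
  rw [hNz, Finset.mem_filter]
  exact ⟨Finset.mem_univ _, h1, h2, h3, h4, h5⟩

/-- two units with different values of `θ(ε) = (ε - 1)(ε⁻¹ - 1)` -/
theorem exists_theta_ne [Fintype F] (h5 : 5 ≤ Fintype.card F) :
    ∃ ε ε' : Fˣ, ε ≠ 1 ∧ ε' ≠ 1 ∧
      ((ε : F) - 1) * (((ε⁻¹ : Fˣ) : F) - 1) ≠ ((ε' : F) - 1) * (((ε'⁻¹ : Fˣ) : F) - 1) := by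
  classical
  obtain ⟨ε, hε, -⟩ := exists_unit_ne_ne (F := F) (by omega) 1 1
  have hε1 : ε ≠ 1 := fun h => hε (by rw [h, Units.val_one])
  obtain ⟨e, he⟩ : ∃ e : F, e ∉ ({0, 1, (ε : F), ((ε⁻¹ : Fˣ) : F)} : Finset F) := by
    by_contra hne
    push Not at hne
    have h4 : ({0, 1, (ε : F), ((ε⁻¹ : Fˣ) : F)} : Finset F).card ≤ 4 := Finset.card_le_four
    have : Fintype.card F ≤ ({0, 1, (ε : F), ((ε⁻¹ : Fˣ) : F)} : Finset F).card := by
      rw [← Finset.card_univ]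
      exact Finset.card_le_card fun x _ => hne x
    omega
  simp only [Finset.mem_insert, Finset.mem_singleton, not_or] at he
  obtain ⟨h0, h1, h2, h3⟩ := he
  refine ⟨ε, Units.mk0 e h0, hε1, ?_, ?_⟩
  · intro h
    exact h1 (by have := congrArg Units.val h; simpa using this)
  · intro h
    have hεε : (ε : F) * ((ε⁻¹ : Fˣ) : F) = 1 := by simp
    have hee : e * e⁻¹ = 1 := mul_inv_cancel₀ h0
    have hinv : (((Units.mk0 e h0)⁻¹ : Fˣ) : F) = e⁻¹ := by simp
    rw [hinv, Units.val_mk0] at h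
    have key : (e - (ε : F)) * (e * (ε : F) - 1) = 0 := by
      linear_combination (e * (ε : F)) * h + (e - e * (ε : F)) * hεε + (e * (ε : F) - (ε : F)) * hee
    rcases mul_eq_zero.mp key with h' | h'
    · exact h2 (by linear_combination h')
    · apply h3
      have h'' : e * (ε : F) = 1 := by linear_combination h'
      have : e = e * ((ε : F) * ((ε⁻¹ : Fˣ) : F)) := by rw [hεε, mul_one]
      rw [this, ← mul_assoc, h'', one_mul]

/-- **Abstract systems of wild matrices are empty.** -/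
theorem WSys.false (hW : WSys W) (h13 : 13 ≤ Fintype.card ι)
    (hθ : ∃ ε ε' : Fˣ, ε ≠ 1 ∧ ε' ≠ 1 ∧
      ((ε : F) - 1) * (((ε⁻¹ : Fˣ) : F) - 1) ≠ ((ε' : F) - 1) * (((ε'⁻¹ : Fˣ) : F) - 1))
    {x : GL ι F} (hx : x ∈ W) : False := by
  classical
  have h7 : 7 ≤ Fintype.card ι := by omega
  have hflat : ∀ y ∈ W, ∀ k l, k ≠ l → Flat y k l := by
    intro y hy k l hkl
    rcases hW.dichotomy (by omega) hy hkl with h | ⟨hC, hR⟩
    · exact h
    · exact (hW.not_generic h13 hy hkl hC hR).elim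
  obtain ⟨ε, ε', hε, hε', hne⟩ := hθ
  obtain ⟨i, j, hij⟩ : ∃ i j : ι, i ≠ j :=
    Fintype.exists_pair_of_one_lt_card (by omega)
  have hxi := hW.inv x hx
  obtain ⟨S₁, hS₁, hmem₁⟩ := hW.flat_diag_card h7 hflat hx hij hε
  obtain ⟨S₂, hS₂, hmem₂⟩ := hW.flat_diag_card h7 hflat hx hij hε'
  obtain ⟨b, hbT, h1, h2, h3, h4⟩ := exists_avoid4 (hW.amoz_col hx i) (hW.amoz_col hx j)
    (hW.amoz_row hxi i) (hW.amoz_row hxi j) (S₁ ∪ S₂) (by
      have := Finset.card_union_le S₁ S₂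
      omega)
  rw [Finset.mem_union, not_or] at hbT
  have z1 : (x * hGL i j ε * x⁻¹).1 b b = 0 := by
    by_contra h
    exact hbT.1 (hmem₁ b h1 h2 h3 h4 h)
  have z2 : (x * hGL i j ε' * x⁻¹).1 b b = 0 := by
    by_contra h
    exact hbT.2 (hmem₂ b h1 h2 h3 h4 h)
  have hE := hflat x hx i j hij b b h1 h2 h3 h4
  unfold ERel at hE
  rw [conj_hGL_diag x hij, hE] at z1 z2
  have hεε : (ε : F) * ((ε⁻¹ : Fˣ) : F) = 1 := by simp
  have hεε' : (ε' : F) * ((ε'⁻¹ : Fˣ) : F) = 1 := by simp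
  have : (((ε : F) - 1) * (((ε⁻¹ : Fˣ) : F) - 1) - ((ε' : F) - 1) * (((ε'⁻¹ : Fˣ) : F) - 1)) *
      (x.1 b i * x⁻¹.1 i b) = 0 := by
    linear_combination z2 - z1 + (x.1 b i * x⁻¹.1 i b) * hεε - (x.1 b i * x⁻¹.1 i b) * hεε'
  rcases mul_eq_zero.mp this with h | h
  · exact hne (by linear_combination h)
  · exact (mul_ne_zero h1 h3) h

end Cfsg.Agent.Helper7.Mono
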