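import Cfsg.Agent.Helper7.MonoQ

/-!
# Columns of wild elements have at most one zero (fields with at least seven elements)
-/

set_option autoImplicit false

namespace Cfsg.Agent.Helper7.Mono

open Matrix Cfsg.Geo Cfsg.Agent.Helper7.Dcp Cfsg.Agent.Helper7.TGL Cfsg.Agent.Helper7.SLMax

variable {ι : Type} [Fintype ι] [DecidableEq ι] {F : Type*} [Field F]

/-- a quadratic with three distinct roots vanishes identically -/
theorem quad_three_roots {A C B e₁ e₂ e₃ : F} (h12 : e₁ ≠ e₂) (h13 : e₁ ≠ e₃) (h23 : e₂ ≠ e₃)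
    (p1 : A * e₁ ^ 2 + C * e₁ + B = 0) (p2 : A * e₂ ^ 2 + C * e₂ + B = 0)
    (p3 : A * e₃ ^ 2 + C * e₃ + B = 0) : A = 0 ∧ C = 0 ∧ B = 0 := by
  have q12 : A * (e₁ + e₂) + C = 0 := by
    have : (e₁ - e₂) * (A * (e₁ + e₂) + C) = 0 := by linear_combination p1 - p2
    exact (mul_eq_zero.mp this).resolve_left (sub_ne_zero.mpr h12)
  have q13 : A * (e₁ + e₃) + C = 0 := by
    have : (e₁ - e₃) * (A * (e₁ + e₃) + C) = 0 := by linear_combination p1 - p3
    exact (mul_eq_zero.mp this).resolve_left (sub_ne_zero.mpr h13)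
  have hA : A = 0 := by
    have : A * (e₂ - e₃) = 0 := by linear_combination q12 - q13
    exact (mul_eq_zero.mp this).resolve_right (sub_ne_zero.mpr h23)
  have hC : C = 0 := by rw [hA] at q12; linear_combination q12
  refine ⟨hA, hC, ?_⟩
  rw [hA, hC] at p1
  linear_combination p1

/-- three distinct units avoiding `1` and a given value -/
theorem exists_three_units [Fintype F] (h7 : 7 ≤ Fintype.card F) (v : F) :
    ∃ e₁ e₂ e₃ : Fˣ, e₁ ≠ 1 ∧ e₂ ≠ 1 ∧ e₃ ≠ 1 ∧ (e₁ : F) ≠ v ∧ (e₂ : F) ≠ v ∧ (e₃ : F) ≠ v ∧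
      (e₁ : F) ≠ e₂ ∧ (e₁ : F) ≠ e₃ ∧ (e₂ : F) ≠ e₃ := by
  classical
  have pick : ∀ T : Finset F, T.card < Fintype.card F → ∃ e, e ∉ T := by
    intro T hT
    by_contra hne
    push Not at hne
    have : Fintype.card F ≤ T.card := by
      rw [← Finset.card_univ]
      exact Finset.card_le_card fun x _ => hne x
    omega
  obtain ⟨a, ha⟩ := pick {0, 1, v} (by
    have : ({0, 1, v} : Finset F).card ≤ 3 := Finset.card_le_three
    omega)
  obtain ⟨b, hb⟩ := pick {0, 1, v, a} (by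
    have : ({0, 1, v, a} : Finset F).card ≤ 4 := Finset.card_le_four
    omega)
  obtain ⟨c, hc⟩ := pick {0, 1, v, a, b} (by
    have : ({0, 1, v, a, b} : Finset F).card ≤ 5 := Finset.card_le_five
    omega)
  simp only [Finset.mem_insert, Finset.mem_singleton, not_or] at ha hb hc
  refine ⟨Units.mk0 a ha.1, Units.mk0 b hb.1, Units.mk0 c hc.1, ?_, ?_, ?_, ha.2.2, hb.2.2.1, hc.2.2.1, ?_,
    ?_, ?_⟩
  · intro h; exact ha.2.1 (by have := congrArg Units.val h; simpa using this)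
  · intro h; exact hb.2.1 (by have := congrArg Units.val h; simpa using this)
  · intro h; exact hc.2.1 (by have := congrArg Units.val h; simpa using this)
  · simp only [Units.val_mk0]; exact fun h => hb.2.2.2 h.symm
  · simp only [Units.val_mk0]; exact fun h => hc.2.2.2.1 h.symm
  · simp only [Units.val_mk0]; exact fun h => hc.2.2.2.2 h.symm

/-- (W2) for `q ≥ 7`: a non-monomial element of `K` has at most one zero in each column, provided every
element of `K` with a monomial column is monomial. -/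
theorem col_zero_le_one_of_seven [Fintype F] (h7 : 7 ≤ Fintype.card F) (K : Subgroup (GL ι F))
    (hN : monomialGL ι F ⊓ specialLinear ι F ≤ K)
    (hO : ∀ g ∈ K, ∀ l m, (∀ k, k ≠ m → g.1 k l = 0) → g ∈ monomialGL ι F)
    {x : GL ι F} (hx : x ∈ K) (hxM : x ∉ monomialGL ι F) {l i j : ι} (hij : i ≠ j)
    (h1 : x.1 i l = 0) (h2 : x.1 j l = 0) : False := by
  classical
  -- the conjugates are monomial
  have hz : ∀ ε : Fˣ, x⁻¹ * hGL i j ε * x⁻¹⁻¹ ∈ monomialGL ι F := by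
    intro ε
    have hK : x⁻¹ * hGL i j ε * x⁻¹⁻¹ ∈ K :=
      K.mul_mem (K.mul_mem (K.inv_mem hx) (hN ⟨hGL_mem_monomialGL i j ε, hGL_mem_specialLinear hij ε⟩))
        (K.inv_mem (K.inv_mem hx))
    refine hO _ hK l l ?_
    intro k hk
    rw [conj_hGL_off x⁻¹ hij ε hk, inv_inv, h1, h2, mul_zero, mul_zero, mul_zero, mul_zero, add_zero]
  -- the rank one matrix `ρ_i ⊗ x_i` has no off-diagonal entries
  have hclaim : ∀ a b, a ≠ b → x⁻¹.1 a i * x.1 i b = 0 := by
    intro a b hab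
    by_contra hα
    obtain ⟨e₁, e₂, e₃, n1, n2, n3, v1, v2, v3, d12, d13, d23⟩ :=
      exists_three_units (F := F) h7 ((x⁻¹.1 a j * x.1 j b) / (x⁻¹.1 a i * x.1 i b))
    have hbb : ∀ e : Fˣ, e ≠ 1 → (e : F) ≠ (x⁻¹.1 a j * x.1 j b) / (x⁻¹.1 a i * x.1 i b) →
        (x⁻¹.1 b i * x.1 i b) * (e : F) ^ 2 + (1 - x⁻¹.1 b i * x.1 i b - x⁻¹.1 b j * x.1 j b) * (e : F) +
          x⁻¹.1 b j * x.1 j b = 0 := by
      intro e he1 hev
      have hab' : (x⁻¹ * hGL i j e * x⁻¹⁻¹).1 a b ≠ 0 := by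
        rw [Ne, conj_hGL_off_eq_zero_iff x⁻¹ hij he1 hab, inv_inv]
        intro h
        apply hev
        rw [eq_div_iff hα]
        exact h
      have hbb' : (x⁻¹ * hGL i j e * x⁻¹⁻¹).1 b b = 0 := by
        by_contra hne
        exact hab (monomial_col (hz e) hab' hne)
      rw [conj_hGL_diag x⁻¹ hij, inv_inv] at hbb'
      have hee : (e : F) * ((e⁻¹ : Fˣ) : F) = 1 := by simp
      linear_combination (e : F) * hbb' + (-(x⁻¹.1 b j * x.1 j b)) * hee
    obtain ⟨hA, hC, hB⟩ := quad_three_roots d12 d13 d23 (hbb e₁ n1 v1) (hbb e₂ n2 v2) (hbb e₃ n3 v3)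
    rw [hA, hB] at hC
    have : (1 : F) = 0 := by linear_combination hC
    exact one_ne_zero this
  obtain ⟨b₀, hb₀⟩ := exists_row_ne_zero x i
  have hcol : ∀ a, a ≠ b₀ → x⁻¹.1 a i = 0 := by
    intro a ha
    exact (mul_eq_zero.mp (hclaim a b₀ ha)).resolve_right hb₀
  have := hO x⁻¹ (K.inv_mem hx) i b₀ hcol
  apply hxM
  have h' := (monomialGL ι F).inv_mem this
  rwa [inv_inv] at h'

end Cfsg.Agent.Helper7.Mono
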