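import Cfsg.Agent.Helper7.MonoR

/-!
# Block-diagonal non-monomial elements
-/

set_option autoImplicit false

namespace Cfsg.Agent.Helper7.Mono

open Matrix Cfsg.Geo Cfsg.Agent.Helper7.Dcp Cfsg.Agent.Helper7.TGL Cfsg.Agent.Helper7.SLMax

variable {ι : Type} [Fintype ι] [DecidableEq ι] {F : Type*} [Field F]
variable (p : ι → Prop) [DecidablePred p]

theorem ext_mem_UT_compl (y : GL {x // p x} F) : ext p y ∈ UT (F := F) (fun a => ¬ p a) := by
  constructor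
  · intro k l hk hl
    exact ext_apply_neg_pos p y hk (not_not.mp hl)
  · intro k l hk hl
    rw [← map_inv]
    exact ext_apply_neg_pos p y⁻¹ hk (not_not.mp hl)

theorem monomialGL_le_Kp' (K : Subgroup (GL ι F)) {m : ι} (hm : ¬ p m)
    (h : ∀ y ∈ monomialGL {x // p x} F, ext p y * dGL m (Matrix.GeneralLinearGroup.det y)⁻¹ ∈ K) :
    monomialGL {x // p x} F ≤ Kp K p := by
  intro y hy
  rw [mem_Kp]
  have hUT : ext p y * dGL m (Matrix.GeneralLinearGroup.det y)⁻¹ ∈ UT (F := F) p :=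
    (UT p).mul_mem (ext_mem_UT p y) (diagGL_mem_UT p _)
  exact ⟨_, hUT, h y hy, proj_ext_mul_dGL p hm y _ hUT⟩

theorem eq_ext_of_proj_compl_eq_one {c : GL ι F} (h1 : c ∈ UT (F := F) p)
    (h2 : c ∈ UT (F := F) (fun a => ¬ p a)) (hc : proj (fun a => ¬ p a) ⟨c, h2⟩ = 1) :
    c = ext p (proj p ⟨c, h1⟩) := by
  apply Units.ext
  ext a b
  by_cases ha : p a
  · by_cases hb : p b
    · rw [ext_apply_pos_pos p _ ha hb, proj_apply]
    · rw [ext_apply_pos_neg p _ ha hb]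
      exact h1.1 a b ha hb
  · by_cases hb : p b
    · rw [ext_apply_neg_pos p _ ha hb]
      exact h2.1 a b ha (not_not.mpr hb)
    · rw [ext_apply_neg_neg p _ ha hb]
      have := congrArg (fun y : GL {x // ¬ p x} F =>
        (y : Matrix {x // ¬ p x} {x // ¬ p x} F) ⟨a, ha⟩ ⟨b, hb⟩) hc
      simp only [proj_apply, Units.val_one, Matrix.one_apply, Subtype.mk.injEq] at this
      exact this

theorem xGL_mul_xGL_inv (k l : ι) (h : k ≠ l) (a b : F) :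
    xGL k l h a * (xGL k l h b)⁻¹ = xGL k l h (a - b) := by
  unfold xGL
  rw [tau_mul_tau_inv']
  exact tau_eq_of (by rw [Pi.single_sub]) rfl _ _

/-- A block-diagonal element of `K ≥ N` whose `p`-block is not monomial forces `SL ≤ K`. -/
theorem specialLinear_le_of_bd [Fintype F] (h4 : 4 ≤ Fintype.card ι)
    (hq : Fintype.card F = 5 ∨ 7 ≤ Fintype.card F) (K : Subgroup (GL ι F))
    (hN : monomialGL ι F ⊓ specialLinear ι F ≤ K) {w : GL ι F} (hw : w ∈ K)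
    (hw1 : w ∈ UT (F := F) p) (hw2 : w ∈ UT (F := F) (fun a => ¬ p a))
    (hwild : proj p ⟨w, hw1⟩ ∉ monomialGL {x // p x} F) {m : ι} (hm : ¬ p m)
    (hcard : 3 ≤ Fintype.card {x // p x}) : specialLinear ι F ≤ K := by
  classical
  obtain ⟨ε, hε⟩ : ∃ ε : Fˣ, ε ≠ 1 := by
    obtain ⟨γ, hγ, -⟩ := exists_unit_ne_ne (F := F) (by rcases hq with h | h <;> omega) 1 1
    exact ⟨γ, fun h => hγ (by rw [h, Units.val_one])⟩
  set K' : Subgroup (GL ι F) := K ⊓ UT (F := F) (fun a => ¬ p a) with hK'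
  have hMp : monomialGL {x // p x} F ≤ Kp K' p := by
    refine monomialGL_le_Kp' p K' hm fun y hy => ?_
    exact ⟨hN (ext_mul_dGL_mem p hm y hy), (UT _).mul_mem (ext_mem_UT_compl p y) (diagGL_mem_UT _ _)⟩
  have hA := specialLinear_le_of_monomialGL_lt (ι := {x // p x})
    (by rcases hq with h | h
        · exact Or.inr ⟨h, hcard⟩
        · exact Or.inl ⟨h, by omega⟩) (Kp K' p) hMp
    ((mem_Kp _ _ _).mpr ⟨w, hw1, ⟨hw, hw2⟩, rfl⟩) hwild
  have hc : Fintype.card (Fin 3) ≤ Fintype.card {x : ι // p x} := by simpa using hcard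
  obtain ⟨f⟩ := Function.Embedding.nonempty_of_card_le hc
  have hne : ∀ i j : Fin 3, i ≠ j → f i ≠ f j := fun i j hij h => hij (f.injective h)
  set k₀ := f 0 with hk₀
  set l₀ := f 1 with hl₀
  set j' := f 2 with hj'
  have hkl : k₀ ≠ l₀ := hne 0 1 (by decide)
  have hX : xGL k₀ l₀ hkl (1 : F) ∈ Kp K' p := hA (tau_mem_specialLinear _ _ _)
  obtain ⟨u, huUT, ⟨huK, huUT2⟩, hu⟩ := (mem_Kp _ _ _).mp hX
  have hkj : k₀.1 ≠ j'.1 := fun h => hne 0 2 (by decide) (Subtype.ext h)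
  have hlj : l₀.1 ≠ j'.1 := fun h => hne 1 2 (by decide) (Subtype.ext h)
  have hlk : l₀.1 ≠ k₀.1 := fun h => hkl (Subtype.ext h.symm)
  have htK : hGL k₀.1 j'.1 ε ∈ K := hN ⟨hGL_mem_monomialGL _ _ ε, hGL_mem_specialLinear hkj ε⟩
  have htUT : hGL k₀.1 j'.1 ε ∈ UT (F := F) p := diagGL_mem_UT _ _
  have htUT2 : hGL k₀.1 j'.1 ε ∈ UT (F := F) (fun a => ¬ p a) := diagGL_mem_UT _ _
  set c : GL ι F := u * hGL k₀.1 j'.1 ε * u⁻¹ * (hGL k₀.1 j'.1 ε)⁻¹ with hcdef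
  have hcK : c ∈ K := K.mul_mem (K.mul_mem (K.mul_mem huK htK) (K.inv_mem huK)) (K.inv_mem htK)
  have hcUT : c ∈ UT (F := F) p :=
    (UT _).mul_mem ((UT _).mul_mem ((UT _).mul_mem huUT htUT) ((UT _).inv_mem huUT)) ((UT _).inv_mem htUT)
  have hcUT2 : c ∈ UT (F := F) (fun a => ¬ p a) :=
    (UT _).mul_mem ((UT _).mul_mem ((UT _).mul_mem huUT2 htUT2) ((UT _).inv_mem huUT2))
      ((UT _).inv_mem htUT2)
  have hproj2 : proj (fun a => ¬ p a) ⟨c, hcUT2⟩ = 1 := by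
    have e : (⟨c, hcUT2⟩ : UT (F := F) (fun a => ¬ p a)) =
        ⟨u, huUT2⟩ * ⟨hGL k₀.1 j'.1 ε, htUT2⟩ * ⟨u, huUT2⟩⁻¹ * ⟨hGL k₀.1 j'.1 ε, htUT2⟩⁻¹ := rfl
    have ht : proj (fun a => ¬ p a) ⟨hGL k₀.1 j'.1 ε, htUT2⟩ = 1 := by
      have : proj (fun a => ¬ p a) ⟨hGL k₀.1 j'.1 ε, htUT2⟩ =
          diagGL (fun k : {x // ¬ p x} => if k.1 = k₀.1 then ε else if k.1 = j'.1 then ε⁻¹ else 1) :=
        proj_diagGL _ _
      rw [this]
      have : (fun k : {x // ¬ p x} => (if k.1 = k₀.1 then ε else if k.1 = j'.1 then ε⁻¹ else 1 : Fˣ)) =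
          fun _ => 1 := by
        funext k
        rw [if_neg, if_neg]
        · intro h; exact k.2 (h ▸ j'.2)
        · intro h; exact k.2 (h ▸ k₀.2)
      rw [this, diagGL_one]
    rw [e, map_mul, map_mul, map_mul, map_inv, map_inv, ht]
    group
  have hproj1 : proj p ⟨c, hcUT⟩ = xGL k₀ l₀ hkl (1 - (ε : F)) := by
    have e : (⟨c, hcUT⟩ : UT (F := F) p) =
        ⟨u, huUT⟩ * ⟨hGL k₀.1 j'.1 ε, htUT⟩ * ⟨u, huUT⟩⁻¹ * ⟨hGL k₀.1 j'.1 ε, htUT⟩⁻¹ := rfl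
    have ht : proj p ⟨hGL k₀.1 j'.1 ε, htUT⟩ =
        diagGL (fun k : {x // p x} => if k.1 = k₀.1 then ε else if k.1 = j'.1 then ε⁻¹ else 1) :=
      proj_diagGL _ _
    rw [e, map_mul, map_mul, map_mul, map_inv, map_inv, hu, ht]
    set d : {x // p x} → Fˣ := fun k => if k.1 = k₀.1 then ε else if k.1 = j'.1 then ε⁻¹ else 1 with hd
    have hconj : diagGL d * xGL k₀ l₀ hkl (1 : F) * (diagGL d)⁻¹ = xGL k₀ l₀ hkl (ε : F) := by
      rw [diagGL_conj_xGL]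
      congr 1
      rw [hd]
      simp only [if_true, if_neg hlk, if_neg hlj]
      simp
    have : xGL k₀ l₀ hkl (1 : F) * diagGL d * (xGL k₀ l₀ hkl (1 : F))⁻¹ * (diagGL d)⁻¹ =
        xGL k₀ l₀ hkl (1 : F) * (diagGL d * xGL k₀ l₀ hkl (1 : F) * (diagGL d)⁻¹)⁻¹ := by group
    rw [this, hconj, xGL_mul_xGL_inv]
  have hceq := eq_ext_of_proj_compl_eq_one p hcUT hcUT2 hproj2
  rw [hproj1, ext_xGL] at hceq
  rw [hceq] at hcK
  refine specialLinear_le_of_xGL_mem_of_N_le h4 K hN _ ?_ hcK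
  intro h0
  exact hε (Units.ext (by rw [Units.val_one]; linear_combination -h0))

end Cfsg.Agent.Helper7.Mono
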