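import Cfsg.Agent.Helper7.MonoS

/-!
# Columns of wild elements have at most one zero (the field with five elements)
-/

set_option autoImplicit false

namespace Cfsg.Agent.Helper7.Mono

open Matrix Cfsg.Geo Cfsg.Agent.Helper7.Dcp Cfsg.Agent.Helper7.TGL Cfsg.Agent.Helper7.SLMax

variable {ι : Type} [Fintype ι] [DecidableEq ι] {F : Type*} [Field F]

theorem hGL_mul (i j : ι) (ε ε' : Fˣ) : (hGL i j ε * hGL i j ε' : GL ι F) = hGL i j (ε * ε') := by
  apply Units.ext
  unfold hGL
  rw [Units.val_mul, diagGL_coe, diagGL_coe, diagGL_coe, Matrix.diagonal_mul_diagonal]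
  congr 1
  funext k
  by_cases h1 : k = i
  · simp [h1]
  · by_cases h2 : k = j
    · subst h2
      rw [if_neg h1, if_neg h1, if_neg h1, if_pos rfl, if_pos rfl, if_pos rfl, ← Units.val_mul,
        _root_.mul_inv_rev, mul_comm]
    · simp [h1, h2]

theorem hGL_one (i j : ι) : (hGL i j (1 : Fˣ) : GL ι F) = 1 := by
  unfold hGL
  have : (fun k : ι => (if k = i then (1 : Fˣ) else if k = j then (1 : Fˣ)⁻¹ else 1)) = fun _ => 1 := by
    funext k
    by_cases h1 : k = i
    · simp [h1]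
    · by_cases h2 : k = j
      · subst h2; simp
      · simp [h1, h2]
  rw [this, diagGL_one]

theorem hGL_pow (i j : ι) (ε : Fˣ) (n : ℕ) : (hGL i j ε : GL ι F) ^ n = hGL i j (ε ^ n) := by
  induction n with
  | zero => rw [pow_zero, pow_zero, hGL_one]
  | succ n ih => rw [pow_succ, pow_succ, ih, hGL_mul]

/-- nonzero entries of powers of a monomial matrix -/
theorem pow_entry {z : GL ι F} {σ : ι → ι} (hσ : ∀ a b, z.1 a b ≠ 0 → a = σ b) (n : ℕ) :
    ∀ a b, (z ^ n).1 a b ≠ 0 → a = σ^[n] b := by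
  induction n with
  | zero =>
    intro a b h
    rw [pow_zero, Units.val_one, Matrix.one_apply] at h
    by_contra hne
    exact h (if_neg hne)
  | succ n ih =>
    intro a b h
    rw [pow_succ, Units.val_mul, Matrix.mul_apply] at h
    obtain ⟨c, -, hc⟩ := Finset.exists_ne_zero_of_sum_ne_zero h
    have h1 := ih a c (left_ne_zero_of_mul hc)
    have h2 := hσ c b (right_ne_zero_of_mul hc)
    rw [h1, h2, Function.iterate_succ_apply]

/-- (W2) for `q = 5` -/
theorem col_zero_le_one_of_five [Fintype F] (h5 : Fintype.card F = 5) (h7 : 7 ≤ Fintype.card ι)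
    (K : Subgroup (GL ι F)) (hN : monomialGL ι F ⊓ specialLinear ι F ≤ K)
    (hO : ∀ g ∈ K, ∀ l m, (∀ k, k ≠ m → g.1 k l = 0) → g ∈ monomialGL ι F)
    (hSL : ¬ specialLinear ι F ≤ K)
    {x : GL ι F} (hx : x ∈ K) (hxM : x ∉ monomialGL ι F) {l i j : ι} (hij : i ≠ j)
    (h1 : x.1 i l = 0) (h2 : x.1 j l = 0) : False := by
  classical
  have h5' := five_eq_zero (F := F) h5
  have hn2 : (2 : F) ≠ 0 := by simpa using natCast_ne_zero_of_lt_five h5 2 (by norm_num) (by norm_num)
  have hn3 : (3 : F) ≠ 0 := by simpa using natCast_ne_zero_of_lt_five h5 3 (by norm_num) (by norm_num)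
  set u2 : Fˣ := Units.mk0 2 hn2 with hu2
  have hu2v : (u2 : F) = 2 := rfl
  have hu2inv : ((u2⁻¹ : Fˣ) : F) = 3 := by
    have : u2⁻¹ = Units.mk0 3 hn3 := by
      apply inv_eq_of_mul_eq_one_right
      apply Units.ext
      simp only [hu2, Units.val_mul, Units.val_mk0, Units.val_one]
      linear_combination h5'
    rw [this, Units.val_mk0]
  have hu2ne : u2 ≠ 1 := by
    intro h
    have := congrArg Units.val h
    rw [hu2v, Units.val_one] at this
    have : (1 : F) = 0 := by linear_combination this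
    exact one_ne_zero this
  have hu3ne : u2⁻¹ ≠ 1 := fun h => hu2ne (inv_eq_one.mp h)
  have hu24 : u2 ^ 4 = 1 := by
    apply Units.ext
    rw [Units.val_pow_eq_pow_val, hu2v, Units.val_one]
    linear_combination 3 * h5'
  -- the conjugates `zk n = x⁻¹ h(2^n) x`
  have hmemN : ∀ ε : Fˣ, hGL i j ε ∈ K := fun ε =>
    hN ⟨hGL_mem_monomialGL i j ε, hGL_mem_specialLinear hij ε⟩
  set z : GL ι F := x⁻¹ * hGL i j u2 * x⁻¹⁻¹ with hz
  have hzpow : ∀ n : ℕ, z ^ n = x⁻¹ * hGL i j (u2 ^ n) * x⁻¹⁻¹ := by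
    intro n
    rw [hz, conj_pow, hGL_pow]
  have hzK : z ∈ K := K.mul_mem (K.mul_mem (K.inv_mem hx) (hmemN u2)) (K.inv_mem (K.inv_mem hx))
  have hzM : z ∈ monomialGL ι F := by
    refine hO _ hzK l l ?_
    intro k hk
    rw [hz, conj_hGL_off x⁻¹ hij u2 hk, inv_inv, h1, h2, mul_zero, mul_zero, mul_zero, mul_zero, add_zero]
  obtain ⟨σ, hσ, -⟩ := hzM
  simp only [id] at hσ
  have hpe := fun n => pow_entry (z := z) (σ := σ) hσ n
  -- entries of powers
  have hent : ∀ (n : ℕ) (m : ι), (z ^ n).1 m m =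
      1 + (((u2 ^ n : Fˣ) : F) - 1) * (x⁻¹.1 m i * x.1 i m) +
        ((((u2 ^ n)⁻¹ : Fˣ) : F) - 1) * (x⁻¹.1 m j * x.1 j m) := by
    intro n m
    rw [hzpow, conj_hGL_diag x⁻¹ hij, inv_inv]
  -- `σ ∘ σ = id`
  have hσ2 : ∀ m, σ (σ m) = m := by
    intro m
    by_contra hne
    have hσm : σ m ≠ m := by
      intro h
      rw [h] at hne
      exact hne h
    have z1 : (z ^ 1).1 m m = 0 := by
      by_contra h
      exact hσm (hpe 1 m m h).symm
    have z2 : (z ^ 2).1 m m = 0 := by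
      by_contra h
      exact hne (hpe 2 m m h).symm
    have z4 : (z ^ 4).1 m m = 1 := by
      rw [hzpow, hu24, hGL_one, mul_one, mul_inv_cancel, Units.val_one, Matrix.one_apply, if_pos rfl]
    have z3 : (z ^ 3).1 m m = 1 := by
      have e1 := hent 1 m
      have e2 := hent 2 m
      have e3 := hent 3 m
      rw [z1] at e1
      rw [z2] at e2
      rw [e3]
      have p1 : ((u2 ^ 1 : Fˣ) : F) = 2 := by rw [pow_one, hu2v]
      have p2 : ((u2 ^ 2 : Fˣ) : F) = 4 := by rw [Units.val_pow_eq_pow_val, hu2v]; norm_num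
      have p3 : ((u2 ^ 3 : Fˣ) : F) = 8 := by rw [Units.val_pow_eq_pow_val, hu2v]; norm_num
      have q1 : (((u2 ^ 1)⁻¹ : Fˣ) : F) = 3 := by rw [pow_one, hu2inv]
      have q2 : (((u2 ^ 2)⁻¹ : Fˣ) : F) = 9 := by
        rw [← inv_pow, Units.val_pow_eq_pow_val, hu2inv]; norm_num
      have q3 : (((u2 ^ 3)⁻¹ : Fˣ) : F) = 27 := by
        rw [← inv_pow, Units.val_pow_eq_pow_val, hu2inv]; norm_num
      rw [p1, q1] at e1
      rw [p2, q2] at e2
      rw [p3, q3]
      linear_combination e1 - e2 + ((x⁻¹.1 m i * x.1 i m) + 4 * (x⁻¹.1 m j * x.1 j m)) * h5'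
    have e3 : m = σ^[3] m := hpe 3 m m (by rw [z3]; exact one_ne_zero)
    have e4 : m = σ^[4] m := hpe 4 m m (by rw [z4]; exact one_ne_zero)
    apply hσm
    have : σ^[4] m = σ (σ^[3] m) := by
      rw [← Function.iterate_succ_apply' σ 3 m]
    rw [← e3] at this
    rw [← this, ← e4]
  -- `z ^ 2` is diagonal
  have hdiag : ∀ a b, a ≠ b → (z ^ 2).1 a b = 0 := by
    intro a b hab
    by_contra h
    have := hpe 2 a b h
    simp only [Function.iterate_succ, Function.iterate_zero, Function.comp_apply, id] at this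
    rw [hσ2] at this
    exact hab this
  -- the diagonal involution `z ^ 2`
  have hu4v : ((u2 ^ 2 : Fˣ) : F) = 4 := by rw [Units.val_pow_eq_pow_val, hu2v]; norm_num
  have hu4inv : (((u2 ^ 2)⁻¹ : Fˣ) : F) = 4 := by
    rw [← inv_pow, Units.val_pow_eq_pow_val, hu2inv]
    linear_combination h5'
  have hz2 : z ^ 2 = x⁻¹ * hGL i j (u2 ^ 2) * x⁻¹⁻¹ := hzpow 2
  set sv : ι → F := fun a => if a = i then 4 else if a = j then 4 else 1 with hsv
  have hs : ∀ a, ((if a = i then u2 ^ 2 else if a = j then (u2 ^ 2)⁻¹ else 1 : Fˣ) : F) = sv a := by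
    intro a
    rw [hsv]
    by_cases h1 : a = i
    · simp only [if_pos h1]; exact hu4v
    · by_cases h2 : a = j
      · simp only [if_neg h1, if_pos h2]; exact hu4inv
      · simp only [if_neg h1, if_neg h2, Units.val_one]
  have hrel1 : ∀ a b, x.1 a b * (z ^ 2).1 b b = sv a * x.1 a b := by
    intro a b
    have e : x * z ^ 2 = hGL i j (u2 ^ 2) * x := by rw [hz2, inv_inv]; group
    have := congrArg (fun y : GL ι F => y.1 a b) e
    simp only [Units.val_mul] at this
    unfold hGL at this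
    rw [diagGL_mul_apply, hs, Matrix.mul_apply, Finset.sum_eq_single b] at this
    · exact this
    · intro c _ hc
      rw [hdiag c b hc, mul_zero]
    · intro h; exact absurd (Finset.mem_univ _) h
  have hrel2 : ∀ a b, (z ^ 2).1 b b * x⁻¹.1 b a = x⁻¹.1 b a * sv a := by
    intro a b
    have e : z ^ 2 * x⁻¹ = x⁻¹ * hGL i j (u2 ^ 2) := by rw [hz2, inv_inv]; group
    have := congrArg (fun y : GL ι F => y.1 b a) e
    simp only [Units.val_mul] at this
    unfold hGL at this
    rw [mul_diagGL_apply, hs, Matrix.mul_apply, Finset.sum_eq_single b] at this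
    · exact this
    · intro c _ hc
      rw [hdiag b c (Ne.symm hc), zero_mul]
    · intro h; exact absurd (Finset.mem_univ _) h
  have h41 : (4 : F) ≠ 1 := by
    intro h
    apply hn3
    linear_combination h
  have hsv_of : ∀ a, sv a = 4 → a = i ∨ a = j := by
    intro a h
    by_contra hne
    push Not at hne
    rw [hsv] at h
    simp only [if_neg hne.1, if_neg hne.2] at h
    exact h41 h.symm
  have hsv_one : ∀ a, sv a = 1 → a ≠ i ∧ a ≠ j := by
    intro a h
    constructor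
    · rintro rfl
      rw [hsv] at h
      simp only [if_pos] at h
      exact h41 h
    · rintro rfl
      rw [hsv] at h
      by_cases hji : a = i
      · simp only [if_pos hji] at h; exact h41 h
      · simp only [if_neg hji, if_pos] at h; exact h41 h
  -- the two special columns
  obtain ⟨b₀, hb₀⟩ := exists_row_ne_zero x i
  have hDb₀ : (z ^ 2).1 b₀ b₀ = 4 := by
    have := hrel1 i b₀
    rw [hsv] at this
    simp only [if_pos] at this
    have h' : x.1 i b₀ * ((z ^ 2).1 b₀ b₀ - 4) = 0 := by linear_combination this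
    have := (mul_eq_zero.mp h').resolve_left hb₀
    linear_combination this
  obtain ⟨a₀, ha₀⟩ := exists_col_ne_zero x l
  have ha₀i : a₀ ≠ i := by rintro rfl; exact ha₀ h1
  have ha₀j : a₀ ≠ j := by rintro rfl; exact ha₀ h2
  have hDl : (z ^ 2).1 l l = 1 := by
    have := hrel1 a₀ l
    rw [hsv] at this
    simp only [if_neg ha₀i, if_neg ha₀j] at this
    have h' : x.1 a₀ l * ((z ^ 2).1 l l - 1) = 0 := by linear_combination this
    have := (mul_eq_zero.mp h').resolve_left ha₀
    linear_combination this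
  have hb₀l : b₀ ≠ l := by
    rintro rfl
    rw [hDl] at hDb₀
    exact h41 hDb₀.symm
  have F1 : ∀ a, x.1 a b₀ ≠ 0 → a = i ∨ a = j := by
    intro a ha
    apply hsv_of
    have := hrel1 a b₀
    rw [hDb₀] at this
    have h' : x.1 a b₀ * (sv a - 4) = 0 := by linear_combination -this
    have := (mul_eq_zero.mp h').resolve_left ha
    linear_combination this
  have F2 : ∀ b, x⁻¹.1 b₀ b ≠ 0 → b = i ∨ b = j := by
    intro b hb
    apply hsv_of
    have := hrel2 b b₀
    rw [hDb₀] at this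
    have h' : x⁻¹.1 b₀ b * (sv b - 4) = 0 := by linear_combination -this
    have := (mul_eq_zero.mp h').resolve_left hb
    linear_combination this
  have F3 : ∀ a, x.1 a l ≠ 0 → a ≠ i ∧ a ≠ j := by
    intro a ha
    exact ⟨by rintro rfl; exact ha h1, by rintro rfl; exact ha h2⟩
  have F4 : ∀ b, x⁻¹.1 l b ≠ 0 → b ≠ i ∧ b ≠ j := by
    intro b hb
    apply hsv_one
    have := hrel2 b l
    rw [hDl] at this
    have h' : x⁻¹.1 l b * (sv b - 1) = 0 := by linear_combination -this
    have := (mul_eq_zero.mp h').resolve_left hb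
    linear_combination this
  -- the block-diagonal conjugates
  set Q : ι → Prop := fun a => a ≠ i ∧ a ≠ j with hQ
  have hoff : ∀ (ε : Fˣ) (a b : ι), (Q a ∧ ¬ Q b) ∨ (¬ Q a ∧ Q b) →
      (x * hGL b₀ l ε * x⁻¹).1 a b = 0 := by
    intro ε a b hab
    have hne : a ≠ b := by
      rintro rfl
      rcases hab with h | h
      · exact h.2 h.1
      · exact h.1 h.2
    rw [conj_hGL_off x hb₀l ε hne]
    rcases hab with ⟨ha, hb⟩ | ⟨ha, hb⟩
    · have e1 : x.1 a b₀ = 0 := by
        by_contra h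
        rcases F1 a h with rfl | rfl
        · exact ha.1 rfl
        · exact ha.2 rfl
      have e2 : x⁻¹.1 l b = 0 := by
        by_contra h
        exact hb (F4 b h)
      rw [e1, e2, zero_mul, mul_zero, mul_zero, mul_zero, add_zero]
    · have e1 : x.1 a l = 0 := by
        by_contra h
        exact ha (F3 a h)
      have e2 : x⁻¹.1 b₀ b = 0 := by
        by_contra h
        rcases F2 b h with rfl | rfl
        · exact hb.1 rfl
        · exact hb.2 rfl
      rw [e1, e2, zero_mul, mul_zero, mul_zero, mul_zero, add_zero]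
  have hwUT : ∀ ε : Fˣ, x * hGL b₀ l ε * x⁻¹ ∈ UT (F := F) Q := by
    intro ε
    constructor
    · intro a b ha hb
      exact hoff ε a b (Or.inl ⟨ha, hb⟩)
    · intro a b ha hb
      rw [conj_inv, hGL_inv]
      exact hoff ε⁻¹ a b (Or.inl ⟨ha, hb⟩)
  have hwUT2 : ∀ ε : Fˣ, x * hGL b₀ l ε * x⁻¹ ∈ UT (F := F) (fun a => ¬ Q a) := by
    intro ε
    constructor
    · intro a b ha hb
      exact hoff ε a b (Or.inr ⟨ha, not_not.mp hb⟩)
    · intro a b ha hb
      rw [conj_inv, hGL_inv]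
      exact hoff ε⁻¹ a b (Or.inr ⟨ha, not_not.mp hb⟩)
  have hcardQ : 3 ≤ Fintype.card {a // Q a} := by
    rw [Fintype.card_subtype]
    have : (Finset.univ.filter fun a => Q a) = Finset.univ \ {i, j} := by
      ext a
      simp [hQ]
    rw [this]
    have h2 : ({i, j} : Finset ι).card ≤ 2 := Finset.card_le_two
    have := Finset.le_card_sdiff ({i, j} : Finset ι) Finset.univ
    rw [Finset.card_univ] at this
    omega
  have hmono : ∀ ε : Fˣ, proj Q ⟨x * hGL b₀ l ε * x⁻¹, hwUT ε⟩ ∈ monomialGL {a // Q a} F := by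
    intro ε
    by_contra hne
    apply hSL
    refine specialLinear_le_of_bd Q (by omega) (Or.inl h5) K hN ?_ (hwUT ε) (hwUT2 ε) hne (m := i)
      (by simp [hQ]) hcardQ
    exact K.mul_mem (K.mul_mem hx
      (hN ⟨hGL_mem_monomialGL b₀ l ε, hGL_mem_specialLinear hb₀l ε⟩)) (K.inv_mem hx)
  -- the final contradiction
  have hsum : ∑ k, x⁻¹.1 l k * x.1 k l = 1 := by
    have := inv_mul_apply x l l
    rwa [if_pos rfl] at this
  obtain ⟨b, -, hb⟩ : ∃ b ∈ Finset.univ, x⁻¹.1 l b * x.1 b l ≠ 0 := by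
    apply Finset.exists_ne_zero_of_sum_ne_zero
    rw [hsum]; exact one_ne_zero
  have hrb : x⁻¹.1 l b ≠ 0 := left_ne_zero_of_mul hb
  have hcb : x.1 b l ≠ 0 := right_ne_zero_of_mul hb
  obtain ⟨a', ha'b, ha'⟩ : ∃ a', a' ≠ b ∧ x.1 a' l ≠ 0 := by
    by_contra hne
    push Not at hne
    exact hxM (hO x hx l b hne)
  have hQb : Q b := F3 b hcb
  have hQa' : Q a' := F3 a' ha'
  have hxb₀ : ∀ a, Q a → x.1 a b₀ = 0 := by
    intro a ha
    by_contra h
    rcases F1 a h with rfl | rfl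
    · exact ha.1 rfl
    · exact ha.2 rfl
  have hkey : ∀ ε : Fˣ, ε ≠ 1 → 1 + (((ε⁻¹ : Fˣ) : F) - 1) * (x.1 b l * x⁻¹.1 l b) = 0 := by
    intro ε hε
    by_contra hne
    have e1 : (proj Q ⟨x * hGL b₀ l ε * x⁻¹, hwUT ε⟩).1 ⟨a', hQa'⟩ ⟨b, hQb⟩ ≠ 0 := by
      rw [proj_apply]
      change (x * hGL b₀ l ε * x⁻¹).1 a' b ≠ 0
      rw [conj_hGL_off x hb₀l ε ha'b, hxb₀ a' hQa', zero_mul, mul_zero, zero_add]
      exact mul_ne_zero (unit_inv_sub_one_ne_zero hε) (mul_ne_zero ha' hrb)
    have e2 : (proj Q ⟨x * hGL b₀ l ε * x⁻¹, hwUT ε⟩).1 ⟨b, hQb⟩ ⟨b, hQb⟩ ≠ 0 := by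
      rw [proj_apply]
      change (x * hGL b₀ l ε * x⁻¹).1 b b ≠ 0
      rw [conj_hGL_diag x hb₀l, hxb₀ b hQb, zero_mul, mul_zero, add_zero]
      exact hne
    have := monomial_col (hmono ε) e1 e2
    exact ha'b (congrArg Subtype.val this)
  have k1 := hkey u2 hu2ne
  have k2 := hkey u2⁻¹ hu3ne
  rw [hu2inv] at k1
  rw [inv_inv, hu2v] at k2
  have : (1 : F) = 0 := by linear_combination 2 * k2 - k1
  exact one_ne_zero this

end Cfsg.Agent.Helper7.Mono
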