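import Cfsg.Agent.Helper7.MonoT

/-!
# Maximality of the monomial group `N = GL₁(q) wr Sₙ ∩ SL` in `SLₙ(q)` for `n ≥ 13`, `q ≥ 5`
-/

set_option autoImplicit false

namespace Cfsg.Agent.Helper7.Mono

open Matrix Cfsg.Geo Cfsg.Agent.Helper7.Dcp Cfsg.Agent.Helper7.TGL Cfsg.Agent.Helper7.SLMax

variable {ι : Type} [Fintype ι] [DecidableEq ι] {F : Type*} [Field F]

theorem xGL_not_mem_monomialGL {k l : ι} (h : k ≠ l) : xGL k l h (1 : F) ∉ monomialGL ι F := by
  intro hmon
  have e1 : (xGL k l h (1 : F)).1 k l ≠ 0 := by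
    unfold xGL
    rw [tau_apply, if_neg h, zero_add, Pi.single_eq_same, Pi.single_eq_same, mul_one]
    exact one_ne_zero
  have e2 : (xGL k l h (1 : F)).1 l l ≠ 0 := by
    unfold xGL
    rw [tau_apply, if_pos rfl, Pi.single_eq_of_ne (Ne.symm h), zero_mul, add_zero]
    exact one_ne_zero
  exact h (monomial_col hmon e1 e2)

/-- **The monomial group is maximal in `SL`.** -/
theorem mono_max [Fintype F] (h13 : 13 ≤ Fintype.card ι)
    (hq : Fintype.card F = 5 ∨ 7 ≤ Fintype.card F) :
    IsMaximalIn (specialLinear ι F) (monomialGL ι F ⊓ specialLinear ι F) := by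
  classical
  have hq5 : 5 ≤ Fintype.card F := by rcases hq with h | h <;> omega
  constructor
  · refine lt_of_le_of_ne inf_le_right ?_
    intro heq
    obtain ⟨k, l, hkl⟩ : ∃ k l : ι, k ≠ l := Fintype.exists_pair_of_one_lt_card (by omega)
    have : xGL k l hkl (1 : F) ∈ monomialGL ι F ⊓ specialLinear ι F := by
      rw [heq]
      exact tau_mem_specialLinear _ _ _
    exact xGL_not_mem_monomialGL hkl this.1
  · intro K hN hK
    by_cases hKN : K = monomialGL ι F ⊓ specialLinear ι F
    · exact Or.inl hKN
    right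
    refine le_antisymm hK ?_
    by_contra hSL
    -- a wild element
    obtain ⟨g, hg, hgM⟩ : ∃ g ∈ K, g ∉ monomialGL ι F := by
      by_contra hne
      push Not at hne
      exact hKN (le_antisymm (fun x hx => ⟨hne x hx, hK hx⟩) hN)
    -- (O) and (O*)
    have hO : ∀ g ∈ K, ∀ l m, (∀ k, k ≠ m → g.1 k l = 0) → g ∈ monomialGL ι F := by
      intro g hg l m hcol
      by_contra hgM
      exact hSL (specialLinear_le_of_wild_col (by omega) hq K hN hK hg hgM hcol)
    have hO' : ∀ g ∈ K, ∀ a m, (∀ l, l ≠ m → g.1 a l = 0) → g ∈ monomialGL ι F := by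
      intro g hg a m hrow
      by_contra hgM
      exact hSL (specialLinear_le_of_wild_row (by omega) hq K hN hK hg hgM hrow)
    -- (W2) for a general group satisfying (O)
    have hW2 : ∀ K' : Subgroup (GL ι F), monomialGL ι F ⊓ specialLinear ι F ≤ K' →
        (∀ g ∈ K', ∀ l m, (∀ k, k ≠ m → g.1 k l = 0) → g ∈ monomialGL ι F) →
        ¬ specialLinear ι F ≤ K' → ∀ x ∈ K', x ∉ monomialGL ι F → ∀ l a a', a ≠ a' →
        x.1 a l = 0 → x.1 a' l = 0 → False := by
      intro K' hN' hO'' hSL' x hx hxM l a a' haa' h1 h2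
      rcases hq with h5 | h7
      · exact col_zero_le_one_of_five h5 (by omega) K' hN' hO'' hSL' hx hxM haa' h1 h2
      · exact col_zero_le_one_of_seven h7 K' hN' hO'' hx hxM haa' h1 h2
    -- the system of wild elements
    have hW : WSys {x : GL ι F | x ∈ K ∧ x ∉ monomialGL ι F} := by
      refine ⟨?_, ?_, ?_, ?_⟩
      · rintro x ⟨hx, hxM⟩
        refine ⟨K.inv_mem hx, fun h => hxM ?_⟩
        have := (monomialGL ι F).inv_mem h
        rwa [inv_inv] at this
      · rintro x ⟨hx, hxM⟩ l a a' haa' h1 h2
        exact hW2 K hN hO hSL x hx hxM l a a' haa' h1 h2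
      · rintro x ⟨hx, hxM⟩ a l l' hll' h1 h2
        -- pass to the transpose
        refine hW2 (tstar K) (N_le_tstar K hN) ?_ (fun h => hSL (specialLinear_le_of_tstar K h))
          (tinv x⁻¹) ?_ ?_ a l l' hll' ?_ ?_
        · intro g hg l₀ m hcol
          rw [mem_tstar] at hg
          have h1' : (tinv g)⁻¹ ∈ monomialGL ι F := by
            refine hO' _ (K.inv_mem hg) l₀ m ?_
            intro k hk
            rw [tinv_inv_apply]
            exact hcol k hk
          have h2' := (monomialGL ι F).inv_mem h1'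
          rw [inv_inv] at h2'
          have := tinv_mem_monomialGL h2'
          rwa [tinv_tinv] at this
        · rw [mem_tstar, tinv_tinv]
          exact K.inv_mem hx
        · intro h
          apply hxM
          have := tinv_mem_monomialGL h
          rw [tinv_tinv] at this
          have := (monomialGL ι F).inv_mem this
          rwa [inv_inv] at this
        · rw [tinv_apply, inv_inv]
          exact h1
        · rw [tinv_apply, inv_inv]
          exact h2
      · rintro x ⟨hx, hxM⟩ i j hij ε hε
        have hyK : x * hGL i j ε * x⁻¹ ∈ K :=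
          K.mul_mem (K.mul_mem hx (hN ⟨hGL_mem_monomialGL i j ε, hGL_mem_specialLinear hij ε⟩))
            (K.inv_mem hx)
        by_cases hy : x * hGL i j ε * x⁻¹ ∈ monomialGL ι F
        · exact Or.inr hy
        · exact Or.inl ⟨hyK, hy⟩
    exact hW.false h13 (exists_theta_ne hq5) (x := g) ⟨hg, hgM⟩

/-- For a bijective block function the block-monomial group is the monomial group. -/
theorem blockMono_of_bijective {τ : Type} (β : ι → τ) (hβ : Function.Bijective β) :
    (blockMono β : Subgroup (GL ι F)) = monomialGL ι F := by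
  set e : ι ≃ τ := Equiv.ofBijective β hβ with he
  have heβ : ∀ k, e k = β k := fun k => rfl
  ext g
  constructor
  · rintro ⟨σ, h1, h2⟩
    refine ⟨e.trans (σ.trans e.symm), ?_, ?_⟩
    · intro k l h
      simp only [id, Equiv.trans_apply]
      rw [heβ, ← h1 k l h, ← heβ, Equiv.symm_apply_apply]
    · intro k l h
      simp only [id]
      have := h2 k l h
      rw [Equiv.eq_symm_apply]
      simp only [Equiv.trans_apply]
      rw [heβ, this, Equiv.apply_symm_apply, ← heβ, Equiv.symm_apply_apply]
  · rintro ⟨σ, h1, h2⟩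
    simp only [id] at h1 h2
    refine ⟨e.symm.trans (σ.trans e), ?_, ?_⟩
    · intro k l h
      simp only [Equiv.trans_apply]
      rw [← heβ l, Equiv.symm_apply_apply, ← h1 k l h, heβ]
    · intro k l h
      rw [Equiv.eq_symm_apply]
      simp only [Equiv.trans_apply]
      rw [← heβ k, Equiv.symm_apply_apply, h2 k l h, Equiv.apply_symm_apply, heβ]

end Cfsg.Agent.Helper7.Mono
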