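import Mathlib
import Cfsg.Agent.Helper7.NilRkA

set_option autoImplicit false
set_option linter.unusedSectionVars false

/-! A unipotent element of order `p` permuting the summands of a direct-sum decomposition: either a
summand is fixed, and the Jordan type splits, or many Jordan blocks have size `p` (helper7). -/

namespace Cfsg.Agent.Helper7.NilRk

open Module Polynomial

variable {F : Type*} [Field F] {V : Type*} [AddCommGroup V] [Module F V] [FiniteDimensional F V]

/-- in characteristic `p`, `∑_{i<p} (1 + N)^i = N^(p-1)`. -/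
theorem geom_sum_one_add {p : ℕ} [hp : Fact p.Prime] [CharP F p] (N : Module.End F V) :
    ∑ i ∈ Finset.range p, (1 + N) ^ i = N ^ (p - 1) := by
  have hpoly : ∑ i ∈ Finset.range p, (1 + (X : F[X])) ^ i = X ^ (p - 1) := by
    have h1 := geom_sum_mul (1 + (X : F[X])) p
    have h2 : (1 + (X : F[X])) - 1 = X := by ring
    rw [h2, add_pow_char, one_pow] at h1
    have h3 : (1 : F[X]) + X ^ p - 1 = X ^ (p - 1) * X := by
      rw [← pow_succ, Nat.sub_add_cancel hp.out.pos]
      ring
    rw [h3] at h1
    exact mul_right_cancel₀ X_ne_zero h1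
  have h4 := congrArg (aeval N) hpoly
  simpa using h4

variable {p : ℕ} [hp : Fact p.Prime] [CharP F p]

theorem decomp_analysis (N' : Module.End F V) (hNp : N' ^ p = 0) (hfp : (1 + N') ^ p = 1)
    {t a : ℕ} (D : Fin t → Submodule F V) (ht : 2 ≤ t) (ha : 0 < a)
    (hfr : ∀ i, finrank F (D i) = a) (hind : iSupIndep D) (hsup : iSup D = ⊤)
    (σ : Equiv.Perm (Fin t)) (hσ : ∀ j, (D j).map (1 + N') = D (σ j)) :
    (∃ ν : Multiset ℕ, (∀ m, ν.count m ≤ if 1 ≤ m then cntS N' ⊤ (m - 1) else 0) ∧ ν.sum = a) ∨
      a ≤ rk N' ⊤ (p - 1) := by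
  -- `D` is injective
  have hDinj : Function.Injective D := by
    intro i j hij
    by_contra hne
    have h1 : D i ≤ ⨆ k, ⨆ (_ : k ≠ j), D k := le_iSup₂ (f := fun k _ => D k) i hne
    have h2 := hind j
    rw [← hij] at h2
    have h3 : D i = ⊥ := by
      rw [eq_bot_iff]
      intro v hv
      exact (Submodule.disjoint_def.mp h2) v hv (h1 hv)
    have h4 := hfr i
    rw [h3, finrank_bot] at h4
    omega
  have hpowD : ∀ (k : ℕ) (j : Fin t), (D j).map ((1 + N') ^ k) = D ((σ ^ k) j) := by
    intro k
    induction k with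
    | zero =>
      intro j
      rw [pow_zero, pow_zero, Module.End.one_eq_id, Submodule.map_id]
      rfl
    | succ k ih =>
      intro j
      rw [pow_succ', Module.End.mul_eq_comp, Submodule.map_comp, ih, hσ, pow_succ', Equiv.Perm.mul_apply]
  have hσp : ∀ j, (σ ^ p) j = j := by
    intro j
    apply hDinj
    rw [← hpowD, hfp, Module.End.one_eq_id, Submodule.map_id]
  have hmemf : ∀ (k : ℕ) (j : Fin t) (d : V), d ∈ D j → ((1 + N') ^ k) d ∈ D ((σ ^ k) j) := by
    intro k j d hd
    rw [← hpowD]
    exact Submodule.mem_map_of_mem hd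
  by_cases hfix : ∃ j, σ j = j
  · left
    obtain ⟨j₀, hj₀⟩ := hfix
    have hAB : IsCompl (D j₀) (⨆ i, ⨆ (_ : i ≠ j₀), D i) := by
      refine ⟨hind j₀, ?_⟩
      rw [codisjoint_iff, ← iSup_split_single]
      exact hsup
    have hAf : (D j₀).map (1 + N') = D j₀ := by rw [hσ, hj₀]
    have hBf : (⨆ i, ⨆ (_ : i ≠ j₀), D i).map (1 + N') ≤ ⨆ i, ⨆ (_ : i ≠ j₀), D i := by
      rw [Submodule.map_iSup]
      apply iSup_le
      intro i
      rw [Submodule.map_iSup]
      apply iSup_le
      intro hi
      rw [hσ]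
      have h1 : σ i ≠ j₀ := by
        intro h
        apply hi
        apply σ.injective
        rw [h, hj₀]
      exact le_iSup₂ (f := fun k _ => D k) (σ i) h1
    have hinv : ∀ W : Submodule F V, W.map (1 + N') ≤ W → W.map N' ≤ W := by
      intro W hW
      rintro _ ⟨v, hv, rfl⟩
      have h1 : (1 + N') v ∈ W := hW (Submodule.mem_map_of_mem hv)
      have h2 : N' v = (1 + N') v - v := by
        rw [LinearMap.add_apply, Module.End.one_apply, add_sub_cancel_left]
      rw [h2]
      exact W.sub_mem h1 hv
    have hAN := hinv _ (le_of_eq hAf)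
    have hBN := hinv _ hBf
    have hbound : ∀ k, cntS N' (D j₀) k ≤ cntS N' ⊤ k := fun k => cntS_le_top hAB hAN hBN k
    have hsum := sum_cntS hAN p (by rw [hNp, Submodule.map_zero])
    rw [hfr] at hsum
    refine ⟨∑ k ∈ Finset.range p, cntS N' (D j₀) k • ({k + 1} : Multiset ℕ), ?_, ?_⟩
    · intro m
      rw [Multiset.count_sum']
      by_cases hm : 1 ≤ m
      · rw [if_pos hm]
        have h1 : ∀ k ∈ Finset.range p, Multiset.count m (cntS N' (D j₀) k • ({k + 1} : Multiset ℕ)) =
            if k = m - 1 then cntS N' (D j₀) k else 0 := by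
          intro k _
          rw [Multiset.count_nsmul, Multiset.count_singleton]
          by_cases hk : k = m - 1
          · rw [if_pos hk, if_pos (by omega), mul_one]
          · rw [if_neg hk, if_neg (by omega), mul_zero]
        rw [Finset.sum_congr rfl h1, Finset.sum_ite_eq']
        split_ifs
        · exact hbound _
        · exact Nat.zero_le _
      · rw [if_neg hm]
        apply le_of_eq
        apply Finset.sum_eq_zero
        intro k _
        rw [Multiset.count_nsmul, Multiset.count_singleton, if_neg (by omega), mul_zero]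
    · rw [Multiset.sum_sum, ← hsum]
      apply Finset.sum_congr rfl
      intro k _
      rw [Multiset.sum_nsmul, Multiset.sum_singleton, smul_eq_mul, mul_comm]
  · right
    rw [not_exists] at hfix
    obtain ⟨j₀⟩ : Nonempty (Fin t) := ⟨⟨0, by omega⟩⟩
    have hper : ∀ i, 0 < i → i < p → (σ ^ i) j₀ ≠ j₀ := by
      intro i hi0 hip h
      have h1 : Function.IsPeriodicPt σ p j₀ := by
        show (σ : Fin t → Fin t)^[p] j₀ = j₀
        rw [Equiv.Perm.iterate_eq_pow]
        exact hσp j₀
      have h2 : Function.IsPeriodicPt σ i j₀ := by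
        show (σ : Fin t → Fin t)^[i] j₀ = j₀
        rw [Equiv.Perm.iterate_eq_pow]
        exact h
      have h3 := h1.minimalPeriod_dvd
      have h4 := h2.minimalPeriod_dvd
      rcases (Nat.dvd_prime hp.out).mp h3 with h5 | h5
      · exact hfix j₀ (Function.minimalPeriod_eq_one_iff_isFixedPt.mp h5)
      · rw [h5] at h4
        have := Nat.le_of_dvd hi0 h4
        omega
    have hdisj := hind j₀
    have hinj : D j₀ ⊓ LinearMap.ker (∑ i ∈ Finset.range p, (1 + N') ^ i) = ⊥ := by
      rw [eq_bot_iff]
      rintro d ⟨hd, hker⟩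
      rw [SetLike.mem_coe, LinearMap.mem_ker] at hker
      obtain ⟨p', hp'⟩ : ∃ p', p = p' + 1 := ⟨p - 1, by have := hp.out.pos; omega⟩
      rw [hp', Finset.sum_range_succ', LinearMap.add_apply, LinearMap.sum_apply, pow_zero,
        Module.End.one_apply] at hker
      have hc : ∑ i ∈ Finset.range p', ((1 + N') ^ (i + 1)) d ∈ ⨆ k, ⨆ (_ : k ≠ j₀), D k := by
        apply Submodule.sum_mem
        intro i hi
        rw [Finset.mem_range] at hi
        have h1 := hper (i + 1) (by omega) (by omega)
        exact (le_iSup₂ (f := fun k _ => D k) ((σ ^ (i + 1)) j₀) h1) (hmemf (i + 1) j₀ d hd)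
      have hd2 : d ∈ ⨆ k, ⨆ (_ : k ≠ j₀), D k := by
        have : d = -(∑ i ∈ Finset.range p', ((1 + N') ^ (i + 1)) d) := by
          rw [eq_neg_iff_add_eq_zero, add_comm]
          exact hker
        rw [this]
        exact Submodule.neg_mem _ hc
      exact (Submodule.disjoint_def.mp hdisj) d hd hd2
    have h1 := finrank_map_add (∑ i ∈ Finset.range p, (1 + N') ^ i) (D j₀)
    rw [hinj, finrank_bot, add_zero, hfr, geom_sum_one_add] at h1
    rw [h1]
    unfold rk
    exact Submodule.finrank_mono (Submodule.map_mono le_top)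

end Cfsg.Agent.Helper7.NilRk
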