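import Mathlib
import Cfsg.Agent.Helper7.SpCPC
import Cfsg.Agent.Helper8.OrTIso

set_option autoImplicit false
set_option linter.unusedSectionVars false

/-! The quadratic form `x ↦ Tr(θ x σ(x))` on a field extension with an involution `σ`
(`θ + σ θ = 1`): it is nondegenerate, preserved by the elements of norm one, and the number of its
zeros is `≡ 1` modulo the order of the norm-one group (helper7). -/

namespace Cfsg.Agent.Helper7.O2Min

open Module Cfsg.Agent.Helper7.SpCP Cfsg.Agent.Helper8.OrT Cfsg.Agent.Helper8.QuadForm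
open scoped Pointwise

section twq

variable {F L : Type*} [Field F] [Field L] [Algebra F L]

/-- the quadratic form `x ↦ Tr(θ x σ(x))`. -/
noncomputable def twQ (σ : L ≃ₐ[F] L) (θ : L) : QuadraticForm F L :=
  LinearMap.BilinMap.toQuadraticMap (twB σ θ)

theorem twQ_apply (σ : L ≃ₐ[F] L) (θ x : L) :
    twQ σ θ x = Algebra.trace F L (θ * x * σ x) := rfl

theorem polar_twQ (σ : L ≃ₐ[F] L) {θ : L} (hθ : θ + σ θ = 1) (hσ : ∀ x, σ (σ x) = x) (x y : L) :
    QuadraticMap.polar (twQ σ θ) x y = Algebra.trace F L (x * σ y) := by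
  unfold QuadraticMap.polar
  rw [twQ_apply, twQ_apply, twQ_apply]
  have h1 : Algebra.trace F L (θ * y * σ x) = Algebra.trace F L (σ θ * σ y * x) := by
    have h3 := Algebra.trace_eq_of_algEquiv σ (θ * y * σ x)
    have h4 : σ (θ * y * σ x) = σ θ * σ y * x := by rw [map_mul, map_mul, hσ]
    rw [h4] at h3
    exact h3.symm
  have h2 : θ * (x + y) * σ (x + y) - θ * x * σ x - θ * y * σ y
      = θ * x * σ y + θ * y * σ x := by
    rw [map_add]; ring
  rw [← map_sub, ← map_sub, h2, map_add, h1, ← map_add]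
  congr 1
  linear_combination (x * σ y) * hθ

theorem twQ_nondeg [FiniteDimensional F L] [Algebra.IsSeparable F L] (σ : L ≃ₐ[F] L) {θ : L}
    (hθ : θ + σ θ = 1) (hσ : ∀ x, σ (σ x) = x) : Nondeg (twQ σ θ) := by
  intro v hv
  have h1 : ∀ w : L, Algebra.traceForm F L v w = 0 := by
    intro w
    have := hv (σ.symm w)
    rw [polar_twQ σ hθ hσ, AlgEquiv.apply_symm_apply] at this
    rw [Algebra.traceForm_apply]
    exact this
  exact (traceForm_nondegenerate F L).1 v h1

theorem twQ_mul (σ : L ≃ₐ[F] L) (θ : L) {ζ : L} (hζ : ζ * σ ζ = 1) (x : L) :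
    twQ σ θ (ζ * x) = twQ σ θ x := by
  rw [twQ_apply, twQ_apply]
  congr 1
  rw [map_mul]
  linear_combination (θ * x * σ x) * hζ

end twq

section count

variable {F L : Type*} [Field F] [Field L] [Algebra F L] [Fintype L]

/-- the number of zeros of a quadratic form on a finite field `L` that is invariant under the
`e`-th roots of unity is `≡ 1 (mod e)`. -/
theorem lev_zero_eq (Q : QuadraticForm F L) (e : ℕ) (he : e ∣ Fintype.card L - 1)
    (hQ : ∀ ζ x : L, ζ ^ e = 1 → Q (ζ * x) = Q x) : ∃ A : ℕ, lev Q 0 = 1 + e * A := by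
  classical
  -- the group of `e`-th roots of unity
  obtain ⟨C, hCdef⟩ : ∃ C : Subgroup Lˣ, C = (powMonoidHom e : Lˣ →* Lˣ).ker := ⟨_, rfl⟩
  have hC : Nat.card C = e := by
    rw [hCdef, IsCyclic.card_powMonoidHom_ker, Nat.card_eq_fintype_card, Fintype.card_units]
    exact Nat.gcd_eq_right he
  have hmemC : ∀ u : Lˣ, u ∈ C ↔ u ^ e = 1 := by
    intro u
    rw [hCdef, MonoidHom.mem_ker, powMonoidHom_apply]
  obtain ⟨S, hSdef⟩ : ∃ S : Set Lˣ, S = {u : Lˣ | Q (u : L) = 0} := ⟨_, rfl⟩
  have hmemS : ∀ u : Lˣ, u ∈ S ↔ Q (u : L) = 0 := by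
    intro u
    rw [hSdef]
    rfl
  have hSC : S * (C : Set Lˣ) = S := by
    ext u
    constructor
    · rintro ⟨s, hs, c, hc, rfl⟩
      rw [hmemS] at hs ⊢
      have h1 : ((c : Lˣ) : L) ^ e = 1 := by
        have := (hmemC c).mp hc
        rw [← Units.val_pow_eq_pow_val, this, Units.val_one]
      rw [Units.val_mul, mul_comm, hQ _ _ h1]
      exact hs
    · intro hu
      exact ⟨u, hu, 1, C.one_mem, mul_one u⟩
  have hcard := Subgroup.card_mul_eq_card_subgroup_mul_card_quotient C S
  rw [hSC, hC] at hcard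
  refine ⟨Nat.card (S.image (QuotientGroup.mk : Lˣ → Lˣ ⧸ C)), ?_⟩
  rw [← hcard]
  -- zeros are `0` together with the units in `S`
  unfold lev
  have e1 : {v : L // Q v = 0} ≃ Option S :=
    { toFun := fun v => if h : (v : L) = 0 then none else
        some ⟨Units.mk0 v.1 h, by rw [hmemS, Units.val_mk0]; exact v.2⟩
      invFun := fun o => match o with
        | none => ⟨0, map_zero Q⟩
        | some s => ⟨((s : Lˣ) : L), (hmemS _).mp s.2⟩
      left_inv := by
        rintro ⟨v, hv⟩
        by_cases h : v = 0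
        · subst h
          simp
        · simp [h]
      right_inv := by
        rintro (_ | s)
        · simp
        · have : ((s : Lˣ) : L) ≠ 0 := Units.ne_zero _
          simp [this] }
  rw [Nat.card_congr e1, Nat.card_eq_fintype_card, Fintype.card_option, ← Nat.card_eq_fintype_card,
    add_comm]

end count

end Cfsg.Agent.Helper7.O2Min
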