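import Mathlib
import Cfsg.Agent.Helper7.O2MinA

set_option autoImplicit false
set_option linter.unusedSectionVars false

/-! An elliptic quadratic space of dimension `2d` over a finite field with a fixed-point-free isometry
of prime order `r ∣ q^d + 1` (helper7). -/

namespace Cfsg.Agent.Helper7.O2Min

open Module Cfsg.Agent.Helper7.SpCP Cfsg.Agent.Helper8.OrT Cfsg.Agent.Helper8.QuadForm

/-- arithmetic: the hyperbolic count is not `≡ 1` modulo `q^d + 1`. -/
theorem arith_aux (q X A : ℤ) (hq : 2 ≤ q) (hX : 2 ≤ X)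
    (h : 1 + (q * X + 1) * A = q * X ^ 2 + 1 * (q * X - X)) : False := by
  have h1 : (q * X + 1) * (X + 1 - A) = 2 * (X + 1) := by linear_combination -h
  have hpos : 0 < q * X + 1 := by nlinarith
  rcases lt_trichotomy (X + 1 - A) 1 with hB | hB | hB
  · have hB0 : X + 1 - A ≤ 0 := by omega
    have : (q * X + 1) * (X + 1 - A) ≤ 0 := mul_nonpos_of_nonneg_of_nonpos hpos.le hB0
    nlinarith
  · rw [hB, mul_one] at h1
    have h2 : (q - 2) * X = 1 := by linear_combination h1
    have h3 : 0 ≤ q - 2 := by omega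
    rcases (lt_or_eq_of_le h3) with h4 | h4
    · have : 1 * X ≤ (q - 2) * X := by
        apply mul_le_mul_of_nonneg_right _ (by omega)
        omega
      omega
    · rw [← h4, zero_mul] at h2
      omega
  · have hB2 : 2 ≤ X + 1 - A := by omega
    have : (q * X + 1) * 2 ≤ (q * X + 1) * (X + 1 - A) :=
      mul_le_mul_of_nonneg_left hB2 hpos.le
    nlinarith

variable {F : Type*} [Field F] [Fintype F]

/-- **the model**: an elliptic form on `F^(2d)` with a fixed-point-free isometry of order `r`. -/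
theorem exists_model (p : ℕ) [Fact p.Prime] [CharP F p] (d : ℕ) (hd : 2 ≤ d) (r : ℕ)
    [Fact r.Prime] (hr : r ∣ Fintype.card F ^ d + 1) :
    ∃ (Q : QuadraticForm F (Fin (2 * d) → F)) (g : Module.End F (Fin (2 * d) → F)),
      Nondeg Q ∧ NuS (-1) Q (d - 1) ∧ (∀ v, Q (g v) = Q v) ∧ g ^ r = 1 ∧ ∀ v, g v = v → v = 0 := by
  classical
  haveI : NeZero (2 * d) := ⟨by omega⟩
  have hrp : r.Prime := Fact.out
  obtain ⟨q, hq⟩ : ∃ q, q = Fintype.card F := ⟨_, rfl⟩
  have hqN : Nat.card F = q := by rw [Nat.card_eq_fintype_card, hq]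
  have hq2 : 2 ≤ q := by rw [hq]; exact Fintype.one_lt_card
  rw [← hq] at hr
  -- the field
  have hcardL : Nat.card (FiniteField.Extension F p (2 * d)) = q ^ (2 * d) := by
    rw [FiniteField.natCard_extension, hqN]
  have hfr : finrank F (FiniteField.Extension F p (2 * d)) = 2 * d :=
    FiniteField.finrank_extension F p (2 * d)
  letI : Fintype (FiniteField.Extension F p (2 * d)) := Fintype.ofFinite _
  have hcardL' : Fintype.card (FiniteField.Extension F p (2 * d)) = q ^ (2 * d) := by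
    rw [← Nat.card_eq_fintype_card, hcardL]
  have hpowL : ∀ x : FiniteField.Extension F p (2 * d), x ^ (q ^ (2 * d)) = x := by
    intro x
    rw [← hcardL']
    exact FiniteField.pow_card x
  -- the involution
  obtain ⟨σ, hσdef⟩ : ∃ σ : FiniteField.Extension F p (2 * d) ≃ₐ[F] FiniteField.Extension F p (2 * d),
      σ = (FiniteField.Extension.frob F p (2 * d)) ^ d := ⟨_, rfl⟩
  have hσ : ∀ x, σ x = x ^ (q ^ d) := by
    intro x
    rw [hσdef, FiniteField.Extension.frob_iterate_apply, hqN]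
  have hσ2 : ∀ x, σ (σ x) = x := by
    intro x
    rw [hσ, hσ, ← pow_mul, ← pow_add, ← two_mul, hpowL]
  have hσne : ∃ y, σ y ≠ y := by
    by_contra hcon
    push Not at hcon
    have h1 : (FiniteField.Extension.frob F p (2 * d)) ^ d = 1 := by
      rw [← hσdef]
      ext y
      exact hcon y
    have h2 : orderOf (FiniteField.Extension.frob F p (2 * d)) = 2 * d := by
      unfold FiniteField.Extension.frob
      rw [FiniteField.orderOf_frobeniusAlgEquivOfAlgebraic, hfr]
    have h3 := orderOf_dvd_of_pow_eq_one h1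
    rw [h2] at h3
    have := Nat.le_of_dvd (by omega) h3
    omega
  -- an element of relative trace one
  obtain ⟨θ, hθ⟩ : ∃ θ : FiniteField.Extension F p (2 * d), θ + σ θ = 1 := by
    obtain ⟨u, hu⟩ : ∃ u : FiniteField.Extension F p (2 * d), u + σ u ≠ 0 := by
      by_cases h2 : (2 : FiniteField.Extension F p (2 * d)) = 0
      · obtain ⟨y, hy⟩ := hσne
        refine ⟨y, fun h => hy ?_⟩
        have h3 : σ y = -y := by linear_combination h
        have h4 : -y = y := by linear_combination (-y) * h2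
        rw [h3, h4]
      · refine ⟨1, ?_⟩
        rw [map_one]
        intro h
        apply h2
        linear_combination h
    have hfix : σ (u + σ u) = u + σ u := by
      rw [map_add, hσ2, add_comm]
    refine ⟨u / (u + σ u), ?_⟩
    rw [map_div₀, hfix, ← add_div, div_self hu]
  -- the element of order r
  have hqd1 : 1 ≤ q ^ d := Nat.one_le_pow _ _ (by omega)
  have hfact : q ^ (2 * d) - 1 = (q ^ d - 1) * (q ^ d + 1) := by
    zify [hqd1, Nat.one_le_pow (2 * d) q (by omega)]
    ring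
  have hdvd : r ∣ Nat.card (FiniteField.Extension F p (2 * d))ˣ := by
    rw [Nat.card_units, hcardL, hfact]
    exact Dvd.dvd.mul_left hr _
  obtain ⟨ζu, hζu⟩ := exists_prime_orderOf_dvd_card' r hdvd
  obtain ⟨ζ, hζdef⟩ : ∃ ζ : FiniteField.Extension F p (2 * d), ζ = (ζu : _) := ⟨_, rfl⟩
  have hζr : ζ ^ r = 1 := by
    rw [hζdef, ← Units.val_pow_eq_pow_val, ← hζu, pow_orderOf_eq_one, Units.val_one]
  have hζ1 : ζ ≠ 1 := by
    intro h
    have : ζu = 1 := Units.ext (by rw [← hζdef, h, Units.val_one])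
    rw [this, orderOf_one] at hζu
    exact hrp.one_lt.ne hζu
  have hnorm : ∀ c : FiniteField.Extension F p (2 * d), c ^ (q ^ d + 1) = 1 → c * σ c = 1 := by
    intro c hc
    rw [hσ, ← pow_succ']
    exact hc
  have hζσ : ζ * σ ζ = 1 := by
    apply hnorm
    obtain ⟨c, hc⟩ := hr
    rw [hc, pow_mul, hζr, one_pow]
  -- the form
  have hND := twQ_nondeg σ hθ hσ2
  have hcount := lev_zero_eq (twQ σ θ) (q ^ d + 1)
    (by rw [hcardL', hfact]; exact Dvd.intro_left _ rfl)
    (fun c x hc => twQ_mul σ θ (hnorm c hc) x)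
  obtain ⟨A, hA⟩ := hcount
  have hV : finrank F (FiniteField.Extension F p (2 * d)) = 2 * (d - 1 + 1) := by
    rw [hfr]; omega
  have hNu : NuS (-1) (twQ σ θ) (d - 1) := by
    rcases dichotomy (d - 1) hV (twQ σ θ) hND with ⟨h1, -⟩ | ⟨h1, -⟩
    · exfalso
      unfold NuS at h1
      rw [hA, ← hq] at h1
      have e1 : 2 * (d - 1) + 1 = (d - 1) + (d - 1) + 1 := by omega
      have e2 : d = (d - 1) + 1 := by omega
      have hX2 : (2 : ℤ) ≤ (q : ℤ) ^ (d - 1) := by
        have h3 : (2 : ℤ) ≤ (q : ℤ) := by exact_mod_cast hq2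
        have h4 : 1 ≤ d - 1 := by omega
        calc (2 : ℤ) ≤ (q : ℤ) ^ 1 := by rw [pow_one]; exact h3
          _ ≤ (q : ℤ) ^ (d - 1) := pow_le_pow_right₀ (by omega) h4
      apply arith_aux (q : ℤ) ((q : ℤ) ^ (d - 1)) (A : ℤ) (by exact_mod_cast hq2) hX2
      have h5 : ((1 + (q ^ d + 1) * A : ℕ) : ℤ)
          = 1 + ((q : ℤ) * (q : ℤ) ^ (d - 1) + 1) * (A : ℤ) := by
        push_cast
        conv_lhs => rw [e2, pow_succ]
        ring
      rw [h5] at h1
      rw [h1, e1, pow_succ, pow_add, pow_succ]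
      ring
    · exact h1
  -- transport to `F^(2d)`
  obtain ⟨e, -⟩ : ∃ e : FiniteField.Extension F p (2 * d) ≃ₗ[F] (Fin (2 * d) → F), True :=
    ⟨(Module.finBasisOfFinrankEq F _ hfr).equivFun, trivial⟩
  obtain ⟨Q', hQ'def⟩ : ∃ Q' : QuadraticForm F (Fin (2 * d) → F),
      Q' = (twQ σ θ).comp (e.symm : (Fin (2 * d) → F) →ₗ[F] FiniteField.Extension F p (2 * d)) :=
    ⟨_, rfl⟩
  have hQ'app : ∀ v, Q' v = twQ σ θ (e.symm v) := by
    intro v
    rw [hQ'def]
    rfl
  have hQ'e : ∀ x, Q' (e x) = twQ σ θ x := by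
    intro x
    rw [hQ'app, LinearEquiv.symm_apply_apply]
  obtain ⟨g, hgdef⟩ : ∃ g : Module.End F (Fin (2 * d) → F),
      g = (e : FiniteField.Extension F p (2 * d) →ₗ[F] (Fin (2 * d) → F)) ∘ₗ
        (LinearMap.mulLeft F ζ) ∘ₗ
        (e.symm : (Fin (2 * d) → F) →ₗ[F] FiniteField.Extension F p (2 * d)) := ⟨_, rfl⟩
  have hgapp : ∀ v, g v = e (ζ * e.symm v) := by
    intro v
    rw [hgdef]
    rfl
  have hgpow : ∀ (n : ℕ) v, (g ^ n) v = e (ζ ^ n * e.symm v) := by
    intro n
    induction n with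
    | zero => intro v; simp
    | succ n ih =>
      intro v
      rw [pow_succ, Module.End.mul_apply, ih, hgapp, LinearEquiv.symm_apply_apply, pow_succ,
        mul_assoc]
  refine ⟨Q', g, ?_, ?_, ?_, ?_, ?_⟩
  · intro v hv
    have h1 : e.symm v = 0 := by
      apply hND
      intro w
      have h2 := hv (e w)
      unfold QuadraticMap.polar at h2 ⊢
      rw [hQ'app, hQ'app, hQ'app, map_add, LinearEquiv.symm_apply_apply] at h2
      exact h2
    have := congrArg e h1
    rw [LinearEquiv.apply_symm_apply, map_zero] at this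
    exact this
  · exact NuS.congr e hQ'e hNu
  · intro v
    rw [hgapp, hQ'e, twQ_mul σ θ hζσ, ← hQ'app]
  · apply LinearMap.ext
    intro v
    rw [hgpow, hζr, one_mul, LinearEquiv.apply_symm_apply]
    rfl
  · intro v hv
    rw [hgapp] at hv
    have h1 := congrArg e.symm hv
    rw [LinearEquiv.symm_apply_apply] at h1
    have h2 : (ζ - 1) * e.symm v = 0 := by linear_combination h1
    have h3 : e.symm v = 0 := (mul_eq_zero.mp h2).resolve_left (sub_ne_zero.mpr hζ1)
    have := congrArg e h3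
    rw [LinearEquiv.apply_symm_apply, map_zero] at this
    exact this

end Cfsg.Agent.Helper7.O2Min
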