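import Mathlib
import Cfsg.Agent.Helper7.O2MinB
import Cfsg.Agent.Helper8.O2OmegaMinus
import Cfsg.Agent.Helper8.O2Pts

set_option autoImplicit false
set_option linter.unusedSectionVars false

/-! Elements of prime order of `Ω⁻_2d(q)`, `q` even, and fixed nonsingular points (helper7, on top of
helper8's characteristic-two orthogonal libraries). -/

namespace Cfsg.Agent.Helper7.O2Min

open Module Matrix Cfsg.Agent.Helper8.StdForms Cfsg.Agent.Helper8.O2 Cfsg.Agent.Helper8.OmegaEven
  Cfsg.Agent.Helper8.ReflMatrix Cfsg.Agent.Helper8.OrT Cfsg.Agent.Helper8.QuadForm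

variable {F : Type*} [Field F] [Fintype F]

local notation "MI" k => (Fin k ⊕ Fin k) ⊕ Fin 2

/-- the number of nonsingular points of the elliptic quadric -/
theorem card_nonsingular_points_minus (k : ℕ) {a b : F}
    (hab : ∀ z₁ z₂ : F, z₁ ^ 2 + a * z₁ * z₂ + b * z₂ ^ 2 = 0 → z₁ = 0 ∧ z₂ = 0) :
    Nat.card {W : Submodule F ((MI k) → F) //
      finrank F W = 1 ∧ ∃ v ∈ W, minusForm F k a b v ≠ 0} =
      Fintype.card F ^ k * (Fintype.card F ^ (k + 1) + 1) := by
  classical
  have h1 := Cfsg.Agent.Helper8.O2P.card_vectors_eq_mul_points (F := F)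
    (fun v : (MI k) → F => minusForm F k a b v ≠ 0)
    (by
      intro h
      exact h (map_zero _))
    (by
      intro c v hc
      rw [QuadraticMap.map_smul, smul_eq_mul]
      constructor
      · intro h h'
        exact h (by rw [h', mul_zero])
      · intro h
        exact mul_ne_zero (mul_ne_zero hc hc) h)
  have hq : 2 ≤ Fintype.card F := Fintype.one_lt_card
  have hnu := nuS_minusForm (F := F) k a b hab
  unfold NuS at hnu
  -- vectors: nonsingular + singular = all
  have htot : Nat.card {v : (MI k) → F // minusForm F k a b v ≠ 0} + lev (minusForm F k a b) 0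
      = Fintype.card F ^ (2 * k + 2) := by
    unfold lev
    rw [Nat.card_eq_fintype_card, Nat.card_eq_fintype_card, add_comm, ← Fintype.card_sum,
      Fintype.card_congr (Equiv.sumCompl (fun v : (MI k) → F => minusForm F k a b v = 0)),
      Fintype.card_fun]
    congr 1
    simp only [Fintype.card_sum, Fintype.card_fin]
    ring
  have hq1 : 0 < Fintype.card F - 1 := by omega
  apply Nat.eq_of_mul_eq_mul_left hq1
  rw [← h1]
  zify at htot ⊢
  rw [Nat.cast_sub (by omega)]
  have e1 : ((Nat.card {v : (MI k) → F // minusForm F k a b v ≠ 0} : ℕ) : ℤ)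
      = (Fintype.card F : ℤ) ^ (2 * k + 2) - (lev (minusForm F k a b) 0 : ℤ) := by
    linear_combination htot
  rw [e1, hnu]
  push_cast
  ring

variable [CharP F 2]

/-- the criterion -/
theorem nonsingular_point_iff_minus (k : ℕ) (hk : 1 ≤ k) {a b : F}
    (hab : ∀ z₁ z₂ : F, z₁ ^ 2 + a * z₁ * z₂ + b * z₂ ^ 2 = 0 → z₁ = 0 ∧ z₂ = 0) (r : ℕ)
    [Fact r.Prime]
    (hrΩ : r ∣ Nat.card {W : Submodule F ((MI k) → F) //
      finrank F W = 1 ∧ ∃ v ∈ W, minusForm F k a b v ≠ 0}) :
    (∀ t : ↥(Cfsg.isometryGroup F ⇑(minusForm F k a b)),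
      t ∈ commutator ↥(Cfsg.isometryGroup F ⇑(minusForm F k a b)) →
      (∃ z : F, (((t : GL (MI k) F) ^ r : GL (MI k) F) : Matrix (MI k) (MI k) F) =
        z • (1 : Matrix (MI k) (MI k) F)) →
      (∀ z : F, ((t : GL (MI k) F) : Matrix (MI k) (MI k) F) ≠ z • (1 : Matrix (MI k) (MI k) F)) →
      ∃ W : Submodule F ((MI k) → F), (finrank F W = 1 ∧ ∃ v ∈ W, minusForm F k a b v ≠ 0) ∧
        W.map (Matrix.toLin' ((t : GL (MI k) F) : Matrix (MI k) (MI k) F)) ≤ W) ↔
      r = 2 := by
  classical
  have hQ := minusForm_nondeg F k hab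
  have hQ' : Nondeg (minusForm F k a b) := (nondeg_iff _).mp hQ
  have hfin : finrank F ((MI k) → F) = 2 * (k + 1) := by rw [finrank_minus]; ring
  obtain ⟨w₁, hw₁⟩ := exists_repr (minusForm F k a b) hQ' (by rw [hfin]; omega) 1
  have hsqone : ∀ c : F, c * c = 1 → c = 1 := by
    intro c h
    have h2 : (2 : F) = 0 := two_eq_zero'
    have h6 : (c - 1) * (c - 1) = 0 := by linear_combination h + (1 - c) * h2
    rcases mul_eq_zero.mp h6 with h | h <;> exact sub_eq_zero.mp h
  -- a scalar isometry is the identity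
  have hscalar : ∀ (t : ↥(Cfsg.isometryGroup F ⇑(minusForm F k a b))) (z : F),
      ((t : GL (MI k) F) : Matrix (MI k) (MI k) F) = z • (1 : Matrix (MI k) (MI k) F) → z = 1 := by
    intro t z hz
    have h2 := Q_mulVec (minusForm F k a b) t w₁
    rw [hz, Matrix.smul_mulVec, Matrix.one_mulVec, QuadraticMap.map_smul, smul_eq_mul, hw₁,
      mul_one] at h2
    exact hsqone z h2
  -- a fixed nonsingular point gives a fixed nonsingular vector
  have hfixvec : ∀ t : ↥(Cfsg.isometryGroup F ⇑(minusForm F k a b)),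
      (∃ W : Submodule F ((MI k) → F), (finrank F W = 1 ∧ ∃ v ∈ W, minusForm F k a b v ≠ 0) ∧
        W.map (Matrix.toLin' ((t : GL (MI k) F) : Matrix (MI k) (MI k) F)) ≤ W) →
      ∃ v, minusForm F k a b v ≠ 0 ∧ ((t : GL (MI k) F) : Matrix (MI k) (MI k) F) *ᵥ v = v := by
    rintro t ⟨W, ⟨hW1, v, hvW, hv⟩, hWt⟩
    refine ⟨v, hv, ?_⟩
    have hv0 : v ≠ 0 := fun h => hv (by rw [h, map_zero])
    have hWspan : W = Submodule.span F {v} := by
      symm
      apply Submodule.eq_of_le_of_finrank_eq
      · rw [Submodule.span_singleton_le_iff_mem]; exact hvW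
      · rw [finrank_span_singleton hv0, hW1]
    have h1 : Matrix.toLin' ((t : GL (MI k) F) : Matrix (MI k) (MI k) F) v ∈ W :=
      hWt ⟨v, hvW, rfl⟩
    rw [hWspan, Matrix.toLin'_apply] at h1
    obtain ⟨c, hc⟩ := Submodule.mem_span_singleton.mp h1
    have h2 := Q_mulVec (minusForm F k a b) t v
    rw [← hc, QuadraticMap.map_smul, smul_eq_mul] at h2
    have h3 : c * c = 1 := by
      have h4 : (c * c - 1) * minusForm F k a b v = 0 := by linear_combination h2
      rcases mul_eq_zero.mp h4 with h | h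
      · exact sub_eq_zero.mp h
      · exact absurd h hv
    rw [← hc, hsqone c h3, one_smul]
  constructor
  · intro hA
    by_contra hr2
    have hrp : r.Prime := Fact.out
    have hrodd : Odd r := hrp.odd_of_ne_two hr2
    -- `r` divides `q^(k+1) + 1`
    rw [card_nonsingular_points_minus k hab] at hrΩ
    have hrdvd : r ∣ Fintype.card F ^ (k + 1) + 1 := by
      rcases (Nat.Prime.dvd_mul hrp).mp hrΩ with h | h
      · exfalso
        have h1 := hrp.dvd_of_dvd_pow h
        obtain ⟨n, hn⟩ := FiniteField.card F 2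
        rw [hn.2] at h1
        have h2 := hrp.dvd_of_dvd_pow h1
        exact hr2 ((Nat.prime_dvd_prime_iff_eq hrp Nat.prime_two).mp h2)
      · exact h
    have : Fact (Nat.Prime 2) := ⟨Nat.prime_two⟩
    obtain ⟨Q₁, g, hND₁, hNu₁, hginv, hgr, hgfix⟩ :=
      exists_model (F := F) 2 (k + 1) (by omega) r hrdvd
    rw [Nat.add_sub_cancel] at hNu₁
    have hV₁ : finrank F (Fin (2 * (k + 1)) → F) = 2 * (k + 1) := by
      rw [Module.finrank_fintype_fun_eq_card, Fintype.card_fin]
    obtain ⟨φ, hφ⟩ := exists_isometry_of_nuS k hV₁ hfin Q₁ (minusForm F k a b) hND₁ hQ' (-1) hNu₁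
      (nuS_minusForm k a b hab)
    -- the transported isometry
    obtain ⟨h, hhdef⟩ : ∃ h : Module.End F ((MI k) → F),
        h = (φ : (Fin (2 * (k + 1)) → F) →ₗ[F] ((MI k) → F)) ∘ₗ g ∘ₗ
          (φ.symm : ((MI k) → F) →ₗ[F] (Fin (2 * (k + 1)) → F)) := ⟨_, rfl⟩
    have hhapp : ∀ v, h v = φ (g (φ.symm v)) := by
      intro v
      rw [hhdef]
      rfl
    have hhpow : ∀ (n : ℕ) v, (h ^ n) v = φ ((g ^ n) (φ.symm v)) := by
      intro n
      induction n with
      | zero => intro v; simp
      | succ n ih =>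
        intro v
        rw [pow_succ, Module.End.mul_apply, ih, hhapp, LinearEquiv.symm_apply_apply, pow_succ,
          Module.End.mul_apply]
    have hhr : h ^ r = 1 := by
      apply LinearMap.ext
      intro v
      rw [hhpow, hgr, Module.End.one_apply, LinearEquiv.apply_symm_apply]
      rfl
    have hhinv : ∀ v, minusForm F k a b (h v) = minusForm F k a b v := by
      intro v
      rw [hhapp, hφ, hginv, ← hφ, LinearEquiv.apply_symm_apply]
    have hhfix : ∀ v, h v = v → v = 0 := by
      intro v hv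
      rw [hhapp] at hv
      have h1 := congrArg φ.symm hv
      rw [LinearEquiv.symm_apply_apply] at h1
      have h2 := hgfix _ h1
      have := congrArg φ h2
      rw [LinearEquiv.apply_symm_apply, map_zero] at this
      exact this
    -- as a matrix
    obtain ⟨T, hTdef⟩ : ∃ T : Matrix (MI k) (MI k) F, T = LinearMap.toMatrix' h := ⟨_, rfl⟩
    have hTpow : ∀ n : ℕ, T ^ n = LinearMap.toMatrix' (h ^ n) := by
      intro n
      induction n with
      | zero => rw [pow_zero, pow_zero, Module.End.one_eq_id, LinearMap.toMatrix'_id]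
      | succ n ih => rw [pow_succ, pow_succ, ih, hTdef, Module.End.mul_eq_comp,
          LinearMap.toMatrix'_comp]
    have hTr : T ^ r = 1 := by
      rw [hTpow, hhr, Module.End.one_eq_id, LinearMap.toMatrix'_id]
    have hTv : ∀ v, T *ᵥ v = h v := by
      intro v
      rw [hTdef, LinearMap.toMatrix'_mulVec]
    have hr1 : 1 ≤ r := hrp.one_le
    have hTT' : T * T ^ (r - 1) = 1 := by
      rw [← pow_succ', Nat.sub_add_cancel hr1, hTr]
    have hT'T : T ^ (r - 1) * T = 1 := by
      rw [← pow_succ, Nat.sub_add_cancel hr1, hTr]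
    obtain ⟨t, htdef⟩ : ∃ t : ↥(Cfsg.isometryGroup F ⇑(minusForm F k a b)),
        ((t : GL (MI k) F) : Matrix (MI k) (MI k) F) = T :=
      ⟨⟨⟨T, T ^ (r - 1), hTT', hT'T⟩, fun u _ => by
        show minusForm F k a b (T *ᵥ u) = minusForm F k a b u
        rw [hTv, hhinv]⟩, rfl⟩
    have htr : t ^ r = 1 := by
      apply Subtype.ext
      apply Units.ext
      show ((t : GL (MI k) F) : Matrix (MI k) (MI k) F) ^ r = 1
      rw [htdef, hTr]
    have hmem : t ∈ commutator ↥(Cfsg.isometryGroup F ⇑(minusForm F k a b)) := by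
      rw [mem_omega_minus_iff hab]
      have h1 : (dicksonMat (minusForm F k a b) two_eq_zero' hQ t) ^ r = 1 := by
        rw [← map_pow, htr, map_one]
      rcases Int.units_eq_one_or (dicksonMat (minusForm F k a b) two_eq_zero' hQ t) with h | h
      · exact h
      · rw [h, hrodd.neg_one_pow] at h1
        exact absurd h1 (by decide)
    obtain ⟨v, hv, htv⟩ := hfixvec t (hA t hmem (by
        refine ⟨1, ?_⟩
        rw [one_smul]
        have := congrArg (fun y : ↥(Cfsg.isometryGroup F ⇑(minusForm F k a b)) =>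
          ((y : GL (MI k) F) : Matrix (MI k) (MI k) F)) htr
        exact this) (by
        intro z hz
        have hz1 := hscalar t z hz
        rw [hz1, one_smul, htdef] at hz
        have h3 : h w₁ = w₁ := by rw [← hTv, hz, Matrix.one_mulVec]
        have h4 := hhfix w₁ h3
        rw [h4, map_zero] at hw₁
        exact zero_ne_one hw₁))
    rw [htdef, hTv] at htv
    have := hhfix v htv
    exact hv (by rw [this, map_zero])
  · intro hr2 t htO ⟨z, hz⟩ hns
    have hsq : t ^ 2 = 1 := by
      have h2 : (((t ^ 2 : ↥(Cfsg.isometryGroup F ⇑(minusForm F k a b))) : GL (MI k) F) :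
          Matrix (MI k) (MI k) F) = z • 1 := by
        rw [← hz, hr2]
        rfl
      have h5 : z = 1 := hscalar (t ^ 2) z h2
      apply Subtype.ext
      apply Units.ext
      rw [h2, h5, one_smul]
      rfl
    obtain ⟨v, hv, htv⟩ := exists_fixed_minus hab t hsq
    have hv0 : v ≠ 0 := fun h => hv (by rw [h, map_zero])
    refine ⟨Submodule.span F {v}, ⟨finrank_span_singleton hv0, v,
      Submodule.mem_span_singleton_self v, hv⟩, ?_⟩
    rw [Submodule.map_span_le]
    intro w hw
    rw [Set.mem_singleton_iff] at hw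
    rw [hw, Matrix.toLin'_apply, htv]
    exact Submodule.mem_span_singleton_self v

end Cfsg.Agent.Helper7.O2Min
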