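import Mathlib
import Cfsg.Agent.Helper7.OFxA

set_option autoImplicit false
set_option linter.unusedSectionVars false
set_option linter.unusedVariables false

/-!
# The `L`-structure of an orthogonal structure

The type synonym `VL h` carries the `L = F(√ζ)`-module structure `ω • v = δ v`.
-/

namespace Cfsg.Agent.Helper7.OFx

open Module QuadraticAlgebra

universe u

variable {F : Type u} [Field F] {V : Type u} [AddCommGroup V] [Module F V]
  {Q : QuadraticForm F V} {δ : Module.End F V} {ζ : F}

/-- the algebra map `L → End V`. -/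
noncomputable def liftL (h : OS Q δ ζ) : LF ζ →ₐ[F] Module.End F V :=
  QuadraticAlgebra.lift ⟨δ, by rw [h.mul_self, zero_smul, add_zero]⟩

theorem liftL_apply (h : OS Q δ ζ) (a : LF ζ) (v : V) : liftL h a v = a.re • v + a.im • δ v := by
  unfold liftL
  rw [QuadraticAlgebra.lift_apply_apply]
  simp

/-- the type synonym carrying the `L`-structure. -/
def VL (h : OS Q δ ζ) : Type u := V

instance (h : OS Q δ ζ) : AddCommGroup (VL h) := inferInstanceAs (AddCommGroup V)

instance (h : OS Q δ ζ) : Module F (VL h) := inferInstanceAs (Module F V)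

noncomputable instance instModL (h : OS Q δ ζ) : Module (LF ζ) (VL h) :=
  Module.compHom V (liftL h).toRingHom

/-- the identification. -/
def toVL (h : OS Q δ ζ) : V ≃ₗ[F] VL h := LinearEquiv.refl F V

theorem smul_VL (h : OS Q δ ζ) (a : LF ζ) (v : VL h) :
    a • v = toVL h (a.re • (toVL h).symm v + a.im • δ ((toVL h).symm v)) :=
  liftL_apply h a v

instance (h : OS Q δ ζ) : IsScalarTower F (LF ζ) (VL h) := by
  refine ⟨fun c a v => ?_⟩
  rw [smul_VL, smul_VL]
  simp only [QuadraticAlgebra.re_smul, QuadraticAlgebra.im_smul, smul_eq_mul, map_add, map_smul, smul_add,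
    smul_smul]

end Cfsg.Agent.Helper7.OFx
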