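import Mathlib
import Cfsg.Agent.Helper7.OFxB

set_option autoImplicit false
set_option linter.unusedSectionVars false
set_option linter.unusedVariables false

/-!
# The `L`-valued form of an orthogonal structure
-/

namespace Cfsg.Agent.Helper7.OFx

open Module QuadraticAlgebra Cfsg.Agent.Helper1.SSCent

universe u

variable {F : Type u} [Field F] {V : Type u} [AddCommGroup V] [Module F V]
  {Q : QuadraticForm F V} {δ : Module.End F V} {ζ : F}

theorem omega_smul (h : OS Q δ ζ) (v : VL h) : (ω : LF ζ) • v = toVL h (δ ((toVL h).symm v)) := by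
  rw [smul_VL]
  simp

/-- the polar form on the synonym. -/
def BF (h : OS Q δ ζ) : VL h →ₗ[F] VL h →ₗ[F] F := QuadraticMap.polarBilin Q

theorem BF_apply (h : OS Q δ ζ) (u v : VL h) :
    BF h u v = QuadraticMap.polar Q ((toVL h).symm u) ((toVL h).symm v) := rfl

theorem BF_sa (h : OS Q δ ζ) (a : LF ζ) (u v : VL h) : BF h (a • u) v = BF h u (a • v) := by
  rw [smul_VL, smul_VL, BF_apply, BF_apply]
  simp only [LinearEquiv.symm_apply_apply]
  rw [QuadraticMap.polar_add_left, QuadraticMap.polar_add_right, QuadraticMap.polar_smul_left,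
    QuadraticMap.polar_smul_left, QuadraticMap.polar_smul_right, QuadraticMap.polar_smul_right, h.sa]

/-- the real part. -/
def reL (ζ : F) : LF ζ →ₗ[F] F := QuadraticAlgebra.reₗ ζ 0

theorem reL_apply (a : LF ζ) : reL ζ a = a.re := rfl

theorem reL_ne_zero : reL ζ ≠ 0 := by
  intro h0
  have := congrArg (fun f : LF ζ →ₗ[F] F => f 1) h0
  simp [reL_apply] at this

variable [hfact : Fact (∀ r : F, r ^ 2 ≠ ζ + 0 * r)]

/-- the `L`-bilinear form. -/
noncomputable def BL (h : OS Q δ ζ) : VL h →ₗ[LF ζ] VL h →ₗ[LF ζ] LF ζ :=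
  BK (reL ζ) reL_ne_zero (BF h) (BF_sa h)

theorem BL_re (h : OS Q δ ζ) (u v : VL h) : (BL h u v).re = BF h u v :=
  (BK_spec (reL ζ) reL_ne_zero (BF h) (BF_sa h) u v).symm

theorem BL_spec (h : OS Q δ ζ) (u v : VL h) (a : LF ζ) : BF h (a • u) v = (BL h u v * a).re :=
  bk_spec (reL ζ) reL_ne_zero (BF h) u v a

theorem BL_im (h : OS Q δ ζ) (u v : VL h) : ζ * (BL h u v).im = BF h ((ω : LF ζ) • u) v := by
  rw [BL_spec]
  simp

theorem BL_unique (h : OS Q δ ζ) (u v : VL h) {c : LF ζ} (hc : ∀ a : LF ζ, BF h (a • u) v = (c * a).re) :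
    BL h u v = c :=
  bk_unique (reL ζ) reL_ne_zero (BF h) u v hc

theorem BF_symm (h : OS Q δ ζ) (u v : VL h) : BF h u v = BF h v u :=
  QuadraticMap.polar_comm Q _ _

theorem BL_symm (h : OS Q δ ζ) (u v : VL h) : BL h u v = BL h v u := by
  apply BL_unique
  intro a
  rw [BF_symm, ← BF_sa, BL_spec]

/-- the value of the `L`-form in coordinates. -/
theorem BL_eq (h : OS Q δ ζ) (u v : VL h) :
    BL h u v = ⟨BF h u v, ζ⁻¹ * BF h ((ω : LF ζ) • u) v⟩ := by
  ext
  · exact BL_re h u v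
  · show (BL h u v).im = ζ⁻¹ * BF h ((ω : LF ζ) • u) v
    rw [← BL_im, ← mul_assoc, inv_mul_cancel₀ h.zeta_ne_zero, one_mul]

theorem BL_nondeg (h : OS Q δ ζ) (hnd : ∀ u : V, (∀ v, QuadraticMap.polar Q u v = 0) → u = 0)
    (u : VL h) (hu : ∀ v, BL h u v = 0) : u = 0 :=
  BK_nondeg (reL ζ) reL_ne_zero (BF h) (BF_sa h) hnd u hu

theorem two_ne_zero_LF (h2 : (2 : F) ≠ 0) : (2 : LF ζ) ≠ 0 := by
  intro h0
  have := congrArg QuadraticAlgebra.re h0
  simp at this
  exact h2 this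

/-- the `L`-quadratic form. -/
noncomputable def QL (h : OS Q δ ζ) : QuadraticForm (LF ζ) (VL h) :=
  (2⁻¹ : LF ζ) • LinearMap.BilinMap.toQuadraticMap (BL h)

theorem QL_apply (h : OS Q δ ζ) (v : VL h) : QL h v = 2⁻¹ * BL h v v := rfl

theorem polar_QL (h2 : (2 : F) ≠ 0) (h : OS Q δ ζ) (u v : VL h) :
    QuadraticMap.polar (QL h) u v = BL h u v := by
  unfold QuadraticMap.polar
  rw [QL_apply, QL_apply, QL_apply]
  simp only [map_add, LinearMap.add_apply]
  rw [BL_symm h v u]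
  have h2' := two_ne_zero_LF (ζ := ζ) h2
  field_simp
  ring

end Cfsg.Agent.Helper7.OFx
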