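import Mathlib
import Cfsg.Agent.Helper7.OFxC

set_option autoImplicit false
set_option linter.unusedSectionVars false
set_option linter.unusedVariables false

/-!
# Orthogonal structures: dimensions, subspaces, representation of scalars
-/

namespace Cfsg.Agent.Helper7.OFx

open Module QuadraticAlgebra Cfsg.Agent.Helper7.SpOrd

universe u

variable {F : Type u} [Field F] {V : Type u} [AddCommGroup V] [Module F V]
  {Q : QuadraticForm F V} {δ : Module.End F V} {ζ : F}

section fin

variable [hfact : Fact (∀ r : F, r ^ 2 ≠ ζ + 0 * r)]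

theorem two_mul_QL (h2 : (2 : F) ≠ 0) (h : OS Q δ ζ) (v : VL h) : 2 * QL h v = BL h v v := by
  rw [QL_apply, ← mul_assoc, mul_inv_cancel₀ (two_ne_zero_LF h2), one_mul]

theorem QL_re (h2 : (2 : F) ≠ 0) (h : OS Q δ ζ) (v : VL h) : (QL h v).re = Q ((toVL h).symm v) := by
  have h1 := congrArg QuadraticAlgebra.re (two_mul_QL h2 h v)
  rw [BL_re, BF_apply] at h1
  have h3 : QuadraticMap.polar Q ((toVL h).symm v) ((toVL h).symm v) = 2 * Q ((toVL h).symm v) := by
    rw [QuadraticMap.polar_self, two_smul, two_mul]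
  rw [h3] at h1
  have h4 : ((2 : LF ζ) * QL h v).re = 2 * (QL h v).re := by simp
  rw [h4] at h1
  exact mul_left_cancel₀ h2 h1

instance finiteDimensional_VL [FiniteDimensional F V] (h : OS Q δ ζ) : FiniteDimensional (LF ζ) (VL h) :=
  haveI : FiniteDimensional F (VL h) := inferInstanceAs (FiniteDimensional F V)
  Module.Finite.of_restrictScalars_finite F (LF ζ) (VL h)

theorem finrank_LF : finrank F (LF ζ) = 2 := QuadraticAlgebra.finrank_eq_two ζ 0

theorem finrank_VL [FiniteDimensional F V] (h : OS Q δ ζ) : 2 * finrank (LF ζ) (VL h) = finrank F V := by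
  have := Module.finrank_mul_finrank F (LF ζ) (VL h)
  rw [finrank_LF] at this
  exact this

end fin

end Cfsg.Agent.Helper7.OFx
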