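import Mathlib
import Cfsg.Agent.Helper7.OFxD

set_option autoImplicit false
set_option linter.unusedSectionVars false
set_option linter.unusedVariables false

/-!
# Orthogonal structures: the sign of the `L`-form
-/

namespace Cfsg.Agent.Helper7.OFx

open Module QuadraticAlgebra Cfsg.Agent.Helper7.SpOrd Cfsg.Agent.Helper8.OrT Cfsg.Agent.Helper7.OpTS
  Cfsg.Agent.Helper8.QuadForm

universe u

variable {F : Type u} [Field F] [Fintype F] {V : Type u} [AddCommGroup V] [Module F V]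
  {Q : QuadraticForm F V} {δ : Module.End F V} {ζ : F}

noncomputable instance fintypeLF : Fintype (LF ζ) := Fintype.ofEquiv (F × F) (QuadraticAlgebra.equivProd ζ 0).symm

theorem card_LF : Fintype.card (LF ζ) = Fintype.card F ^ 2 := by
  rw [Fintype.card_congr (QuadraticAlgebra.equivProd ζ 0), Fintype.card_prod, sq]

variable [hfact : Fact (∀ r : F, r ^ 2 ≠ ζ + 0 * r)]

/-- nondegeneracy of the `L`-form. -/
theorem nd_QL (h2 : (2 : F) ≠ 0) (h : OS Q δ ζ) (hV : ND (QuadraticMap.polarBilin Q) ⊤) :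
    ND (QuadraticMap.polarBilin (QL h)) ⊤ := by
  intro u _ hu
  by_contra hcon
  push Not at hcon
  apply hu
  apply BL_nondeg h (fun u hu' => ?_) u (fun v => ?_)
  · by_contra hu0
    obtain ⟨w, -, hw⟩ := hV u Submodule.mem_top hu0
    exact hw (hu' w)
  · rw [← polar_QL h2]
    exact hcon v Submodule.mem_top

/-- the singular vectors of `Q`, fibred over the imaginary part of `QL`. -/
theorem lev_zero_eq_sum (h2 : (2 : F) ≠ 0) [FiniteDimensional F V] (h : OS Q δ ζ) :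
    lev Q 0 = ∑ t : F, lev (QL h) (⟨0, t⟩ : LF ζ) := by
  classical
  haveI : Finite V := Module.finite_of_finite F
  haveI : Finite (VL h) := ‹Finite V›
  unfold lev
  rw [← Nat.card_sigma]
  refine Nat.card_congr ?_
  refine
    { toFun := fun v => ⟨(QL h (toVL h v.1)).im, ⟨toVL h v.1, ?_⟩⟩
      invFun := fun x => ⟨(toVL h).symm x.2.1, ?_⟩
      left_inv := fun v => rfl
      right_inv := ?_ }
  · ext
    · show (QL h (toVL h v.1)).re = 0
      rw [QL_re h2]
      exact v.2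
    · rfl
  · have := QL_re h2 h x.2.1
    rw [x.2.2] at this
    exact this.symm
  · rintro ⟨t, v, hv⟩
    have : (QL h v).im = t := by rw [hv]
    subst this
    rfl

theorem mk_ne_zero {t : F} (ht : t ≠ 0) : (⟨0, t⟩ : LF ζ) ≠ 0 := by
  intro h0
  exact ht (congrArg QuadraticAlgebra.im h0)

/-- **the sign of the `L`-form is the sign of `Q`** (even `L`-dimension). -/
theorem sg_QL (h2 : (2 : F) ≠ 0) [FiniteDimensional F V] (h : OS Q δ ζ)
    (hV : ND (QuadraticMap.polarBilin Q) ⊤) {m : ℕ} (hd : finrank F V = 4 * (m + 1)) :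
    sg (QL h) ⊤ = sg Q ⊤ := by
  classical
  have hL : finrank (LF ζ) (VL h) = 2 * (m + 1) := by
    have := finrank_VL h
    omega
  have hndL := nd_QL h2 h hV
  have n1 : NuS (sg Q ⊤) Q (2 * m + 1) := nuS_top hV (by rw [hd]; ring)
  have n2 : NuS (sg (QL h) ⊤) (QL h) m := nuS_top hndL hL
  unfold NuS at n1 n2
  rw [card_LF] at n2
  push_cast at n2
  have hsum := lev_zero_eq_sum h2 h
  rw [← Finset.add_sum_erase Finset.univ _ (Finset.mem_univ (0 : F))] at hsum
  have hlev : ∀ t ∈ Finset.univ.erase (0 : F),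
      (lev (QL h) (⟨0, t⟩ : LF ζ) : ℤ) * ((Fintype.card F : ℤ) ^ 2 - 1) =
        (Fintype.card F : ℤ) ^ (4 * (m + 1)) - (lev (QL h) 0 : ℤ) := by
    intro t ht
    have ht0 : t ≠ 0 := Finset.ne_of_mem_erase ht
    have := Cfsg.Agent.Helper7.QMi.card_level_add (two_ne_zero_LF (ζ := ζ) h2) hndL hL (mk_ne_zero (ζ := ζ) ht0)
    rw [card_LF] at this
    have hq1 : 1 ≤ Fintype.card F ^ 2 := Nat.one_le_pow _ _ Fintype.card_pos
    have h3 : ((Nat.card {v : VL h // QL h v = (⟨0, t⟩ : LF ζ)} * (Fintype.card F ^ 2 - 1) +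
        Nat.card {v : VL h // QL h v = 0} : ℕ) : ℤ) = (((Fintype.card F ^ 2) ^ (2 * (m + 1)) : ℕ) : ℤ) := by
      rw [this]
    push_cast [hq1] at h3
    unfold lev
    rw [← pow_mul] at h3
    have e : 2 * (2 * (m + 1)) = 4 * (m + 1) := by ring
    rw [e] at h3
    linarith
  have hsum' : ((lev Q 0 : ℤ) - (lev (QL h) 0 : ℤ)) * ((Fintype.card F : ℤ) ^ 2 - 1) =
      ((Fintype.card F : ℤ) - 1) * ((Fintype.card F : ℤ) ^ (4 * (m + 1)) - (lev (QL h) 0 : ℤ)) := by
    have e0 : ((⟨0, 0⟩ : LF ζ)) = 0 := rfl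
    rw [e0] at hsum
    rw [hsum]
    push_cast
    rw [add_sub_cancel_left, Finset.sum_mul, Finset.sum_congr rfl hlev, Finset.sum_const,
      Finset.card_erase_of_mem (Finset.mem_univ _), Finset.card_univ, nsmul_eq_mul]
    have hq1 : 1 ≤ Fintype.card F := Fintype.card_pos
    push_cast [hq1]
    ring
  rw [n1, n2] at hsum'
  have hq : (2 : ℤ) ≤ (Fintype.card F : ℤ) := by exact_mod_cast two_le_q (F := F)
  obtain ⟨q, hqdef⟩ : ∃ q : ℤ, q = (Fintype.card F : ℤ) := ⟨_, rfl⟩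
  rw [← hqdef] at hsum' hq
  have key : (sg Q ⊤ - sg (QL h) ⊤) * ((q - 1) * (q ^ (2 * m + 3) - q ^ (2 * m + 1))) = 0 := by
    have e1 : (q ^ 2) ^ (2 * m + 1) = q ^ (4 * m + 2) := by rw [← pow_mul]; ring_nf
    have e2 : (q ^ 2) ^ (m + 1) = q ^ (2 * m + 2) := by rw [← pow_mul]; ring_nf
    have e3 : (q ^ 2) ^ m = q ^ (2 * m) := by rw [← pow_mul]
    rw [e1, e2, e3] at hsum'
    have e4 : 2 * (2 * m + 1) + 1 = 4 * m + 3 := by ring
    have e5 : 2 * m + 1 + 1 = 2 * m + 2 := by ring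
    have e6 : 4 * (m + 1) = 4 * m + 4 := by ring
    rw [e4, e5, e6] at hsum'
    have p1 : q ^ (4 * m + 3) = q ^ (4 * m + 2) * q := by ring
    have p2 : q ^ (4 * m + 4) = q ^ (4 * m + 2) * q ^ 2 := by ring
    have p3 : q ^ (2 * m + 2) = q ^ (2 * m) * q ^ 2 := by ring
    have p4 : q ^ (2 * m + 1) = q ^ (2 * m) * q := by ring
    have p5 : q ^ (2 * m + 3) = q ^ (2 * m) * q ^ 3 := by ring
    rw [p1, p2, p3, p4] at hsum'
    rw [p5, p4]
    linear_combination hsum'
  have hne : (q - 1) * (q ^ (2 * m + 3) - q ^ (2 * m + 1)) ≠ 0 := by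
    have h1 : (0 : ℤ) < q - 1 := by linarith
    have h3 : q ^ (2 * m + 3) - q ^ (2 * m + 1) = q ^ (2 * m + 1) * (q ^ 2 - 1) := by ring
    have h4 : (0 : ℤ) < q ^ (2 * m + 1) := by positivity
    have h5 : (0 : ℤ) < q ^ 2 - 1 := by nlinarith
    rw [h3]
    positivity
  have := (mul_eq_zero.mp key).resolve_right hne
  linarith

end Cfsg.Agent.Helper7.OFx
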