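import Mathlib
import Cfsg.Agent.Helper7.OFxE

set_option autoImplicit false
set_option linter.unusedSectionVars false
set_option linter.unusedVariables false

/-!
# Orthogonal structures: vectors with prescribed data in invariant subspaces
-/

namespace Cfsg.Agent.Helper7.OFx

open Module QuadraticAlgebra Cfsg.Agent.Helper7.SpOrd Cfsg.Agent.Helper8.QuadForm

universe u

variable {F : Type u} [Field F] [Fintype F] {V : Type u} [AddCommGroup V] [Module F V]
  {Q : QuadraticForm F V} {δ : Module.End F V} {ζ : F}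

/-- the `L`-subspace with the same carrier as a `δ`-invariant subspace. -/
def subL (h : OS Q δ ζ) (W : Submodule F V) (hW : W ∈ Module.End.invtSubmodule δ) :
    Submodule (LF ζ) (VL h) where
  carrier := {v | (toVL h).symm v ∈ W}
  add_mem' := fun {a b} ha hb => W.add_mem ha hb
  zero_mem' := W.zero_mem
  smul_mem' := by
    intro a v hv
    rw [Set.mem_setOf_eq, smul_VL, LinearEquiv.symm_apply_apply]
    rw [Module.End.mem_invtSubmodule] at hW
    exact W.add_mem (W.smul_mem _ hv) (W.smul_mem _ (hW hv))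

theorem mem_subL (h : OS Q δ ζ) (W : Submodule F V) (hW : W ∈ Module.End.invtSubmodule δ) (v : VL h) :
    v ∈ subL h W hW ↔ (toVL h).symm v ∈ W := Iff.rfl

/-- the `F`-linear identification of the two subspaces. -/
def subLEquiv (h : OS Q δ ζ) (W : Submodule F V) (hW : W ∈ Module.End.invtSubmodule δ) :
    ↥(subL h W hW) ≃ₗ[F] ↥W where
  toFun v := ⟨(toVL h).symm v.1, v.2⟩
  invFun w := ⟨toVL h w.1, w.2⟩
  left_inv v := rfl
  right_inv w := rfl
  map_add' a b := rfl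
  map_smul' c a := rfl

variable [hfact : Fact (∀ r : F, r ^ 2 ≠ ζ + 0 * r)]

theorem finrank_subL [FiniteDimensional F V] (h : OS Q δ ζ) (W : Submodule F V)
    (hW : W ∈ Module.End.invtSubmodule δ) : 2 * finrank (LF ζ) ↥(subL h W hW) = finrank F ↥W := by
  have := Module.finrank_mul_finrank F (LF ζ) ↥(subL h W hW)
  rw [finrank_LF, (subLEquiv h W hW).finrank_eq] at this
  exact this

/-- nondegeneracy of the restriction. -/
theorem nondeg_subL (h2 : (2 : F) ≠ 0) (h : OS Q δ ζ) (W : Submodule F V)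
    (hW : W ∈ Module.End.invtSubmodule δ) (hWnd : ND (QuadraticMap.polarBilin Q) W) :
    Nondeg ((QL h).comp (subL h W hW).subtype) := by
  intro v hv
  by_contra hv0
  have hv0' : (toVL h).symm v.1 ≠ 0 := fun h0 => hv0 (Subtype.ext h0)
  obtain ⟨w, hw, hvw⟩ := hWnd _ v.2 hv0'
  apply hvw
  have h1 := hv ⟨toVL h w, hw⟩
  rw [polar_comp_subtype, polar_QL h2] at h1
  have h3 := congrArg QuadraticAlgebra.re h1
  rw [BL_re] at h3
  exact h3

/-- the data of a vector: `B v v` and `B (δ v) v` from the value of the `L`-form. -/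
theorem data_of_QL (h2 : (2 : F) ≠ 0) (h : OS Q δ ζ) (v : VL h) :
    QuadraticMap.polar Q ((toVL h).symm v) ((toVL h).symm v) = (2 * QL h v).re ∧
      QuadraticMap.polar Q (δ ((toVL h).symm v)) ((toVL h).symm v) = ζ * (2 * QL h v).im := by
  rw [two_mul_QL h2]
  refine ⟨(BL_re h v v).symm, ?_⟩
  rw [BL_im, omega_smul]
  rfl

/-- **vectors with prescribed data** in an invariant nondegenerate subspace of dimension at least four. -/
theorem exists_vec_of_data (h2 : (2 : F) ≠ 0) [FiniteDimensional F V] (h : OS Q δ ζ) (W : Submodule F V)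
    (hW : W ∈ Module.End.invtSubmodule δ) (hWnd : ND (QuadraticMap.polarBilin Q) W)
    (hdim : 4 ≤ finrank F ↥W) (s t : F) :
    ∃ v ∈ W, QuadraticMap.polar Q v v = s ∧ QuadraticMap.polar Q (δ v) v = t := by
  have hfr := finrank_subL h W hW
  obtain ⟨v, hv⟩ := exists_repr ((QL h).comp (subL h W hW).subtype) (nondeg_subL h2 h W hW hWnd)
    (by omega) ((2 : LF ζ)⁻¹ * ⟨s, ζ⁻¹ * t⟩)
  refine ⟨(toVL h).symm v.1, v.2, ?_⟩
  have hv' : QL h v.1 = (2 : LF ζ)⁻¹ * ⟨s, ζ⁻¹ * t⟩ := hv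
  obtain ⟨e1, e2⟩ := data_of_QL h2 h v.1
  have e3 : 2 * QL h v.1 = (⟨s, ζ⁻¹ * t⟩ : LF ζ) := by
    rw [hv', ← mul_assoc, mul_inv_cancel₀ (two_ne_zero_LF h2), one_mul]
  rw [e3] at e1 e2
  refine ⟨e1, ?_⟩
  rw [e2]
  show ζ * (ζ⁻¹ * t) = t
  rw [← mul_assoc, mul_inv_cancel₀ h.zeta_ne_zero, one_mul]

/-- **normalised vectors in an invariant nondegenerate plane**: data `(1, 0)` or the data of a fixed nonsquare. -/
theorem exists_vec_plane (h2 : (2 : F) ≠ 0) [FiniteDimensional F V] (h : OS Q δ ζ) (W : Submodule F V)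
    (hW : W ∈ Module.End.invtSubmodule δ) (hWnd : ND (QuadraticMap.polarBilin Q) W)
    (hdim : finrank F ↥W = 2) {ε : LF ζ} (hε : ¬ IsSquare ε) :
    ∃ v ∈ W, (QuadraticMap.polar Q v v = 1 ∧ QuadraticMap.polar Q (δ v) v = 0) ∨
      (QuadraticMap.polar Q v v = ε.re ∧ QuadraticMap.polar Q (δ v) v = ζ * ε.im) := by
  have hfr : finrank (LF ζ) ↥(subL h W hW) = 1 := by
    have := finrank_subL h W hW
    omega
  have hnd := nondeg_subL h2 h W hW hWnd
  have h2L := two_ne_zero_LF (ζ := ζ) h2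
  obtain ⟨v₀, hv₀, hspan⟩ := finrank_eq_one_iff'.mp hfr
  have hβ : 2 * QL h v₀.1 ≠ 0 := by
    intro h0
    apply hv₀
    apply hnd
    intro w
    obtain ⟨a, ha⟩ := hspan w
    rw [polar_comp_subtype, ← ha, polar_QL h2, Submodule.coe_smul, map_smul, smul_eq_mul, ← two_mul_QL h2, h0,
      mul_zero]
  have hε0 : ε ≠ 0 := fun h0 => hε (h0 ▸ IsSquare.zero)
  have key : ∀ c : LF ζ, c ≠ 0 → ∀ target : LF ζ, c * c * (2 * QL h v₀.1) = target →
      (toVL h).symm (c • v₀.1) ∈ W ∧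
      QuadraticMap.polar Q ((toVL h).symm (c • v₀.1)) ((toVL h).symm (c • v₀.1)) = target.re ∧
      QuadraticMap.polar Q (δ ((toVL h).symm (c • v₀.1))) ((toVL h).symm (c • v₀.1)) = ζ * target.im := by
    intro c hc target htar
    refine ⟨(subL h W hW).smul_mem c v₀.2, ?_⟩
    have := data_of_QL h2 h (c • v₀.1)
    rw [QuadraticMap.map_smul, smul_eq_mul] at this
    have e : 2 * (c * c * QL h v₀.1) = target := by rw [← htar]; ring
    rw [e] at this
    exact this
  by_cases hsq : IsSquare (2 * QL h v₀.1)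
  · obtain ⟨c, hc⟩ := hsq
    have hc0 : c ≠ 0 := by
      rintro rfl
      rw [mul_zero] at hc
      exact hβ hc
    obtain ⟨m1, m2, m3⟩ := key c⁻¹ (inv_ne_zero hc0) 1 (by rw [hc]; field_simp)
    refine ⟨_, m1, Or.inl ⟨?_, ?_⟩⟩
    · rw [m2]; rfl
    · rw [m3]
      show ζ * (1 : LF ζ).im = 0
      simp
  · obtain ⟨c, hc⟩ := Cfsg.Agent.Helper8.OmegaOdd.isSquare_mul_of_not hβ hsq hε
    have hc0 : c ≠ 0 := by
      rintro rfl
      rw [mul_zero] at hc
      exact mul_ne_zero hβ hε0 hc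
    obtain ⟨m1, m2, m3⟩ := key (c⁻¹ * ε) (mul_ne_zero (inv_ne_zero hc0) hε0) ε (by
      have : c⁻¹ * ε * (c⁻¹ * ε) * (2 * QL h v₀.1) = (2 * QL h v₀.1 * ε) * ε * (c * c)⁻¹ := by
        field_simp
      rw [this, hc, mul_comm (c * c) ε, mul_assoc, mul_inv_cancel₀ (mul_ne_zero hc0 hc0), mul_one])
    exact ⟨_, m1, Or.inr ⟨m2, m3⟩⟩

/-- a nonsquare of `L` of norm `ζ`. -/
theorem exists_eps (hodd : Fintype.card F % 2 = 1) :
    ∃ ε : LF ζ, ¬ IsSquare ε ∧ ε.re ^ 2 - ζ * ε.im ^ 2 = ζ := by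
  classical
  have hζ : ¬ IsSquare ζ := by
    rintro ⟨r, hr⟩
    exact hfact.out r (by rw [zero_mul, add_zero, hr, sq])
  have hζ0 : ζ ≠ 0 := by
    intro h0
    apply hζ
    rw [h0]
    exact ⟨0, by ring⟩
  obtain ⟨a, b, hab⟩ := FiniteField.exists_root_sum_quadratic (R := F)
    (f := Polynomial.X ^ 2 - Polynomial.C ζ) (g := -(Polynomial.C ζ * Polynomial.X ^ 2))
    (Polynomial.degree_X_pow_sub_C (by norm_num) ζ)
    (by
      rw [Polynomial.degree_neg, Polynomial.degree_C_mul_X_pow 2 hζ0]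
      rfl) hodd
  simp only [Polynomial.eval_sub, Polynomial.eval_pow, Polynomial.eval_X, Polynomial.eval_C, Polynomial.eval_neg,
    Polynomial.eval_mul] at hab
  have hnorm : a ^ 2 - ζ * b ^ 2 = ζ := by linear_combination hab
  refine ⟨⟨a, b⟩, ?_, hnorm⟩
  rintro ⟨c, hc⟩
  apply hζ
  have h1 : a = c.re * c.re + ζ * c.im * c.im := by
    have := congrArg QuadraticAlgebra.re hc
    simpa using this
  have h3 : b = c.re * c.im + c.im * c.re := by
    have := congrArg QuadraticAlgebra.im hc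
    simpa using this
  obtain ⟨x, hx⟩ : ∃ x : F, x = c.re := ⟨_, rfl⟩
  obtain ⟨y, hy⟩ : ∃ y : F, y = c.im := ⟨_, rfl⟩
  rw [← hx, ← hy] at h1 h3
  refine ⟨x ^ 2 - ζ * y ^ 2, ?_⟩
  rw [h1, h3] at hnorm
  linear_combination -hnorm

end Cfsg.Agent.Helper7.OFx
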