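import Mathlib
import Cfsg.Agent.Helper7.OFxF
import Cfsg.Agent.Helper8.Reflections

set_option autoImplicit false
set_option linter.unusedSectionVars false
set_option linter.unusedVariables false

/-!
# Orthogonal structures: the black boxes for conjugacy, and the spinor coset element
-/

namespace Cfsg.Agent.Helper7.OFx

open Module QuadraticAlgebra Cfsg.Agent.Helper7.SpOrd Cfsg.Agent.Helper8.QuadForm Cfsg.Agent.Helper8.Reflections

universe u

variable {F : Type u} [Field F] [Fintype F] {V : Type u} [AddCommGroup V] [Module F V] [FiniteDimensional F V]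
  {Q : QuadraticForm F V} {ζ : F}

/-- black box `hK2`. -/
theorem exists_unit_vec (h2 : (2 : F) ≠ 0) (δ : Module.End F V) (h : OS Q δ ζ) (W : Submodule F V)
    (hW : W ∈ Module.End.invtSubmodule δ) (hWnd : ND (QuadraticMap.polarBilin Q) W)
    (hdim : 4 ≤ finrank F ↥W) :
    ∃ v ∈ W, QuadraticMap.polar Q v v = 1 ∧ QuadraticMap.polar Q (δ v) v = 0 := by
  haveI := fact_LF h.nsq
  exact exists_vec_of_data h2 h W hW hWnd hdim 1 0

/-- black box `hK1`, with the constants. -/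
theorem exists_consts (h2 : (2 : F) ≠ 0) (hodd : Fintype.card F % 2 = 1) (hζ : ¬ IsSquare ζ)
    (Q : QuadraticForm F V) :
    ∃ e₀ e₁ : F, IsSquare (ζ * e₀ ^ 2 - e₁ ^ 2) ∧ ζ * e₀ ^ 2 - e₁ ^ 2 ≠ 0 ∧
      ∀ (δ : Module.End F V), OS Q δ ζ → ∀ W : Submodule F V, W ∈ Module.End.invtSubmodule δ →
        ND (QuadraticMap.polarBilin Q) W → finrank F ↥W = 2 →
        ∃ v ∈ W, (QuadraticMap.polar Q v v = 1 ∧ QuadraticMap.polar Q (δ v) v = 0) ∨
          (QuadraticMap.polar Q v v = e₀ ∧ QuadraticMap.polar Q (δ v) v = e₁) := by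
  haveI := fact_LF hζ
  have hζ0 : ζ ≠ 0 := by
    intro h0
    apply hζ
    rw [h0]
    exact ⟨0, by ring⟩
  obtain ⟨ε, hε, hnorm⟩ := exists_eps (ζ := ζ) hodd
  obtain ⟨x, hx⟩ : ∃ x : F, x = ε.re := ⟨_, rfl⟩
  obtain ⟨y, hy⟩ : ∃ y : F, y = ε.im := ⟨_, rfl⟩
  rw [← hx, ← hy] at hnorm
  have e : ζ * ε.re ^ 2 - (ζ * ε.im) ^ 2 = ζ * ζ := by
    rw [← hx, ← hy]
    linear_combination ζ * hnorm
  refine ⟨ε.re, ζ * ε.im, ?_, ?_, fun δ h W hW hWnd hdim => exists_vec_plane h2 h W hW hWnd hdim hε⟩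
  · rw [e]
    exact ⟨ζ, rfl⟩
  · rw [e]
    exact mul_ne_zero hζ0 hζ0

/-- **the coset element**: a product of two reflections commuting with `δ` whose spinor norm is a nonsquare. -/
theorem exists_cent_pair (h2 : (2 : F) ≠ 0) {δ : Module.End F V} (h : OS Q δ ζ)
    (hV : ND (QuadraticMap.polarBilin Q) ⊤) (hdim : 4 ≤ finrank F V) :
    ∃ v v' : V, Q v ≠ 0 ∧ Q v' ≠ 0 ∧ ¬ IsSquare (Q v * Q v') ∧
      ∀ u, refl Q v (refl Q v' (δ u)) = δ (refl Q v (refl Q v' u)) := by
  obtain ⟨v, -, hv1, hv2⟩ := exists_unit_vec h2 δ h ⊤ (Module.End.invtSubmodule.top_mem δ) hV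
    (by rw [finrank_top]; exact hdim)
  have hζ0 := h.zeta_ne_zero
  have hQv : Q v = 2⁻¹ := by
    have : QuadraticMap.polar Q v v = 2 * Q v := by rw [QuadraticMap.polar_self, two_smul, two_mul]
    rw [this] at hv1
    field_simp
    linear_combination hv1
  have hQv' : Q (δ v) = ζ * 2⁻¹ := by
    have h3 : QuadraticMap.polar Q (δ v) (δ v) = 2 * Q (δ v) := by
      rw [QuadraticMap.polar_self, two_smul, two_mul]
    rw [h.polar_delta, hv1] at h3
    field_simp
    linear_combination -h3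
  have h2inv : (2 : F)⁻¹ ≠ 0 := inv_ne_zero h2
  refine ⟨v, δ v, by rw [hQv]; exact h2inv, by rw [hQv']; exact mul_ne_zero hζ0 h2inv, ?_, ?_⟩
  · rw [hQv, hQv']
    rintro ⟨c, hc⟩
    apply h.nsq
    refine ⟨2 * c, ?_⟩
    field_simp at hc
    linear_combination hc
  · intro u
    have hvv' : QuadraticMap.polar Q v (δ v) = 0 := by rw [QuadraticMap.polar_comm]; exact hv2
    have key : ∀ w, refl Q v (refl Q (δ v) w) =
        w - (2 * ζ⁻¹ * QuadraticMap.polar Q (δ v) w) • δ v - (2 * QuadraticMap.polar Q v w) • v := by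
      intro w
      rw [refl_apply Q v, refl_apply Q (δ v), QuadraticMap.polar_sub_right, QuadraticMap.polar_smul_right, hvv',
        smul_zero, sub_zero, hQv, hQv']
      congr 2
      · congr 1
        field_simp
      · congr 1
        field_simp
    rw [key, key, map_sub, map_sub, map_smul, map_smul, h.sq, h.polar_delta, ← h.sa, smul_smul]
    have e1 : 2 * ζ⁻¹ * (ζ * QuadraticMap.polar Q v u) = 2 * QuadraticMap.polar Q v u := by
      field_simp
    have e2 : 2 * ζ⁻¹ * QuadraticMap.polar Q (δ v) u * ζ = 2 * QuadraticMap.polar Q (δ v) u := by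
      field_simp
    rw [e1, e2]
    abel

end Cfsg.Agent.Helper7.OFx
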