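import Mathlib
import Cfsg.Agent.Helper7.OFxG
import Cfsg.Agent.Helper7.OrTSF

set_option autoImplicit false
set_option linter.unusedSectionVars false
set_option linter.unusedVariables false

/-!
# Orthogonal structures: the order of the centralizer in the isometry group
-/

namespace Cfsg.Agent.Helper7.OFx

open Module QuadraticAlgebra Cfsg.Agent.Helper7.SpOrd Cfsg.Agent.Helper8.QuadForm Cfsg.Agent.Helper8.OrthOrder
  Cfsg.Agent.Helper7.OpTS Cfsg.Agent.Helper7.OpND

universe u

variable {F : Type u} [Field F] [Fintype F] {V : Type u} [AddCommGroup V] [Module F V]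
  {Q : QuadraticForm F V} {δ : Module.End F V} {ζ : F}

variable [hfact : Fact (∀ r : F, r ^ 2 ≠ ζ + 0 * r)]

/-- `δ`-commuting `F`-linear maps are `L`-linear. -/
theorem map_smul_of_comm (h : OS Q δ ζ) (g : V ≃ₗ[F] V) (hg : ∀ v, g (δ v) = δ (g v)) (a : LF ζ) (v : VL h) :
    toVL h (g ((toVL h).symm (a • v))) = a • toVL h (g ((toVL h).symm v)) := by
  rw [smul_VL, smul_VL]
  simp only [LinearEquiv.symm_apply_apply, map_add, map_smul, hg]

/-- the `L`-form is preserved by `δ`-commuting isometries. -/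
theorem BL_of_comm (h : OS Q δ ζ) (g : V ≃ₗ[F] V) (hQ : ∀ v, Q (g v) = Q v) (hg : ∀ v, g (δ v) = δ (g v))
    (u v : VL h) :
    BL h (toVL h (g ((toVL h).symm u))) (toVL h (g ((toVL h).symm v))) = BL h u v := by
  apply BL_unique
  intro a
  rw [← map_smul_of_comm h g hg, BF_apply, ← BL_spec, BF_apply]
  simp only [LinearEquiv.symm_apply_apply]
  unfold QuadraticMap.polar
  rw [← map_add, hQ, hQ, hQ]

/-- the centralizer of `δ` in the isometry group, as the isometry group of the `L`-form. -/
noncomputable def centEquiv (h2 : (2 : F) ≠ 0) (h : OS Q δ ζ) :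
    {g : V ≃ₗ[F] V // (∀ v, Q (g v) = Q v) ∧ ∀ v, g (δ v) = δ (g v)} ≃ ↥(Isom (QL h)) where
  toFun g :=
    ⟨{ toFun := fun v => toVL h (g.1 ((toVL h).symm v))
       invFun := fun v => toVL h (g.1.symm ((toVL h).symm v))
       map_add' := fun a b => by simp
       map_smul' := fun a v => map_smul_of_comm h g.1 g.2.2 a v
       left_inv := fun v => by simp
       right_inv := fun v => by simp }, by
      rw [mem_Isom]
      intro v
      show QL h (toVL h (g.1 ((toVL h).symm v))) = QL h v
      rw [QL_apply, QL_apply, BL_of_comm h g.1 g.2.1 g.2.2]⟩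
  invFun g' :=
    ⟨{ toFun := fun v => (toVL h).symm (g'.1 (toVL h v))
       invFun := fun v => (toVL h).symm (g'.1.symm (toVL h v))
       map_add' := fun a b => by simp
       map_smul' := fun c v => by
         show (toVL h).symm (g'.1 (toVL h (c • v))) = c • (toVL h).symm (g'.1 (toVL h v))
         rw [map_smul, ← algebraMap_smul (LF ζ) c (toVL h v), map_smul, algebraMap_smul, map_smul]
       left_inv := fun v => by simp
       right_inv := fun v => by simp }, by
      have hg' := (mem_Isom _ _).mp g'.2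
      refine ⟨fun v => ?_, fun v => ?_⟩
      · show Q ((toVL h).symm (g'.1 (toVL h v))) = Q v
        rw [← QL_re h2, hg', QL_re h2, LinearEquiv.symm_apply_apply]
      · show (toVL h).symm (g'.1 (toVL h (δ v))) = δ ((toVL h).symm (g'.1 (toVL h v)))
        have e1 : toVL h (δ v) = (ω : LF ζ) • toVL h v := by
          rw [omega_smul, LinearEquiv.symm_apply_apply]
        rw [e1, map_smul, omega_smul, LinearEquiv.symm_apply_apply]⟩
  left_inv g := by
    apply Subtype.ext
    apply LinearEquiv.ext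
    intro v
    rfl
  right_inv g' := by
    apply Subtype.ext
    apply LinearEquiv.ext
    intro v
    rfl

/-- **the order of the centralizer**, `d = 2(m+1)` even. -/
theorem card_cent_even (h2 : (2 : F) ≠ 0) [FiniteDimensional F V] (h : OS Q δ ζ)
    (hV : ND (QuadraticMap.polarBilin Q) ⊤) {m : ℕ} (hd : finrank F V = 4 * (m + 1)) :
    Nat.card {g : V ≃ₗ[F] V // (∀ v, Q (g v) = Q v) ∧ ∀ v, g (δ v) = δ (g v)} =
      gO (Fintype.card F ^ 2) (sg Q ⊤) m := by
  have hL : finrank (LF ζ) (VL h) = 2 * (m + 1) := by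
    have := finrank_VL h
    omega
  rw [Nat.card_congr (centEquiv h2 h), card_Isom_sg (QL h) (nd_QL h2 h hV) hL, card_LF, sg_QL h2 h hV hd]

/-- **the order of the centralizer**, `d = 2m+1` odd. -/
theorem card_cent_odd (h2 : (2 : F) ≠ 0) [FiniteDimensional F V] (h : OS Q δ ζ)
    (hV : ND (QuadraticMap.polarBilin Q) ⊤) {m : ℕ} (hd : finrank F V = 2 * (2 * m + 1)) :
    Nat.card {g : V ≃ₗ[F] V // (∀ v, Q (g v) = Q v) ∧ ∀ v, g (δ v) = δ (g v)} =
      2 * (Fintype.card F ^ 2) ^ (m ^ 2) *
        ∏ i ∈ Finset.range m, ((Fintype.card F ^ 2) ^ (2 * (i + 1)) - 1) := by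
  have hL : finrank (LF ζ) (VL h) = 2 * m + 1 := by
    have := finrank_VL h
    omega
  have hnd : (QuadraticMap.polarBilin (QL h)).Nondegenerate :=
    (nondeg_iff (QL h)).mpr (nondeg_of_nd_top (nd_QL h2 h hV))
  have h2L := two_ne_zero_LF (ζ := ζ) h2
  rw [Nat.card_congr (centEquiv h2 h), card_Isom_odd h2L m (QL h) hnd hL
    (Cfsg.Agent.Helper7.OrTS.card_singular_odd h2L m (QL h) hnd hL), card_LF]

end Cfsg.Agent.Helper7.OFx
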