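import Mathlib
import Cfsg.Agent.Helper7.OFxA
import Cfsg.Agent.Helper7.FExC
import Cfsg.Agent.Helper7.OrTSA

set_option autoImplicit false
set_option linter.unusedSectionVars false
set_option linter.unusedVariables false

/-!
# Orthogonal structures: isometries of odd prime order commuting with the structure
-/

namespace Cfsg.Agent.Helper7.OFx

open Module Polynomial Cfsg.Agent.Helper7.POrd Cfsg.Agent.Helper7.SpOrd Cfsg.Agent.Helper7.UTy
  Cfsg.Agent.Helper7.FEx Cfsg.Agent.Helper7.QTy Cfsg.Agent.Helper7.OrTS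

universe u

section poly

variable {F : Type u} [Field F] {V : Type u} [AddCommGroup V] [Module F V]
  {Q : QuadraticForm F V} {δ : Module.End F V} {ζ : F}

theorem OS.irreducible (h : OS Q δ ζ) : Irreducible (X ^ 2 - C ζ : F[X]) := by
  apply X_pow_sub_C_irreducible_of_prime Nat.prime_two
  intro b hb
  exact h.nsq ⟨b, by rw [← hb, pow_two]⟩

theorem OS.natDegree (ζ : F) : (X ^ 2 - C ζ : F[X]).natDegree = 2 := natDegree_X_pow_sub_C

theorem OS.aeval (h : OS Q δ ζ) : aeval δ (X ^ 2 - C ζ : F[X]) = 0 := by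
  rw [map_sub, map_pow, aeval_X, aeval_C, pow_two, h.mul_self, Algebra.algebraMap_eq_smul_one, sub_self]

/-- invariant subspaces have even dimension. -/
theorem OS.even_finrank [FiniteDimensional F V] (h : OS Q δ ζ) {E : Submodule F V}
    (hE : E ∈ Module.End.invtSubmodule δ) : Even (finrank F ↥E) := by
  have := natDegree_dvd_finrank h.irreducible h.aeval hE
  rw [OS.natDegree] at this
  exact (even_iff_two_dvd).mpr this

end poly

variable {F : Type u} [Field F] [Fintype F] {V : Type u} [AddCommGroup V] [Module F V] [Finite V]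
  {p : ℕ} [Fact p.Prime] [CharP F p] {r : ℕ} [Fact r.Prime]
  {Q : QuadraticForm F V} {δ : Module.End F V} {ζ : F}

/-- `i` odd: no commuting structure when the moved space has dimension `2 i`. -/
theorem not_commute_of_odd_s (h2 : (2 : F) ≠ 0) (hr2 : r ≠ 2) (hrp : r ≠ p)
    (hV : ND (QuadraticMap.polarBilin Q) ⊤) (h : OS Q δ ζ)
    {T : Module.End F V} (hQT : ∀ v, Q (T v) = Q v) (hT : T ^ r = 1)
    (hcomm : ∀ v, T (δ v) = δ (T v))
    (hodd : Odd (orderOf ((Fintype.card F : ℕ) : ZMod r)))
    (hdim : finrank F ↥(movS r T) = 2 * orderOf ((Fintype.card F : ℕ) : ZMod r)) : False := by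
  classical
  haveI : FiniteDimensional F V := Module.Finite.of_finite
  set B : LinearMap.BilinForm F V := QuadraticMap.polarBilin Q with hBdef
  have hBs : B.IsSymm := pB_symm' Q
  have hB : B.IsRefl := hBs.isRefl
  have hiso : ∀ u v, B (T u) (T v) = B u v := iso_of_Q hQT
  set i := orderOf ((Fintype.card F : ℕ) : ZMod r) with hi
  have hipos : 0 < i := orderOf_q_pos hrp
  have hrF : (r : F) ≠ 0 := natCast_ne_zero_of_ne hrp
  have hW : movS r T ∈ Module.End.invtSubmodule T := movS_invt r T
  have htop : (⊤ : Submodule F V) ∈ Module.End.invtSubmodule T := by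
    rw [Module.End.mem_invtSubmodule]
    exact le_top
  have hWnd : ND B (movS r T) := by
    have := nd_inf_mov hB hiso hrF hT htop hV
    rwa [top_inf_eq] at this
  have hfix : movS r T ⊓ fixS T = ⊥ := by
    rw [inf_comm]
    exact (disjoint_fix_mov hrF T).eq_bot
  have hne : movS r T ≠ ⊥ := by
    intro h0
    rw [h0, finrank_bot] at hdim
    omega
  obtain ⟨g, hgirr, hgdvd, hgdeg, v, hvW, hv0, hgv⟩ := exists_irred_vec hrp hT hW hfix hne
  set E := LinearMap.ker (aeval T g) with hE
  have hET : E ∈ Module.End.invtSubmodule T := ker_aeval_invt T g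
  have hEδ : E ∈ Module.End.invtSubmodule δ := ker_aeval_invt_of_comm hcomm g
  have hEeven : Even (finrank F ↥E) := h.even_finrank hEδ
  have hvE : v ∈ E := LinearMap.mem_ker.mpr hgv
  have hg1 : g.eval 1 ≠ 0 := by
    intro h0
    have hdvd : (X - C (1 : F)) ∣ g := dvd_iff_isRoot.mpr h0
    obtain ⟨c, hc⟩ := hdvd
    have hcu : IsUnit c := by
      rcases hgirr.isUnit_or_isUnit hc with h' | h'
      · exact absurd h' (not_isUnit_X_sub_C 1)
      · exact h'
    obtain ⟨c0, hc0, rfl⟩ := isUnit_iff.mp hcu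
    have : aeval T g v = c0 • (T v - v) := by
      rw [hc, map_mul, aeval_C, map_sub, aeval_X, aeval_C, Module.End.mul_apply,
        Module.algebraMap_end_apply, LinearMap.sub_apply, Module.algebraMap_end_apply, one_smul,
        map_smul, smul_sub]
    rw [this] at hgv
    have hTv : T v = v := by
      rcases smul_eq_zero.mp hgv with h' | h'
      · exact absurd h' hc0.ne_zero
      · exact sub_eq_zero.mp h'
    have : v ∈ movS r T ⊓ fixS T := ⟨hvW, mem_fixS.mpr hTv⟩
    rw [hfix] at this
    exact hv0 ((Submodule.mem_bot F).mp this)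
  have hEfix : E ⊓ fixS T = ⊥ := by
    rw [eq_bot_iff]
    rintro x ⟨hxE, hxf⟩
    have h1 : aeval T g x = 0 := LinearMap.mem_ker.mp hxE
    rw [aeval_apply_of_fixed (mem_fixS.mp hxf)] at h1
    rcases smul_eq_zero.mp h1 with h' | h'
    · exact absurd h' hg1
    · exact (Submodule.mem_bot F).mpr h'
  have hEW : E ≤ movS r T := by
    have := invt_decomp hrF hT hET
    rw [hEfix, bot_sup_eq] at this
    rw [this]
    exact inf_le_right
  have hidvd : i ∣ finrank F ↥E := orderOf_dvd_finrank hT hET hEfix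
  have hEle : finrank F ↥E ≤ 2 * i := by
    rw [← hdim]
    exact Submodule.finrank_mono hEW
  have hEpos : 0 < finrank F ↥E := by
    rw [Module.finrank_pos_iff_exists_ne_zero]
    exact ⟨⟨v, hvE⟩, fun h' => hv0 (congrArg Subtype.val h')⟩
  have hEdim : finrank F ↥E = 2 * i := by
    obtain ⟨m, hm⟩ := hidvd
    have hm2 : m ≤ 2 := by
      by_contra hcon
      push Not at hcon
      have : i * 3 ≤ i * m := Nat.mul_le_mul_left i hcon
      omega
    have hm0 : 0 < m := by
      rcases Nat.eq_zero_or_pos m with h' | h'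
      · rw [h', mul_zero] at hm
        omega
      · exact h'
    have hm1 : m ≠ 1 := by
      intro h1
      rw [h1, mul_one] at hm
      rw [hm] at hEeven
      exact (Nat.not_even_iff_odd.mpr hodd) hEeven
    have : m = 2 := by omega
    rw [hm, this, mul_comm]
  have hEeq : E = movS r T := Submodule.eq_of_le_of_finrank_eq hEW (by rw [hEdim, hdim])
  -- a nonsingular vector of the moved space
  obtain ⟨u, huW, hu⟩ : ∃ u ∈ movS r T, B u u ≠ 0 := by
    by_contra hcon
    push Not at hcon
    obtain ⟨w, hwW, hw0⟩ := Submodule.exists_mem_ne_zero_of_ne_bot hne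
    obtain ⟨w', hw'W, hww'⟩ := hWnd w hwW hw0
    apply hww'
    have h1 := hcon (w + w') ((movS r T).add_mem hwW hw'W)
    simp only [map_add, LinearMap.add_apply] at h1
    rw [hcon w hwW, hcon w' hw'W, hBs.eq w' w] at h1
    have h3 : (2 : F) * B w w' = 0 := by linear_combination h1
    exact (mul_eq_zero.mp h3).resolve_left h2
  have hu0 : u ≠ 0 := by
    intro h'
    rw [h'] at hu
    simp at hu
  have hgu : aeval T g u = 0 := by
    have : u ∈ E := by rw [hEeq]; exact huW
    exact LinearMap.mem_ker.mp this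
  set M := cyc T u g.natDegree with hM
  have hMinv : M ∈ Module.End.invtSubmodule T := cyc_invt T u g hgirr.ne_zero hgu
  have hMW : M ≤ movS r T := cyc_le hW huW _
  have hMfix : M ⊓ fixS T = ⊥ := by
    rw [eq_bot_iff, ← hfix]
    exact inf_le_inf_right _ hMW
  have huM : u ∈ M := by
    have := pow_mem_cyc T u (d := g.natDegree) (t := 0) (by rw [hgdeg]; exact hipos)
    simpa using this
  have hMle : finrank F ↥M ≤ i := by
    exact (finrank_cyc_le T u g.natDegree).trans (le_of_eq hgdeg)
  have hMdvd : i ∣ finrank F ↥M := orderOf_dvd_finrank hT hMinv hMfix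
  have hMpos : 0 < finrank F ↥M := by
    rw [Module.finrank_pos_iff_exists_ne_zero]
    exact ⟨⟨u, huM⟩, fun h' => hu0 (congrArg Subtype.val h')⟩
  have hMdim : finrank F ↥M = i := Nat.le_antisymm hMle (Nat.le_of_dvd hMpos hMdvd)
  rcases nd_or_ti hB hiso hT hMinv hMfix hMdim with hnd | hti
  · have := cOf_dvd_finrank_s h2 hr2 hrp hBs hiso hT _ M rfl hMinv hnd hMfix
    rw [hMdim] at this
    unfold cOf at this
    rw [if_neg (Nat.not_even_iff_odd.mpr hodd)] at this
    have := Nat.le_of_dvd hipos this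
    omega
  · have := hti huM
    rw [mem_perp] at this
    exact hu (this u huM)

/-- `i ≡ 2 mod 4`: no commuting structure when the moved space has dimension `i`. -/
theorem not_commute_of_two_mod_four_s (hr2 : r ≠ 2) (hrp : r ≠ p)
    (hV : ND (QuadraticMap.polarBilin Q) ⊤) (h : OS Q δ ζ)
    {T : Module.End F V} (hQT : ∀ v, Q (T v) = Q v) (hT : T ^ r = 1)
    (hcomm : ∀ v, T (δ v) = δ (T v))
    (hev : Even (orderOf ((Fintype.card F : ℕ) : ZMod r)))
    (hhalf : Odd (orderOf ((Fintype.card F : ℕ) : ZMod r) / 2))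
    (hdim : finrank F ↥(movS r T) = orderOf ((Fintype.card F : ℕ) : ZMod r)) : False := by
  classical
  haveI : FiniteDimensional F V := Module.Finite.of_finite
  set B : LinearMap.BilinForm F V := QuadraticMap.polarBilin Q with hBdef
  have hBs : B.IsSymm := pB_symm' Q
  have hB : B.IsRefl := hBs.isRefl
  have hiso : ∀ u v, B (T u) (T v) = B u v := iso_of_Q hQT
  have hsa : ∀ u v, B (δ u) v = B u (δ v) := h.sa
  have hirr := h.irreducible
  have hdeg := OS.natDegree ζ
  have hgδ := h.aeval
  set i := orderOf ((Fintype.card F : ℕ) : ZMod r) with hi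
  have hipos : 0 < i := orderOf_q_pos hrp
  have hrpos : 0 < r := (Fact.out : r.Prime).pos
  have hrF : (r : F) ≠ 0 := natCast_ne_zero_of_ne hrp
  have hW : movS r T ∈ Module.End.invtSubmodule T := movS_invt r T
  have htop : (⊤ : Submodule F V) ∈ Module.End.invtSubmodule T := by
    rw [Module.End.mem_invtSubmodule]
    exact le_top
  have hWnd : ND B (movS r T) := by
    have := nd_inf_mov hB hiso hrF hT htop hV
    rwa [top_inf_eq] at this
  have hfix : movS r T ⊓ fixS T = ⊥ := by
    rw [inf_comm]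
    exact (disjoint_fix_mov hrF T).eq_bot
  have hne : movS r T ≠ ⊥ := by
    intro h0
    rw [h0, finrank_bot] at hdim
    omega
  have hδT : Commute δ T := commute_of_apply hcomm
  have hWδ : ∀ w ∈ movS r T, δ w ∈ movS r T := by
    intro w hw
    have := movS_invt_of_comm hcomm r
    rw [Module.End.mem_invtSubmodule] at this
    exact this hw
  obtain ⟨g, hgirr, hgdvd, hgdeg, u, huW, hu0, hgu⟩ := exists_irred_vec hrp hT hW hfix hne
  set M := cyc T u g.natDegree with hM
  have hMinv : M ∈ Module.End.invtSubmodule T := cyc_invt T u g hgirr.ne_zero hgu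
  have hMW : M ≤ movS r T := cyc_le hW huW _
  have huM : u ∈ M := by
    have := pow_mem_cyc T u (d := g.natDegree) (t := 0) (by rw [hgdeg]; exact hipos)
    simpa using this
  have hMeq : M = movS r T := by
    rcases irred_of_finrank hT hfix hdim hMinv hMW with h' | h'
    · exfalso
      rw [h'] at huM
      exact hu0 ((Submodule.mem_bot F).mp huM)
    · exact h'
  have hδu : δ u ∈ M := by rw [hMeq]; exact hWδ u huW
  obtain ⟨c, hc⟩ := mem_cyc_iff.mp hδu
  set a := polyOf c with ha
  have hδa : ∀ w ∈ movS r T, δ w = aeval T a w := by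
    intro w hw
    rw [← hMeq] at hw
    obtain ⟨c', hc'⟩ := mem_cyc_iff.mp hw
    rw [hc', ← aeval_apply_comm hcomm, hc, ← Module.End.mul_apply, ← Module.End.mul_apply, ← map_mul,
      ← map_mul, mul_comm]
  have hWinv' : movS r T ∈ Module.End.invtSubmodule (T ^ (r - 1)) := by
    rw [Module.End.mem_invtSubmodule]
    intro w hw
    exact invt_pow_apply hW hw (r - 1)
  have hadj : ∀ w' ∈ movS r T, aeval (T ^ (r - 1)) a w' = δ w' := by
    intro w' hw'
    have hy : aeval (T ^ (r - 1)) a w' - δ w' ∈ movS r T :=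
      (movS r T).sub_mem (invt_aeval_apply hWinv' a hw') (hWδ w' hw')
    have hzero : aeval (T ^ (r - 1)) a w' - δ w' = 0 := by
      by_contra hne0
      obtain ⟨v, hvW, hv⟩ := hWnd _ hy hne0
      apply hv
      have h1 : B v (aeval (T ^ (r - 1)) a w' - δ w') = 0 := by
        rw [map_sub, ← adj_aeval hiso hrpos hT, ← hδa v hvW, hsa, sub_self]
      rw [hBs.eq, h1]
    exact sub_eq_zero.mp hzero
  have hQ : r ∣ Fintype.card F ^ (i / 2) + 1 := dvd_pow_half_add_one hrp hev
  have hTQ : T ^ (Fintype.card F ^ (i / 2)) = T ^ (r - 1) := pow_eq_inv_of_dvd hrpos hT hQ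
  have hfrob : aeval (T ^ (r - 1)) a = (aeval T a) ^ (Fintype.card F ^ (i / 2)) := by
    rw [← hTQ, aeval_pow_card_pow]
  have hpow : ∀ (n : ℕ) (w : V), w ∈ movS r T → ((aeval T a) ^ n) w = (δ ^ n) w ∧ (δ ^ n) w ∈ movS r T := by
    intro n
    induction n with
    | zero =>
      intro w hw
      simp only [pow_zero, Module.End.one_apply]
      exact ⟨trivial, hw⟩
    | succ n ih =>
      intro w hw
      obtain ⟨e1, e2⟩ := ih w hw
      rw [pow_succ', pow_succ', Module.End.mul_apply, Module.End.mul_apply, e1, ← hδa _ e2]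
      exact ⟨rfl, hWδ _ e2⟩
  have hδQ : δ ^ (Fintype.card F ^ (i / 2)) = δ ^ (Fintype.card F) := by
    obtain ⟨m, hm⟩ := hhalf
    rw [hm, pow_succ, pow_mul, pow_mul, pow_card_sq_pow_eq' hirr hdeg hgδ]
  have h2' : (δ ^ (Fintype.card F)) u = δ u := by
    have h1 := hadj u huW
    rw [hfrob, (hpow _ u huW).1, hδQ] at h1
    exact h1
  exact hu0 (eq_zero_of_pow_card hirr hdeg hgδ h2')

end Cfsg.Agent.Helper7.OFx
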