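import Mathlib
import Cfsg.Agent.Helper7.OFxA
import Cfsg.Agent.Helper7.FExI

set_option autoImplicit false
set_option linter.unusedSectionVars false
set_option linter.unusedVariables false

/-!
# Orthogonal structures: the matrix data of a self-adjoint quadratic field subalgebra
-/

namespace Cfsg.Agent.Helper7.OFx

open Matrix Module Cfsg.Agent.Helper7.UTy Cfsg.Agent.Helper7.FEx

universe u

variable {F : Type u} [Field F] {ι : Type} [Fintype ι] [DecidableEq ι] {Qs : QuadraticForm F (ι → F)}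

/-- the matrix data of an orthogonal structure. -/
structure MOS (Qs : QuadraticForm F (ι → F)) (δm : Matrix ι ι F) (ζ : F) : Prop where
  sq : δm * δm = ζ • (1 : Matrix ι ι F)
  nsq : ¬ IsSquare ζ
  sa : ∀ u v : ι → F, QuadraticMap.polar Qs (δm *ᵥ u) v = QuadraticMap.polar Qs u (δm *ᵥ v)

theorem MOS.os {δm : Matrix ι ι F} {ζ : F} (h : MOS Qs δm ζ) : OS Qs (Matrix.toLin' δm) ζ := by
  refine ⟨fun v => ?_, h.nsq, fun u v => ?_⟩
  · rw [Matrix.toLin'_apply, Matrix.toLin'_apply, mulVec_mulVec, h.sq, smul_mulVec, one_mulVec]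
  · rw [Matrix.toLin'_apply, Matrix.toLin'_apply]
    exact h.sa u v

theorem MOS.of_os {δ : Module.End F (ι → F)} {ζ : F} (h : OS Qs δ ζ) : MOS Qs (LinearMap.toMatrix' δ) ζ := by
  refine ⟨?_, h.nsq, fun u v => ?_⟩
  · apply Matrix.toLin'.injective
    rw [Matrix.toLin'_mul, Matrix.toLin'_toMatrix', map_smul, Matrix.toLin'_one]
    exact h.mul_self
  · rw [← Matrix.toLin'_apply, ← Matrix.toLin'_apply, Matrix.toLin'_toMatrix']
    exact h.sa u v

theorem polar_isom {g : GL ι F} (hg : g ∈ Cfsg.isometryGroup F ⇑Qs) (u v : ι → F) :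
    QuadraticMap.polar Qs ((g : Matrix ι ι F) *ᵥ u) ((g : Matrix ι ι F) *ᵥ v) = QuadraticMap.polar Qs u v := by
  have hQ : ∀ w : ι → F, Qs ((g : Matrix ι ι F) *ᵥ w) = Qs w := fun w => hg w w
  unfold QuadraticMap.polar
  rw [← mulVec_add, hQ, hQ, hQ]

theorem polar_isom_left {g : GL ι F} (hg : g ∈ Cfsg.isometryGroup F ⇑Qs) (u v : ι → F) :
    QuadraticMap.polar Qs ((g : Matrix ι ι F) *ᵥ u) v =
      QuadraticMap.polar Qs u (((g⁻¹ : GL ι F) : Matrix ι ι F) *ᵥ v) := by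
  rw [← polar_isom hg u, mulVec_mulVec, val_mul_inv, one_mulVec]

theorem polar_isom_inv_left {g : GL ι F} (hg : g ∈ Cfsg.isometryGroup F ⇑Qs) (u v : ι → F) :
    QuadraticMap.polar Qs (((g⁻¹ : GL ι F) : Matrix ι ι F) *ᵥ u) v =
      QuadraticMap.polar Qs u ((g : Matrix ι ι F) *ᵥ v) := by
  rw [← polar_isom hg _ v, mulVec_mulVec, val_mul_inv, one_mulVec]

/-- transport by an isometry. -/
theorem MOS.conj {δm : Matrix ι ι F} {ζ : F} (h : MOS Qs δm ζ) {g : GL ι F}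
    (hg : g ∈ Cfsg.isometryGroup F ⇑Qs) :
    MOS Qs ((g : Matrix ι ι F) * δm * ((g⁻¹ : GL ι F) : Matrix ι ι F)) ζ := by
  refine ⟨?_, h.nsq, fun u v => ?_⟩
  · calc (g : Matrix ι ι F) * δm * ((g⁻¹ : GL ι F) : Matrix ι ι F) *
          ((g : Matrix ι ι F) * δm * ((g⁻¹ : GL ι F) : Matrix ι ι F))
        = (g : Matrix ι ι F) * δm * (((g⁻¹ : GL ι F) : Matrix ι ι F) * (g : Matrix ι ι F)) * δm *
          ((g⁻¹ : GL ι F) : Matrix ι ι F) := by simp only [mul_assoc]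
      _ = (g : Matrix ι ι F) * (δm * δm) * ((g⁻¹ : GL ι F) : Matrix ι ι F) := by
          rw [val_inv_mul, mul_one]; simp only [mul_assoc]
      _ = ζ • (1 : Matrix ι ι F) := by
          rw [h.sq, mul_smul_comm, mul_one, smul_mul_assoc, val_mul_inv]
  · rw [← mulVec_mulVec, ← mulVec_mulVec, ← mulVec_mulVec, ← mulVec_mulVec, polar_isom_left hg, h.sa,
      polar_isom_inv_left hg]

/-- the data extracted from the subalgebra. -/
theorem exists_MOS [Nonempty ι] (h2 : (2 : F) ≠ 0) (K : Subalgebra F (Matrix ι ι F))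
    (hK : Cfsg.Geo.IsFieldSubalgebra 2 K)
    (hKf : Cfsg.Geo.IsSelfAdjointFor (QuadraticMap.polar ⇑Qs) K) :
    ∃ (δm : Matrix ι ι F) (ζ : F), KGen K δm ζ ∧ MOS Qs δm ζ := by
  obtain ⟨δm, ζ, hgen⟩ := exists_KGen h2 K hK
  exact ⟨δm, ζ, hgen, ⟨hgen.sq, hgen.nsq, hKf δm hgen.mem⟩⟩

/-- from a conjugate of odd prime order in the normalizer to a commuting structure. -/
theorem exists_commuting_of_conj_mem [Finite F] [Nonempty ι] {K : Subalgebra F (Matrix ι ι F)}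
    (hK : Cfsg.Geo.IsFieldSubalgebra 2 K) {δm : Matrix ι ι F} {ζ : F} (hgen : KGen K δm ζ)
    (hM : MOS Qs δm ζ) {x g : GL ι F} (hg : g ∈ Cfsg.isometryGroup F ⇑Qs)
    (hmem : g⁻¹ * x * g ∈ Cfsg.Geo.subalgebraNormalizer K) {r : ℕ} (hr : r.Prime) (hr2 : r ≠ 2)
    (hxr : x ^ r = 1) :
    ∃ δ'm : Matrix ι ι F, MOS Qs δ'm ζ ∧ (x : Matrix ι ι F) * δ'm = δ'm * (x : Matrix ι ι F) := by
  set y : GL ι F := g⁻¹ * x * g with hy
  have hg1' := val_inv_mul g
  have hg1 := val_mul_inv g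
  have hyval : (y : Matrix ι ι F) = ((g⁻¹ : GL ι F) : Matrix ι ι F) * (x : Matrix ι ι F) * (g : Matrix ι ι F) := by
    rw [hy, Units.val_mul, Units.val_mul]
  have hyn : y ^ r = 1 := by
    rw [hy]
    have : g⁻¹ * x * g = g⁻¹ * x * g⁻¹⁻¹ := by rw [inv_inv]
    rw [this, conj_pow, hxr]
    group
  have hcomm' : (y : Matrix ι ι F) * δm = δm * (y : Matrix ι ι F) :=
    commute_of_pow_eq_one Nat.prime_two hr hr2 hK y hmem hyn δm hgen.mem
  refine ⟨(g : Matrix ι ι F) * δm * ((g⁻¹ : GL ι F) : Matrix ι ι F), hM.conj hg, ?_⟩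
  have hx : (x : Matrix ι ι F) = (g : Matrix ι ι F) * (y : Matrix ι ι F) * ((g⁻¹ : GL ι F) : Matrix ι ι F) := by
    rw [hyval]
    calc (x : Matrix ι ι F) = ((g : Matrix ι ι F) * ((g⁻¹ : GL ι F) : Matrix ι ι F)) * (x : Matrix ι ι F) *
          ((g : Matrix ι ι F) * ((g⁻¹ : GL ι F) : Matrix ι ι F)) := by rw [hg1, one_mul, mul_one]
      _ = _ := by simp only [mul_assoc]
  rw [hx]
  calc (g : Matrix ι ι F) * (y : Matrix ι ι F) * ((g⁻¹ : GL ι F) : Matrix ι ι F) *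
        ((g : Matrix ι ι F) * δm * ((g⁻¹ : GL ι F) : Matrix ι ι F))
      = (g : Matrix ι ι F) * (y : Matrix ι ι F) * (((g⁻¹ : GL ι F) : Matrix ι ι F) * (g : Matrix ι ι F)) * δm *
        ((g⁻¹ : GL ι F) : Matrix ι ι F) := by simp only [mul_assoc]
    _ = (g : Matrix ι ι F) * ((y : Matrix ι ι F) * δm) * ((g⁻¹ : GL ι F) : Matrix ι ι F) := by
        rw [hg1', mul_one]; simp only [mul_assoc]
    _ = (g : Matrix ι ι F) * (δm * (y : Matrix ι ι F)) * ((g⁻¹ : GL ι F) : Matrix ι ι F) := by rw [hcomm']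
    _ = (g : Matrix ι ι F) * δm * (((g⁻¹ : GL ι F) : Matrix ι ι F) * (g : Matrix ι ι F)) * (y : Matrix ι ι F) *
        ((g⁻¹ : GL ι F) : Matrix ι ι F) := by rw [hg1', mul_one]; simp only [mul_assoc]
    _ = _ := by simp only [mul_assoc]

end Cfsg.Agent.Helper7.OFx
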