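import Mathlib

set_option autoImplicit false
set_option linter.unusedSectionVars false
set_option linter.unusedVariables false

/-!
# The index of a subgroup in the commutator subgroup of a group, through a subgroup of the big group
-/

namespace Cfsg.Agent.Helper7.OFx

/-- the order of `K` through a subgroup `H`. -/
theorem card_eq_inf_mul_relIndex {G : Type*} [Group G] (H K : Subgroup G) :
    Nat.card ↥K = Nat.card ↥(H ⊓ K : Subgroup G) * H.relIndex K := by
  have := Subgroup.relIndex_mul_relIndex ⊥ (H ⊓ K) K bot_le inf_le_right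
  rw [Subgroup.relIndex_bot_left, Subgroup.relIndex_bot_left, Subgroup.inf_relIndex_right] at this
  exact this.symm

/-- **index bookkeeping**: `O` a finite subgroup of `G` whose commutator subgroup `Ω` has index four; `C ≤ N`; if
`|O| = R₀ |C ∩ O|` then `[Ω : Ω ∩ N]` divides `4 R₀`. -/
theorem relIndex_dvd_four_mul {G : Type*} [Group G] (O : Subgroup G) [Finite ↥O] (C N : Subgroup G) (hCN : C ≤ N)
    (hidx : (commutator ↥O).index = 4) {R₀ : ℕ} (hR : R₀ * Nat.card ↥(C ⊓ O : Subgroup G) = Nat.card ↥O) :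
    N.relIndex ((commutator ↥O).map O.subtype) ∣ 4 * R₀ := by
  set Ω : Subgroup G := (commutator ↥O).map O.subtype with hΩ
  have hinj : Function.Injective O.subtype := O.subtype_injective
  have hΩO : Ω ≤ O := by
    rintro _ ⟨y, -, rfl⟩
    exact y.2
  have h1 : N.relIndex Ω ∣ C.relIndex Ω := Subgroup.relIndex_dvd_of_le_left Ω hCN
  refine h1.trans ?_
  -- `e`
  have he : Ω.relIndex (C ⊓ O) ∣ 4 := by
    have h2 := Subgroup.relIndex_dvd_index_of_normal (commutator ↥O) (C.subgroupOf O)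
    rw [hidx, ← Subgroup.relIndex_map_map_of_injective _ _ hinj, Subgroup.subgroupOf_map_subtype] at h2
    exact h2
  have hcardΩ : Nat.card ↥Ω = Nat.card ↥(commutator ↥O) := by
    rw [← Subgroup.relIndex_bot_left, ← Subgroup.relIndex_bot_left,
      ← Subgroup.relIndex_map_map_of_injective ⊥ (commutator ↥O) hinj, Subgroup.map_bot]
  have hO : Nat.card ↥O = 4 * Nat.card ↥Ω := by
    rw [hcardΩ, ← hidx]
    exact (Subgroup.index_mul_card (commutator ↥O)).symm
  have hCO : Nat.card ↥(C ⊓ O : Subgroup G) = Nat.card ↥(C ⊓ Ω : Subgroup G) * Ω.relIndex (C ⊓ O) := by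
    have := card_eq_inf_mul_relIndex Ω (C ⊓ O)
    have e : Ω ⊓ (C ⊓ O) = C ⊓ Ω := by
      rw [inf_comm Ω, inf_assoc, inf_eq_right.mpr hΩO]
    rw [e] at this
    exact this
  have hΩc : Nat.card ↥Ω = Nat.card ↥(C ⊓ Ω : Subgroup G) * C.relIndex Ω := card_eq_inf_mul_relIndex C Ω
  have hxpos : 0 < Nat.card ↥(C ⊓ Ω : Subgroup G) := by
    haveI : Finite ↥(C ⊓ Ω : Subgroup G) := by
      have : (C ⊓ Ω : Subgroup G) ≤ O := inf_le_right.trans hΩO
      exact Finite.of_injective (fun x : ↥(C ⊓ Ω : Subgroup G) => (⟨x.1, this x.2⟩ : ↥O))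
        (fun a b hab => Subtype.ext (congrArg (fun y : ↥O => (y : G)) hab))
    exact Nat.card_pos
  obtain ⟨x, hx⟩ : ∃ x, x = Nat.card ↥(C ⊓ Ω : Subgroup G) := ⟨_, rfl⟩
  rw [← hx] at hCO hΩc hxpos
  rw [hCO, hO, hΩc] at hR
  have h3 : R₀ * Ω.relIndex (C ⊓ O) = 4 * C.relIndex Ω := by
    have : x * (R₀ * Ω.relIndex (C ⊓ O)) = x * (4 * C.relIndex Ω) := by
      linarith
    exact Nat.eq_of_mul_eq_mul_left hxpos this
  obtain ⟨k, hk⟩ := he
  refine ⟨Ω.relIndex (C ⊓ O) * k * k, ?_⟩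
  have h4 : 4 * R₀ = R₀ * Ω.relIndex (C ⊓ O) * k := by
    rw [mul_assoc, ← hk]
    ring
  rw [h4, h3, ← hk]
  ring

end Cfsg.Agent.Helper7.OFx
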