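import Mathlib
import Cfsg.Agent.Helper7.OpNDE
import Cfsg.Agent.Helper7.FExG

set_option autoImplicit false
set_option linter.unusedSectionVars false
set_option linter.unusedVariables false

/-!
# Subgroups of type `O_d(q²)` of `O^±_{2d}(q)`: the arithmetic of the index
-/

namespace Cfsg.Agent.Helper7.OFx

open Finset Cfsg.Agent.Helper7.OpND Cfsg.Agent.Helper7.FEx

theorem piO_pos {q : ℕ} (hq : 2 ≤ q) (k : ℕ) : 0 < piO q k := by
  unfold piO
  apply Finset.prod_pos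
  intro i _
  have : 2 ≤ q ^ (2 * (i + 1)) := by
    calc 2 ≤ q := hq
      _ = q ^ 1 := (pow_one q).symm
      _ ≤ q ^ (2 * (i + 1)) := Nat.pow_le_pow_right (by omega) (by omega)
  omega

theorem fO_pos {q : ℕ} (hq : 2 ≤ q) (s : ℤ) {e : ℕ} (he : 1 ≤ e) : 0 < fO q s e := by
  unfold fO
  have : 2 ≤ q ^ e := by
    calc 2 ≤ q := hq
      _ = q ^ 1 := (pow_one q).symm
      _ ≤ q ^ e := Nat.pow_le_pow_right (by omega) he
  split_ifs <;> omega

theorem fO_sq (q : ℕ) (s : ℤ) (e : ℕ) : fO (q ^ 2) s e = fO q s (2 * e) := by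
  unfold fO
  rw [← pow_mul]

/-- the product over `range n`, split by the parity of `j + 1`. -/
theorem piO_split (q m : ℕ) (n : ℕ) (hn : n = 2 * m ∨ n = 2 * m + 1) :
    piO q n = piO (q ^ 2) m * ∏ j ∈ (range n).filter (fun j => ¬ 2 ∣ j + 1), (q ^ (2 * (j + 1)) - 1) := by
  unfold piO
  rw [← Finset.prod_filter_mul_prod_filter_not (range n) (fun j => 2 ∣ j + 1)]
  congr 1
  rw [← prod_filter_dvd q 2 m (by norm_num)]
  rcases hn with rfl | rfl
  · rfl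
  · apply Finset.prod_congr _ (fun _ _ => rfl)
    ext j
    simp only [mem_filter, mem_range]
    constructor
    · rintro ⟨h1, h2⟩
      refine ⟨?_, h2⟩
      by_contra hcon
      have : j = 2 * m := by omega
      rw [this] at h2
      omega
    · rintro ⟨h1, h2⟩
      exact ⟨by omega, h2⟩

/-- **the primes dividing the index**, `d = 2(m+1)` even. -/
theorem exists_dvd_of_index_even {q r m : ℕ} (hr : r.Prime) (hr2 : r ≠ 2) (hrq : ¬ r ∣ q) (hq : 2 ≤ q) (s : ℤ)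
    {R₀ : ℕ} (hR : R₀ * gO (q ^ 2) s m = gO q s (2 * m + 1)) (hrI : r ∣ 4 * R₀) :
    ∃ j, Odd j ∧ j < 2 * (m + 1) ∧ r ∣ q ^ (2 * j) - 1 := by
  have hq2 : 2 ≤ q ^ 2 := by nlinarith
  unfold gO at hR
  rw [fO_sq, piO_split q m (2 * m + 1) (Or.inr rfl)] at hR
  set R' := ∏ j ∈ (range (2 * m + 1)).filter (fun j => ¬ 2 ∣ j + 1), (q ^ (2 * (j + 1)) - 1) with hR'
  have e1 : 2 * (m + 1) = 2 * m + 1 + 1 := by ring
  rw [e1] at hR
  have hexp : (2 * m + 1 + 1) * (2 * m + 1) = 2 * ((m + 1) * m) + 2 * (m + 1) ^ 2 := by ring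
  rw [hexp, pow_add, ← pow_mul q 2] at hR
  have hcpos : 0 < 2 * q ^ (2 * ((m + 1) * m)) * fO q s (2 * m + 1 + 1) * piO (q ^ 2) m :=
    Nat.mul_pos (Nat.mul_pos (Nat.mul_pos (by norm_num) (Nat.pow_pos (by omega))) (fO_pos hq s (by omega)))
      (piO_pos hq2 m)
  have hR₀ : R₀ = q ^ (2 * (m + 1) ^ 2) * R' := by
    have : (2 * q ^ (2 * ((m + 1) * m)) * fO q s (2 * m + 1 + 1) * piO (q ^ 2) m) * R₀ =
        (2 * q ^ (2 * ((m + 1) * m)) * fO q s (2 * m + 1 + 1) * piO (q ^ 2) m) *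
          (q ^ (2 * (m + 1) ^ 2) * R') := by
      rw [mul_comm _ R₀, hR]
      ring
    exact Nat.eq_of_mul_eq_mul_left hcpos this
  rw [hR₀] at hrI
  have hrR : r ∣ R' := by
    rcases (Nat.Prime.dvd_mul hr).mp hrI with h | h
    · exfalso
      have : r ∣ 2 ^ 2 := by norm_num; exact h
      exact hr2 ((Nat.prime_dvd_prime_iff_eq hr Nat.prime_two).mp (hr.dvd_of_dvd_pow this))
    · rcases (Nat.Prime.dvd_mul hr).mp h with h' | h'
      · exact absurd (hr.dvd_of_dvd_pow h') hrq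
      · exact h'
  obtain ⟨j, hj, hdvd⟩ := (Prime.dvd_finsetProd_iff (Nat.Prime.prime hr) _).mp hrR
  rw [mem_filter, mem_range] at hj
  refine ⟨j + 1, ?_, by omega, hdvd⟩
  rw [← Nat.not_even_iff_odd, even_iff_two_dvd]
  exact hj.2

/-- **the primes dividing the index**, `d = 2m+1` odd. -/
theorem exists_dvd_of_index_odd {q r m : ℕ} (hr : r.Prime) (hr2 : r ≠ 2) (hrq : ¬ r ∣ q) (hq : 2 ≤ q) (s : ℤ)
    {R₀ : ℕ}
    (hR : R₀ * (2 * (q ^ 2) ^ (m ^ 2) * ∏ i ∈ range m, ((q ^ 2) ^ (2 * (i + 1)) - 1)) = gO q s (2 * m))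
    (hrI : r ∣ 4 * R₀) :
    (∃ j, Odd j ∧ j < 2 * m + 1 ∧ r ∣ q ^ (2 * j) - 1) ∨ r ∣ fO q s (2 * m + 1) := by
  have hq2 : 2 ≤ q ^ 2 := by nlinarith
  unfold gO at hR
  have hpi : ∏ i ∈ range m, ((q ^ 2) ^ (2 * (i + 1)) - 1) = piO (q ^ 2) m := rfl
  rw [hpi, piO_split q m (2 * m) (Or.inl rfl)] at hR
  set R' := ∏ j ∈ (range (2 * m)).filter (fun j => ¬ 2 ∣ j + 1), (q ^ (2 * (j + 1)) - 1) with hR'
  have hexp : (2 * m + 1) * (2 * m) = 2 * m ^ 2 + (2 * m ^ 2 + 2 * m) := by ring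
  rw [hexp, pow_add, ← pow_mul q 2] at hR
  have hcpos : 0 < 2 * q ^ (2 * m ^ 2) * piO (q ^ 2) m :=
    Nat.mul_pos (Nat.mul_pos (by norm_num) (Nat.pow_pos (by omega))) (piO_pos hq2 m)
  have hR₀ : R₀ = q ^ (2 * m ^ 2 + 2 * m) * fO q s (2 * m + 1) * R' := by
    have : (2 * q ^ (2 * m ^ 2) * piO (q ^ 2) m) * R₀ =
        (2 * q ^ (2 * m ^ 2) * piO (q ^ 2) m) * (q ^ (2 * m ^ 2 + 2 * m) * fO q s (2 * m + 1) * R') := by
      rw [mul_comm _ R₀, hR]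
      ring
    exact Nat.eq_of_mul_eq_mul_left hcpos this
  rw [hR₀] at hrI
  have h1 : r ∣ q ^ (2 * m ^ 2 + 2 * m) * fO q s (2 * m + 1) * R' := by
    rcases (Nat.Prime.dvd_mul hr).mp hrI with h | h
    · exfalso
      have : r ∣ 2 ^ 2 := by norm_num; exact h
      exact hr2 ((Nat.prime_dvd_prime_iff_eq hr Nat.prime_two).mp (hr.dvd_of_dvd_pow this))
    · exact h
  rcases (Nat.Prime.dvd_mul hr).mp h1 with h | h
  · rcases (Nat.Prime.dvd_mul hr).mp h with h' | h'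
    · exact absurd (hr.dvd_of_dvd_pow h') hrq
    · exact Or.inr h'
  · left
    obtain ⟨j, hj, hdvd⟩ := (Prime.dvd_finsetProd_iff (Nat.Prime.prime hr) _).mp h
    rw [mem_filter, mem_range] at hj
    refine ⟨j + 1, ?_, by omega, hdvd⟩
    rw [← Nat.not_even_iff_odd, even_iff_two_dvd]
    exact hj.2

end Cfsg.Agent.Helper7.OFx
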