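import Mathlib
import Cfsg.Agent.Helper7.OFxL
import Cfsg.Agent.Helper7.POrdL
import Cfsg.Agent.Helper7.UTyH

set_option autoImplicit false
set_option linter.unusedSectionVars false
set_option linter.unusedVariables false

/-!
# Subgroups of type `O_d(q²)` of `O^±_{2d}(q)`: from the index to the shape of a minimal block
-/

namespace Cfsg.Agent.Helper7.OFx

open Finset Cfsg.Agent.Helper7.OpND Cfsg.Agent.Helper7.POrd Cfsg.Agent.Helper7.UTy

variable {F : Type*} [Field F] [Fintype F] {p : ℕ} [Fact p.Prime] [CharP F p] {r : ℕ} [Fact r.Prime]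

/-- the shape of a minimal block of an element of order `r`, from the arithmetic of the index. -/
theorem block_cases (hr2 : r ≠ 2) (hrp : r ≠ p) {d : ℕ} (hd : 1 ≤ d) {s : ℤ} (hs : s = 1 ∨ s = -1)
    (h : (∃ j, Odd j ∧ j < d ∧ r ∣ Fintype.card F ^ (2 * j) - 1) ∨ (Odd d ∧ r ∣ fO (Fintype.card F) s d)) :
    (Odd (orderOf ((Fintype.card F : ℕ) : ZMod r)) ∧ orderOf ((Fintype.card F : ℕ) : ZMod r) ≤ d ∧
      (orderOf ((Fintype.card F : ℕ) : ZMod r) = d → s = 1)) ∨
    (Even (orderOf ((Fintype.card F : ℕ) : ZMod r)) ∧ Odd (orderOf ((Fintype.card F : ℕ) : ZMod r) / 2) ∧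
      orderOf ((Fintype.card F : ℕ) : ZMod r) ≤ 2 * d ∧
      (orderOf ((Fintype.card F : ℕ) : ZMod r) = 2 * d → s = -1)) := by
  have hr : r.Prime := Fact.out
  set i := orderOf ((Fintype.card F : ℕ) : ZMod r) with hi
  have hipos : 0 < i := orderOf_q_pos hrp
  have key : ∀ n : ℕ, Odd n → 0 < n → i ∣ 2 * n →
      (Odd i ∧ i ∣ n) ∨ (Even i ∧ Odd (i / 2) ∧ i / 2 ∣ n ∧ i ≤ 2 * n) := by
    intro n hn hnpos hdvd
    rcases Nat.even_or_odd i with hev | hodd
    · right
      obtain ⟨t, ht⟩ := hev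
      have ht2 : i / 2 = t := by omega
      have htn : t ∣ n := by
        have : t * 2 ∣ n * 2 := by
          have : i = t * 2 := by omega
          rw [← this, mul_comm n 2]
          exact hdvd
        exact Nat.dvd_of_mul_dvd_mul_right (by norm_num) this
      rw [ht2]
      exact ⟨⟨t, ht⟩, Odd.of_dvd_nat hn htn, htn, Nat.le_of_dvd (by omega) hdvd⟩
    · left
      have hcop : Nat.Coprime i 2 := by
        rw [Nat.coprime_two_right]
        exact hodd
      exact ⟨hodd, hcop.dvd_of_dvd_mul_left hdvd⟩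
  rcases h with ⟨j, hjodd, hjd, hdvd⟩ | ⟨hdodd, hdvd⟩
  · have hij : i ∣ 2 * j := orderOf_dvd_of_dvd_pow_sub_one hdvd
    have hjpos : 0 < j := hjodd.pos
    rcases key j hjodd hjpos hij with ⟨h1, h2⟩ | ⟨h1, h2, h3, h4⟩
    · left
      have := Nat.le_of_dvd hjpos h2
      exact ⟨h1, by omega, fun h' => by omega⟩
    · right
      exact ⟨h1, h2, by omega, fun h' => by omega⟩
  · rcases hs with rfl | rfl
    · have h1 : r ∣ Fintype.card F ^ d - 1 := by
        unfold fO at hdvd
        rwa [if_pos rfl] at hdvd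
      have hid : i ∣ d := orderOf_dvd_of_dvd_pow_sub_one h1
      left
      exact ⟨Odd.of_dvd_nat hdodd hid, Nat.le_of_dvd (by omega) hid, fun _ => rfl⟩
    · have h1 : r ∣ Fintype.card F ^ d + 1 := by
        unfold fO at hdvd
        rwa [if_neg (by norm_num)] at hdvd
      have hq1 : 1 ≤ Fintype.card F ^ d := Nat.one_le_pow _ _ Fintype.card_pos
      have h3 : r ∣ Fintype.card F ^ (2 * d) - 1 := by
        have : Fintype.card F ^ (2 * d) - 1 = (Fintype.card F ^ d - 1) * (Fintype.card F ^ d + 1) := by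
          obtain ⟨t, ht⟩ : ∃ t, Fintype.card F ^ d = t + 1 := ⟨Fintype.card F ^ d - 1, by omega⟩
          rw [mul_comm 2 d, pow_mul, ht, Nat.add_sub_cancel]
          have : (t + 1) ^ 2 - 1 = t * (t + 1 + 1) := by
            have : (t + 1) ^ 2 = t * (t + 1 + 1) + 1 := by ring
            omega
          exact this
        rw [this]
        exact Dvd.dvd.mul_left h1 _
      have hi2d : i ∣ 2 * d := orderOf_dvd_of_dvd_pow_sub_one h3
      have hnid : ¬ i ∣ d := by
        intro hid
        have h4 : r ∣ Fintype.card F ^ d - 1 := dvd_pow_sub_one_of_orderOf_dvd hid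
        have h5 : r ∣ 2 := by
          have : Fintype.card F ^ d + 1 = (Fintype.card F ^ d - 1) + 2 := by omega
          rw [this] at h1
          exact (Nat.dvd_add_right h4).mp h1
        exact hr2 ((Nat.prime_dvd_prime_iff_eq hr Nat.prime_two).mp h5)
      rcases key d hdodd (by omega) hi2d with ⟨h1', h2'⟩ | ⟨h1', h2', h3', h4'⟩
      · exact absurd h2' hnid
      · right
        exact ⟨h1', h2', h4', fun _ => rfl⟩

end Cfsg.Agent.Helper7.OFx
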