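import Mathlib
import Cfsg.Agent.Helper7.OFxH
import Cfsg.Agent.Helper7.OFxJ
import Cfsg.Agent.Helper7.OFxK
import Cfsg.Agent.Helper7.OFxM
import Cfsg.Agent.Helper8.OmegaOdd

set_option autoImplicit false
set_option linter.unusedSectionVars false
set_option linter.unusedVariables false

/-!
# Subgroups of type `O_d(q²)` of `Ω^±_{2d}(q)`: the primes dividing the index
-/

namespace Cfsg.Agent.Helper7.OFx

open Matrix Module Cfsg.Agent.Helper7.SpOrd Cfsg.Agent.Helper7.UTy Cfsg.Agent.Helper7.FEx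
  Cfsg.Agent.Helper7.OpTS Cfsg.Agent.Helper7.OpND Cfsg.Agent.Helper8.OrthOrder Cfsg.Agent.Helper8.QuadForm

universe u

variable {F : Type u} [Field F] [Fintype F] {ι : Type} [Fintype ι] [DecidableEq ι]
  {Qs : QuadraticForm F (ι → F)}

/-- the centralizer in the isometry group as a set of linear equivalences. -/
theorem card_cent_inf (δm : Matrix ι ι F) :
    Nat.card ↥(centG δm ⊓ Cfsg.isometryGroup F ⇑Qs : Subgroup (GL ι F)) =
      Nat.card {g : (ι → F) ≃ₗ[F] (ι → F) // (∀ v, Qs (g v) = Qs v) ∧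
        ∀ v, g (Matrix.toLin' δm v) = Matrix.toLin' δm (g v)} := by
  apply Nat.card_congr
  refine Equiv.subtypeEquiv (eGL (F := F) (ι := ι)).toEquiv ?_
  intro g
  show g ∈ centG δm ⊓ Cfsg.isometryGroup F ⇑Qs ↔ _
  rw [Subgroup.mem_inf, mem_centG]
  constructor
  · rintro ⟨hc, hs⟩
    refine ⟨?_, ?_⟩
    · intro v
      show Qs (eGL g v) = Qs v
      rw [eGL_apply]
      exact hs v v
    · intro v
      show eGL g (Matrix.toLin' δm v) = Matrix.toLin' δm (eGL g v)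
      rw [eGL_apply, eGL_apply, Matrix.toLin'_apply, Matrix.toLin'_apply, mulVec_mulVec, mulVec_mulVec, hc]
  · rintro ⟨hi, hc⟩
    refine ⟨?_, ?_⟩
    · apply Matrix.toLin'.injective
      apply LinearMap.ext
      intro v
      have := hc v
      change eGL g (Matrix.toLin' δm v) = Matrix.toLin' δm (eGL g v) at this
      rw [eGL_apply, eGL_apply, Matrix.toLin'_apply, Matrix.toLin'_apply, mulVec_mulVec, mulVec_mulVec] at this
      rw [Matrix.toLin'_apply, Matrix.toLin'_apply]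
      exact this
    · intro u _
      have := hi u
      change Qs (eGL g u) = Qs u at this
      rw [eGL_apply] at this
      exact this

variable {p : ℕ} [Fact p.Prime] [CharP F p] {r : ℕ} [Fact r.Prime]

/-- **the shape of a minimal block**, from the index of the normalizer. -/
theorem block_shape_of_index [Nonempty ι] (h2 : (2 : F) ≠ 0) (hQs : ND (QuadraticMap.polarBilin Qs) ⊤)
    {d : ℕ} (hd : 2 ≤ d) (hι : Fintype.card ι = 2 * d) (hr2 : r ≠ 2) (hrp : r ≠ p)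
    {K : Subalgebra F (Matrix ι ι F)} {δm : Matrix ι ι F} {ζ : F} (hgen : KGen K δm ζ) (hM : MOS Qs δm ζ)
    (hΩ : r ∣ (Cfsg.Geo.subalgebraNormalizer K).relIndex (Cfsg.Geo.omegaGL ⇑Qs)) :
    (Odd (orderOf ((Fintype.card F : ℕ) : ZMod r)) ∧ orderOf ((Fintype.card F : ℕ) : ZMod r) ≤ d ∧
      (orderOf ((Fintype.card F : ℕ) : ZMod r) = d → sg Qs ⊤ = 1)) ∨
    (Even (orderOf ((Fintype.card F : ℕ) : ZMod r)) ∧ Odd (orderOf ((Fintype.card F : ℕ) : ZMod r) / 2) ∧
      orderOf ((Fintype.card F : ℕ) : ZMod r) ≤ 2 * d ∧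
      (orderOf ((Fintype.card F : ℕ) : ZMod r) = 2 * d → sg Qs ⊤ = -1)) := by
  classical
  have hr : r.Prime := Fact.out
  have hq2 : 2 ≤ Fintype.card F := Fintype.one_lt_card
  have hrq : ¬ r ∣ Fintype.card F := not_dvd_card_of_ne' hrp
  have hnd : (QuadraticMap.polarBilin Qs).Nondegenerate := (nondeg_iff Qs).mpr (nondeg_of_nd_top hQs)
  have hfr : finrank F (ι → F) = 2 * d := by rw [Module.finrank_fintype_fun_eq_card, hι]
  obtain ⟨e, he⟩ := Cfsg.Agent.Helper8.OmegaOdd.exists_nonsquare (F := F) h2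
  have hidx := (Cfsg.Agent.Helper8.OmegaOdd.commutator_eq Qs h2 hnd (by rw [hι]; omega) he).1
  have hCN : centG δm ≤ Cfsg.Geo.subalgebraNormalizer K := centG_le_normalizer h2 hgen
  haveI : Finite ↥(Cfsg.isometryGroup F ⇑Qs) := Subtype.finite
  have hO : Nat.card ↥(Cfsg.isometryGroup F ⇑Qs) = gO (Fintype.card F) (sg Qs ⊤) (d - 1) := by
    rw [card_isometryGroup Qs ⇑Qs (fun v => rfl)]
    exact card_Isom_sg Qs hQs (by rw [hfr]; omega)
  have hle : (centG δm ⊓ Cfsg.isometryGroup F ⇑Qs : Subgroup (GL ι F)) ≤ Cfsg.isometryGroup F ⇑Qs :=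
    inf_le_right
  obtain ⟨R₀, hR₀⟩ := Subgroup.card_dvd_of_le hle
  have hR : R₀ * Nat.card ↥(centG δm ⊓ Cfsg.isometryGroup F ⇑Qs : Subgroup (GL ι F)) =
      Nat.card ↥(Cfsg.isometryGroup F ⇑Qs) := by rw [hR₀, mul_comm]
  have hdvd : r ∣ 4 * R₀ :=
    dvd_trans hΩ (relIndex_dvd_four_mul (Cfsg.isometryGroup F ⇑Qs) (centG δm) _ hCN hidx hR)
  rw [card_cent_inf, hO] at hR
  have hos := hM.os
  haveI := fact_LF hM.nsq
  apply block_cases hr2 hrp (by omega) (sg_cases Qs ⊤)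
  rcases Nat.even_or_odd d with hde | hdo
  · obtain ⟨m, hm⟩ : ∃ m, d = 2 * (m + 1) := by
      obtain ⟨t, ht⟩ := hde
      exact ⟨t - 1, by omega⟩
    left
    rw [card_cent_even h2 hos hQs (m := m) (by rw [hfr, hm]; ring)] at hR
    have e1 : d - 1 = 2 * m + 1 := by omega
    rw [e1] at hR
    obtain ⟨j, hj1, hj2, hj3⟩ := exists_dvd_of_index_even hr hr2 hrq hq2 (sg Qs ⊤) hR hdvd
    exact ⟨j, hj1, by omega, hj3⟩
  · obtain ⟨m, hm⟩ := hdo
    rw [card_cent_odd h2 hos hQs (m := m) (by rw [hfr, hm])] at hR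
    have e1 : d - 1 = 2 * m := by omega
    rw [e1] at hR
    rcases exists_dvd_of_index_odd hr hr2 hrq hq2 (sg Qs ⊤) hR hdvd with ⟨j, hj1, hj2, hj3⟩ | h'
    · left
      exact ⟨j, hj1, by omega, hj3⟩
    · right
      exact ⟨⟨m, hm⟩, by rw [hm]; exact h'⟩

end Cfsg.Agent.Helper7.OFx
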