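import Mathlib
import Cfsg.Agent.Helper7.OFxN
import Cfsg.Agent.Helper7.OFxI
import Cfsg.Agent.Helper7.OpNDC

set_option autoImplicit false
set_option linter.unusedSectionVars false
set_option linter.unusedVariables false

/-!
# Subgroups of type `O_d(q²)` of `Ω^±_{2d}(q)`: derangements of odd prime order `r ≠ p`
-/

namespace Cfsg.Agent.Helper7.OFx

open Matrix Module Cfsg.Agent.Helper7.POrd Cfsg.Agent.Helper7.SpOrd Cfsg.Agent.Helper7.UTy Cfsg.Agent.Helper7.FEx
  Cfsg.Agent.Helper7.OpTS Cfsg.Agent.Helper7.OpND Cfsg.Agent.Helper7.OrTS Cfsg.Agent.Helper7.QTy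
  Cfsg.Agent.Helper7.QPa Cfsg.Agent.Helper8.OrthOrder Cfsg.Agent.Helper8.QuadForm Cfsg.Agent.Helper8.OrR

universe u

variable {F : Type u} [Field F] [Fintype F] {ι : Type} [Fintype ι] [DecidableEq ι]
  {Qs : QuadraticForm F (ι → F)}
  {p : ℕ} [Fact p.Prime] [CharP F p] {r : ℕ} [Fact r.Prime]

/-- `r` odd, `r ≠ p`, dividing the index: there is a derangement of order `r`. -/
theorem not_forall_of_odd [Nonempty ι] (h2 : (2 : F) ≠ 0) (hQs : ND (QuadraticMap.polarBilin Qs) ⊤)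
    {d : ℕ} (hd : 3 ≤ d) (hι : Fintype.card ι = 2 * d) (hr2 : r ≠ 2) (hrp : r ≠ p)
    {K : Subalgebra F (Matrix ι ι F)} (hK : Cfsg.Geo.IsFieldSubalgebra 2 K)
    {δm : Matrix ι ι F} {ζ : F} (hgen : KGen K δm ζ) (hM : MOS Qs δm ζ)
    (hΩ : r ∣ (Cfsg.Geo.subalgebraNormalizer K).relIndex (Cfsg.Geo.omegaGL ⇑Qs)) :
    ¬ (∀ x ∈ Cfsg.Geo.omegaGL ⇑Qs,
      (∃ z : F, ((x ^ r : GL ι F) : Matrix ι ι F) = z • (1 : Matrix ι ι F)) →
      (∀ z : F, (x : Matrix ι ι F) ≠ z • (1 : Matrix ι ι F)) →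
      ∃ g ∈ Cfsg.Geo.omegaGL ⇑Qs, g⁻¹ * x * g ∈ Cfsg.Geo.subalgebraNormalizer K) := by
  classical
  intro hall
  have hr : r.Prime := Fact.out
  have hrodd : Odd r := hr.odd_of_ne_two hr2
  have hrF : (r : F) ≠ 0 := natCast_ne_zero_of_ne hrp
  obtain ⟨i₀⟩ := ‹Nonempty ι›
  haveI : Nonempty ι := ⟨i₀⟩
  have hshape := block_shape_of_index h2 hQs (by omega) hι hr2 hrp hgen hM hΩ
  set i := orderOf ((Fintype.card F : ℕ) : ZMod r) with hi
  have hipos : 0 < i := orderOf_q_pos hrp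
  have hcle : cOf i * 1 ≤ 2 * d := by
    rw [mul_one]
    unfold cOf
    rcases hshape with ⟨ho, hle, _⟩ | ⟨he, _, hle, _⟩
    · rw [if_neg (Nat.not_even_iff_odd.mpr ho)]
      omega
    · rw [if_pos he]
      exact hle
  have hval : cOf i * 1 = 2 * d → sg Qs ⊤ = typ i 1 := by
    rw [mul_one]
    unfold cOf typ
    rcases hshape with ⟨ho, hle, hs⟩ | ⟨he, _, hle, hs⟩
    · rw [if_neg (Nat.not_even_iff_odd.mpr ho), if_pos (Or.inl ho)]
      intro h
      exact hs (by omega)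
    · have hno : ¬ (Odd i ∨ Even 1) := by
        rintro (h | h)
        · exact (Nat.not_even_iff_odd.mpr h) he
        · exact absurd h (by decide)
      rw [if_pos he, if_neg hno]
      intro h
      exact hs h
  obtain ⟨x, hxΩ, hxr, hx1, hxfix⟩ := exists_elt_of_blocks Qs hQs hd hι hr2 hrp (s := 1) le_rfl hcle hval
  rw [← hi, mul_one] at hxfix
  have hxiso := iso_of_mem_omega hxΩ
  have hns : ∀ z : F, (x : Matrix ι ι F) ≠ z • (1 : Matrix ι ι F) := by
    intro z hz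
    have hz1 : ((x ^ 1 : GL ι F) : Matrix ι ι F) = z • (1 : Matrix ι ι F) := by rw [pow_one]; exact hz
    have hzr : z ^ r = 1 := by
      have h1 : ((x ^ r : GL ι F) : Matrix ι ι F) = 1 := by
        rw [hxr]; rfl
      rw [Units.val_pow_eq_pow_val, hz, _root_.smul_pow, one_pow] at h1
      have h2 := congrFun (congrFun h1 i₀) i₀
      rw [Matrix.smul_apply, Matrix.one_apply_eq, smul_eq_mul, mul_one] at h2
      exact h2
    have hz1' : z = 1 := by
      rcases scalar_pow_pm_one hQs hxiso hz1 with h | h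
      · exact h
      · rw [h, hrodd.neg_one_pow] at hzr
        rw [h, hzr]
    apply hx1
    apply Units.ext
    rw [hz, hz1', one_smul]
    rfl
  obtain ⟨g, hg, hmem⟩ := hall x hxΩ ⟨1, by rw [hxr, one_smul]; rfl⟩ hns
  have hgiso := iso_of_mem_omega hg
  obtain ⟨δ'm, hM', hcomm⟩ := exists_commuting_of_conj_mem hK hgen hM hgiso hmem hr hr2 hxr
  have hQT := QT_of_mem_iso hxiso
  have hT : (Matrix.toLin' (x : Matrix ι ι F) : Module.End F (ι → F)) ^ r = 1 := by
    rw [toLin'_pow_gl, hxr, Units.val_one, Matrix.toLin'_one]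
    rfl
  have hcomm2 : ∀ v, Matrix.toLin' (x : Matrix ι ι F) (Matrix.toLin' δ'm v) =
      Matrix.toLin' δ'm (Matrix.toLin' (x : Matrix ι ι F) v) := by
    intro v
    rw [Matrix.toLin'_apply, Matrix.toLin'_apply, Matrix.toLin'_apply, Matrix.toLin'_apply, mulVec_mulVec,
      mulVec_mulVec, hcomm]
  have hdimV : finrank F (ι → F) = 2 * d := by rw [Module.finrank_fintype_fun_eq_card, hι]
  have hmov : finrank F ↥(movS r (Matrix.toLin' (x : Matrix ι ι F) : Module.End F (ι → F))) = cOf i := by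
    have h1 := finrank_fix_add_mov hrF hT
    rw [hdimV] at h1
    omega
  have hos := hM'.os
  rcases hshape with ⟨ho, _, _⟩ | ⟨he, hhalf, _, _⟩
  · have hc : cOf i = 2 * i := by
      unfold cOf
      rw [if_neg (Nat.not_even_iff_odd.mpr ho)]
    rw [hc] at hmov
    exact not_commute_of_odd_s h2 hr2 hrp hQs hos hQT hT hcomm2 ho hmov
  · have hc : cOf i = i := by
      unfold cOf
      rw [if_pos he]
    rw [hc] at hmov
    exact not_commute_of_two_mod_four_s hr2 hrp hQs hos hQT hT hcomm2 he hhalf hmov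

end Cfsg.Agent.Helper7.OFx
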