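import Mathlib
import Cfsg.Agent.Helper7.OFxJ
import Cfsg.Agent.Helper7.OrthMaxC
import Cfsg.Agent.Helper7.OpTSP
import Cfsg.Agent.Helper7.OpNDA
import Cfsg.Agent.Helper8.SpUL
import Cfsg.Agent.Lead.OFxP

set_option autoImplicit false
set_option linter.unusedSectionVars false
set_option linter.unusedVariables false

/-!
# Subgroups of type `O_d(q²)` of `Ω^±_{2d}(q)`: derangements of order `p`
-/

namespace Cfsg.Agent.Helper7.OFx

open Matrix Module Cfsg.Agent.Helper7.SpOrd Cfsg.Agent.Helper7.UTy Cfsg.Agent.Helper7.FEx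
  Cfsg.Agent.Helper7.OpTS Cfsg.Agent.Helper7.OrthMax
  Cfsg.Agent.Helper8.OrthOrder Cfsg.Agent.Helper8.QuadForm Cfsg.Agent.Helper8.Siegel
  Cfsg.Agent.Helper8.SiegelGroup

universe u

variable {F : Type u} [Field F] [Fintype F] {ι : Type} [Fintype ι] [DecidableEq ι]
  {Qs : QuadraticForm F (ι → F)}
  {p : ℕ} [Fact p.Prime] [CharP F p]

/-- a Siegel element of order `p` is a derangement. -/
theorem not_forall_of_char [Nonempty ι] (h2 : (2 : F) ≠ 0) (hQs : ND (QuadraticMap.polarBilin Qs) ⊤)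
    (h5 : 5 ≤ Fintype.card ι) (hp2 : p ≠ 2)
    {K : Subalgebra F (Matrix ι ι F)} (hK : Cfsg.Geo.IsFieldSubalgebra 2 K)
    {δm : Matrix ι ι F} {ζ : F} (hgen : KGen K δm ζ) (hM : MOS Qs δm ζ)
    {a b : ι → F} (ha : Qs a = 0) (hb : Qs b = 0) (hab : QuadraticMap.polar Qs a b = 0)
    (hli : LinearIndependent F ![a, b]) :
    ¬ (∀ x ∈ Cfsg.Geo.omegaGL ⇑Qs,
      (∃ z : F, ((x ^ p : GL ι F) : Matrix ι ι F) = z • (1 : Matrix ι ι F)) →
      (∀ z : F, (x : Matrix ι ι F) ≠ z • (1 : Matrix ι ι F)) →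
      ∃ g ∈ Cfsg.Geo.omegaGL ⇑Qs, g⁻¹ * x * g ∈ Cfsg.Geo.subalgebraNormalizer K) := by
  classical
  intro hall
  have hp : p.Prime := Fact.out
  have hnd : (QuadraticMap.polarBilin Qs).Nondegenerate := (nondeg_iff Qs).mpr (nondeg_of_nd_top hQs)
  have hba : QuadraticMap.polar Qs b a = 0 := by rw [QuadraticMap.polar_comm]; exact hab
  have haa : QuadraticMap.polar Qs a a = 0 := by rw [polar_self', ha, mul_zero]
  have hbb : QuadraticMap.polar Qs b b = 0 := by rw [polar_self', hb, mul_zero]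
  obtain ⟨x, hx⟩ : ∃ x : GL ι F, x = toGL Qs (siegG Qs b a) := ⟨_, rfl⟩
  have hxΩ : x ∈ Cfsg.Geo.omegaGL ⇑Qs := by
    rw [hx]
    exact toGL_mem_omegaGL Qs hnd h5 (siegG_mem_SG Qs hb hba)
  have hxv : ∀ v, (x : Matrix ι ι F) *ᵥ v =
      v + QuadraticMap.polar Qs v a • b - QuadraticMap.polar Qs v b • a := by
    intro v
    rw [hx, toGL_mulVec, siegG_val, siegE_apply Qs hb hba, sieg_apply, ha, zero_mul, zero_smul, sub_zero]
  -- the nilpotent part
  obtain ⟨N, hNdef⟩ : ∃ N : Module.End F (ι → F), N = Matrix.toLin' ((x : Matrix ι ι F) - 1) := ⟨_, rfl⟩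
  have hN : ∀ u, N u = QuadraticMap.polar Qs u a • b - QuadraticMap.polar Qs u b • a := by
    intro u
    rw [hNdef, Matrix.toLin'_apply, Matrix.sub_mulVec, hxv, Matrix.one_mulVec]
    abel
  have hNN : ∀ u, N (N u) = 0 := by
    intro u
    rw [hN (N u), hN u, QuadraticMap.polar_sub_left, QuadraticMap.polar_sub_left,
      QuadraticMap.polar_smul_left, QuadraticMap.polar_smul_left, QuadraticMap.polar_smul_left,
      QuadraticMap.polar_smul_left, hba, haa, hbb, hab]
    simp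
  have hsq : ((x : Matrix ι ι F) - 1) ^ 2 = 0 := by
    apply Matrix.toLin'.injective
    apply LinearMap.ext
    intro v
    rw [pow_two, Matrix.toLin'_mul, LinearMap.comp_apply, ← hNdef, hNN, map_zero]
    rfl
  have hxp : x ^ p = 1 := by
    have h1 : ((x : Matrix ι ι F) - 1) ^ p = 0 := by
      obtain ⟨k, hk⟩ : ∃ k, p = 2 + k := ⟨p - 2, by have := hp.two_le; omega⟩
      rw [hk, pow_add, hsq, zero_mul]
    have h2' := Cfsg.Agent.Helper8.SpU.sub_one_pow_char p (x : Matrix ι ι F)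
    rw [h1] at h2'
    apply Units.ext
    rw [Units.val_pow_eq_pow_val, Units.val_one]
    exact sub_eq_zero.mp h2'.symm
  -- a vector moved by `N`
  have ha0 : a ≠ 0 := by
    have := hli.ne_zero 0
    simpa using this
  obtain ⟨u, -, hu⟩ := hQs a Submodule.mem_top ha0
  have hu' : QuadraticMap.polar Qs u a ≠ 0 := by
    rw [QuadraticMap.polar_comm]
    exact hu
  have hNu : N u ≠ 0 := by
    intro h0
    rw [hN, sub_eq_add_neg, ← neg_smul, add_comm] at h0
    have := (LinearIndependent.pair_iff.mp hli) _ _ h0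
    exact hu' this.2
  have hns : ∀ z : F, (x : Matrix ι ι F) ≠ z • (1 : Matrix ι ι F) := by
    intro z hz
    have hNz : ∀ v, N v = (z - 1) • v := by
      intro v
      rw [hNdef, Matrix.toLin'_apply, hz, Matrix.sub_mulVec, Matrix.smul_mulVec, Matrix.one_mulVec, sub_smul,
        one_smul]
    have h1 := hNN u
    rw [hNz (N u)] at h1
    rcases smul_eq_zero.mp h1 with h | h
    · apply hNu
      rw [hNz u, h, zero_smul]
    · exact hNu h
  obtain ⟨g, hg, hmem⟩ := hall x hxΩ ⟨1, by rw [hxp, one_smul]; rfl⟩ hns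
  have hgiso := iso_of_mem_omega hg
  obtain ⟨δ'm, hM', hcomm⟩ := exists_commuting_of_conj_mem hK hgen hM hgiso hmem hp hp2 hxp
  have hcomm2 : ∀ v, N (Matrix.toLin' δ'm v) = Matrix.toLin' δ'm (N v) := by
    intro v
    rw [hNdef, Matrix.toLin'_apply, Matrix.toLin'_apply, Matrix.toLin'_apply, Matrix.toLin'_apply, mulVec_mulVec,
      mulVec_mulVec, Matrix.sub_mul, Matrix.mul_sub, hcomm, Matrix.one_mul, Matrix.mul_one]
  exact Cfsg.Agent.Lead.OFx.not_commute_siegel h2 hQs hM'.os ha hb hab hli N hN hcomm2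

end Cfsg.Agent.Helper7.OFx
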