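import Mathlib
import Cfsg.Agent.Helper7.OFxG
import Cfsg.Agent.Helper8.OmegaOdd
import Cfsg.Agent.Lead.OFxU

set_option autoImplicit false
set_option linter.unusedSectionVars false
set_option linter.unusedVariables false

/-!
# Orthogonal structures: conjugating an adapted structure to a given one inside `Ω`
-/

namespace Cfsg.Agent.Helper7.OFx

open Module Cfsg.Agent.Helper7.SpOrd Cfsg.Agent.Helper8.Reflections Cfsg.Agent.Helper8.OrthOrder
  Cfsg.Agent.Helper8.SpinorSign Cfsg.Agent.Helper8.OmegaOdd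

universe u

variable {F : Type u} [Field F] [Fintype F] {V : Type u} [AddCommGroup V] [Module F V]
  [FiniteDimensional F V] {Q : QuadraticForm F V}

/-- the two sign characters differ on a reflection. -/
theorem sign_refl_flip (h2 : (2 : F) ≠ 0) {e : F} (he : ¬ IsSquare e) {z : V} (hz : Q z ≠ 0) :
    signHom Q 1 ⟨refl Q z, refl_mem Q z⟩ = -signHom Q e ⟨refl Q z, refl_mem Q z⟩ := by
  have he0 : e ≠ 0 := by
    rintro rfl
    exact he IsSquare.zero
  by_cases hsq : IsSquare (Q z)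
  · rw [(signHom_refl h2 Q one_ne_zero hz).1 (by rw [one_mul]; exact hsq),
      (signHom_refl h2 Q he0 hz).2 (by rw [mul_comm]; exact not_isSquare_mul hz hsq he)]
  · rw [(signHom_refl h2 Q one_ne_zero hz).2 (by rw [one_mul]; exact hsq),
      (signHom_refl h2 Q he0 hz).1 (by rw [mul_comm]; exact isSquare_mul_of_not hz hsq he), neg_neg]

/-- a product of two reflections with nonsquare spinor norm has both signs `-1`. -/
theorem sign_refl_pair (h2 : (2 : F) ≠ 0) {c : F} (hc : c ≠ 0) {v v' : V} (hv : Q v ≠ 0) (hv' : Q v' ≠ 0)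
    (hns : ¬ IsSquare (Q v * Q v')) :
    signHom Q c (⟨refl Q v, refl_mem Q v⟩ * ⟨refl Q v', refl_mem Q v'⟩) = -1 := by
  have key : ∀ a b : F, IsSquare (c * a) → IsSquare (c * b) → IsSquare (a * b) := by
    rintro a b ⟨s, hs⟩ ⟨t, ht⟩
    refine ⟨s * t / c, ?_⟩
    field_simp
    linear_combination c * b * hs + s * s * ht
  rw [map_mul]
  by_cases hs : IsSquare (c * Q v)
  · have hs' : ¬ IsSquare (c * Q v') := fun h => hns (key _ _ hs h)
    rw [(signHom_refl h2 Q hc hv).1 hs, (signHom_refl h2 Q hc hv').2 hs', mul_one]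
  · have hs' : IsSquare (c * Q v') := by
      by_contra hcon
      have h1 := isSquare_mul_of_not (mul_ne_zero hc hv) hs hcon
      obtain ⟨t, ht⟩ := h1
      apply hns
      refine ⟨t / c, ?_⟩
      field_simp
      linear_combination ht
    rw [(signHom_refl h2 Q hc hv).2 hs, (signHom_refl h2 Q hc hv').1 hs', one_mul]

/-- **moving an adapted structure to `δ` by an element of `Ω`**. -/
theorem exists_omega_conj (h2 : (2 : F) ≠ 0) (hodd : Fintype.card F % 2 = 1)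
    (hV : ND (QuadraticMap.polarBilin Q) ⊤) (hdim : 4 ≤ finrank F V) {e : F} (he : ¬ IsSquare e)
    {ζ : F} {δ δ₁ : Module.End F V} (h : OS Q δ ζ) (h₁ : OS Q δ₁ ζ) {z : V} (hz : Q z ≠ 0)
    (X : V ≃ₗ[F] V)
    (hX1 : (∀ v, X (δ₁ v) = δ₁ (X v)) ∨ (∀ v, X (δ₁ v) = -δ₁ (X v)))
    (hX2 : (∀ v, X (refl Q z (δ₁ (refl Q z v))) = refl Q z (δ₁ (refl Q z (X v)))) ∨
      (∀ v, X (refl Q z (δ₁ (refl Q z v))) = -refl Q z (δ₁ (refl Q z (X v))))) :
    ∃ k : ↥(Isom Q), signHom Q 1 k = 1 ∧ signHom Q e k = 1 ∧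
      ((∀ v, (k : V ≃ₗ[F] V) (X ((k : V ≃ₗ[F] V).symm (δ v))) =
          δ ((k : V ≃ₗ[F] V) (X ((k : V ≃ₗ[F] V).symm v)))) ∨
        (∀ v, (k : V ≃ₗ[F] V) (X ((k : V ≃ₗ[F] V).symm (δ v))) =
          -δ ((k : V ≃ₗ[F] V) (X ((k : V ≃ₗ[F] V).symm v))))) := by
  have he0 : e ≠ 0 := by
    rintro rfl
    exact he IsSquare.zero
  -- the transfer of (anti)commutation
  have transfer : ∀ (k : V ≃ₗ[F] V) (δ' : Module.End F V), (∀ v, k (δ' v) = δ (k v)) →
      ((∀ v, X (δ' v) = δ' (X v)) ∨ (∀ v, X (δ' v) = -δ' (X v))) →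
      ((∀ v, k (X (k.symm (δ v))) = δ (k (X (k.symm v)))) ∨
        (∀ v, k (X (k.symm (δ v))) = -δ (k (X (k.symm v))))) := by
    intro k δ' hk hX
    have hks : ∀ v, k.symm (δ v) = δ' (k.symm v) := by
      intro v
      apply k.injective
      rw [LinearEquiv.apply_symm_apply, hk, LinearEquiv.apply_symm_apply]
    rcases hX with hX | hX
    · left
      intro v
      rw [hks, hX, hk]
    · right
      intro v
      rw [hks, hX, map_neg, hk]
  -- step 1: an isometry moving `δ₁` to `δ`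
  obtain ⟨g, hgQ, hg⟩ := Cfsg.Agent.Lead.OFx.exists_isom_conj h2 hodd hV h₁ h
  -- step 2: the coset element
  obtain ⟨v, v', hv, hv', hns, hvv⟩ := exists_cent_pair h2 h hV hdim
  obtain ⟨G, hG⟩ : ∃ G : ↥(Isom Q), G = ⟨g, hgQ⟩ := ⟨_, rfl⟩
  obtain ⟨R, hR⟩ : ∃ R : ↥(Isom Q), R = ⟨refl Q z, refl_mem Q z⟩ := ⟨_, rfl⟩
  obtain ⟨N₀, hN₀⟩ : ∃ N₀ : ↥(Isom Q), N₀ = ⟨refl Q v, refl_mem Q v⟩ * ⟨refl Q v', refl_mem Q v'⟩ :=
    ⟨_, rfl⟩
  have hN1 : signHom Q 1 N₀ = -1 := by rw [hN₀]; exact sign_refl_pair h2 one_ne_zero hv hv' hns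
  have hNe : signHom Q e N₀ = -1 := by rw [hN₀]; exact sign_refl_pair h2 he0 hv hv' hns
  have hRf : signHom Q 1 R = -signHom Q e R := by rw [hR]; exact sign_refl_flip h2 he hz
  have hNapp : ∀ u, (N₀ : V ≃ₗ[F] V) u = refl Q v (refl Q v' u) := by
    intro u
    rw [hN₀]
    rfl
  -- step 3: an isometry of determinant one moving an adapted structure to `δ`
  have step3 : ∃ (k₁ : ↥(Isom Q)) (δ' : Module.End F V), signHom Q 1 k₁ = signHom Q e k₁ ∧
      (∀ u, (k₁ : V ≃ₗ[F] V) (δ' u) = δ ((k₁ : V ≃ₗ[F] V) u)) ∧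
      ((∀ u, X (δ' u) = δ' (X u)) ∨ (∀ u, X (δ' u) = -δ' (X u))) := by
    by_cases hs : signHom Q 1 G = signHom Q e G
    · refine ⟨G, δ₁, hs, ?_, hX1⟩
      intro u
      rw [hG]
      exact hg u
    · have hs' : signHom Q 1 G = -signHom Q e G := by
        rcases Int.units_eq_one_or (signHom Q 1 G) with h1 | h1 <;>
          rcases Int.units_eq_one_or (signHom Q e G) with h2' | h2' <;> rw [h1, h2'] at hs ⊢ <;>
          first | rfl | exact absurd rfl hs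
      refine ⟨G * R, (refl Q z : V →ₗ[F] V) ∘ₗ δ₁ ∘ₗ (refl Q z : V →ₗ[F] V), ?_, ?_, hX2⟩
      · rw [map_mul, map_mul, hs', hRf, neg_mul_neg]
      · intro u
        rw [hG, hR]
        show g (refl Q z (refl Q z (δ₁ (refl Q z u)))) = δ (g (refl Q z u))
        rw [refl_refl, hg]
  obtain ⟨k₁, δ', hk1, hk2, hk3⟩ := step3
  -- step 4: adjust the spinor norm
  rcases Int.units_eq_one_or (signHom Q 1 k₁) with h1 | h1
  · exact ⟨k₁, h1, by rw [← hk1, h1], transfer _ δ' hk2 hk3⟩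
  · refine ⟨N₀ * k₁, by rw [map_mul, hN1, h1]; rfl, by rw [map_mul, hNe, ← hk1, h1]; rfl, ?_⟩
    apply transfer _ δ' _ hk3
    intro u
    show (N₀ : V ≃ₗ[F] V) ((k₁ : V ≃ₗ[F] V) (δ' u)) = δ ((N₀ : V ≃ₗ[F] V) ((k₁ : V ≃ₗ[F] V) u))
    rw [hk2, hNapp, hNapp, hvv]

end Cfsg.Agent.Helper7.OFx
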