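import Mathlib
import Cfsg.Agent.Helper7.OpNDA
import Cfsg.Agent.Helper7.OpTST
import Cfsg.Agent.Helper2.PSL3InvA

set_option autoImplicit false
set_option linter.unusedSectionVars false
set_option linter.unusedVariables false

/-!
# Involutions (odd characteristic) fix nondegenerate subspaces of every admissible dimension and type
-/

namespace Cfsg.Agent.Helper7.OpND

open Matrix Module Polynomial Cfsg.Agent.Helper7.POrd Cfsg.Agent.Helper7.SpOrd Cfsg.Agent.Helper7.SpTI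
  Cfsg.Agent.Helper7.OrTS Cfsg.Agent.Helper7.QTy Cfsg.Agent.Helper7.QPa
  Cfsg.Agent.Helper7.OpTS Cfsg.Agent.Helper8.QuadForm Cfsg.Agent.Helper8.OrT Cfsg.Agent.Helper8.OrR
  Cfsg.Agent.Helper8.StdForms

universe u

variable {F : Type u} [Field F] [Fintype F] {V : Type u} [AddCommGroup V] [Module F V] [FiniteDimensional F V]

/-- inside the orthogonal sum of two nondegenerate subspaces, the first of dimension at least four, there are
nondegenerate subspaces of every even dimension and every type, split along the two summands. -/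
theorem exists_split_nd {Q : QuadraticForm F V} (hV : ND (QuadraticMap.polarBilin Q) ⊤)
    {E₁ E₂ : Submodule F V} (hE₁ : ND (QuadraticMap.polarBilin Q) E₁)
    (hE₂ : ND (QuadraticMap.polarBilin Q) E₂)
    (h12 : E₂ ≤ LinearMap.BilinForm.orthogonal (QuadraticMap.polarBilin Q) E₁) {a₁ a₂ : ℕ}
    (hd₁ : finrank F ↥E₁ = 2 * a₁) (hd₂ : finrank F ↥E₂ = 2 * a₂) (ha₁ : 2 ≤ a₁) (ha₂ : 1 ≤ a₂)
    {μ : ℕ} (hμ1 : 1 ≤ μ) (hμ : μ + 1 ≤ a₁ + a₂) {δ : ℤ} (hδ : δ = 1 ∨ δ = -1) :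
    ∃ W₁ W₂ : Submodule F V, W₁ ≤ E₁ ∧ W₂ ≤ E₂ ∧ ND (QuadraticMap.polarBilin Q) (W₁ ⊔ W₂) ∧
      finrank F ↥(W₁ ⊔ W₂) = 2 * μ ∧ sg Q (W₁ ⊔ W₂) = δ := by
  obtain ⟨b₂, hb₂⟩ : ∃ b₂, b₂ = μ + 1 - a₁ := ⟨_, rfl⟩
  obtain ⟨b₁, hb₁⟩ : ∃ b₁, b₁ = μ - b₂ := ⟨_, rfl⟩
  obtain ⟨W₂, hW₂E, hW₂nd, hW₂d, -⟩ := exists_nd_sub_le hE₂ hd₂ (by omega : b₂ ≤ a₂)
    (b₂ = a₂ → Hyp Q E₂) (by intro h0 h1; omega) (by
      intro heq
      exact ⟨fun hP => hP heq, fun hy _ => hy⟩)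
  obtain ⟨W₁, hW₁E, hW₁nd, hW₁d, hW₁h⟩ := exists_nd_sub_le hE₁ hd₁ (by omega : b₁ ≤ a₁)
    (δ * sg Q W₂ = 1) (by intro h0; omega) (by intro h0; omega)
  have hperp : W₂ ≤ LinearMap.BilinForm.orthogonal (QuadraticMap.polarBilin Q) W₁ :=
    (hW₂E.trans h12).trans (LinearMap.BilinForm.orthogonal_le hW₁E)
  refine ⟨W₁, W₂, hW₁E, hW₂E, nd_sup (pB_refl Q) hW₁nd hW₂nd hperp, ?_, ?_⟩
  · rw [finrank_sup_of_le_perp (pB_refl Q) hW₁nd hperp, hW₁d, hW₂d]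
    omega
  · rw [sg_sup hV hW₁nd hW₂nd hperp ⟨b₁, by rw [hW₁d]; ring⟩ ⟨b₂, by rw [hW₂d]; ring⟩]
    have h1 : sg Q W₁ = δ * sg Q W₂ := by
      rcases sg_cases Q W₂ with h2 | h2 <;> rcases hδ with h3 | h3 <;> rw [h2, h3] at hW₁h ⊢
      · exact sg_eq_one_iff.mpr (hW₁h.mpr (by norm_num))
      · exact sg_eq_neg_one_iff.mpr (fun hy => by have := hW₁h.mp hy; norm_num at this)
      · exact sg_eq_neg_one_iff.mpr (fun hy => by have := hW₁h.mp hy; norm_num at this)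
      · exact sg_eq_one_iff.mpr (hW₁h.mpr (by norm_num))
    rw [h1]
    rcases sg_cases Q W₂ with h2 | h2 <;> rw [h2] <;> ring

/-- **involutions**: an involution other than `±1` whose eigenspaces have even dimension fixes
nondegenerate subspaces of every even dimension between `2` and `2d - 2` and every type. -/
theorem exists_nd_invol (h2F : (2 : F) ≠ 0) {Q : QuadraticForm F V}
    (hV : ND (QuadraticMap.polarBilin Q) ⊤) {d : ℕ} (hdim : finrank F V = 2 * d) (hd : 3 ≤ d)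
    {T : Module.End F V} (hQT : ∀ v, Q (T v) = Q v) (hT : T ^ 2 = 1) (h1 : T ≠ 1) (hm1 : T ≠ -1)
    (hev : Even (finrank F ↥(movS 2 T))) {μ : ℕ} (hμ1 : 1 ≤ μ) (hμ : μ + 1 ≤ d) {δ : ℤ}
    (hδ : δ = 1 ∨ δ = -1) :
    ∃ W : Submodule F V, W ∈ Module.End.invtSubmodule T ∧ ND (QuadraticMap.polarBilin Q) W ∧
      finrank F ↥W = 2 * μ ∧ sg Q W = δ := by
  haveI : Finite V := Module.finite_of_finite F
  have hrF := two_cast_ne_zero h2F
  have hrefl := pB_refl Q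
  have hiso := iso_of_Q hQT
  obtain ⟨ha, hb⟩ := finrank_pos_of_invol h2F hT h1 hm1
  have hsum := finrank_fix_add_mov hrF hT
  rw [hdim] at hsum
  have hmovnd : ND (QuadraticMap.polarBilin Q) (movS 2 T) := by
    have := nd_inf_mov hrefl hiso hrF hT (Module.End.invtSubmodule.top_mem T) hV
    rwa [top_inf_eq] at this
  have hfixnd : ND (QuadraticMap.polarBilin Q) (fixS T) := by
    have := nd_inf_fix hrefl hiso hrF hT (Module.End.invtSubmodule.top_mem T) hV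
    rwa [top_inf_eq] at this
  have hperp : movS 2 T ≤ LinearMap.BilinForm.orthogonal (QuadraticMap.polarBilin Q) (fixS T) := by
    intro v hv
    rw [mem_perp]
    intro w hw
    exact fix_perp_mov hiso hrF hw hv
  have hperp' : fixS T ≤ LinearMap.BilinForm.orthogonal (QuadraticMap.polarBilin Q) (movS 2 T) := by
    intro v hv
    rw [mem_perp]
    intro w hw
    rw [hrefl.eq_zero]
    · exact fix_perp_mov hiso hrF hv hw
  obtain ⟨a₂, ha₂⟩ := hev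
  obtain ⟨a₁, ha₁⟩ : ∃ a₁, finrank F ↥(fixS T) = a₁ + a₁ := ⟨d - a₂, by omega⟩
  by_cases hbig : 2 ≤ a₁
  · obtain ⟨W₁, W₂, hW₁, hW₂, hnd, hdW, hsg⟩ := exists_split_nd hV hfixnd hmovnd hperp
      (by rw [ha₁]; ring) (by rw [ha₂]; ring) hbig (by omega) hμ1 (by omega) hδ
    exact ⟨W₁ ⊔ W₂, sup_invt (invt_of_le_fixS hW₁) (invt_of_le_movS_two hW₂), hnd, hdW, hsg⟩
  · obtain ⟨W₁, W₂, hW₁, hW₂, hnd, hdW, hsg⟩ := exists_split_nd hV hmovnd hfixnd hperp'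
      (by rw [ha₂]; ring) (by rw [ha₁]; ring) (by omega) (by omega) hμ1 (by omega) hδ
    exact ⟨W₁ ⊔ W₂, sup_invt (invt_of_le_movS_two hW₁) (invt_of_le_fixS hW₂), hnd, hdW, hsg⟩

end Cfsg.Agent.Helper7.OpND
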