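import Mathlib
import Cfsg.Agent.Helper7.OpNDR

set_option autoImplicit false
set_option linter.unusedSectionVars false
set_option linter.unusedVariables false

/-!
# Involutions of `Ω`, odd characteristic: group level
-/

namespace Cfsg.Agent.Helper7.OpND

open Matrix Module Polynomial Cfsg.Agent.Helper7.POrd Cfsg.Agent.Helper7.SpOrd Cfsg.Agent.Helper7.SpTI
  Cfsg.Agent.Helper7.OrTS Cfsg.Agent.Helper7.QTy Cfsg.Agent.Helper7.QPa
  Cfsg.Agent.Helper7.OpTS Cfsg.Agent.Helper8.QuadForm Cfsg.Agent.Helper8.OrT Cfsg.Agent.Helper8.OrR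
  Cfsg.Agent.Helper8.StdForms

universe u

variable {F : Type u} [Field F] [Fintype F] {ι : Type} [Fintype ι] [DecidableEq ι]

theorem det_eq_one_of_mem_omega {Q : (ι → F) → F} {x : GL ι F} (hx : x ∈ Cfsg.Geo.omegaGL Q) :
    (x : Matrix ι ι F).det = 1 := by
  obtain ⟨y, hy, rfl⟩ := hx
  have h1 : y ∈ ((Matrix.GeneralLinearGroup.det (n := ι) (R := F)).comp
      (Cfsg.isometryGroup F Q).subtype).ker :=
    (Abelianization.commutator_subset_ker _) hy
  rw [MonoidHom.mem_ker, MonoidHom.comp_apply] at h1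
  have h2 := congrArg (fun u : Fˣ => (u : F)) h1
  simpa using h2

/-- the `-1`-eigenspace of an involution of `Ω` has even dimension. -/
theorem even_mov_of_omega (h2F : (2 : F) ≠ 0) {Q : (ι → F) → F} {x : GL ι F}
    (hx : x ∈ Cfsg.Geo.omegaGL Q)
    (hT : (Matrix.toLin' (x : Matrix ι ι F) : Module.End F (ι → F)) ^ 2 = 1) :
    Even (finrank F ↥(movS 2 (Matrix.toLin' (x : Matrix ι ι F) : Module.End F (ι → F)))) := by
  have hdet := det_eq_one_of_mem_omega hx
  have hc := Cfsg.Agent.Helper2.PSL3Inv.isCompl_Em_Ep h2F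
    (Matrix.toLin' (x : Matrix ι ι F) : Module.End F (ι → F)) (by rw [← pow_two]; exact hT)
  have h1 := Cfsg.Agent.Helper2.PSL3Inv.det_eq_neg_one_pow hc
  rw [LinearMap.det_toLin', hdet] at h1
  have heq : Cfsg.Agent.Helper2.PSL3Inv.Em (Matrix.toLin' (x : Matrix ι ι F) : Module.End F (ι → F)) =
      movS 2 (Matrix.toLin' (x : Matrix ι ι F) : Module.End F (ι → F)) := by
    ext v
    rw [Cfsg.Agent.Helper2.PSL3Inv.mem_Em, mem_movS_two_iff]
  rw [heq] at h1
  have hne : (-1 : F) ≠ 1 := by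
    intro h
    apply h2F
    linear_combination -h
  exact (neg_one_pow_eq_one_iff_even hne).mp h1.symm

/-- **involutions of `Ω`, group level.** -/
theorem exists_nd_of_invol_gl (h2F : (2 : F) ≠ 0) (Qs : QuadraticForm F (ι → F))
    (hQs : ND (QuadraticMap.polarBilin Qs) ⊤) {d : ℕ} (hd : 3 ≤ d)
    (hdim : finrank F (ι → F) = 2 * d) {x : GL ι F} (hxΩ : x ∈ Cfsg.Geo.omegaGL ⇑Qs)
    (hz : ((x ^ 2 : GL ι F) : Matrix ι ι F) = (1 : F) • (1 : Matrix ι ι F))
    (hxns : ∀ z : F, (x : Matrix ι ι F) ≠ z • (1 : Matrix ι ι F))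
    {μ : ℕ} (hμ1 : 1 ≤ μ) (hμ : μ + 1 ≤ d) {δ : ℤ} (hδ : δ = 1 ∨ δ = -1) :
    ∃ W : Submodule F (ι → F), finrank F ↥W = 2 * μ ∧ ND (QuadraticMap.polarBilin Qs) W ∧
      sg Qs W = δ ∧ W.map (Matrix.toLin' (x : Matrix ι ι F)) ≤ W := by
  have hxiso := iso_of_mem_omega hxΩ
  have hQT := QT_of_mem_iso hxiso
  have hsq := toLin'_sq_of_scalar hz
  have hT : (Matrix.toLin' (x : Matrix ι ι F) : Module.End F (ι → F)) ^ 2 = 1 := by
    apply LinearMap.ext
    intro v
    rw [pow_two, Module.End.mul_apply, hsq, one_smul, Module.End.one_apply]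
  have h1 : (Matrix.toLin' (x : Matrix ι ι F) : Module.End F (ι → F)) ≠ 1 := by
    have := toLin'_ne_smul_one hxns 1
    rwa [one_smul] at this
  have hm1 : (Matrix.toLin' (x : Matrix ι ι F) : Module.End F (ι → F)) ≠ -1 := by
    intro h
    apply toLin'_ne_smul_one hxns (-1)
    rw [h]
    apply LinearMap.ext
    intro v
    simp
  obtain ⟨W, hW1, hW2, hW3, hW4⟩ := exists_nd_invol h2F hQs hdim hd hQT hT h1 hm1
    (even_mov_of_omega h2F hxΩ hT) hμ1 hμ hδ
  exact ⟨W, hW3, hW2, hW4, map_le_of_invt hW1⟩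

end Cfsg.Agent.Helper7.OpND
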