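import Mathlib
import Cfsg.Agent.Helper7.OFxR
import Cfsg.Agent.Helper7.OFxJ
import Cfsg.Agent.Helper7.OrthMaxC
import Cfsg.Agent.Helper7.OpNDS

set_option autoImplicit false
set_option linter.unusedSectionVars false
set_option linter.unusedVariables false

/-!
# Subgroups of type `O_d(q²)` of `Ω^±_{2d}(q)`: every involution (modulo scalars) fixes a point
-/

namespace Cfsg.Agent.Helper7.OFx

open Matrix Module Cfsg.Agent.Helper7.SpOrd Cfsg.Agent.Helper7.UTy Cfsg.Agent.Helper7.FEx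
  Cfsg.Agent.Helper7.OpTS Cfsg.Agent.Helper7.OpND Cfsg.Agent.Helper7.OrthMax
  Cfsg.Agent.Helper8.OrthOrder Cfsg.Agent.Helper8.QuadForm Cfsg.Agent.Helper8.Reflections
  Cfsg.Agent.Helper8.ReflMatrix Cfsg.Agent.Helper8.SpinorSign Cfsg.Agent.Helper8.OmegaOdd

universe u

variable {F : Type u} [Field F] [Fintype F] {ι : Type} [Fintype ι] [DecidableEq ι]
  {Qs : QuadraticForm F (ι → F)}

/-- the backward direction: every element of order two modulo scalars fixes a point. -/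
theorem backward [Nonempty ι] (h2 : (2 : F) ≠ 0) (hodd : Fintype.card F % 2 = 1)
    (hQs : ND (QuadraticMap.polarBilin Qs) ⊤) (h4 : 4 ≤ Fintype.card ι)
    {K : Subalgebra F (Matrix ι ι F)} {δm : Matrix ι ι F} {ζ : F} (hgen : KGen K δm ζ) (hM : MOS Qs δm ζ)
    (hadapt : ∀ X : (ι → F) ≃ₗ[F] (ι → F), (∀ v, Qs (X v) = Qs v) →
      LinearMap.det (X : (ι → F) →ₗ[F] (ι → F)) = 1 →
      (((∀ v, X (X v) = v) ∧ (∃ v, X v ≠ v) ∧ (∃ v, X v ≠ -v)) ∨ (∀ v, X (X v) = -v)) →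
      ∃ (δ₁ : Module.End F (ι → F)) (z : ι → F), OS Qs δ₁ ζ ∧ Qs z ≠ 0 ∧
        ((∀ v, X (δ₁ v) = δ₁ (X v)) ∨ (∀ v, X (δ₁ v) = -δ₁ (X v))) ∧
        ((∀ v, X (refl Qs z (δ₁ (refl Qs z v))) = refl Qs z (δ₁ (refl Qs z (X v)))) ∨
          (∀ v, X (refl Qs z (δ₁ (refl Qs z v))) = -refl Qs z (δ₁ (refl Qs z (X v))))))
    (x : GL ι F) (hx : x ∈ Cfsg.Geo.omegaGL ⇑Qs)
    (hx2 : ∃ z : F, ((x ^ 2 : GL ι F) : Matrix ι ι F) = z • (1 : Matrix ι ι F))
    (hns : ∀ z : F, (x : Matrix ι ι F) ≠ z • (1 : Matrix ι ι F)) :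
    ∃ g ∈ Cfsg.Geo.omegaGL ⇑Qs, g⁻¹ * x * g ∈ Cfsg.Geo.subalgebraNormalizer K := by
  classical
  have hnd : (QuadraticMap.polarBilin Qs).Nondegenerate := (nondeg_iff Qs).mpr (nondeg_of_nd_top hQs)
  have hxiso := iso_of_mem_omega hx
  obtain ⟨X, hXdef⟩ : ∃ X : (ι → F) ≃ₗ[F] (ι → F), X = glEquiv x := ⟨_, rfl⟩
  have hXv : ∀ v, X v = (x : Matrix ι ι F) *ᵥ v := by
    intro v
    rw [hXdef]
    rfl
  have hXQ : ∀ v, Qs (X v) = Qs v := by
    intro v
    rw [hXv]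
    exact hxiso v v
  have hdet : LinearMap.det (X : (ι → F) →ₗ[F] (ι → F)) = 1 := by
    have e1 : (X : (ι → F) →ₗ[F] (ι → F)) = Matrix.toLin' (x : Matrix ι ι F) := by
      apply LinearMap.ext
      intro v
      rw [Matrix.toLin'_apply]
      exact hXv v
    rw [e1, LinearMap.det_toLin']
    exact det_eq_one_of_mem_omega hx
  obtain ⟨c, hc⟩ := hx2
  have key : ∀ v, X (X v) = c • v := by
    intro v
    rw [hXv, hXv, mulVec_mulVec, ← pow_two, ← Units.val_pow_eq_pow_val, hc, Matrix.smul_mulVec, Matrix.one_mulVec]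
  have hcase : ((∀ v, X (X v) = v) ∧ (∃ v, X v ≠ v) ∧ (∃ v, X v ≠ -v)) ∨ (∀ v, X (X v) = -v) := by
    rcases scalar_pow_pm_one hQs hxiso hc with h | h
    · left
      refine ⟨fun v => by rw [key, h, one_smul], ?_, ?_⟩
      · by_contra hcon
        push Not at hcon
        apply hns 1
        apply matrix_ext
        intro v
        rw [← hXv, hcon, Matrix.smul_mulVec, Matrix.one_mulVec, one_smul]
      · by_contra hcon
        push Not at hcon
        apply hns (-1)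
        apply matrix_ext
        intro v
        rw [← hXv, hcon, Matrix.smul_mulVec, Matrix.one_mulVec, neg_smul, one_smul]
    · right
      intro v
      rw [key, h, neg_smul, one_smul]
  obtain ⟨δ₁, z, h₁, hz, hX1, hX2⟩ := hadapt X hXQ hdet hcase
  obtain ⟨e, he⟩ := exists_nonsquare (F := F) h2
  have hdim : 4 ≤ finrank F (ι → F) := by rw [Module.finrank_fintype_fun_eq_card]; exact h4
  obtain ⟨k, hk1, hke, hk⟩ := exists_omega_conj h2 hodd hQs hdim he hM.os h₁ hz X hX1 hX2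
  -- the matrix of `k`
  obtain ⟨kk, hkk⟩ : ∃ kk : ↥(Cfsg.isometryGroup F ⇑Qs), kk = (isomEquiv Qs).symm k := ⟨_, rfl⟩
  obtain ⟨G, hG⟩ : ∃ G : GL ι F, G = toGL Qs k := ⟨_, rfl⟩
  have hGkk : G = kk.1 := by rw [hG, hkk]; rfl
  have hGv : ∀ v, (G : Matrix ι ι F) *ᵥ v = (k : (ι → F) ≃ₗ[F] (ι → F)) v := by
    intro v
    rw [hG]
    exact toGL_mulVec Qs k v
  have hGiv : ∀ v, ((G⁻¹ : GL ι F) : Matrix ι ι F) *ᵥ v = (k : (ι → F) ≃ₗ[F] (ι → F)).symm v := by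
    intro v
    apply (k : (ι → F) ≃ₗ[F] (ι → F)).injective
    rw [← hGv, mulVec_mulVec, ← Units.val_mul, mul_inv_cancel, Units.val_one, one_mulVec,
      LinearEquiv.apply_symm_apply]
  have hGΩ : G ∈ Cfsg.Geo.omegaGL ⇑Qs := by
    have hchi : ∀ c : F, chi Qs c kk = signHom Qs c k := by
      intro c
      unfold chi
      rw [MonoidHom.comp_apply, hkk]
      congr 1
      exact MulEquiv.apply_symm_apply _ _
    have hmem : kk ∈ commutator ↥(Cfsg.isometryGroup F ⇑Qs) :=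
      ((commutator_eq Qs h2 hnd (by omega) he).2 kk).mpr ⟨by rw [hchi, hk1], by rw [hchi, hke]⟩
    rw [hGkk]
    exact ⟨kk, hmem, rfl⟩
  refine ⟨G⁻¹, Subgroup.inv_mem _ hGΩ, ?_⟩
  rw [inv_inv, mem_normalizer_iff h2 hgen]
  -- the conjugate
  have hyv : ∀ v, ((G * x * G⁻¹ : GL ι F) : Matrix ι ι F) *ᵥ v =
      (k : (ι → F) ≃ₗ[F] (ι → F)) (X ((k : (ι → F) ≃ₗ[F] (ι → F)).symm v)) := by
    intro v
    rw [Units.val_mul, Units.val_mul, ← mulVec_mulVec, ← mulVec_mulVec, hGiv, hGv, hXv]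
  have h1 : ((G * x * G⁻¹ : GL ι F) : Matrix ι ι F) * (((G * x * G⁻¹)⁻¹ : GL ι F) : Matrix ι ι F) = 1 := by
    rw [← Units.val_mul, mul_inv_cancel, Units.val_one]
  rcases hk with hk | hk
  · left
    have hcomm : ((G * x * G⁻¹ : GL ι F) : Matrix ι ι F) * δm =
        δm * ((G * x * G⁻¹ : GL ι F) : Matrix ι ι F) := by
      apply matrix_ext
      intro v
      rw [← mulVec_mulVec, ← mulVec_mulVec, hyv, hyv, ← Matrix.toLin'_apply δm, ← Matrix.toLin'_apply δm]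
      exact hk v
    rw [hcomm, mul_assoc, h1, mul_one]
  · right
    have hcomm : ((G * x * G⁻¹ : GL ι F) : Matrix ι ι F) * δm =
        -(δm * ((G * x * G⁻¹ : GL ι F) : Matrix ι ι F)) := by
      apply matrix_ext
      intro v
      rw [Matrix.neg_mulVec, ← mulVec_mulVec, ← mulVec_mulVec, hyv, hyv, ← Matrix.toLin'_apply δm,
        ← Matrix.toLin'_apply δm]
      exact hk v
    rw [hcomm, neg_mul, mul_assoc, h1, mul_one]

end Cfsg.Agent.Helper7.OFx
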