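import Mathlib
import Cfsg.Agent.Helper7.OFxO
import Cfsg.Agent.Helper7.OFxQ
import Cfsg.Agent.Helper7.OFxS
import Cfsg.Agent.Helper7.FiniteFieldBasics

set_option autoImplicit false
set_option linter.unusedSectionVars false
set_option linter.unusedVariables false

/-!
# Subgroups of type `O_d(q²)` of `Ω^±_{2d}(q)`, `q` odd: the generic criterion
-/

namespace Cfsg.Agent.Helper7.OFx

open Matrix Module Cfsg.Agent.Helper7.SpOrd Cfsg.Agent.Helper7.UTy Cfsg.Agent.Helper7.FEx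
  Cfsg.Agent.Helper8.Reflections

universe u

variable {F : Type u} [Field F] [Fintype F] {ι : Type} [Fintype ι] [DecidableEq ι]
  {Qs : QuadraticForm F (ι → F)}

/-- **the generic criterion**: for a prime `r` dividing the index of the normalizer of `K` in `Ω`, every
element of order `r` modulo scalars fixes a point iff `r = 2`. -/
theorem main_generic [Nonempty ι] (p : ℕ) [Fact p.Prime] [CharP F p] (hodd : Odd (Fintype.card F))
    (hQs : ND (QuadraticMap.polarBilin Qs) ⊤) {d : ℕ} (hd : 4 ≤ d) (hι : Fintype.card ι = 2 * d)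
    {a b : ι → F} (ha : Qs a = 0) (hb : Qs b = 0) (hab : QuadraticMap.polar Qs a b = 0)
    (hli : LinearIndependent F ![a, b])
    (K : Subalgebra F (Matrix ι ι F)) (hK : Cfsg.Geo.IsFieldSubalgebra 2 K)
    (hKf : Cfsg.Geo.IsSelfAdjointFor (QuadraticMap.polar ⇑Qs) K)
    (r : ℕ) [Fact r.Prime]
    (hΩ : r ∣ (Cfsg.Geo.subalgebraNormalizer K).relIndex (Cfsg.Geo.omegaGL ⇑Qs))
    (hadapt : ∀ ζ : F, ¬ IsSquare ζ → ∀ X : (ι → F) ≃ₗ[F] (ι → F), (∀ v, Qs (X v) = Qs v) →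
      LinearMap.det (X : (ι → F) →ₗ[F] (ι → F)) = 1 →
      (((∀ v, X (X v) = v) ∧ (∃ v, X v ≠ v) ∧ (∃ v, X v ≠ -v)) ∨ (∀ v, X (X v) = -v)) →
      ∃ (δ₁ : Module.End F (ι → F)) (z : ι → F), OS Qs δ₁ ζ ∧ Qs z ≠ 0 ∧
        ((∀ v, X (δ₁ v) = δ₁ (X v)) ∨ (∀ v, X (δ₁ v) = -δ₁ (X v))) ∧
        ((∀ v, X (refl Qs z (δ₁ (refl Qs z v))) = refl Qs z (δ₁ (refl Qs z (X v)))) ∨
          (∀ v, X (refl Qs z (δ₁ (refl Qs z v))) = -refl Qs z (δ₁ (refl Qs z (X v)))))) :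
    (∀ x ∈ Cfsg.Geo.omegaGL ⇑Qs,
      (∃ z : F, ((x ^ r : GL ι F) : Matrix ι ι F) = z • (1 : Matrix ι ι F)) →
      (∀ z : F, (x : Matrix ι ι F) ≠ z • (1 : Matrix ι ι F)) →
      ∃ g ∈ Cfsg.Geo.omegaGL ⇑Qs, g⁻¹ * x * g ∈ Cfsg.Geo.subalgebraNormalizer K) ↔ r = 2 := by
  have h2 : (2 : F) ≠ 0 := Cfsg.Agent.Helper7.two_ne_zero_of_odd_card hodd
  have hodd' : Fintype.card F % 2 = 1 := Nat.odd_iff.mp hodd
  obtain ⟨δm, ζ, hgen, hM⟩ := exists_MOS (Qs := Qs) h2 K hK hKf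
  constructor
  · intro hall
    by_contra hr2
    by_cases hrp : r = p
    · subst hrp
      exact not_forall_of_char h2 hQs (by omega) hr2 hK hgen hM ha hb hab hli hall
    · exact not_forall_of_odd h2 hQs (by omega) hι hr2 hrp hK hgen hM hΩ hall
  · rintro rfl
    intro x hx hx2 hns
    exact backward h2 hodd' hQs (by omega) hgen hM (hadapt ζ hgen.nsq) x hx hx2 hns

end Cfsg.Agent.Helper7.OFx
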