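import Mathlib
import Cfsg.Agent.Helper7.OpNDE

set_option autoImplicit false
set_option linter.unusedSectionVars false
set_option linter.unusedVariables false

/-!
# Odd primes `r ≠ p` dividing the number of nondegenerate subspaces of given dimension and type
-/

namespace Cfsg.Agent.Helper7.OpND

open Matrix Module Polynomial Cfsg.Agent.Helper7.POrd Cfsg.Agent.Helper7.SpOrd Cfsg.Agent.Helper7.SpTI
  Cfsg.Agent.Helper7.OrTS Cfsg.Agent.Helper7.QTy Cfsg.Agent.Helper7.QPa Cfsg.Agent.Helper7.QMi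
  Cfsg.Agent.Helper7.OpTS Cfsg.Agent.Helper8.QuadForm Cfsg.Agent.Helper8.OrT Cfsg.Agent.Helper8.OrR
  Cfsg.Agent.Helper8.StdForms Cfsg.Agent.Helper8.OrthOrder

universe u

/-- the necessary condition for `r` to divide the number of nondegenerate `2a`-subspaces of sign `δ` in a
space of dimension `2d` and sign `ε`, with `b = d - a`. -/
def Weak (i d b : ℕ) (ε δ : ℤ) : Prop :=
  (ε = 1 ∧ i ∣ d) ∨ (ε = -1 ∧ i ∣ 2 * d ∧ ¬ i ∣ d) ∨ (ε * δ = 1 ∧ i ∣ 2 * b ∧ ¬ i ∣ b) ∨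
    (ε * δ = -1 ∧ i ∣ b) ∨ ∃ l, b < l ∧ l < d ∧ i ∣ 2 * l

theorem fO_pos {q : ℕ} (hq : 2 ≤ q) (s : ℤ) {e : ℕ} (he : 1 ≤ e) : 0 < fO q s e := by
  unfold fO
  have : 2 ≤ q ^ e := by
    calc 2 ≤ q ^ 1 := by rw [pow_one]; exact hq
      _ ≤ q ^ e := Nat.pow_le_pow_right (by omega) he
  split_ifs <;> omega

theorem piO_pos {q : ℕ} (hq : 2 ≤ q) (k : ℕ) : 0 < piO q k := by
  unfold piO
  apply Finset.prod_pos
  intro i _
  have : 2 ≤ q ^ (2 * (i + 1)) := by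
    calc 2 ≤ q ^ 1 := by rw [pow_one]; exact hq
      _ ≤ q ^ (2 * (i + 1)) := Nat.pow_le_pow_right (by omega) (by omega)
  omega

theorem fO_mul_fO (q : ℕ) {s : ℤ} (hs : s = 1 ∨ s = -1) (e : ℕ) :
    fO q s e * fO q (-s) e = q ^ (2 * e) - 1 := by
  have h1 : q ^ (2 * e) - 1 = (q ^ e + 1) * (q ^ e - 1) := by
    have := Nat.sq_sub_sq (q ^ e) 1
    rw [one_pow, ← pow_mul, mul_comm e 2] at this
    exact this
  unfold fO
  rcases hs with rfl | rfl
  · rw [if_pos rfl, if_neg (by norm_num), h1, mul_comm]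
  · rw [if_neg (by norm_num), if_pos (by norm_num), h1]

theorem piO_split (q A B : ℕ) :
    piO q (A + B + 1) = piO q B * (q ^ (2 * (B + 1)) - 1) *
      ∏ x ∈ Finset.range A, (q ^ (2 * (B + 1 + x + 1)) - 1) := by
  unfold piO
  rw [show A + B + 1 = (B + 1) + A by ring, Finset.prod_range_add, Finset.prod_range_succ]

variable {F : Type u} [Field F] [Fintype F] {p : ℕ} [Fact p.Prime] [CharP F p] {r : ℕ} [Fact r.Prime]
  {V : Type u} [AddCommGroup V] [Module F V] [FiniteDimensional F V]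

/-- **odd primes `r ≠ p` dividing the number of nondegenerate subspaces of given dimension and sign.** -/
theorem weak_of_dvd (hr2 : r ≠ 2) (hrp : r ≠ p) {Q : QuadraticForm F V}
    (hV : ND (QuadraticMap.polarBilin Q) ⊤) {a b : ℕ}
    (ha : 1 ≤ a) (hb : 1 ≤ b) (hdim : finrank F V = 2 * (a + b)) {δ : ℤ} (hδ : δ = 1 ∨ δ = -1)
    (h : r ∣ Nat.card {W : Submodule F V // ND (QuadraticMap.polarBilin Q) W ∧ finrank F ↥W = 2 * a ∧
      sg Q W = δ}) :
    Weak (orderOf ((Fintype.card F : ℕ) : ZMod r)) (a + b) b (sg Q ⊤) δ := by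
  have hr : r.Prime := Fact.out
  have hq : 2 ≤ Fintype.card F := Fintype.one_lt_card
  obtain ⟨q, hqdef⟩ : ∃ q, q = Fintype.card F := ⟨_, rfl⟩
  obtain ⟨ε, hε⟩ : ∃ ε, ε = sg Q ⊤ := ⟨_, rfl⟩
  have hεc : ε = 1 ∨ ε = -1 := by rw [hε]; exact sg_cases Q ⊤
  have hεδ : ε * δ = 1 ∨ ε * δ = -1 := by
    rcases hεc with h1 | h1 <;> rcases hδ with h2 | h2 <;> rw [h1, h2] <;> norm_num
  obtain ⟨A, rfl⟩ : ∃ A, a = A + 1 := ⟨a - 1, by omega⟩
  obtain ⟨B, rfl⟩ : ∃ B, b = B + 1 := ⟨b - 1, by omega⟩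
  have hcount := card_ndsub_mul hV ha hb hdim hδ
  rw [← hqdef, ← hε] at hcount
  rw [← hqdef] at hq
  obtain ⟨N, hN⟩ : ∃ N, N = Nat.card {W : Submodule F V // ND (QuadraticMap.polarBilin Q) W ∧
      finrank F ↥W = 2 * (A + 1) ∧ sg Q W = δ} := ⟨_, rfl⟩
  rw [← hN] at hcount h
  simp only [Nat.add_sub_cancel] at hcount
  rw [show A + 1 + (B + 1) - 1 = A + B + 1 by omega] at hcount
  obtain ⟨R, hR⟩ : ∃ R, R = ∏ x ∈ Finset.range A, (q ^ (2 * (B + 1 + x + 1)) - 1) := ⟨_, rfl⟩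
  obtain ⟨C, hC⟩ : ∃ C, C = 2 * fO q (ε * δ) (B + 1) * piO q B := ⟨_, rfl⟩
  have hCpos : 0 < C := by
    rw [hC]
    exact Nat.mul_pos (Nat.mul_pos (by omega) (fO_pos hq _ (by omega))) (piO_pos hq B)
  have key : (N * (2 * q ^ ((A + 1) * A) * fO q δ (A + 1) * piO q A * q ^ ((B + 1) * B))) * C =
      (q ^ ((A + B + 1 + 1) * (A + B + 1)) * fO q ε (A + B + 1 + 1) * fO q (-(ε * δ)) (B + 1) * R) * C := by
    have h1 : (N * (2 * q ^ ((A + 1) * A) * fO q δ (A + 1) * piO q A * q ^ ((B + 1) * B))) * C =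
        N * (gO q δ A * gO q (ε * δ) B) := by
      rw [hC]
      unfold gO
      ring
    rw [h1, hcount]
    unfold gO
    rw [piO_split, ← fO_mul_fO q hεδ (B + 1), ← hR, hC]
    ring
  have key2 := Nat.eq_of_mul_eq_mul_right hCpos key
  have hdvd : r ∣ q ^ ((A + B + 1 + 1) * (A + B + 1)) * fO q ε (A + B + 1 + 1) *
      fO q (-(ε * δ)) (B + 1) * R := by
    rw [← key2]
    exact Dvd.dvd.mul_right h _
  have hrq : ¬ r ∣ q := by rw [hqdef]; exact not_dvd_card (F := F) hrp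
  rw [← hε]
  rcases (Nat.Prime.dvd_mul hr).mp hdvd with h1 | h1
  · rcases (Nat.Prime.dvd_mul hr).mp h1 with h2 | h2
    · rcases (Nat.Prime.dvd_mul hr).mp h2 with h3 | h3
      · exact absurd (hr.dvd_of_dvd_pow h3) hrq
      · -- `r ∣ q^d ∓ 1`
        unfold fO at h3
        rcases hεc with h4 | h4
        · rw [h4, if_pos rfl, hqdef] at h3
          refine Or.inl ⟨h4, ?_⟩
          have := orderOf_dvd_of_dvd_pow_sub_one h3
          rwa [show A + B + 1 + 1 = A + 1 + (B + 1) by ring] at this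
        · rw [h4, if_neg (by norm_num), hqdef] at h3
          refine Or.inr (Or.inl ⟨h4, ?_⟩)
          have := orderOf_of_dvd_pow_add_one hr2 h3
          rwa [show A + B + 1 + 1 = A + 1 + (B + 1) by ring] at this
    · -- `r ∣ q^b ± 1`
      unfold fO at h2
      rcases hεδ with h4 | h4
      · rw [h4, if_neg (by norm_num), hqdef] at h2
        exact Or.inr (Or.inr (Or.inl ⟨h4, orderOf_of_dvd_pow_add_one hr2 h2⟩))
      · rw [h4, if_pos (by norm_num), hqdef] at h2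
        exact Or.inr (Or.inr (Or.inr (Or.inl ⟨h4, orderOf_dvd_of_dvd_pow_sub_one h2⟩)))
  · rw [hR, hr.prime.dvd_finsetProd_iff] at h1
    obtain ⟨x, hx, hxd⟩ := h1
    rw [Finset.mem_range] at hx
    rw [hqdef] at hxd
    refine Or.inr (Or.inr (Or.inr (Or.inr ⟨B + 1 + x + 1, by omega, by omega, ?_⟩)))
    exact orderOf_dvd_of_dvd_pow_sub_one hxd

end Cfsg.Agent.Helper7.OpND
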