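import Mathlib
import Cfsg.Agent.Helper7.OpNDF

set_option autoImplicit false
set_option linter.unusedSectionVars false
set_option linter.unusedVariables false

/-!
# The combinatorial model in quotient and remainder form
-/

namespace Cfsg.Agent.Helper7.OpND

open Cfsg.Agent.Helper8.OrR Cfsg.Agent.Helper7.SpOrd

theorem lex_le {c x y l k : ℕ} (hl : l < c) (hk : k < c) :
    c * x + l ≤ c * y + k ↔ x < y ∨ (x = y ∧ l ≤ k) := by
  constructor
  · intro h
    rcases Nat.lt_trichotomy x y with hxy | hxy | hxy
    · exact Or.inl hxy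
    · subst hxy
      exact Or.inr ⟨rfl, by omega⟩
    · exfalso
      have : c * (y + 1) ≤ c * x := Nat.mul_le_mul_left c hxy
      rw [mul_add, mul_one] at this
      omega
  · rintro (hxy | ⟨rfl, hlk⟩)
    · have : c * (x + 1) ≤ c * y := Nat.mul_le_mul_left c hxy
      rw [mul_add, mul_one] at this
      omega
    · omega

theorem lex_eq {c x y l k : ℕ} (hl : l < c) (hk : k < c) :
    c * x + l = c * y + k ↔ x = y ∧ l = k := by
  constructor
  · intro h
    have h1 := (lex_le hl hk).mp h.le
    have h2 := (lex_le hk hl).mp h.ge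
    omega
  · rintro ⟨rfl, rfl⟩
    rfl

/-- the fitting condition in quotient and remainder form. -/
def FitsL (i N k M l : ℕ) (ε δ : ℤ) (s j : ℕ) : Prop :=
  j ≤ M ∧ j ≤ s ∧ (M - j + s < N ∨ (M - j + s = N ∧ l ≤ k)) ∧ (j = M → l = 0 → δ = typ i j) ∧
    (M - j + s = N → l = k → δ * typ i j = ε * typ i s)

/-- the model in quotient and remainder form. -/
def NDModelL (i N k M l : ℕ) (ε δ : ℤ) : Prop :=
  ∀ s, 1 ≤ s → s ≤ N → (s = N → k = 0 → ε = typ i s) → ∃ j, FitsL i N k M l ε δ s j

/-- **the model in quotient and remainder form.** -/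
theorem ndModel_iff_lex {i c n m N k M l : ℕ} {ε δ : ℤ} (hc : 0 < c) (hce : Even c)
    (hn : n = c * N + k) (hk : k < c) (hm : m = c * M + l) (hl : l < c) (hle : Even l) :
    NDModel i c n m ε δ ↔ NDModelL i N k M l ε δ := by
  obtain ⟨c', hc'⟩ := hce
  obtain ⟨l', hl'⟩ := hle
  constructor
  · intro h s hs1 hsN hval
    have hcs : c * s ≤ c * N := Nat.mul_le_mul_left c hsN
    obtain ⟨j, a, h1, h2, h3, h4, h5⟩ := h s hs1 (by omega) (fun hfull => by
      have : c * s + 0 = c * N + k := by omega
      obtain ⟨rfl, hk0⟩ := (lex_eq hc hk).mp this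
      exact hval rfl hk0.symm)
    have hjM : j ≤ M := by
      by_contra hcon
      have : c * (M + 1) ≤ c * j := Nat.mul_le_mul_left c (by omega)
      rw [mul_add, mul_one] at this
      omega
    obtain ⟨e, rfl⟩ : ∃ e, M = j + e := ⟨M - j, by omega⟩
    have h2a : 2 * a = c * e + l := by
      rw [mul_add] at hm
      omega
    have hes : e + s = j + e - j + s := by omega
    refine ⟨j, hjM, h2, ?_, ?_, ?_⟩
    · rw [← hes]
      apply (lex_le hl hk).mp
      rw [mul_add]
      omega
    · intro hjM' hl0
      apply h4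
      have he0 : e = 0 := by omega
      rw [he0, mul_zero] at h2a
      omega
    · intro heq hlk
      apply h5
      rw [← hes] at heq
      rw [h2a, hn, ← heq, mul_add, hlk]
      ring
  · intro h s hs1 hsn hval
    have hsN : s ≤ N := by
      by_contra hcon
      have : c * (N + 1) ≤ c * s := Nat.mul_le_mul_left c (by omega)
      rw [mul_add, mul_one] at this
      omega
    obtain ⟨j, h1, h2, h3, h4, h5⟩ := h s hs1 hsN (fun hsN' hk0 => by
      apply hval
      rw [hn, hsN', hk0, add_zero])
    obtain ⟨e, rfl⟩ : ∃ e, M = j + e := ⟨M - j, by omega⟩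
    have hes : j + e - j + s = e + s := by omega
    rw [hes] at h3 h5
    refine ⟨j, c' * e + l', ?_, h2, ?_, ?_, ?_⟩
    · rw [hm, mul_add, hc', hl']
      ring
    · have h6 : c * (e + s) + l ≤ c * N + k := (lex_le hl hk).mpr h3
      rw [mul_add] at h6
      have : 2 * (c' * e + l') = c * e + l := by rw [hc', hl']; ring
      omega
    · intro ha0
      have hce0 : c' * e = 0 := by omega
      have hl0 : l' = 0 := by omega
      have hc'pos : 0 < c' := by omega
      have he0 : e = 0 := by
        rcases Nat.mul_eq_zero.mp hce0 with h' | h'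
        · omega
        · exact h'
      exact h4 (by omega) (by omega)
    · intro hfull
      have h2a : 2 * (c' * e + l') = c * e + l := by rw [hc', hl']; ring
      have h6 : c * (e + s) + l = c * N + k := by
        rw [mul_add]
        omega
      obtain ⟨h7, h8⟩ := (lex_eq hl hk).mp h6
      exact h5 h7 h8

end Cfsg.Agent.Helper7.OpND
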