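import Mathlib
import Cfsg.Agent.Helper7.OpNDG

set_option autoImplicit false
set_option linter.unusedSectionVars false
set_option linter.unusedVariables false

/-!
# The divisibility condition in quotient and remainder form
-/

namespace Cfsg.Agent.Helper7.OpND

open Cfsg.Agent.Helper8.OrR Cfsg.Agent.Helper7.SpOrd

/-- the divisibility condition in quotient and remainder form. -/
def WeakL (i N k M l : ℕ) (ε δ : ℤ) : Prop :=
  (k = 0 ∧ ε = typ i N) ∨ (k = l ∧ ε * δ = - typ i (N + M)) ∨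
    (l ≤ k ∧ (2 ≤ M ∨ (1 ≤ M ∧ k ≠ 0))) ∨ (k < l ∧ (1 ≤ M ∨ k ≠ 0))

section core

variable {u d a b N M k' l' : ℕ}

theorem core_A (hu : 0 < u) (hd : d = u * N + k') (hk' : k' < u) (h : u ∣ d) : k' = 0 := by
  rw [hd] at h
  have := (Nat.dvd_add_right (dvd_mul_right u N)).mp h
  exact Nat.eq_zero_of_dvd_of_lt this hk'

theorem core_B (hu : 0 < u) (hd : d = u * N + k') (ha : a = u * M + l') (hk' : k' < u) (hl' : l' < u)
    (hab : a + b = d) (h : u ∣ b) : k' = l' ∧ M ≤ N ∧ b = u * (N - M) := by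
  obtain ⟨t, rfl⟩ := h
  have h1 : u * (t + M) + l' = u * N + k' := by
    rw [mul_add]
    omega
  obtain ⟨h2, h3⟩ := (lex_eq hl' hk').mp h1
  refine ⟨h3.symm, by omega, ?_⟩
  rw [← h2, Nat.add_sub_cancel]

theorem core_C (hu : 0 < u) (hd : d = u * N + k') (ha : a = u * M + l') (hk' : k' < u) (hl' : l' < u)
    (hab : a + b = d) (h : ∃ x, b < x ∧ x < d ∧ u ∣ x) :
    (l' ≤ k' ∧ (2 ≤ M ∨ (1 ≤ M ∧ k' ≠ 0))) ∨ (k' < l' ∧ (1 ≤ M ∨ k' ≠ 0)) := by
  obtain ⟨x, hbx, hxd, t, rfl⟩ := h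
  have h1 : t < N ∨ (t = N ∧ k' ≠ 0) := by
    have h2 : u * t + 0 ≤ u * N + k' := by omega
    rcases (lex_le hu hk').mp h2 with h3 | ⟨h3, -⟩
    · exact Or.inl h3
    · right
      refine ⟨h3, ?_⟩
      rintro rfl
      rw [h3] at hxd
      omega
  have h4 : ¬ (u * (t + M) + l' ≤ u * N + k') := by
    rw [mul_add]
    omega
  rw [lex_le hl' hk'] at h4
  push Not at h4
  obtain ⟨h5, h6⟩ := h4
  rcases Nat.lt_or_ge k' l' with hkl | hkl
  · right
    refine ⟨hkl, ?_⟩
    omega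
  · left
    refine ⟨hkl, ?_⟩
    have : t + M ≠ N := fun h => by have := h6 h; omega
    omega

end core

theorem typ_of_odd {i : ℕ} (hi : Odd i) (S : ℕ) : typ i S = 1 := by
  unfold typ
  rw [if_pos (Or.inl hi)]

theorem typ_of_even {i : ℕ} (hi : Even i) (S : ℕ) : typ i S = if Even S then 1 else -1 := by
  unfold typ
  have : ¬ Odd i := Nat.not_odd_iff_even.mpr hi
  by_cases hS : Even S
  · rw [if_pos (Or.inr hS), if_pos hS]
  · rw [if_neg (by tauto), if_neg hS]

/-- **the divisibility condition in quotient and remainder form.** -/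
theorem weak_lex {i d m b N k M l : ℕ} {ε δ : ℤ} (hi : 0 < i) (hn : 2 * d = cOf i * N + k)
    (hk : k < cOf i) (hm : m = cOf i * M + l) (hl : l < cOf i) (hmb : m + 2 * b = 2 * d)
    (hε : ε = 1 ∨ ε = -1) (hδ : δ = 1 ∨ δ = -1) (h : Weak i d b ε δ) : WeakL i N k M l ε δ := by
  unfold cOf at hn hk hm hl
  by_cases hev : Even i
  · rw [if_pos hev] at hn hk hm hl
    obtain ⟨u, hu⟩ := hev
    have hu' : i = 2 * u := by omega
    have hupos : 0 < u := by omega
    have hev : Even i := ⟨u, hu⟩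
    rw [hu', mul_assoc] at hn hm
    obtain ⟨k', rfl⟩ : ∃ k', k = 2 * k' := ⟨k / 2, by omega⟩
    obtain ⟨l', rfl⟩ : ∃ l', l = 2 * l' := ⟨l / 2, by omega⟩
    have hd : d = u * N + k' := by omega
    obtain ⟨a, ha⟩ : ∃ a, a = u * M + l' := ⟨_, rfl⟩
    have hab : a + b = d := by omega
    have hk' : k' < u := by omega
    have hl' : l' < u := by omega
    have h2u : ∀ x : ℕ, 2 * u ∣ u * x ↔ Even x := by
      intro x
      rw [mul_comm 2 u, Nat.mul_dvd_mul_iff_left hupos, even_iff_two_dvd]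
    have hu_of : ∀ x : ℕ, i ∣ x → u ∣ x := fun x hx => (Dvd.intro_left 2 hu'.symm).trans hx
    have hu_of2 : ∀ x : ℕ, i ∣ 2 * x → u ∣ x := by
      intro x hx
      rw [hu'] at hx
      exact (Nat.mul_dvd_mul_iff_left (by norm_num : 0 < 2)).mp hx
    unfold WeakL
    rcases h with ⟨h1, h2⟩ | ⟨h1, h2, h3⟩ | ⟨h1, h2, h3⟩ | ⟨h1, h2⟩ | ⟨x, hx1, hx2, hx3⟩
    · left
      have hk0 := core_A hupos hd hk' (hu_of _ h2)
      refine ⟨by omega, ?_⟩
      rw [hd, hk0, add_zero, hu', h2u] at h2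
      rw [typ_of_even hev, if_pos h2, h1]
    · left
      have hk0 := core_A hupos hd hk' (hu_of2 _ h2)
      refine ⟨by omega, ?_⟩
      rw [hd, hk0, add_zero, hu', h2u] at h3
      rw [typ_of_even hev, if_neg h3, h1]
    · right; left
      obtain ⟨h4, h5, h6⟩ := core_B hupos hd ha hk' hl' hab (hu_of2 _ h2)
      refine ⟨by omega, ?_⟩
      rw [h6, hu', h2u] at h3
      have : ¬ Even (N + M) := by
        intro h7
        apply h3
        have : N - M + 2 * M = N + M := by omega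
        rw [← this] at h7
        exact (Nat.even_add.mp h7).mpr (even_two_mul M)
      rw [typ_of_even hev, if_neg this, h1]
      norm_num
    · right; left
      obtain ⟨h4, h5, h6⟩ := core_B hupos hd ha hk' hl' hab (hu_of _ h2)
      refine ⟨by omega, ?_⟩
      rw [h6, hu', h2u] at h2
      have : Even (N + M) := by
        have h8 : N - M + 2 * M = N + M := by omega
        rw [← h8]
        exact h2.add (even_two_mul M)
      rw [typ_of_even hev, if_pos this, h1]
    · right; right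
      rcases core_C hupos hd ha hk' hl' hab ⟨x, hx1, hx2, hu_of2 _ hx3⟩ with ⟨h4, h5⟩ | ⟨h4, h5⟩
      · left
        exact ⟨by omega, by omega⟩
      · right
        exact ⟨by omega, by omega⟩
  · rw [if_neg hev] at hn hk hm hl
    have hodd : Odd i := Nat.not_even_iff_odd.mp hev
    rw [mul_assoc] at hn hm
    obtain ⟨k', rfl⟩ : ∃ k', k = 2 * k' := ⟨k / 2, by omega⟩
    obtain ⟨l', rfl⟩ : ∃ l', l = 2 * l' := ⟨l / 2, by omega⟩
    have hd : d = i * N + k' := by omega
    obtain ⟨a, ha⟩ : ∃ a, a = i * M + l' := ⟨_, rfl⟩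
    have hab : a + b = d := by omega
    have hk' : k' < i := by omega
    have hl' : l' < i := by omega
    have hcop : Nat.Coprime i 2 := Nat.Coprime.symm
      ((Nat.Prime.coprime_iff_not_dvd Nat.prime_two).mpr
        (fun h => hev (even_iff_two_dvd.mpr h)))
    have hi_of2 : ∀ x : ℕ, i ∣ 2 * x → i ∣ x := fun x hx => hcop.dvd_of_dvd_mul_left hx
    unfold WeakL
    rcases h with ⟨h1, h2⟩ | ⟨h1, h2, h3⟩ | ⟨h1, h2, h3⟩ | ⟨h1, h2⟩ | ⟨x, hx1, hx2, hx3⟩
    · left
      have hk0 := core_A hi hd hk' h2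
      exact ⟨by omega, by rw [typ_of_odd hodd, h1]⟩
    · exact absurd (hi_of2 _ h2) h3
    · exact absurd (hi_of2 _ h2) h3
    · right; left
      obtain ⟨h4, h5, h6⟩ := core_B hi hd ha hk' hl' hab h2
      exact ⟨by omega, by rw [typ_of_odd hodd, h1]⟩
    · right; right
      rcases core_C hi hd ha hk' hl' hab ⟨x, hx1, hx2, hi_of2 _ hx3⟩ with ⟨h4, h5⟩ | ⟨h4, h5⟩
      · left
        exact ⟨by omega, by omega⟩
      · right
        exact ⟨by omega, by omega⟩

end Cfsg.Agent.Helper7.OpND
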