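import Mathlib
import Cfsg.Agent.Helper7.OpNDH

set_option autoImplicit false
set_option linter.unusedSectionVars false
set_option linter.unusedVariables false

/-!
# The three arithmetic criteria in quotient and remainder form
-/

namespace Cfsg.Agent.Helper7.OpND

open Cfsg.Agent.Helper8.OrR Cfsg.Agent.Helper7.SpOrd

theorem typ_lin_even {i : ℕ} (hi : Even i) (S : ℕ) : typ i S = 1 - 2 * ((S % 2 : ℕ) : ℤ) := by
  rw [typ_of_even hi]
  by_cases hS : Even S
  · rw [if_pos hS]
    have := Nat.even_iff.mp hS
    omega
  · rw [if_neg hS]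
    have := Nat.odd_iff.mp (Nat.not_even_iff_odd.mp hS)
    omega

/-- the model at `s = N`. -/
theorem model_at_top {i N k M l : ℕ} {ε δ : ℤ} (h : NDModelL i N k M l ε δ) (hN : 1 ≤ N)
    (hval : k = 0 → ε = typ i N) :
    l ≤ k ∧ M ≤ N ∧ (l = 0 → δ = typ i M) ∧ (l = k → δ * typ i M = ε * typ i N) := by
  obtain ⟨j, hj1, hj2, hj3, hj4, hj5⟩ := h N hN le_rfl (fun _ => hval)
  have hjM : j = M := by omega
  subst hjM
  refine ⟨by omega, hj2, fun h0 => hj4 rfl h0, fun hlk => hj5 (by omega) hlk⟩

/-- sufficiency through the two candidate witnesses. -/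
theorem model_of_cands {i N k M l : ℕ} {ε δ : ℤ}
    (h : ∀ s, 1 ≤ s → s ≤ N → (s = N → k = 0 → ε = typ i s) → ∀ j0, j0 ≤ M → j0 ≤ s →
      (j0 = M ∨ j0 = s) → ¬ FitsL i N k M l ε δ s j0 → ¬ FitsL i N k M l ε δ s (j0 - 1) → False) :
    NDModelL i N k M l ε δ := by
  intro s hs1 hsN hval
  by_contra hcon
  push_neg at hcon
  refine h s hs1 hsN hval (min M s) (min_le_left _ _) (min_le_right _ _) ?_ (hcon _) (hcon _)
  rcases le_total M s with h1 | h1
  · left; exact min_eq_left h1
  · right; exact min_eq_right h1

/-- **arithmetic, plus type on plus type.** -/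
theorem arith_pp {i N k M l X : ℕ} (hMN : M < N ∨ (M = N ∧ l < k)) (hm : 1 ≤ M ∨ 1 ≤ l)
    (hX : Even i → k = l → X = N + M) (hW : WeakL i N k M l 1 1) :
    NDModelL i N k M l 1 1 ↔
      ((Odd i ∧ 1 ≤ M ∧ l ≤ k) ∨
       (Even i ∧ ((k = 0 ∧ (Odd N ∨ (l = 0 ∧ Even M))) ∨
         (1 ≤ M ∧ ((l < k ∧ 0 < l) ∨ (k = l ∧ 0 < l ∧ Even X) ∨ (0 < k ∧ l = 0 ∧ Even M)))))) := by
  rcases Nat.even_or_odd i with hi | hi
  · have ht : ∀ S, typ i S = 1 - 2 * ((S % 2 : ℕ) : ℤ) := typ_lin_even hi
    have hno : ¬ Odd i := Nat.not_odd_iff_even.mpr hi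
    simp only [hno, hi, false_and, true_and, false_or, Nat.even_iff, Nat.odd_iff]
    unfold WeakL at hW
    simp only [ht] at hW
    constructor
    · intro h
      by_cases hN0 : N = 0
      · omega
      · by_cases hval : k = 0 → (1 : ℤ) = typ i N
        · have h1 := model_at_top h (by omega) hval
          simp only [ht] at h1 hval
          by_cases hkl : k = l
          · have := hX hi hkl
            omega
          · omega
        · simp only [ht] at hval
          by_cases hkl : k = l
          · have := hX hi hkl
            omega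
          · omega
    · intro h
      apply model_of_cands
      intro s hs1 hsN hval j0 hj0M hj0s hj0 h1 h2
      unfold FitsL at h1 h2
      simp only [ht] at h1 h2 hval
      by_cases hkl : k = l
      · have := hX hi hkl
        omega
      · omega
  · have ht : ∀ S, typ i S = 1 := typ_of_odd hi
    have hno : ¬ Even i := Nat.not_even_iff_odd.mpr hi
    simp only [hno, hi, false_and, true_and, or_false]
    unfold WeakL at hW
    simp only [ht] at hW
    constructor
    · intro h
      by_cases hN0 : N = 0
      · omega
      · have h1 := model_at_top h (by omega) (fun _ => (ht N).symm)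
        simp only [ht] at h1
        omega
    · intro h
      apply model_of_cands
      intro s hs1 hsN hval j0 hj0M hj0s hj0 h1 h2
      unfold FitsL at h1 h2
      simp only [ht, implies_true, and_true] at h1 h2
      omega

/-- **arithmetic, minus type on plus type.** -/
theorem arith_pm {i N k M l X : ℕ} (hMN : M < N ∨ (M = N ∧ l < k)) (hm : 1 ≤ M ∨ 1 ≤ l)
    (hX : Even i → k = l → X = N + M) (hW : WeakL i N k M l (1) (-1)) :
    NDModelL i N k M l (1) (-1) ↔
      ((Odd i ∧ 1 ≤ M ∧ 0 < l ∧ l < k) ∨
       (Even i ∧ ((k = 0 ∧ (Odd N ∨ (l = 0 ∧ Odd M))) ∨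
         (1 ≤ M ∧ ((0 < l ∧ l < k) ∨ (0 < l ∧ l = k ∧ Odd X) ∨ (l = 0 ∧ 0 < k ∧ Odd M)))))) := by
  rcases Nat.even_or_odd i with hi | hi
  · have ht : ∀ S, typ i S = 1 - 2 * ((S % 2 : ℕ) : ℤ) := typ_lin_even hi
    have hno : ¬ Odd i := Nat.not_odd_iff_even.mpr hi
    simp only [hno, hi, false_and, true_and, false_or, Nat.even_iff, Nat.odd_iff]
    unfold WeakL at hW
    simp only [ht] at hW
    constructor
    · intro h
      by_cases hN0 : N = 0
      · omega
      · by_cases hval : k = 0 → (1 : ℤ) = typ i N
        · have h1 := model_at_top h (by omega) hval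
          simp only [ht] at h1 hval
          by_cases hkl : k = l
          · have := hX hi hkl
            omega
          · omega
        · simp only [ht] at hval
          by_cases hkl : k = l
          · have := hX hi hkl
            omega
          · omega
    · intro h
      apply model_of_cands
      intro s hs1 hsN hval j0 hj0M hj0s hj0 h1 h2
      unfold FitsL at h1 h2
      simp only [ht] at h1 h2 hval
      by_cases hkl : k = l
      · have := hX hi hkl
        omega
      · omega
  · have ht : ∀ S, typ i S = 1 := typ_of_odd hi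
    have hno : ¬ Even i := Nat.not_even_iff_odd.mpr hi
    simp only [hno, hi, false_and, true_and, or_false]
    unfold WeakL at hW
    simp only [ht] at hW
    constructor
    · intro h
      by_cases hN0 : N = 0
      · omega
      · by_cases hval : k = 0 → (1 : ℤ) = typ i N
        · have h1 := model_at_top h (by omega) hval
          simp only [ht] at h1 hval
          omega
        · simp only [ht] at hval
          first | omega | (exfalso; simp at hval)
    · intro h
      apply model_of_cands
      intro s hs1 hsN hval j0 hj0M hj0s hj0 h1 h2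
      unfold FitsL at h1 h2
      simp only [ht, implies_true, and_true] at h1 h2 hval
      omega

/-- **arithmetic, minus type on minus type.** -/
theorem arith_mm {i N k M l X : ℕ} (hMN : M < N ∨ (M = N ∧ l < k)) (hm : 1 ≤ M ∨ 1 ≤ l)
    (hX : Even i → k = l → X = N + M) (hW : WeakL i N k M l (-1) (-1)) :
    NDModelL i N k M l (-1) (-1) ↔
      ((Odd i ∧ (k = 0 ∨ (1 ≤ M ∧ 0 < l ∧ l ≤ k))) ∨
       (Even i ∧ ((k = 0 ∧ (Even N ∨ (l = 0 ∧ Odd M))) ∨
         (0 < k ∧ 1 ≤ M ∧ ((0 < l ∧ l < k) ∨ (l = 0 ∧ Odd M) ∨ (l = k ∧ Even X)))))) := by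
  rcases Nat.even_or_odd i with hi | hi
  · have ht : ∀ S, typ i S = 1 - 2 * ((S % 2 : ℕ) : ℤ) := typ_lin_even hi
    have hno : ¬ Odd i := Nat.not_odd_iff_even.mpr hi
    simp only [hno, hi, false_and, true_and, false_or, Nat.even_iff, Nat.odd_iff]
    unfold WeakL at hW
    simp only [ht] at hW
    constructor
    · intro h
      by_cases hN0 : N = 0
      · omega
      · by_cases hval : k = 0 → (-1 : ℤ) = typ i N
        · have h1 := model_at_top h (by omega) hval
          simp only [ht] at h1 hval
          by_cases hkl : k = l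
          · have := hX hi hkl
            omega
          · omega
        · simp only [ht] at hval
          by_cases hkl : k = l
          · have := hX hi hkl
            omega
          · omega
    · intro h
      apply model_of_cands
      intro s hs1 hsN hval j0 hj0M hj0s hj0 h1 h2
      unfold FitsL at h1 h2
      simp only [ht] at h1 h2 hval
      by_cases hkl : k = l
      · have := hX hi hkl
        omega
      · omega
  · have ht : ∀ S, typ i S = 1 := typ_of_odd hi
    have hno : ¬ Even i := Nat.not_even_iff_odd.mpr hi
    simp only [hno, hi, false_and, true_and, or_false]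
    unfold WeakL at hW
    simp only [ht] at hW
    constructor
    · intro h
      by_cases hN0 : N = 0
      · omega
      · by_cases hval : k = 0 → (-1 : ℤ) = typ i N
        · have h1 := model_at_top h (by omega) hval
          simp only [ht] at h1 hval
          omega
        · simp only [ht] at hval
          first | omega | (exfalso; simp at hval)
    · intro h
      apply model_of_cands
      intro s hs1 hsN hval j0 hj0M hj0s hj0 h1 h2
      unfold FitsL at h1 h2
      simp only [ht, implies_true, and_true] at h1 h2 hval
      omega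

end Cfsg.Agent.Helper7.OpND
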