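import Mathlib
import Cfsg.Agent.Helper7.OpNDI
import Cfsg.Agent.Helper7.OpNDF
import Cfsg.Agent.Helper7.QPaM
import Cfsg.Agent.Helper7.QMiF

set_option autoImplicit false
set_option linter.unusedSectionVars false
set_option linter.unusedVariables false

/-!
# Odd primes: the assembly, and the translation of the predicates
-/

namespace Cfsg.Agent.Helper7.OpND

open Matrix Module Polynomial Cfsg.Agent.Helper7.POrd Cfsg.Agent.Helper7.SpOrd Cfsg.Agent.Helper7.SpTI
  Cfsg.Agent.Helper7.OrTS Cfsg.Agent.Helper7.QTy Cfsg.Agent.Helper7.QPa Cfsg.Agent.Helper7.QMi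
  Cfsg.Agent.Helper7.OpTS Cfsg.Agent.Helper8.QuadForm Cfsg.Agent.Helper8.OrT Cfsg.Agent.Helper8.OrR
  Cfsg.Agent.Helper8.StdForms

universe u

variable {F : Type u} [Field F] [Fintype F] {p : ℕ} [Fact p.Prime] [CharP F p] {r : ℕ} [Fact r.Prime]

theorem cOf_pos' {i : ℕ} (hi : 0 < i) : 0 < cOf i := by
  unfold cOf
  split_ifs <;> omega

theorem cOf_even' (i : ℕ) : Even (cOf i) := by
  unfold cOf
  split_ifs with h
  · exact h
  · exact even_two_mul i

/-- **odd primes `r ≠ p`: the generic assembly.** -/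
theorem odd_main {ι : Type} [Fintype ι] [DecidableEq ι] (Qs : QuadraticForm F (ι → F))
    (hQs : ND (QuadraticMap.polarBilin Qs) ⊤) {d : ℕ} (hd : 3 ≤ d) (hι : Fintype.card ι = 2 * d)
    (hr2 : r ≠ 2) (hrp : r ≠ p) {m : ℕ} (hme : Even m) (hm2 : 2 ≤ m) (hmn : m + 2 ≤ 2 * d)
    {δ : ℤ} (hδ : δ = 1 ∨ δ = -1)
    (hdvd : r ∣ Nat.card {W : Submodule F (ι → F) //
      finrank F ↥W = m ∧ ND (QuadraticMap.polarBilin Qs) W ∧ sg Qs W = δ})
    {i c N k M l : ℕ} (hi : i = orderOf ((Fintype.card F : ℕ) : ZMod r)) (hc : c = cOf i)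
    (hN : N = 2 * d / c) (hk : k = 2 * d % c) (hM : M = m / c) (hl : l = m % c) :
    WeakL i N k M l (sg Qs ⊤) δ ∧
    ((∀ x : GL ι F, x ∈ Cfsg.Geo.omegaGL ⇑Qs →
      (∃ z : F, ((x ^ r : GL ι F) : Matrix ι ι F) = z • (1 : Matrix ι ι F)) →
      (∀ z : F, (x : Matrix ι ι F) ≠ z • (1 : Matrix ι ι F)) →
      ∃ W : Submodule F (ι → F), finrank F ↥W = m ∧ ND (QuadraticMap.polarBilin Qs) W ∧ sg Qs W = δ ∧
        W.map (Matrix.toLin' (x : Matrix ι ι F)) ≤ W) ↔ NDModelL i N k M l (sg Qs ⊤) δ) := by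
  have hr : r.Prime := Fact.out
  have hp : p.Prime := Fact.out
  have hqr : ((Fintype.card F : ℕ) : ZMod r) ≠ 0 := by
    intro h0
    rw [ZMod.natCast_eq_zero_iff] at h0
    obtain ⟨e, -, he'⟩ := FiniteField.card F p
    rw [he'] at h0
    have := (Nat.prime_dvd_prime_iff_eq hr hp).mp (hr.dvd_of_dvd_pow h0)
    exact hrp this
  have hipos : 0 < i := by
    rw [hi]
    exact orderOf_pos_iff.mpr (isOfFinOrder_iff_pow_eq_one.mpr ⟨r - 1, by have := hr.two_le; omega,
      ZMod.pow_card_sub_one_eq_one hqr⟩)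
  subst hc
  have hcpos : 0 < cOf i := cOf_pos' hipos
  have hce : Even (cOf i) := cOf_even' i
  have hn' : 2 * d = cOf i * N + k := by rw [hN, hk]; exact (Nat.div_add_mod _ _).symm
  have hm' : m = cOf i * M + l := by rw [hM, hl]; exact (Nat.div_add_mod _ _).symm
  have hkc : k < cOf i := by rw [hk]; exact Nat.mod_lt _ hcpos
  have hlc : l < cOf i := by rw [hl]; exact Nat.mod_lt _ hcpos
  have hle : Even l := by
    obtain ⟨c', hc'⟩ := hce
    obtain ⟨a', ha'⟩ := hme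
    have h1 : cOf i * M = c' * M + c' * M := by rw [hc']; ring
    exact ⟨a' - c' * M, by omega⟩
  obtain ⟨a, ha⟩ := hme
  have ha1 : 1 ≤ a := by omega
  obtain ⟨b, hb⟩ : ∃ b, b = d - a := ⟨_, rfl⟩
  have hb1 : 1 ≤ b := by omega
  have hdimV : finrank F (ι → F) = 2 * (a + b) := by
    rw [Module.finrank_fintype_fun_eq_card, hι]; omega
  constructor
  · have hcard : Nat.card {W : Submodule F (ι → F) //
        finrank F ↥W = m ∧ ND (QuadraticMap.polarBilin Qs) W ∧ sg Qs W = δ} =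
        Nat.card {W : Submodule F (ι → F) // ND (QuadraticMap.polarBilin Qs) W ∧
          finrank F ↥W = 2 * a ∧ sg Qs W = δ} := by
      apply Nat.card_congr
      refine Equiv.subtypeEquivRight ?_
      intro W
      constructor
      · rintro ⟨h1, h2, h3⟩
        exact ⟨h2, by omega, h3⟩
      · rintro ⟨h1, h2, h3⟩
        exact ⟨by omega, h1, h3⟩
    rw [hcard] at hdvd
    have hw := weak_of_dvd (p := p) hr2 hrp hQs ha1 hb1 hdimV hδ hdvd
    rw [← hi] at hw
    have hab : a + b = d := by omega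
    rw [hab] at hw
    exact weak_lex hipos hn' hkc hm' hlc (by omega) (sg_cases Qs ⊤) hδ hw
  · rw [odd_case_iff_nd (p := p) Qs hQs hd hι hr2 hrp ⟨a, ha⟩ hδ, ← hi]
    exact ndModel_iff_lex hcpos hce hn' hkc hm' hlc hle

end Cfsg.Agent.Helper7.OpND
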