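import Mathlib
import Cfsg.Agent.Helper7.OpNDJ

set_option autoImplicit false
set_option linter.unusedSectionVars false
set_option linter.unusedVariables false

/-!
# Odd primes `r ≠ p`: the three statements
-/

namespace Cfsg.Agent.Helper7.OpND

open Matrix Module Polynomial Cfsg.Agent.Helper7.POrd Cfsg.Agent.Helper7.SpOrd Cfsg.Agent.Helper7.SpTI
  Cfsg.Agent.Helper7.OrTS Cfsg.Agent.Helper7.QTy Cfsg.Agent.Helper7.QPa Cfsg.Agent.Helper7.QMi
  Cfsg.Agent.Helper7.OpTS Cfsg.Agent.Helper8.QuadForm Cfsg.Agent.Helper8.OrT Cfsg.Agent.Helper8.OrR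
  Cfsg.Agent.Helper8.StdForms

universe u

variable {F : Type u} [Field F] [Fintype F] {p : ℕ} [Fact p.Prime] [CharP F p] {r : ℕ} [Fact r.Prime]

theorem coe_plusForm (d : ℕ) :
    (⇑(plusForm F d) : (Fin d ⊕ Fin d → F) → F) = Cfsg.quadFormPlus d F :=
  funext (plusForm_apply F d)

theorem coe_minusForm (k : ℕ) (a b : F) :
    (⇑(minusForm F k a b) : ((Fin k ⊕ Fin k) ⊕ Fin 2 → F) → F) = Cfsg.quadFormMinus k F a b :=
  funext (minusForm_apply F k a b)

theorem plusType_iff_plus (d : ℕ) (W : Submodule F (Fin d ⊕ Fin d → F)) :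
    Cfsg.Geo.IsPlusTypeOn (Cfsg.quadFormPlus d F) W ↔ Hyp (plusForm F d) W := by
  unfold Cfsg.Geo.IsPlusTypeOn Hyp Cfsg.Geo.IsTotallySingularQuad TS
  simp only [plusForm_apply]

theorem plusType_iff_minus (k : ℕ) (a b : F) (W : Submodule F ((Fin k ⊕ Fin k) ⊕ Fin 2 → F)) :
    Cfsg.Geo.IsPlusTypeOn (Cfsg.quadFormMinus k F a b) W ↔ Hyp (minusForm F k a b) W := by
  unfold Cfsg.Geo.IsPlusTypeOn Hyp Cfsg.Geo.IsTotallySingularQuad TS
  simp only [minusForm_apply]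

/-- the predicate of the first statement. -/
theorem pred_pp_iff (d m : ℕ) (W : Submodule F (Fin d ⊕ Fin d → F)) :
    (finrank F ↥W = m ∧ (∀ u ∈ W, u ≠ 0 → ∃ v ∈ W,
        QuadraticMap.polar (Cfsg.quadFormPlus d F) u v ≠ 0) ∧
      ∃ U : Submodule F (Fin d ⊕ Fin d → F), U ≤ W ∧ 2 * finrank F ↥U = m ∧
        ∀ u ∈ U, Cfsg.quadFormPlus d F u = 0) ↔
    (finrank F ↥W = m ∧ ND (QuadraticMap.polarBilin (plusForm F d)) W ∧ sg (plusForm F d) W = 1) := by
  rw [sg_eq_one_iff]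
  unfold ND Hyp TS
  simp only [QuadraticMap.polarBilin_apply_apply, coe_plusForm, plusForm_apply]
  constructor
  · rintro ⟨h1, h2, U, hU1, hU2, hU3⟩
    exact ⟨h1, h2, U, hU1, hU3, by rw [hU2, h1]⟩
  · rintro ⟨h1, h2, U, hU1, hU3, hU2⟩
    exact ⟨h1, h2, U, hU1, by rw [hU2, h1], hU3⟩

/-- the predicate of the second statement. -/
theorem pred_pm_iff (d m : ℕ) (W : Submodule F (Fin d ⊕ Fin d → F)) :
    (finrank F ↥W = m ∧
      Cfsg.Geo.IsNondegenerateOn (QuadraticMap.polar (Cfsg.quadFormPlus d F)) W ∧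
      ¬ Cfsg.Geo.IsPlusTypeOn (Cfsg.quadFormPlus d F) W) ↔
    (finrank F ↥W = m ∧ ND (QuadraticMap.polarBilin (plusForm F d)) W ∧ sg (plusForm F d) W = -1) := by
  rw [sg_eq_neg_one_iff, nd_iff_plus, plusType_iff_plus]

/-- the predicate of the third statement. -/
theorem pred_mm_iff (k m : ℕ) (a b : F) (W : Submodule F ((Fin k ⊕ Fin k) ⊕ Fin 2 → F)) :
    (finrank F ↥W = m ∧
      Cfsg.Geo.IsNondegenerateOn (QuadraticMap.polar (Cfsg.quadFormMinus k F a b)) W ∧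
      ¬ Cfsg.Geo.IsPlusTypeOn (Cfsg.quadFormMinus k F a b) W) ↔
    (finrank F ↥W = m ∧ ND (QuadraticMap.polarBilin (minusForm F k a b)) W ∧
      sg (minusForm F k a b) W = -1) := by
  rw [sg_eq_neg_one_iff, nd_iff_minus, plusType_iff_minus]

theorem lex_lt' {c x y l k : ℕ} (hl : l < c) (hk : k < c) (h : c * x + l < c * y + k) :
    x < y ∨ (x = y ∧ l < k) := by
  have h1 := (lex_le (c := c) (x := y) (y := x) hk hl).not.mp (by omega)
  omega

theorem one_le_div_iff' {c m : ℕ} (hc : 0 < c) : 1 ≤ m / c ↔ c ≤ m := by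
  rw [Nat.le_div_iff_mul_le hc, one_mul]

theorem X_eq {c N M k l d m : ℕ} (hc : 0 < c) (hn : 2 * d = c * N + k) (hm : m = c * M + l)
    (hkl : k = l) : (2 * d + m - 2 * k) / c = N + M := by
  have : 2 * d + m - 2 * k = c * (N + M) := by rw [mul_add]; omega
  rw [this, Nat.mul_div_cancel_left _ hc]

end Cfsg.Agent.Helper7.OpND
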