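import Mathlib
import Cfsg.Agent.Helper7.OFxV
import Cfsg.Agent.Helper7.OpNDK
import Cfsg.Agent.Helper7.QPaG
import Cfsg.Agent.Helper7.QMiA

set_option autoImplicit false
set_option linter.unusedSectionVars false
set_option linter.unusedVariables false

/-!
# Subgroups of type `O_d(q²)` of `Ω^±_{2d}(q)`, `q` odd: the standard forms
-/

namespace Cfsg.Agent.Helper7.OFx

open Matrix Module Cfsg.Agent.Helper7.SpOrd Cfsg.Agent.Helper7.UTy Cfsg.Agent.Helper7.FEx
  Cfsg.Agent.Helper8.Reflections Cfsg.Agent.Helper8.StdForms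

universe u

variable {F : Type u} [Field F]

/-- two independent orthogonal singular vectors of the standard plus form. -/
theorem plus_vectors (d : ℕ) (hd : 2 ≤ d) :
    ∃ a b : Fin d ⊕ Fin d → F, plusForm F d a = 0 ∧ plusForm F d b = 0 ∧
      QuadraticMap.polar (plusForm F d) a b = 0 ∧ LinearIndependent F ![a, b] := by
  classical
  refine ⟨Pi.single (Sum.inl ⟨0, by omega⟩) 1, Pi.single (Sum.inl ⟨1, by omega⟩) 1, ?_, ?_, ?_, ?_⟩
  · rw [plusForm_apply]
    unfold Cfsg.quadFormPlus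
    have h0 : ∀ i : Fin d, (Pi.single (Sum.inl ⟨0, by omega⟩) (1 : F) : Fin d ⊕ Fin d → F) (Sum.inr i) = 0 := by
      intro i
      rw [Pi.single_apply, if_neg (by simp)]
    simp only [h0, mul_zero, Finset.sum_const_zero]
  · rw [plusForm_apply]
    unfold Cfsg.quadFormPlus
    have h1 : ∀ i : Fin d, (Pi.single (Sum.inl ⟨1, by omega⟩) (1 : F) : Fin d ⊕ Fin d → F) (Sum.inr i) = 0 := by
      intro i
      rw [Pi.single_apply, if_neg (by simp)]
    simp only [h1, mul_zero, Finset.sum_const_zero]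
  · rw [polar_plusForm]
    have h1 : ∀ i : Fin d, (Pi.single (Sum.inl ⟨1, by omega⟩) (1 : F) : Fin d ⊕ Fin d → F) (Sum.inr i) = 0 := by
      intro i
      rw [Pi.single_apply, if_neg (by simp)]
    have h0 : ∀ i : Fin d, (Pi.single (Sum.inl ⟨0, by omega⟩) (1 : F) : Fin d ⊕ Fin d → F) (Sum.inr i) = 0 := by
      intro i
      rw [Pi.single_apply, if_neg (by simp)]
    simp only [h0, h1, mul_zero, Finset.sum_const_zero, add_zero]
  · rw [LinearIndependent.pair_iff]
    intro s t hst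
    have e0 := congrFun hst (Sum.inl ⟨0, by omega⟩)
    have e1 := congrFun hst (Sum.inl ⟨1, by omega⟩)
    simp only [Pi.add_apply, Pi.smul_apply, Pi.single_apply, smul_eq_mul, Pi.zero_apply] at e0 e1
    have hne : (⟨0, by omega⟩ : Fin d) ≠ ⟨1, by omega⟩ := by
      intro h
      have := congrArg Fin.val h
      simp at this
    constructor
    · simpa [hne, hne.symm] using e0
    · simpa [hne, hne.symm] using e1

/-- two independent orthogonal singular vectors of the standard minus form. -/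
theorem minus_vectors (k : ℕ) (hk : 2 ≤ k) (a' b' : F) :
    ∃ a b : (Fin k ⊕ Fin k) ⊕ Fin 2 → F, minusForm F k a' b' a = 0 ∧ minusForm F k a' b' b = 0 ∧
      QuadraticMap.polar (minusForm F k a' b') a b = 0 ∧ LinearIndependent F ![a, b] := by
  classical
  refine ⟨Pi.single (Sum.inl (Sum.inl ⟨0, by omega⟩)) 1, Pi.single (Sum.inl (Sum.inl ⟨1, by omega⟩)) 1,
    ?_, ?_, ?_, ?_⟩
  · rw [minusForm_apply]
    unfold Cfsg.quadFormMinus
    have h1 : ∀ i : Fin k, (Pi.single (Sum.inl (Sum.inl ⟨0, by omega⟩)) (1 : F) :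
        (Fin k ⊕ Fin k) ⊕ Fin 2 → F) (Sum.inl (Sum.inr i)) = 0 := by
      intro i
      rw [Pi.single_apply, if_neg (by simp)]
    have h2 : ∀ j : Fin 2, (Pi.single (Sum.inl (Sum.inl ⟨0, by omega⟩)) (1 : F) :
        (Fin k ⊕ Fin k) ⊕ Fin 2 → F) (Sum.inr j) = 0 := by
      intro j
      rw [Pi.single_apply, if_neg (by simp)]
    simp only [h1, h2, mul_zero, Finset.sum_const_zero]
    ring
  · rw [minusForm_apply]
    unfold Cfsg.quadFormMinus
    have h1 : ∀ i : Fin k, (Pi.single (Sum.inl (Sum.inl ⟨1, by omega⟩)) (1 : F) :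
        (Fin k ⊕ Fin k) ⊕ Fin 2 → F) (Sum.inl (Sum.inr i)) = 0 := by
      intro i
      rw [Pi.single_apply, if_neg (by simp)]
    have h2 : ∀ j : Fin 2, (Pi.single (Sum.inl (Sum.inl ⟨1, by omega⟩)) (1 : F) :
        (Fin k ⊕ Fin k) ⊕ Fin 2 → F) (Sum.inr j) = 0 := by
      intro j
      rw [Pi.single_apply, if_neg (by simp)]
    simp only [h1, h2, mul_zero, Finset.sum_const_zero]
    ring
  · rw [polar_minusForm]
    have h0 : ∀ i : Fin k, (Pi.single (Sum.inl (Sum.inl ⟨0, by omega⟩)) (1 : F) :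
        (Fin k ⊕ Fin k) ⊕ Fin 2 → F) (Sum.inl (Sum.inr i)) = 0 := by
      intro i
      rw [Pi.single_apply, if_neg (by simp)]
    have h0' : ∀ j : Fin 2, (Pi.single (Sum.inl (Sum.inl ⟨0, by omega⟩)) (1 : F) :
        (Fin k ⊕ Fin k) ⊕ Fin 2 → F) (Sum.inr j) = 0 := by
      intro j
      rw [Pi.single_apply, if_neg (by simp)]
    have h1 : ∀ i : Fin k, (Pi.single (Sum.inl (Sum.inl ⟨1, by omega⟩)) (1 : F) :
        (Fin k ⊕ Fin k) ⊕ Fin 2 → F) (Sum.inl (Sum.inr i)) = 0 := by
      intro i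
      rw [Pi.single_apply, if_neg (by simp)]
    have h1' : ∀ j : Fin 2, (Pi.single (Sum.inl (Sum.inl ⟨1, by omega⟩)) (1 : F) :
        (Fin k ⊕ Fin k) ⊕ Fin 2 → F) (Sum.inr j) = 0 := by
      intro j
      rw [Pi.single_apply, if_neg (by simp)]
    simp only [h0, h0', h1, h1', mul_zero, zero_mul, Finset.sum_const_zero, add_zero]
  · rw [LinearIndependent.pair_iff]
    intro s t hst
    have e0 := congrFun hst (Sum.inl (Sum.inl ⟨0, by omega⟩))
    have e1 := congrFun hst (Sum.inl (Sum.inl ⟨1, by omega⟩))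
    simp only [Pi.add_apply, Pi.smul_apply, Pi.single_apply, smul_eq_mul, Pi.zero_apply] at e0 e1
    have hne : (⟨0, by omega⟩ : Fin k) ≠ ⟨1, by omega⟩ := by
      intro h
      have := congrArg Fin.val h
      simp at this
    constructor
    · simpa [hne, hne.symm] using e0
    · simpa [hne, hne.symm] using e1

end Cfsg.Agent.Helper7.OFx
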