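import Mathlib
import Cfsg.Agent.Helper7.OFxW

set_option autoImplicit false
set_option linter.unusedSectionVars false
set_option linter.unusedVariables false

/-!
# Subgroups of type `O_d(q²)` of `Ω^±_{2d}(q)`, `q` odd: the criterion for the standard forms
-/

namespace Cfsg.Agent.Helper7.OFx

open Matrix Module Cfsg.Agent.Helper7.SpOrd Cfsg.Agent.Helper7.UTy Cfsg.Agent.Helper7.FEx
  Cfsg.Agent.Helper8.Reflections Cfsg.Agent.Helper8.StdForms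

universe u

variable {F : Type u} [Field F] [Fintype F]

/-- the shape of the adapted-structure statement. -/
def Adapted {ι : Type} [Fintype ι] [DecidableEq ι] (Qs : QuadraticForm F (ι → F)) : Prop :=
  ∀ ζ : F, ¬ IsSquare ζ → ∀ X : (ι → F) ≃ₗ[F] (ι → F), (∀ v, Qs (X v) = Qs v) →
    LinearMap.det (X : (ι → F) →ₗ[F] (ι → F)) = 1 →
    (((∀ v, X (X v) = v) ∧ (∃ v, X v ≠ v) ∧ (∃ v, X v ≠ -v)) ∨ (∀ v, X (X v) = -v)) →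
    ∃ (δ₁ : Module.End F (ι → F)) (z : ι → F), OS Qs δ₁ ζ ∧ Qs z ≠ 0 ∧
      ((∀ v, X (δ₁ v) = δ₁ (X v)) ∨ (∀ v, X (δ₁ v) = -δ₁ (X v))) ∧
      ((∀ v, X (refl Qs z (δ₁ (refl Qs z v))) = refl Qs z (δ₁ (refl Qs z (X v)))) ∨
        (∀ v, X (refl Qs z (δ₁ (refl Qs z v))) = -refl Qs z (δ₁ (refl Qs z (X v)))))

/-- the plus form. -/
theorem main_plus (p : ℕ) [Fact p.Prime] [CharP F p] (hodd : Odd (Fintype.card F)) {d : ℕ} (hd : 4 ≤ d)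
    (K : Subalgebra F (Matrix (Fin d ⊕ Fin d) (Fin d ⊕ Fin d) F)) (hK : Cfsg.Geo.IsFieldSubalgebra 2 K)
    (hKf : Cfsg.Geo.IsSelfAdjointFor (QuadraticMap.polar (Cfsg.quadFormPlus d F)) K)
    (r : ℕ) [Fact r.Prime]
    (hΩ : r ∣ (Cfsg.Geo.subalgebraNormalizer K).relIndex (Cfsg.Geo.omegaGL (Cfsg.quadFormPlus d F)))
    (hadapt : Adapted (plusForm F d)) :
    (∀ x ∈ Cfsg.Geo.omegaGL (Cfsg.quadFormPlus d F),
      (∃ z : F, ((x ^ r : GL (Fin d ⊕ Fin d) F) : Matrix (Fin d ⊕ Fin d) (Fin d ⊕ Fin d) F) =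
        z • (1 : Matrix (Fin d ⊕ Fin d) (Fin d ⊕ Fin d) F)) →
      (∀ z : F, (x : Matrix (Fin d ⊕ Fin d) (Fin d ⊕ Fin d) F) ≠
        z • (1 : Matrix (Fin d ⊕ Fin d) (Fin d ⊕ Fin d) F)) →
      ∃ g ∈ Cfsg.Geo.omegaGL (Cfsg.quadFormPlus d F), g⁻¹ * x * g ∈ Cfsg.Geo.subalgebraNormalizer K) ↔
      r = 2 := by
  haveI : Nonempty (Fin d ⊕ Fin d) := ⟨Sum.inl ⟨0, by omega⟩⟩
  have hfun := Cfsg.Agent.Helper7.OpND.coe_plusForm (F := F) d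
  rw [← hfun] at hKf hΩ ⊢
  obtain ⟨a, b, ha, hb, hab, hli⟩ := plus_vectors (F := F) d (by omega)
  have hι : Fintype.card (Fin d ⊕ Fin d) = 2 * d := by
    rw [Fintype.card_sum, Fintype.card_fin]; ring
  exact main_generic p hodd (Cfsg.Agent.Helper7.QPa.plus_nd_top d) hd hι ha hb hab hli K hK hKf r hΩ hadapt

/-- the minus form. -/
theorem main_minus (p : ℕ) [Fact p.Prime] [CharP F p] (hodd : Odd (Fintype.card F)) {d : ℕ} (hd : 4 ≤ d)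
    (a b : F) (hab : ∀ x y : F, x ^ 2 + a * x * y + b * y ^ 2 = 0 → x = 0 ∧ y = 0)
    (K : Subalgebra F (Matrix ((Fin (d - 1) ⊕ Fin (d - 1)) ⊕ Fin 2) ((Fin (d - 1) ⊕ Fin (d - 1)) ⊕ Fin 2) F))
    (hK : Cfsg.Geo.IsFieldSubalgebra 2 K)
    (hKf : Cfsg.Geo.IsSelfAdjointFor (QuadraticMap.polar (Cfsg.quadFormMinus (d - 1) F a b)) K)
    (r : ℕ) [Fact r.Prime]
    (hΩ : r ∣ (Cfsg.Geo.subalgebraNormalizer K).relIndex
      (Cfsg.Geo.omegaGL (Cfsg.quadFormMinus (d - 1) F a b)))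
    (hadapt : Adapted (minusForm F (d - 1) a b)) :
    (∀ x ∈ Cfsg.Geo.omegaGL (Cfsg.quadFormMinus (d - 1) F a b),
      (∃ z : F, ((x ^ r : GL ((Fin (d - 1) ⊕ Fin (d - 1)) ⊕ Fin 2) F) :
        Matrix ((Fin (d - 1) ⊕ Fin (d - 1)) ⊕ Fin 2) ((Fin (d - 1) ⊕ Fin (d - 1)) ⊕ Fin 2) F) =
        z • (1 : Matrix ((Fin (d - 1) ⊕ Fin (d - 1)) ⊕ Fin 2) ((Fin (d - 1) ⊕ Fin (d - 1)) ⊕ Fin 2) F)) →
      (∀ z : F, (x : Matrix ((Fin (d - 1) ⊕ Fin (d - 1)) ⊕ Fin 2) ((Fin (d - 1) ⊕ Fin (d - 1)) ⊕ Fin 2) F) ≠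
        z • (1 : Matrix ((Fin (d - 1) ⊕ Fin (d - 1)) ⊕ Fin 2) ((Fin (d - 1) ⊕ Fin (d - 1)) ⊕ Fin 2) F)) →
      ∃ g ∈ Cfsg.Geo.omegaGL (Cfsg.quadFormMinus (d - 1) F a b),
        g⁻¹ * x * g ∈ Cfsg.Geo.subalgebraNormalizer K) ↔ r = 2 := by
  haveI : Nonempty ((Fin (d - 1) ⊕ Fin (d - 1)) ⊕ Fin 2) := ⟨Sum.inr 0⟩
  have hfun := Cfsg.Agent.Helper7.OpND.coe_minusForm (F := F) (d - 1) a b
  rw [← hfun] at hKf hΩ ⊢
  obtain ⟨u, w, hu, hw, huw, hli⟩ := minus_vectors (F := F) (d - 1) (by omega) a b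
  have hι : Fintype.card ((Fin (d - 1) ⊕ Fin (d - 1)) ⊕ Fin 2) = 2 * d := by
    rw [Fintype.card_sum, Fintype.card_sum, Fintype.card_fin, Fintype.card_fin]; omega
  exact main_generic p hodd (Cfsg.Agent.Helper7.QMi.minus_nd_top (d - 1) hab) hd hι hu hw huw hli K hK hKf r hΩ
    hadapt

end Cfsg.Agent.Helper7.OFx
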