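import Mathlib
import Cfsg.Agent.Helper7.OFxA
import Cfsg.Agent.Helper7.SpOrdA
import Cfsg.Agent.Lead.OFxT

set_option autoImplicit false
set_option linter.unusedSectionVars false
set_option linter.unusedVariables false

/-!
# Orthogonal structures living on a subspace: planes and orthogonal sums
-/

namespace Cfsg.Agent.Helper7.OFx

open Module Cfsg.Agent.Helper7.SpOrd

universe u

variable {F : Type u} [Field F] {V : Type u} [AddCommGroup V] [Module F V]
  {Q : QuadraticForm F V} {ζ : F}

/-- an orthogonal structure living on the subspace `W` (and vanishing on its orthogonal). -/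
structure OSOn (Q : QuadraticForm F V) (W : Submodule F V) (δ : Module.End F V) (ζ : F) : Prop where
  maps : ∀ v ∈ W, δ v ∈ W
  kills : ∀ v, (∀ w ∈ W, QuadraticMap.polar Q w v = 0) → δ v = 0
  sq : ∀ v ∈ W, δ (δ v) = ζ • v
  sa : ∀ u ∈ W, ∀ v ∈ W, QuadraticMap.polar Q (δ u) v = QuadraticMap.polar Q u (δ v)

theorem OSOn.bot (Q : QuadraticForm F V) (ζ : F) : OSOn Q ⊥ (0 : Module.End F V) ζ := by
  refine ⟨fun v _ => by rw [LinearMap.zero_apply]; exact Submodule.zero_mem _, fun v _ => rfl, ?_, ?_⟩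
  · intro v hv
    rw [(Submodule.mem_bot F).mp hv, smul_zero]
    rfl
  · intro u _ v _
    rw [LinearMap.zero_apply, LinearMap.zero_apply, QuadraticMap.polar_zero_left, QuadraticMap.polar_zero_right]

theorem OSOn.os {δ : Module.End F V} (hnsq : ¬ IsSquare ζ) (h : OSOn Q ⊤ δ ζ) : OS Q δ ζ :=
  ⟨fun v => h.sq v Submodule.mem_top, hnsq, fun u v => h.sa u Submodule.mem_top v Submodule.mem_top⟩

section glue

variable {P W' W : Submodule F V} {δP δ' : Module.End F V}

/-- the value of a sum of two structures on orthogonal subspaces. -/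
theorem glue_apply (hP : OSOn Q P δP ζ) (hW' : OSOn Q W' δ' ζ)
    (horth : ∀ p ∈ P, ∀ w ∈ W', QuadraticMap.polar Q p w = 0) {p w : V} (hp : p ∈ P) (hw : w ∈ W') :
    (δP + δ') (p + w) = δP p + δ' w := by
  have h1 : δP w = 0 := hP.kills w (fun x hx => horth x hx w hw)
  have h2 : δ' p = 0 := hW'.kills p (fun x hx => by rw [QuadraticMap.polar_comm]; exact horth p hp x hx)
  rw [LinearMap.add_apply, map_add, map_add, h1, h2, add_zero, zero_add]

/-- the orthogonal sum of two structures. -/
theorem OSOn.glue (hP : OSOn Q P δP ζ) (hW' : OSOn Q W' δ' ζ)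
    (horth : ∀ p ∈ P, ∀ w ∈ W', QuadraticMap.polar Q p w = 0) (hPW : P ≤ W) (hW'W : W' ≤ W)
    (hsum : ∀ v ∈ W, ∃ p ∈ P, ∃ w ∈ W', v = p + w) : OSOn Q W (δP + δ') ζ := by
  refine ⟨?_, ?_, ?_, ?_⟩
  · intro v hv
    obtain ⟨p, hp, w, hw, rfl⟩ := hsum v hv
    rw [glue_apply hP hW' horth hp hw]
    exact W.add_mem (hPW (hP.maps p hp)) (hW'W (hW'.maps w hw))
  · intro v hv
    rw [LinearMap.add_apply, hP.kills v (fun x hx => hv x (hPW hx)), hW'.kills v (fun x hx => hv x (hW'W hx)),
      add_zero]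
  · intro v hv
    obtain ⟨p, hp, w, hw, rfl⟩ := hsum v hv
    rw [glue_apply hP hW' horth hp hw, glue_apply hP hW' horth (hP.maps p hp) (hW'.maps w hw), hP.sq p hp,
      hW'.sq w hw, smul_add]
  · intro u hu v hv
    obtain ⟨p, hp, w, hw, rfl⟩ := hsum u hu
    obtain ⟨p', hp', w', hw', rfl⟩ := hsum v hv
    rw [glue_apply hP hW' horth hp hw, glue_apply hP hW' horth hp' hw']
    rw [QuadraticMap.polar_add_left, QuadraticMap.polar_add_right, QuadraticMap.polar_add_right,
      QuadraticMap.polar_add_right, QuadraticMap.polar_add_left, QuadraticMap.polar_add_left,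
      horth _ (hP.maps p hp) _ hw', horth _ hp _ (hW'.maps w' hw'),
      QuadraticMap.polar_comm Q (δ' w) p', horth _ hp' _ (hW'.maps w hw),
      QuadraticMap.polar_comm Q w (δP p'), horth _ (hP.maps p' hp') _ hw, hP.sa p hp p' hp', hW'.sa w hw w' hw']

/-- (anti)commutation passes to orthogonal sums. -/
theorem glue_comm (hP : OSOn Q P δP ζ) (hW' : OSOn Q W' δ' ζ)
    (horth : ∀ p ∈ P, ∀ w ∈ W', QuadraticMap.polar Q p w = 0)
    (hsum : ∀ v ∈ W, ∃ p ∈ P, ∃ w ∈ W', v = p + w) (X : V →ₗ[F] V) (σ : F)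
    (hXP : ∀ p ∈ P, X p ∈ P) (hXW' : ∀ w ∈ W', X w ∈ W')
    (hcP : ∀ p ∈ P, X (δP p) = σ • δP (X p)) (hcW' : ∀ w ∈ W', X (δ' w) = σ • δ' (X w)) :
    ∀ v ∈ W, X ((δP + δ') v) = σ • (δP + δ') (X v) := by
  intro v hv
  obtain ⟨p, hp, w, hw, rfl⟩ := hsum v hv
  rw [glue_apply hP hW' horth hp hw, map_add X p w, glue_apply hP hW' horth (hXP p hp) (hXW' w hw), map_add,
    hcP p hp, hcW' w hw, smul_add]

end glue

section plane

variable (Q) (u w : V) (a b c : F)

/-- the structure on the plane spanned by two orthogonal nonsingular vectors, extended by zero. -/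
noncomputable def plMap : Module.End F V :=
  ((QuadraticMap.polar Q u u)⁻¹ • QuadraticMap.polarBilin Q u).smulRight (a • u + c • w) +
    ((QuadraticMap.polar Q w w)⁻¹ • QuadraticMap.polarBilin Q w).smulRight (b • u - a • w)

theorem plMap_apply (v : V) :
    plMap Q u w a b c v = ((QuadraticMap.polar Q u u)⁻¹ * QuadraticMap.polar Q u v) • (a • u + c • w) +
      ((QuadraticMap.polar Q w w)⁻¹ * QuadraticMap.polar Q w v) • (b • u - a • w) := by
  unfold plMap
  rw [LinearMap.add_apply, LinearMap.smulRight_apply, LinearMap.smulRight_apply, LinearMap.smul_apply,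
    LinearMap.smul_apply, QuadraticMap.polarBilin_apply_apply, QuadraticMap.polarBilin_apply_apply, smul_eq_mul,
    smul_eq_mul]

variable {Q u w}

theorem plMap_pair (huw : QuadraticMap.polar Q u w = 0) (hu : QuadraticMap.polar Q u u ≠ 0)
    (hw : QuadraticMap.polar Q w w ≠ 0) (α β : F) :
    plMap Q u w a b c (α • u + β • w) = α • (a • u + c • w) + β • (b • u - a • w) := by
  have hwu : QuadraticMap.polar Q w u = 0 := by rw [QuadraticMap.polar_comm]; exact huw
  rw [plMap_apply, QuadraticMap.polar_add_right, QuadraticMap.polar_add_right, QuadraticMap.polar_smul_right,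
    QuadraticMap.polar_smul_right, QuadraticMap.polar_smul_right, QuadraticMap.polar_smul_right, huw, hwu]
  simp only [smul_eq_mul, mul_zero, add_zero, zero_add]
  rw [← mul_assoc, ← mul_assoc, mul_comm _ α, mul_comm _ β, mul_assoc, mul_assoc, inv_mul_cancel₀ hu,
    inv_mul_cancel₀ hw, mul_one, mul_one]

theorem plMap_perp {v : V} (hvu : QuadraticMap.polar Q u v = 0) (hvw : QuadraticMap.polar Q w v = 0) :
    plMap Q u w a b c v = 0 := by
  rw [plMap_apply, hvu, hvw, mul_zero, mul_zero, zero_smul, zero_smul, add_zero]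

/-- the structure on a plane. -/
theorem plMap_os (huw : QuadraticMap.polar Q u w = 0) (hu : QuadraticMap.polar Q u u ≠ 0)
    (hw : QuadraticMap.polar Q w w ≠ 0) (habc : a ^ 2 + b * c = ζ)
    (hsa : QuadraticMap.polar Q u u * b = QuadraticMap.polar Q w w * c) :
    OSOn Q (Submodule.span F {u, w}) (plMap Q u w a b c) ζ := by
  have hwu : QuadraticMap.polar Q w u = 0 := by rw [QuadraticMap.polar_comm]; exact huw
  refine ⟨?_, ?_, ?_, ?_⟩
  · intro v hv
    obtain ⟨α, β, rfl⟩ := Submodule.mem_span_pair.mp hv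
    rw [plMap_pair a b c huw hu hw]
    apply Submodule.mem_span_pair.mpr
    refine ⟨α * a + β * b, α * c - β * a, ?_⟩
    module
  · intro v hv
    apply plMap_perp
    · exact hv u (Submodule.subset_span (by simp))
    · exact hv w (Submodule.subset_span (by simp))
  · intro v hv
    obtain ⟨α, β, rfl⟩ := Submodule.mem_span_pair.mp hv
    rw [plMap_pair a b c huw hu hw]
    have e1 : α • (a • u + c • w) + β • (b • u - a • w) = (α * a + β * b) • u + (α * c - β * a) • w := by
      module
    rw [e1, plMap_pair a b c huw hu hw]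
    have e2 : (α * a + β * b) • (a • u + c • w) + (α * c - β * a) • (b • u - a • w) =
        ((a ^ 2 + b * c) * α) • u + ((a ^ 2 + b * c) * β) • w := by
      module
    rw [e2, habc]
    module
  · intro x hx y hy
    obtain ⟨α, β, rfl⟩ := Submodule.mem_span_pair.mp hx
    obtain ⟨α', β', rfl⟩ := Submodule.mem_span_pair.mp hy
    rw [plMap_pair a b c huw hu hw, plMap_pair a b c huw hu hw]
    simp only [QuadraticMap.polar_add_left, QuadraticMap.polar_add_right, QuadraticMap.polar_smul_left,
      QuadraticMap.polar_smul_right, QuadraticMap.polar_sub_left, QuadraticMap.polar_sub_right, huw, hwu,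
      smul_eq_mul, mul_zero, add_zero, zero_add, sub_zero, zero_sub]
    linear_combination (α' * β - α * β') * hsa

end plane

end Cfsg.Agent.Helper7.OFx
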