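import Mathlib
import Cfsg.Agent.Helper7.OFxZA

set_option autoImplicit false
set_option linter.unusedSectionVars false
set_option linter.unusedVariables false

/-!
# Orthogonal structures: existence by splitting off planes
-/

namespace Cfsg.Agent.Helper7.OFx

open Module Cfsg.Agent.Helper7.SpOrd

universe u

variable {F : Type u} [Field F] {V : Type u} [AddCommGroup V] [Module F V]
  {Q : QuadraticForm F V} {ζ : F}

/-- the coefficients of a plane structure. -/
theorem exists_plane_coeff [Fintype F] (hodd : Fintype.card F % 2 = 1) (ζ : F) {g g' : F} (hg : g ≠ 0)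
    (hg' : g' ≠ 0) : ∃ a b c : F, a ^ 2 + b * c = ζ ∧ g * b = g' * c := by
  have hk : g * g'⁻¹ ≠ 0 := mul_ne_zero hg (inv_ne_zero hg')
  obtain ⟨a, b, hab⟩ := FiniteField.exists_root_sum_quadratic (R := F)
    (f := Polynomial.X ^ 2 - Polynomial.C ζ) (g := Polynomial.C (g * g'⁻¹) * Polynomial.X ^ 2)
    (Polynomial.degree_X_pow_sub_C (by norm_num) ζ)
    (by
      rw [Polynomial.degree_C_mul_X_pow 2 hk]
      rfl) hodd
  simp only [Polynomial.eval_sub, Polynomial.eval_pow, Polynomial.eval_X, Polynomial.eval_C,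
    Polynomial.eval_mul] at hab
  refine ⟨a, b, g * g'⁻¹ * b, ?_, ?_⟩
  · linear_combination hab
  · field_simp

theorem nd_span_pair {u w : V} (huw : QuadraticMap.polar Q u w = 0) (hu : QuadraticMap.polar Q u u ≠ 0)
    (hw : QuadraticMap.polar Q w w ≠ 0) :
    ND (QuadraticMap.polarBilin Q) (Submodule.span F {u, w}) := by
  have hwu : QuadraticMap.polar Q w u = 0 := by rw [QuadraticMap.polar_comm]; exact huw
  intro x hx hx0
  obtain ⟨α, β, rfl⟩ := Submodule.mem_span_pair.mp hx
  by_cases hα : α = 0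
  · have hβ : β ≠ 0 := by
      intro h
      apply hx0
      rw [hα, h, zero_smul, zero_smul, add_zero]
    refine ⟨w, Submodule.subset_span (by simp), ?_⟩
    rw [QuadraticMap.polarBilin_apply_apply, QuadraticMap.polar_add_left, QuadraticMap.polar_smul_left,
      QuadraticMap.polar_smul_left, huw, smul_zero, zero_add, smul_eq_mul]
    exact mul_ne_zero hβ hw
  · refine ⟨u, Submodule.subset_span (by simp), ?_⟩
    rw [QuadraticMap.polarBilin_apply_apply, QuadraticMap.polar_add_left, QuadraticMap.polar_smul_left,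
      QuadraticMap.polar_smul_left, hwu, smul_zero, add_zero, smul_eq_mul]
    exact mul_ne_zero hα hu

theorem finrank_span_pair {u w : V} (huw : QuadraticMap.polar Q u w = 0) (hu : QuadraticMap.polar Q u u ≠ 0)
    (hw : QuadraticMap.polar Q w w ≠ 0) : finrank F ↥(Submodule.span F {u, w}) = 2 := by
  have hwu : QuadraticMap.polar Q w u = 0 := by rw [QuadraticMap.polar_comm]; exact huw
  have hli : LinearIndependent F ![u, w] := by
    rw [LinearIndependent.pair_iff]
    intro s t hst
    have h1 := congrArg (fun x => QuadraticMap.polar Q x u) hst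
    have h2 := congrArg (fun x => QuadraticMap.polar Q x w) hst
    simp only [QuadraticMap.polar_add_left, QuadraticMap.polar_smul_left, hwu, huw, smul_eq_mul, mul_zero,
      add_zero, zero_add, QuadraticMap.polar_zero_left] at h1 h2
    exact ⟨(mul_eq_zero.mp h1).resolve_right hu, (mul_eq_zero.mp h2).resolve_right hw⟩
  have := finrank_span_eq_card hli
  rw [Fintype.card_fin] at this
  have hr : Set.range ![u, w] = {u, w} := by
    ext x
    simp only [Set.mem_range, Set.mem_insert_iff, Set.mem_singleton_iff]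
    constructor
    · rintro ⟨i, rfl⟩
      fin_cases i <;> simp
    · rintro (rfl | rfl)
      · exact ⟨0, rfl⟩
      · exact ⟨1, rfl⟩
  rw [hr] at this
  exact this

variable [FiniteDimensional F V]

/-- **the generic induction**: if every nonzero invariant nondegenerate subspace of even dimension contains an
invariant nondegenerate plane with a compatible structure, then every such subspace carries a compatible
structure. -/
theorem exists_OSOn_of_pick (X : V →ₗ[F] V) (σ : F)
    (hperp : ∀ P : Submodule F V, (∀ p ∈ P, X p ∈ P) →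
      ∀ v ∈ LinearMap.BilinForm.orthogonal (QuadraticMap.polarBilin Q) P,
        X v ∈ LinearMap.BilinForm.orthogonal (QuadraticMap.polarBilin Q) P)
    (hpick : ∀ W : Submodule F V, (∀ v ∈ W, X v ∈ W) → ND (QuadraticMap.polarBilin Q) W → W ≠ ⊥ →
      Even (finrank F ↥W) → ∃ (P : Submodule F V) (δP : Module.End F V), P ≤ W ∧ finrank F ↥P = 2 ∧
        (∀ p ∈ P, X p ∈ P) ∧ ND (QuadraticMap.polarBilin Q) P ∧ OSOn Q P δP ζ ∧
        ∀ p ∈ P, X (δP p) = σ • δP (X p)) :
    ∀ n : ℕ, ∀ W : Submodule F V, (∀ v ∈ W, X v ∈ W) → ND (QuadraticMap.polarBilin Q) W →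
      finrank F ↥W = 2 * n → ∃ δ : Module.End F V, OSOn Q W δ ζ ∧ ∀ v ∈ W, X (δ v) = σ • δ (X v) := by
  have hB := Cfsg.Agent.Lead.OFx.polarBilin_isRefl Q
  intro n
  induction n with
  | zero =>
    intro W hXW hW hn
    have hW0 : W = ⊥ := Submodule.finrank_eq_zero.mp (by omega)
    refine ⟨0, by rw [hW0]; exact OSOn.bot Q ζ, ?_⟩
    intro v _
    rw [LinearMap.zero_apply, map_zero, LinearMap.zero_apply, smul_zero]
  | succ n ih =>
    intro W hXW hW hn
    have hW0 : W ≠ ⊥ := by
      intro h
      rw [h, finrank_bot] at hn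
      omega
    obtain ⟨P, δP, hPW, hP2, hXP, hPnd, hPos, hPc⟩ := hpick W hXW hW hW0 ⟨n + 1, by omega⟩
    obtain ⟨W', hW'def⟩ : ∃ W' : Submodule F V,
      W' = LinearMap.BilinForm.orthogonal (QuadraticMap.polarBilin Q) P ⊓ W := ⟨_, rfl⟩
    have hXW' : ∀ v ∈ W', X v ∈ W' := by
      intro v hv
      rw [hW'def] at hv ⊢
      exact ⟨hperp P hXP v hv.1, hXW v hv.2⟩
    have hW'nd : ND (QuadraticMap.polarBilin Q) W' := by
      rw [hW'def]
      exact nd_perp_inf hB hPnd hW hPW
    have hW'fr : finrank F ↥W' = 2 * n := by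
      have := finrank_perp_inf hB hPnd hPW
      rw [← hW'def] at this
      omega
    obtain ⟨δ', hδ', hδ'c⟩ := ih W' hXW' hW'nd hW'fr
    have horth : ∀ p ∈ P, ∀ w ∈ W', QuadraticMap.polar Q p w = 0 := by
      intro p hp w hw
      rw [hW'def] at hw
      exact mem_perp.mp hw.1 p hp
    have hsum : ∀ v ∈ W, ∃ p ∈ P, ∃ w ∈ W', v = p + w := by
      intro v hv
      have h1 : v ∈ P ⊔ W' := by
        rw [hW'def, sup_perp_inf hB hPnd hPW]
        exact hv
      obtain ⟨p, hp, w, hw, rfl⟩ := Submodule.mem_sup.mp h1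
      exact ⟨p, hp, w, hw, rfl⟩
    have hW'W : W' ≤ W := by
      rw [hW'def]
      exact inf_le_right
    exact ⟨δP + δ', hPos.glue hδ' horth hPW hW'W hsum,
      glue_comm hPos hδ' horth hsum X σ hXP hXW' hPc hδ'c⟩

end Cfsg.Agent.Helper7.OFx
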