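import Mathlib
import Cfsg.Agent.Helper7.OFxZB
import Cfsg.Agent.Helper2.PSL3InvA
import Cfsg.Agent.Helper8.Reflections

set_option autoImplicit false
set_option linter.unusedSectionVars false
set_option linter.unusedVariables false

/-!
# Orthogonal structures adapted to an involution
-/

namespace Cfsg.Agent.Helper7.OFx

open Module Cfsg.Agent.Helper7.SpOrd Cfsg.Agent.Helper8.Reflections

universe u

variable {F : Type u} [Field F] {V : Type u} [AddCommGroup V] [Module F V]
  {Q : QuadraticForm F V} {ζ : F}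

theorem nd_span_singleton {u : V} (hu : QuadraticMap.polar Q u u ≠ 0) :
    ND (QuadraticMap.polarBilin Q) (Submodule.span F {u}) := by
  intro x hx hx0
  obtain ⟨α, rfl⟩ := Submodule.mem_span_singleton.mp hx
  have hα : α ≠ 0 := by
    intro h
    apply hx0
    rw [h, zero_smul]
  refine ⟨u, Submodule.mem_span_singleton_self u, ?_⟩
  rw [QuadraticMap.polarBilin_apply_apply, QuadraticMap.polar_smul_left, smul_eq_mul]
  exact mul_ne_zero hα hu

variable [Fintype F] [FiniteDimensional F V]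

/-- **existence of an orthogonal structure** on a nondegenerate subspace of even dimension. -/
theorem exists_OSOn (h2 : (2 : F) ≠ 0) (hodd : Fintype.card F % 2 = 1) (ζ : F) {W : Submodule F V}
    (hW : ND (QuadraticMap.polarBilin Q) W) {n : ℕ} (hn : finrank F ↥W = 2 * n) :
    ∃ δ : Module.End F V, OSOn Q W δ ζ := by
  have hB := Cfsg.Agent.Lead.OFx.polarBilin_isRefl Q
  obtain ⟨δ, hδ, -⟩ := exists_OSOn_of_pick (Q := Q) (ζ := ζ) (LinearMap.id : V →ₗ[F] V) 1
    (fun P _ v hv => hv)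
    (by
      intro W hXW hW hW0 hev
      obtain ⟨u, huW, hu⟩ := Cfsg.Agent.Lead.OFx.exists_aniso h2 hW hW0
      have hund := nd_span_singleton hu
      have huW' : Submodule.span F {u} ≤ W := by
        rw [Submodule.span_singleton_le_iff_mem]
        exact huW
      have hfr := finrank_perp_inf hB hund huW'
      have hu0 : u ≠ 0 := by
        rintro rfl
        exact hu (QuadraticMap.polar_zero_left Q 0)
      rw [finrank_span_singleton hu0] at hfr
      have hW1nd := nd_perp_inf hB hund hW huW'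
      have hW10 : LinearMap.BilinForm.orthogonal (QuadraticMap.polarBilin Q) (Submodule.span F {u}) ⊓ W ≠ ⊥ := by
        intro h
        rw [h, finrank_bot] at hfr
        obtain ⟨m, hm⟩ := hev
        omega
      obtain ⟨w, hwW1, hw⟩ := Cfsg.Agent.Lead.OFx.exists_aniso h2 hW1nd hW10
      have huw : QuadraticMap.polar Q u w = 0 :=
        mem_perp.mp hwW1.1 u (Submodule.mem_span_singleton_self u)
      obtain ⟨a, b, c, habc, hsa⟩ := exists_plane_coeff hodd ζ hu hw
      refine ⟨Submodule.span F {u, w}, plMap Q u w a b c, ?_, finrank_span_pair huw hu hw, fun p hp => hp,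
        nd_span_pair huw hu hw, plMap_os a b c huw hu hw habc hsa, ?_⟩
      · rw [Submodule.span_le]
        rintro x (rfl | rfl)
        · exact huW
        · exact hwW1.2
      · intro p _
        rw [one_smul]
        rfl) n W (fun v hv => hv) hW hn
  exact ⟨δ, hδ⟩

/-- **case 1**: an involution with both eigenvalues, of determinant one. -/
theorem exists_adapted_one (h2 : (2 : F) ≠ 0) (hodd : Fintype.card F % 2 = 1)
    (hV : ND (QuadraticMap.polarBilin Q) ⊤) (hev : Even (finrank F V)) (hζ : ¬ IsSquare ζ)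
    (X : V ≃ₗ[F] V) (hX : ∀ v, Q (X v) = Q v) (hdet : LinearMap.det (X : V →ₗ[F] V) = 1)
    (hXX : ∀ v, X (X v) = v) (hX1 : ∃ v, X v ≠ v) :
    ∃ (δ₁ : Module.End F V) (z : V), OS Q δ₁ ζ ∧ Q z ≠ 0 ∧ (∀ v, X (δ₁ v) = δ₁ (X v)) ∧
      (∀ v, X (refl Q z (δ₁ (refl Q z v))) = refl Q z (δ₁ (refl Q z (X v)))) := by
  have hB := Cfsg.Agent.Lead.OFx.polarBilin_isRefl Q
  obtain ⟨T, hT⟩ : ∃ T : Module.End F V, T = (X : V →ₗ[F] V) := ⟨_, rfl⟩
  have hTv : ∀ v, T v = X v := fun v => by rw [hT]; rfl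
  have hTT : T * T = 1 := by
    apply LinearMap.ext
    intro v
    rw [Module.End.mul_apply, hTv, hTv, hXX, Module.End.one_apply]
  have hc := Cfsg.Agent.Helper2.PSL3Inv.isCompl_Em_Ep h2 T hTT
  have hpol : ∀ u v, QuadraticMap.polar Q (X u) (X v) = QuadraticMap.polar Q u v := by
    intro u v
    unfold QuadraticMap.polar
    rw [← map_add, hX, hX, hX]
  -- the eigenspaces are orthogonal
  have horth : ∀ p ∈ Cfsg.Agent.Helper2.PSL3Inv.Ep T, ∀ w ∈ Cfsg.Agent.Helper2.PSL3Inv.Em T,
      QuadraticMap.polar Q p w = 0 := by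
    intro p hp w hw
    rw [Cfsg.Agent.Helper2.PSL3Inv.mem_Ep, hTv] at hp
    rw [Cfsg.Agent.Helper2.PSL3Inv.mem_Em, hTv] at hw
    have h1 := hpol p w
    rw [hp, hw, QuadraticMap.polar_neg_right] at h1
    have h3 : (2 : F) * QuadraticMap.polar Q p w = 0 := by linear_combination -h1
    exact (mul_eq_zero.mp h3).resolve_left h2
  have hsum : ∀ v ∈ (⊤ : Submodule F V), ∃ p ∈ Cfsg.Agent.Helper2.PSL3Inv.Ep T,
      ∃ w ∈ Cfsg.Agent.Helper2.PSL3Inv.Em T, v = p + w := by
    intro v _
    have h1 : v ∈ Cfsg.Agent.Helper2.PSL3Inv.Em T ⊔ Cfsg.Agent.Helper2.PSL3Inv.Ep T := by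
      rw [hc.sup_eq_top]
      exact Submodule.mem_top
    obtain ⟨w, hw, p, hp, rfl⟩ := Submodule.mem_sup.mp h1
    exact ⟨p, hp, w, hw, add_comm w p⟩
  -- nondegeneracy of the eigenspaces
  have hndp : ND (QuadraticMap.polarBilin Q) (Cfsg.Agent.Helper2.PSL3Inv.Ep T) := by
    intro u hu hu0
    obtain ⟨v, -, hv⟩ := hV u Submodule.mem_top hu0
    obtain ⟨p, hp, w, hw, rfl⟩ := hsum v Submodule.mem_top
    refine ⟨p, hp, ?_⟩
    rw [QuadraticMap.polarBilin_apply_apply] at hv ⊢
    rw [QuadraticMap.polar_add_right, horth u hu w hw, add_zero] at hv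
    exact hv
  have hndm : ND (QuadraticMap.polarBilin Q) (Cfsg.Agent.Helper2.PSL3Inv.Em T) := by
    intro u hu hu0
    obtain ⟨v, -, hv⟩ := hV u Submodule.mem_top hu0
    obtain ⟨p, hp, w, hw, rfl⟩ := hsum v Submodule.mem_top
    refine ⟨w, hw, ?_⟩
    rw [QuadraticMap.polarBilin_apply_apply] at hv ⊢
    rw [QuadraticMap.polar_add_right, QuadraticMap.polar_comm Q u p, horth p hp u hu, zero_add] at hv
    exact hv
  -- parities
  have hne : (-1 : F) ≠ 1 := by
    intro h
    apply h2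
    linear_combination -h
  have hem : Even (finrank F ↥(Cfsg.Agent.Helper2.PSL3Inv.Em T)) := by
    have h1 := Cfsg.Agent.Helper2.PSL3Inv.det_eq_neg_one_pow hc
    rw [hT, hdet] at h1
    rw [← hT] at h1
    exact (neg_one_pow_eq_one_iff_even hne).mp h1.symm
  have hep : Even (finrank F ↥(Cfsg.Agent.Helper2.PSL3Inv.Ep T)) := by
    have h1 := Submodule.finrank_add_eq_of_isCompl hc
    obtain ⟨a, ha⟩ := hem
    obtain ⟨b, hb⟩ := hev
    exact ⟨b - a, by omega⟩
  obtain ⟨np, hnp⟩ := hep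
  obtain ⟨nm, hnm⟩ := hem
  obtain ⟨δp, hδp⟩ := exists_OSOn h2 hodd ζ hndp (n := np) (by omega)
  obtain ⟨δm, hδm⟩ := exists_OSOn h2 hodd ζ hndm (n := nm) (by omega)
  have hglue := hδp.glue hδm horth le_top le_top hsum
  -- the vector `z`
  have hm0 : Cfsg.Agent.Helper2.PSL3Inv.Em T ≠ ⊥ := by
    intro h0
    obtain ⟨v, hv⟩ := hX1
    apply hv
    obtain ⟨p, hp, w, hw, rfl⟩ := hsum v Submodule.mem_top
    rw [h0, Submodule.mem_bot] at hw
    rw [hw, add_zero]
    rw [Cfsg.Agent.Helper2.PSL3Inv.mem_Ep, hTv] at hp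
    exact hp
  obtain ⟨z, hzm, hz⟩ := Cfsg.Agent.Lead.OFx.exists_aniso h2 hndm hm0
  have hQz : Q z ≠ 0 := by
    intro h0
    apply hz
    rw [QuadraticMap.polar_self, h0, smul_zero]
  have hXz : X z = -z := by
    rw [Cfsg.Agent.Helper2.PSL3Inv.mem_Em, hTv] at hzm
    exact hzm
  -- the reflection commutes with `X`
  have hρX : ∀ v, X (refl Q z v) = refl Q z (X v) := by
    intro v
    rw [refl_apply, refl_apply, map_sub, map_smul, hXz]
    have h1 : QuadraticMap.polar Q z (X v) = -QuadraticMap.polar Q z v := by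
      have := hpol z v
      rw [hXz, QuadraticMap.polar_neg_left] at this
      linear_combination -this
    rw [h1, neg_div, neg_smul, smul_neg]
  -- commutation
  have hcomm : ∀ v, X ((δp + δm) v) = (δp + δm) (X v) := by
    intro v
    obtain ⟨p, hp, w, hw, rfl⟩ := hsum v Submodule.mem_top
    rw [glue_apply hδp hδm horth hp hw, map_add, map_add]
    have h1 : X p = p := by
      rw [Cfsg.Agent.Helper2.PSL3Inv.mem_Ep, hTv] at hp
      exact hp
    have h3 : X w = -w := by
      rw [Cfsg.Agent.Helper2.PSL3Inv.mem_Em, hTv] at hw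
      exact hw
    have h4 : X (δp p) = δp p := by
      have := hδp.maps p hp
      rw [Cfsg.Agent.Helper2.PSL3Inv.mem_Ep, hTv] at this
      exact this
    have h5 : X (δm w) = -δm w := by
      have := hδm.maps w hw
      rw [Cfsg.Agent.Helper2.PSL3Inv.mem_Em, hTv] at this
      exact this
    rw [h1, h3, h4, h5]
    have h6 : -w ∈ Cfsg.Agent.Helper2.PSL3Inv.Em T := Submodule.neg_mem _ hw
    rw [glue_apply hδp hδm horth hp h6, map_neg]
  refine ⟨δp + δm, z, hglue.os hζ, hQz, hcomm, ?_⟩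
  intro v
  rw [hρX, hcomm, hρX]

end Cfsg.Agent.Helper7.OFx
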