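import Mathlib
import Cfsg.Agent.Helper7.OFxZC

set_option autoImplicit false
set_option linter.unusedSectionVars false
set_option linter.unusedVariables false

/-!
# Orthogonal structures adapted to an isometry of square `-1`
-/

namespace Cfsg.Agent.Helper7.OFx

open Module Cfsg.Agent.Helper7.SpOrd Cfsg.Agent.Helper8.Reflections

universe u

variable {F : Type u} [Field F] {V : Type u} [AddCommGroup V] [Module F V]
  {Q : QuadraticForm F V} {ζ : F}

/-- the plane structure with `b = c` anticommutes with a quarter turn of the plane. -/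
theorem plMap_anti {u : V} (X : V →ₗ[F] V) (hXX : X (X u) = -u)
    (huw : QuadraticMap.polar Q u (X u) = 0) (hu : QuadraticMap.polar Q u u ≠ 0)
    (hw : QuadraticMap.polar Q (X u) (X u) ≠ 0) (a b : F) :
    ∀ p ∈ Submodule.span F {u, X u}, X (plMap Q u (X u) a b b p) = (-1 : F) • plMap Q u (X u) a b b (X p) := by
  intro p hp
  obtain ⟨α, β, rfl⟩ := Submodule.mem_span_pair.mp hp
  have e1 : X (α • u + β • X u) = (-β) • u + α • X u := by
    rw [map_add, map_smul, map_smul, hXX]
    module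
  rw [e1, plMap_pair a b b huw hu hw, plMap_pair a b b huw hu hw]
  simp only [map_add, map_sub, map_smul, hXX]
  module

theorem span_pair_invt {u : V} (X : V →ₗ[F] V) (hXX : X (X u) = -u) :
    ∀ p ∈ Submodule.span F {u, X u}, X p ∈ Submodule.span F {u, X u} := by
  intro p hp
  obtain ⟨α, β, rfl⟩ := Submodule.mem_span_pair.mp hp
  apply Submodule.mem_span_pair.mpr
  refine ⟨-β, α, ?_⟩
  rw [map_add, map_smul, map_smul, hXX]
  module

variable [Fintype F] [FiniteDimensional F V]

/-- **case 2**: an isometry of square `-1`. -/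
theorem exists_adapted_neg (h2 : (2 : F) ≠ 0) (hodd : Fintype.card F % 2 = 1)
    (hV : ND (QuadraticMap.polarBilin Q) ⊤) (hev : Even (finrank F V)) (hpos : 0 < finrank F V)
    (hζ : ¬ IsSquare ζ) (X : V ≃ₗ[F] V) (hX : ∀ v, Q (X v) = Q v) (hXX : ∀ v, X (X v) = -v) :
    ∃ (δ₁ : Module.End F V) (z : V), OS Q δ₁ ζ ∧ Q z ≠ 0 ∧ (∀ v, X (δ₁ v) = -δ₁ (X v)) ∧
      (∀ v, X (refl Q z (δ₁ (refl Q z v))) = -refl Q z (δ₁ (refl Q z (X v)))) := by
  have hB := Cfsg.Agent.Lead.OFx.polarBilin_isRefl Q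
  obtain ⟨T, hT⟩ : ∃ T : V →ₗ[F] V, T = (X : V →ₗ[F] V) := ⟨_, rfl⟩
  have hTv : ∀ v, T v = X v := fun v => by rw [hT]; rfl
  have hTT : ∀ v, T (T v) = -v := fun v => by rw [hTv, hTv, hXX]
  have hpol : ∀ u v, QuadraticMap.polar Q (T u) (T v) = QuadraticMap.polar Q u v := by
    intro u v
    unfold QuadraticMap.polar
    rw [← map_add, hTv, hTv, hTv, hX, hX, hX]
  have hskew : ∀ u v, QuadraticMap.polar Q (T u) v = -QuadraticMap.polar Q u (T v) := by
    intro u v
    have := hpol (T u) v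
    rw [hTT, QuadraticMap.polar_neg_left] at this
    linear_combination -this
  have hself : ∀ u, QuadraticMap.polar Q u (T u) = 0 := by
    intro u
    have h1 := hskew u u
    rw [QuadraticMap.polar_comm Q (T u) u] at h1
    have h3 : (2 : F) * QuadraticMap.polar Q u (T u) = 0 := by linear_combination h1
    exact (mul_eq_zero.mp h3).resolve_left h2
  have hperp : ∀ P : Submodule F V, (∀ p ∈ P, T p ∈ P) →
      ∀ v ∈ LinearMap.BilinForm.orthogonal (QuadraticMap.polarBilin Q) P,
        T v ∈ LinearMap.BilinForm.orthogonal (QuadraticMap.polarBilin Q) P := by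
    intro P hP v hv
    rw [mem_perp] at hv ⊢
    intro p hp
    have h1 := hv (T p) (hP p hp)
    rw [QuadraticMap.polarBilin_apply_apply] at h1 ⊢
    have := hskew p v
    rw [h1] at this
    linear_combination this
  -- the plane data
  have plane : ∀ u : V, QuadraticMap.polar Q u u ≠ 0 → ∀ a b : F, a ^ 2 + b * b = ζ →
      (∀ p ∈ Submodule.span F {u, T u}, T p ∈ Submodule.span F {u, T u}) ∧
      ND (QuadraticMap.polarBilin Q) (Submodule.span F {u, T u}) ∧
      finrank F ↥(Submodule.span F {u, T u}) = 2 ∧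
      OSOn Q (Submodule.span F {u, T u}) (plMap Q u (T u) a b b) ζ ∧
      ∀ p ∈ Submodule.span F {u, T u}, T (plMap Q u (T u) a b b p) = (-1 : F) • plMap Q u (T u) a b b (T p) := by
    intro u hu a b hab
    have hw : QuadraticMap.polar Q (T u) (T u) ≠ 0 := by rw [hpol]; exact hu
    exact ⟨span_pair_invt T (hTT u), nd_span_pair (hself u) hu hw, finrank_span_pair (hself u) hu hw,
      plMap_os a b b (hself u) hu hw hab (by rw [hpol]), plMap_anti T (hTT u) (hself u) hu hw a b⟩
  have coeff : ∃ a b : F, a ^ 2 + b * b = ζ := by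
    obtain ⟨a, b, c, habc, hsa⟩ := exists_plane_coeff hodd ζ (one_ne_zero (α := F)) (one_ne_zero (α := F))
    rw [one_mul, one_mul] at hsa
    rw [← hsa] at habc
    exact ⟨a, b, habc⟩
  obtain ⟨a, b, hab⟩ := coeff
  have hab' : a ^ 2 + (-b) * (-b) = ζ := by rw [neg_mul_neg]; exact hab
  -- the induction
  have hGI := exists_OSOn_of_pick (Q := Q) (ζ := ζ) T (-1) hperp
    (by
      intro W hXW hW hW0 _
      obtain ⟨u, huW, hu⟩ := Cfsg.Agent.Lead.OFx.exists_aniso h2 hW hW0
      obtain ⟨h1, h3, h4, h5, h6⟩ := plane u hu a b hab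
      refine ⟨Submodule.span F {u, T u}, plMap Q u (T u) a b b, ?_, h4, h1, h3, h5, h6⟩
      rw [Submodule.span_le]
      rintro x (rfl | rfl)
      · exact huW
      · exact hXW _ huW)
  -- the first plane
  have htop0 : (⊤ : Submodule F V) ≠ ⊥ := by
    intro h
    have := finrank_top F V
    rw [h, finrank_bot] at this
    omega
  obtain ⟨z, -, hz⟩ := Cfsg.Agent.Lead.OFx.exists_aniso h2 hV htop0
  have hQz : Q z ≠ 0 := by
    intro h0
    apply hz
    rw [QuadraticMap.polar_self, h0, smul_zero]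
  obtain ⟨hPinv, hPnd, hP2, hPos, hPc⟩ := plane z hz a b hab
  obtain ⟨-, -, -, hPos', hPc'⟩ := plane z hz a (-b) hab'
  obtain ⟨W', hW'def⟩ : ∃ W' : Submodule F V,
    W' = LinearMap.BilinForm.orthogonal (QuadraticMap.polarBilin Q) (Submodule.span F {z, T z}) ⊓ ⊤ := ⟨_, rfl⟩
  have hXW' : ∀ v ∈ W', T v ∈ W' := by
    intro v hv
    rw [hW'def] at hv ⊢
    exact ⟨hperp _ hPinv v hv.1, Submodule.mem_top⟩
  have hW'nd : ND (QuadraticMap.polarBilin Q) W' := by
    rw [hW'def]
    exact nd_perp_inf hB hPnd hV le_top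
  obtain ⟨n, hn⟩ : ∃ n, finrank F ↥W' = 2 * n := by
    have := finrank_perp_inf hB hPnd (le_top : Submodule.span F {z, T z} ≤ ⊤)
    rw [← hW'def, finrank_top] at this
    obtain ⟨m, hm⟩ := hev
    exact ⟨m - 1, by omega⟩
  obtain ⟨δ', hδ', hδ'c⟩ := hGI n W' hXW' hW'nd hn
  have horth : ∀ p ∈ Submodule.span F {z, T z}, ∀ w ∈ W', QuadraticMap.polar Q p w = 0 := by
    intro p hp w hw
    rw [hW'def] at hw
    exact mem_perp.mp hw.1 p hp
  have hsum : ∀ v ∈ (⊤ : Submodule F V), ∃ p ∈ Submodule.span F {z, T z}, ∃ w ∈ W', v = p + w := by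
    intro v hv
    have h1 : v ∈ Submodule.span F {z, T z} ⊔ W' := by
      rw [hW'def, sup_perp_inf hB hPnd le_top]
      exact hv
    obtain ⟨p, hp, w, hw, rfl⟩ := Submodule.mem_sup.mp h1
    exact ⟨p, hp, w, hw, rfl⟩
  have hglue := hPos.glue hδ' horth le_top le_top hsum
  have hcomm := glue_comm hPos hδ' horth hsum T (-1) hPinv hXW' hPc hδ'c
  have hcomm' := glue_comm hPos' hδ' horth hsum T (-1) hPinv hXW' hPc' hδ'c
  -- the conjugate structure
  have hw : QuadraticMap.polar Q (T z) (T z) ≠ 0 := by rw [hpol]; exact hz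
  have hρ : ∀ v, refl Q z ((plMap Q z (T z) a b b + δ') (refl Q z v)) = (plMap Q z (T z) a (-b) (-b) + δ') v := by
    intro v
    obtain ⟨p, hp, w, hw', rfl⟩ := hsum v Submodule.mem_top
    obtain ⟨α, β, rfl⟩ := Submodule.mem_span_pair.mp hp
    have hzw : QuadraticMap.polar Q z w = 0 := horth z (Submodule.subset_span (by simp)) w hw'
    have hzδw : QuadraticMap.polar Q z (δ' w) = 0 :=
      horth z (Submodule.subset_span (by simp)) _ (hδ'.maps w hw')
    have e1 : refl Q z (α • z + β • T z + w) = ((-α) • z + β • T z) + w := by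
      rw [map_add, map_add, map_smul, map_smul, refl_self Q hQz, refl_of_perp Q (hself z), refl_of_perp Q hzw]
      module
    rw [e1, glue_apply hPos hδ' horth (Submodule.mem_span_pair.mpr ⟨-α, β, rfl⟩) hw',
      glue_apply hPos' hδ' horth (Submodule.mem_span_pair.mpr ⟨α, β, rfl⟩) hw',
      plMap_pair a b b (hself z) hz hw, plMap_pair a (-b) (-b) (hself z) hz hw]
    simp only [map_add, map_sub, map_smul, refl_self Q hQz, refl_of_perp Q (hself z), refl_of_perp Q hzδw]
    module
  refine ⟨plMap Q z (T z) a b b + δ', z, hglue.os hζ, hQz, ?_, ?_⟩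
  · intro v
    have e := hcomm v Submodule.mem_top
    rw [neg_one_smul] at e
    subst hT
    exact e
  · intro v
    rw [hρ v, hρ (X v)]
    have e := hcomm' v Submodule.mem_top
    rw [neg_one_smul] at e
    subst hT
    exact e

end Cfsg.Agent.Helper7.OFx
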