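import Mathlib
import Cfsg.Agent.Helper7.OFxZD
import Cfsg.Agent.Helper7.OFxY

set_option autoImplicit false
set_option linter.unusedSectionVars false
set_option linter.unusedVariables false

/-!
# Orthogonal structures adapted to an involution modulo scalars; the final criteria
-/

namespace Cfsg.Agent.Helper7.OFx

open Matrix Module Cfsg.Agent.Helper7.SpOrd Cfsg.Agent.Helper8.Reflections Cfsg.Agent.Helper8.StdForms

universe u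

variable {F : Type u} [Field F] [Fintype F]

/-- **a structure adapted to an involution modulo scalars.** -/
theorem exists_adapted {V : Type u} [AddCommGroup V] [Module F V] [FiniteDimensional F V]
    (h2 : (2 : F) ≠ 0) (hodd : Fintype.card F % 2 = 1) {Q : QuadraticForm F V}
    (hV : ND (QuadraticMap.polarBilin Q) ⊤) (hev : Even (finrank F V)) (hpos : 0 < finrank F V) {ζ : F}
    (hζ : ¬ IsSquare ζ) (X : V ≃ₗ[F] V) (hX : ∀ v, Q (X v) = Q v)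
    (hdet : LinearMap.det (X : V →ₗ[F] V) = 1)
    (hcase : ((∀ v, X (X v) = v) ∧ (∃ v, X v ≠ v) ∧ (∃ v, X v ≠ -v)) ∨ (∀ v, X (X v) = -v)) :
    ∃ (δ₁ : Module.End F V) (z : V), OS Q δ₁ ζ ∧ Q z ≠ 0 ∧
      ((∀ v, X (δ₁ v) = δ₁ (X v)) ∨ (∀ v, X (δ₁ v) = -δ₁ (X v))) ∧
      ((∀ v, X (refl Q z (δ₁ (refl Q z v))) = refl Q z (δ₁ (refl Q z (X v)))) ∨
        (∀ v, X (refl Q z (δ₁ (refl Q z v))) = -refl Q z (δ₁ (refl Q z (X v))))) := by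
  rcases hcase with ⟨hXX, hX1, -⟩ | hXX
  · obtain ⟨δ₁, z, h1, h3, h4, h5⟩ := exists_adapted_one h2 hodd hV hev hζ X hX hdet hXX hX1
    exact ⟨δ₁, z, h1, h3, Or.inl h4, Or.inl h5⟩
  · obtain ⟨δ₁, z, h1, h3, h4, h5⟩ := exists_adapted_neg h2 hodd hV hev hpos hζ X hX hXX
    exact ⟨δ₁, z, h1, h3, Or.inr h4, Or.inr h5⟩

theorem adapted_of_nd {ι : Type} [Fintype ι] [DecidableEq ι] [Nonempty ι] (hodd : Odd (Fintype.card F))
    {Qs : QuadraticForm F (ι → F)} (hQs : ND (QuadraticMap.polarBilin Qs) ⊤) (hev : Even (Fintype.card ι)) :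
    Adapted Qs := by
  intro ζ hζ X hX hdet hcase
  have hfr : finrank F (ι → F) = Fintype.card ι := Module.finrank_fintype_fun_eq_card F
  exact exists_adapted (Cfsg.Agent.Helper7.two_ne_zero_of_odd_card hodd) (Nat.odd_iff.mp hodd) hQs
    (by rw [hfr]; exact hev) (by rw [hfr]; exact Fintype.card_pos) hζ X hX hdet hcase

/-- **S5977.** -/
theorem main_plus' (p : ℕ) [Fact p.Prime] [CharP F p] (hodd : Odd (Fintype.card F)) {d : ℕ} (hd : 4 ≤ d)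
    (K : Subalgebra F (Matrix (Fin d ⊕ Fin d) (Fin d ⊕ Fin d) F)) (hK : Cfsg.Geo.IsFieldSubalgebra 2 K)
    (hKf : Cfsg.Geo.IsSelfAdjointFor (QuadraticMap.polar (Cfsg.quadFormPlus d F)) K)
    (r : ℕ) [Fact r.Prime]
    (hΩ : r ∣ (Cfsg.Geo.subalgebraNormalizer K).relIndex (Cfsg.Geo.omegaGL (Cfsg.quadFormPlus d F))) :
    (∀ x ∈ Cfsg.Geo.omegaGL (Cfsg.quadFormPlus d F),
      (∃ z : F, ((x ^ r : GL (Fin d ⊕ Fin d) F) : Matrix (Fin d ⊕ Fin d) (Fin d ⊕ Fin d) F) =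
        z • (1 : Matrix (Fin d ⊕ Fin d) (Fin d ⊕ Fin d) F)) →
      (∀ z : F, (x : Matrix (Fin d ⊕ Fin d) (Fin d ⊕ Fin d) F) ≠
        z • (1 : Matrix (Fin d ⊕ Fin d) (Fin d ⊕ Fin d) F)) →
      ∃ g ∈ Cfsg.Geo.omegaGL (Cfsg.quadFormPlus d F), g⁻¹ * x * g ∈ Cfsg.Geo.subalgebraNormalizer K) ↔
      r = 2 := by
  haveI : Nonempty (Fin d ⊕ Fin d) := ⟨Sum.inl ⟨0, by omega⟩⟩
  refine main_plus p hodd hd K hK hKf r hΩ
    (adapted_of_nd hodd (Cfsg.Agent.Helper7.QPa.plus_nd_top d) ?_)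
  rw [Fintype.card_sum, Fintype.card_fin]
  exact ⟨d, rfl⟩

/-- **S5978.** -/
theorem main_minus' (p : ℕ) [Fact p.Prime] [CharP F p] (hodd : Odd (Fintype.card F)) {d : ℕ} (hd : 4 ≤ d)
    (a b : F) (hab : ∀ x y : F, x ^ 2 + a * x * y + b * y ^ 2 = 0 → x = 0 ∧ y = 0)
    (K : Subalgebra F (Matrix ((Fin (d - 1) ⊕ Fin (d - 1)) ⊕ Fin 2) ((Fin (d - 1) ⊕ Fin (d - 1)) ⊕ Fin 2) F))
    (hK : Cfsg.Geo.IsFieldSubalgebra 2 K)
    (hKf : Cfsg.Geo.IsSelfAdjointFor (QuadraticMap.polar (Cfsg.quadFormMinus (d - 1) F a b)) K)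
    (r : ℕ) [Fact r.Prime]
    (hΩ : r ∣ (Cfsg.Geo.subalgebraNormalizer K).relIndex
      (Cfsg.Geo.omegaGL (Cfsg.quadFormMinus (d - 1) F a b))) :
    (∀ x ∈ Cfsg.Geo.omegaGL (Cfsg.quadFormMinus (d - 1) F a b),
      (∃ z : F, ((x ^ r : GL ((Fin (d - 1) ⊕ Fin (d - 1)) ⊕ Fin 2) F) :
        Matrix ((Fin (d - 1) ⊕ Fin (d - 1)) ⊕ Fin 2) ((Fin (d - 1) ⊕ Fin (d - 1)) ⊕ Fin 2) F) =
        z • (1 : Matrix ((Fin (d - 1) ⊕ Fin (d - 1)) ⊕ Fin 2) ((Fin (d - 1) ⊕ Fin (d - 1)) ⊕ Fin 2) F)) →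
      (∀ z : F, (x : Matrix ((Fin (d - 1) ⊕ Fin (d - 1)) ⊕ Fin 2) ((Fin (d - 1) ⊕ Fin (d - 1)) ⊕ Fin 2) F) ≠
        z • (1 : Matrix ((Fin (d - 1) ⊕ Fin (d - 1)) ⊕ Fin 2) ((Fin (d - 1) ⊕ Fin (d - 1)) ⊕ Fin 2) F)) →
      ∃ g ∈ Cfsg.Geo.omegaGL (Cfsg.quadFormMinus (d - 1) F a b),
        g⁻¹ * x * g ∈ Cfsg.Geo.subalgebraNormalizer K) ↔ r = 2 := by
  haveI : Nonempty ((Fin (d - 1) ⊕ Fin (d - 1)) ⊕ Fin 2) := ⟨Sum.inr 0⟩
  refine main_minus p hodd hd a b hab K hK hKf r hΩ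
    (adapted_of_nd hodd (Cfsg.Agent.Helper7.QMi.minus_nd_top (d - 1) hab) ?_)
  rw [Fintype.card_sum, Fintype.card_sum, Fintype.card_fin, Fintype.card_fin]
  exact ⟨d, by omega⟩

end Cfsg.Agent.Helper7.OFx
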