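import Mathlib
import Cfsg.Agent.Helper7.OrthBlkJ
import Cfsg.Agent.Lead.OrthFrame2C

set_option autoImplicit false
set_option linter.unusedSectionVars false

/-! Decomposition stabilisers that are not maximal in `Ω(Q)`: the generic frame (helper7).
An overgroup is the stabiliser of a set of vectors attached to the decomposition; the witnesses
are Siegel transformations. -/

namespace Cfsg.Agent.Helper7.ONm

open Module Cfsg.Agent.Helper8.QuadForm Cfsg.Agent.Helper8.WittQuad Cfsg.Agent.Helper8.OrthOrder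
  Cfsg.Agent.Helper8.Siegel Cfsg.Agent.Helper8.SiegelGroup Cfsg.Agent.Helper7.OrthMax
  Cfsg.Agent.Helper7.OrthBlk Cfsg.Agent.Lead.OrthFrame Cfsg.Agent.Lead.OrthPlane

variable {F : Type*} [Field F] [Fintype F] {ι : Type} [Fintype ι] [DecidableEq ι]
  (Q : QuadraticForm F (ι → F))

/-- an intermediate subgroup from a set of vectors. -/
theorem between_of_set {t : ℕ} (D : Fin t → Submodule F (ι → F)) (S : Set (ι → F))
    (hH : ∀ g ∈ Cfsg.Geo.decompositionStabilizer D ⊓ Cfsg.Geo.omegaGL ⇑Q, ∀ x ∈ S,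
      (g : Matrix ι ι F).mulVec x ∈ S)
    (h1 : ∃ g ∈ Cfsg.Geo.omegaGL ⇑Q, ∃ x ∈ S, (g : Matrix ι ι F).mulVec x ∉ S)
    (h2 : ∃ g ∈ Cfsg.Geo.omegaGL ⇑Q, (∀ x ∈ S, (g : Matrix ι ι F).mulVec x ∈ S) ∧
      g ∉ Cfsg.Geo.decompositionStabilizer D) :
    ∃ K : Subgroup (GL ι F), Cfsg.Geo.decompositionStabilizer D ⊓ Cfsg.Geo.omegaGL ⇑Q < K ∧
      K < Cfsg.Geo.omegaGL ⇑Q := by
  refine ⟨Cfsg.stabilizing (Cfsg.glToMat ι F) S ⊓ Cfsg.Geo.omegaGL ⇑Q, ?_, ?_⟩
  · rw [SetLike.lt_iff_le_and_exists]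
    refine ⟨fun g hg => ⟨mem_stabilizing_of_maps _ g (hH g hg), hg.2⟩, ?_⟩
    obtain ⟨g, hg, hmaps, hnot⟩ := h2
    exact ⟨g, ⟨mem_stabilizing_of_maps _ g hmaps, hg⟩, fun h => hnot h.1⟩
  · rw [SetLike.lt_iff_le_and_exists]
    refine ⟨inf_le_right, ?_⟩
    obtain ⟨g, hg, x, hx, hgx⟩ := h1
    refine ⟨g, hg, fun h => hgx ?_⟩
    exact (h.1 x).1 hx

/-- the stabiliser of the decomposition in `Ω` maps the norm-`c` vectors of the members to
themselves. -/
theorem SS_invariant {t : ℕ} (D : Fin t → Submodule F (ι → F)) (c : F) :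
    ∀ g ∈ Cfsg.Geo.decompositionStabilizer D ⊓ Cfsg.Geo.omegaGL ⇑Q, ∀ x ∈ SS Q D c,
      (g : Matrix ι ι F).mulVec x ∈ SS Q D c := by
  intro g hg
  obtain ⟨σ, hσ⟩ := hg.1
  rintro x ⟨hQx, i, hi⟩
  refine ⟨by rw [isom_of_mem_omegaGL Q hg.2, hQx], σ i, ?_⟩
  rw [← hσ i]
  exact ⟨x, hi, by rw [Matrix.toLin'_apply]⟩

/-- an element of the stabiliser of the decomposition maps each member into a member. -/
theorem exists_maps_of_mem {t : ℕ} {D : Fin t → Submodule F (ι → F)} {g : GL ι F}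
    (hg : g ∈ Cfsg.Geo.decompositionStabilizer D) (i : Fin t) :
    ∃ j, ∀ x ∈ D i, (g : Matrix ι ι F).mulVec x ∈ D j := by
  obtain ⟨σ, hσ⟩ := hg
  refine ⟨σ i, fun x hx => ?_⟩
  rw [← hσ i]
  exact ⟨x, hx, by rw [Matrix.toLin'_apply]⟩

/-- the Siegel transformation as a matrix. -/
noncomputable def sgl (u w : ι → F) : GL ι F := toGL Q (siegG Q u w)

theorem sgl_mem (hQ : (QuadraticMap.polarBilin Q).Nondegenerate) (h5 : 5 ≤ Fintype.card ι)
    {u w : ι → F} (hu : Q u = 0) (huw : QuadraticMap.polar Q u w = 0) :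
    sgl Q u w ∈ Cfsg.Geo.omegaGL ⇑Q :=
  toGL_mem_omegaGL Q hQ h5 (siegG_mem_SG Q hu huw)

theorem sgl_mulVec {u w : ι → F} (hu : Q u = 0) (huw : QuadraticMap.polar Q u w = 0)
    (x : ι → F) : ((sgl Q u w : GL ι F) : Matrix ι ι F).mulVec x =
      x + QuadraticMap.polar Q x w • u - QuadraticMap.polar Q x u • w
        - (Q w * QuadraticMap.polar Q x u) • u := by
  rw [sgl, toGL_mulVec, siegG_val, siegE_apply Q hu huw, sieg_apply]

section blk

variable {Q} {t : ℕ} {D : Fin t → Submodule F (ι → F)} (hB : Blk Q D)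

/-- an element moving a vector of a member outside all the members does not stabilise the
decomposition. -/
theorem not_stab_of_out {g : GL ι F} {i₁ : Fin t} {x : ι → F} (hx : x ∈ D i₁)
    (hgx : ∀ j, (g : Matrix ι ι F).mulVec x ∉ D j) :
    g ∉ Cfsg.Geo.decompositionStabilizer D := by
  intro hg
  obtain ⟨j', hj'⟩ := exists_maps_of_mem hg i₁
  exact hgx j' (hj' x hx)

include hB

/-- a vector with two non-zero components lies in no member. -/
theorem not_mem_of_two {y : ι → F} {i₂ i₃ : Fin t} (h23 : i₂ ≠ i₃) (h2 : cp hB i₂ y ≠ 0)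
    (h3 : cp hB i₃ y ≠ 0) (j : Fin t) : y ∉ D j := by
  intro hy
  by_cases hj : i₂ = j
  · subst hj
    exact h3 (cp_of_mem_ne hB h23 hy)
  · exact h2 (cp_of_mem_ne hB (Ne.symm hj) hy)

/-- an element fixing a non-zero vector of a member and moving another vector of it to a different
member does not stabilise the decomposition. -/
theorem not_stab_of_split {g : GL ι F} {i₁ j : Fin t} (hj : j ≠ i₁) {z x : ι → F}
    (hz : z ∈ D i₁) (hz0 : z ≠ 0) (hgz : (g : Matrix ι ι F).mulVec z = z) (hx : x ∈ D i₁)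
    (hgx : (g : Matrix ι ι F).mulVec x ∈ D j) (hgx0 : (g : Matrix ι ι F).mulVec x ≠ 0) :
    g ∉ Cfsg.Geo.decompositionStabilizer D := by
  intro hg
  obtain ⟨j', hj'⟩ := exists_maps_of_mem hg i₁
  have h1 := hj' z hz
  rw [hgz] at h1
  have e1 : i₁ = j' := hB.eq_of_mem hz0 hz h1
  have e2 : j = j' := hB.eq_of_mem hgx0 hgx (hj' x hx)
  exact hj (e2.trans e1.symm)

/-- the mixed Siegel transformation moving `x` to `x + u`. -/
theorem sgl_move {i₁ i₂ i₃ : Fin t} (h12 : i₁ ≠ i₂) (h13 : i₁ ≠ i₃) (h23 : i₂ ≠ i₃)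
    {x v u : ι → F} (hx : x ∈ D i₁) (hv : v ∈ D i₁) (hxv : QuadraticMap.polar Q x v = 1)
    (hu : Q u = 0) (huo : ∀ y ∈ D i₁, QuadraticMap.polar Q y u = 0)
    (hu2 : cp hB i₂ u ≠ 0) (hu3 : cp hB i₃ u ≠ 0) :
    QuadraticMap.polar Q u v = 0 ∧ ((sgl Q u v : GL ι F) : Matrix ι ι F).mulVec x = x + u ∧
      ∀ j, x + u ∉ D j := by
  have huv : QuadraticMap.polar Q u v = 0 := by
    rw [QuadraticMap.polar_comm]; exact huo v hv
  refine ⟨huv, ?_, ?_⟩
  · rw [sgl_mulVec Q hu huv, hxv, huo x hx]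
    simp
  · apply not_mem_of_two hB h23
    · rw [map_add, cp_of_mem_ne hB h12 hx, zero_add]
      exact hu2
    · rw [map_add, cp_of_mem_ne hB h13 hx, zero_add]
      exact hu3

end blk

end Cfsg.Agent.Helper7.ONm
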