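import Mathlib
import Cfsg.Agent.Helper7.ONmA

set_option autoImplicit false
set_option linter.unusedSectionVars false

/-! Decompositions into hyperbolic planes: data, and the case of the field of order two
(helper7). -/

namespace Cfsg.Agent.Helper7.ONm

open Module Cfsg.Agent.Helper8.QuadForm Cfsg.Agent.Helper8.WittQuad Cfsg.Agent.Helper8.OrthOrder
  Cfsg.Agent.Helper8.Siegel Cfsg.Agent.Helper8.SiegelGroup Cfsg.Agent.Helper7.OrthMax
  Cfsg.Agent.Helper7.OrthBlk Cfsg.Agent.Lead.OrthFrame Cfsg.Agent.Lead.OrthPlane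

variable {F : Type*} [Field F] {ι : Type} [Fintype ι] [DecidableEq ι]
  (Q : QuadraticForm F (ι → F))

/-- hyperbolic pairs spanning the members of a decomposition into hyperbolic planes. -/
structure HypData {t : ℕ} (D : Fin t → Submodule F (ι → F)) (e f : Fin t → (ι → F)) : Prop where
  e_mem : ∀ i, e i ∈ D i
  f_mem : ∀ i, f i ∈ D i
  Qe : ∀ i, Q (e i) = 0
  Qf : ∀ i, Q (f i) = 0
  pef : ∀ i, QuadraticMap.polar Q (e i) (f i) = 1
  span : ∀ i, ∀ x ∈ D i, ∃ s r : F, x = s • e i + r • f i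

theorem exists_hypData {t : ℕ} (D : Fin t → Submodule F (ι → F))
    (hD : Cfsg.Geo.IsOrthogonalMDecomposition ⇑Q 2 D)
    (hplus : ∀ i, Cfsg.Geo.IsPlusTypeOn ⇑Q (D i)) : ∃ e f, HypData Q D e f := by
  have h := fun i => exists_hyp_pair Q (hD.decomp.decomp.finrank_eq i)
    (hD.decomp.nondegenerate i) (hplus i)
  choose e f h1 h2 h3 h4 h5 h6 using h
  exact ⟨e, f, h1, h2, h3, h4, h5, h6⟩

variable {Q} {t : ℕ} {D : Fin t → Submodule F (ι → F)} {e f : Fin t → (ι → F)}

theorem HypData.pfe (hd : HypData Q D e f) (i : Fin t) :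
    QuadraticMap.polar Q (f i) (e i) = 1 := by
  rw [QuadraticMap.polar_comm]; exact hd.pef i

theorem HypData.pee (hd : HypData Q D e f) (i : Fin t) :
    QuadraticMap.polar Q (e i) (e i) = 0 := by
  rw [polar_self', hd.Qe, mul_zero]

theorem HypData.pff (hd : HypData Q D e f) (i : Fin t) :
    QuadraticMap.polar Q (f i) (f i) = 0 := by
  rw [polar_self', hd.Qf, mul_zero]

theorem HypData.Q_comb (hd : HypData Q D e f) (i : Fin t) (s r : F) :
    Q (s • e i + r • f i) = s * r := by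
  rw [QuadraticMap.map_add Q, QuadraticMap.map_smul, QuadraticMap.map_smul, hd.Qe, hd.Qf,
    QuadraticMap.polar_smul_left, QuadraticMap.polar_smul_right, hd.pef]
  simp only [smul_eq_mul, mul_zero, zero_add, mul_one]

theorem HypData.polar_comb (hd : HypData Q D e f) (i : Fin t) (s r s' r' : F) :
    QuadraticMap.polar Q (s • e i + r • f i) (s' • e i + r' • f i) = s * r' + r * s' := by
  simp only [QuadraticMap.polar_add_left, QuadraticMap.polar_add_right,
    QuadraticMap.polar_smul_left, QuadraticMap.polar_smul_right, hd.pef, hd.pfe, hd.pee, hd.pff,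
    smul_eq_mul, mul_zero, zero_add, mul_one, add_zero]
  ring

theorem HypData.comb_mem (hd : HypData Q D e f) (i : Fin t) (s r : F) :
    s • e i + r • f i ∈ D i :=
  (D i).add_mem ((D i).smul_mem _ (hd.e_mem i)) ((D i).smul_mem _ (hd.f_mem i))

theorem HypData.a_mem (hd : HypData Q D e f) (i : Fin t) : e i + f i ∈ D i :=
  (D i).add_mem (hd.e_mem i) (hd.f_mem i)

theorem HypData.Qa (hd : HypData Q D e f) (i : Fin t) : Q (e i + f i) = 1 := by
  have := hd.Q_comb i 1 1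
  rwa [one_smul, one_smul, mul_one] at this

theorem HypData.a_ne (hd : HypData Q D e f) (i : Fin t) : e i + f i ≠ 0 := by
  intro h
  have := hd.Qa i
  rw [h, map_zero] at this
  exact zero_ne_one this

theorem HypData.pea (hd : HypData Q D e f) (i : Fin t) :
    QuadraticMap.polar Q (e i) (e i + f i) = 1 := by
  rw [QuadraticMap.polar_add_right, hd.pee, hd.pef, zero_add]

theorem HypData.pae (hd : HypData Q D e f) (i : Fin t) :
    QuadraticMap.polar Q (e i + f i) (e i) = 1 := by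
  rw [QuadraticMap.polar_comm]; exact hd.pea i

theorem HypData.paa (hd : HypData Q D e f) (i : Fin t) :
    QuadraticMap.polar Q (e i + f i) (e i + f i) = 2 := by
  rw [polar_self', hd.Qa, mul_one]

omit [Fintype ι] [DecidableEq ι] in
theorem polar_add_add (x y z w : ι → F) : QuadraticMap.polar Q (x + y) (z + w) =
    QuadraticMap.polar Q x z + QuadraticMap.polar Q x w + (QuadraticMap.polar Q y z +
      QuadraticMap.polar Q y w) := by
  rw [QuadraticMap.polar_add_left, QuadraticMap.polar_add_right Q x,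
    QuadraticMap.polar_add_right Q y]

/-- sums of vectors of two different members. -/
theorem Q_add_of_ne (hB : Blk Q D) {i j : Fin t} (hij : i ≠ j) {x y : ι → F} (hx : x ∈ D i)
    (hy : y ∈ D j) : Q (x + y) = Q x + Q y := by
  rw [QuadraticMap.map_add Q, hB.perp i j hij x hx y hy, add_zero]

section q2

variable [Fintype F]

/-- **the field of order two, hyperbolic planes.** -/
theorem main_q2_k2 (hq : Fintype.card F = 2) (hQ : (QuadraticMap.polarBilin Q).Nondegenerate)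
    (h5 : 5 ≤ Fintype.card ι) (hD : Cfsg.Geo.IsOrthogonalMDecomposition ⇑Q 2 D)
    (hplus : ∀ i, Cfsg.Geo.IsPlusTypeOn ⇑Q (D i)) (ht : 4 ≤ t) :
    ∃ K : Subgroup (GL ι F), Cfsg.Geo.decompositionStabilizer D ⊓ Cfsg.Geo.omegaGL ⇑Q < K ∧
      K < Cfsg.Geo.omegaGL ⇑Q := by
  obtain ⟨e, f, hd⟩ := exists_hypData Q D hD hplus
  have hB : Blk Q D := blk_of_frozen Q hQ hD
  have h2 : (2 : F) = 0 := f2_two hq
  -- the unique nonsingular vector of a member
  have hchar : ∀ i, ∀ x ∈ D i, Q x = 1 → x = e i + f i := by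
    intro i x hx hQx
    obtain ⟨s, r, rfl⟩ := hd.span i x hx
    rw [hd.Q_comb] at hQx
    rcases f2_cases hq s with rfl | rfl
    · rw [zero_mul] at hQx; exact absurd hQx zero_ne_one
    · rw [one_mul] at hQx
      rw [hQx, one_smul, one_smul]
  have hpaa : ∀ i j, QuadraticMap.polar Q (e i + f i) (e j + f j) = 0 := by
    intro i j
    by_cases hij : i = j
    · subst hij
      rw [hd.paa, h2]
    · exact hB.perp i j hij _ (hd.a_mem i) _ (hd.a_mem j)
  obtain ⟨i₁, hi₁⟩ : ∃ i : Fin t, i = ⟨0, by omega⟩ := ⟨_, rfl⟩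
  obtain ⟨i₂, hi₂⟩ : ∃ i : Fin t, i = ⟨1, by omega⟩ := ⟨_, rfl⟩
  obtain ⟨i₃, hi₃⟩ : ∃ i : Fin t, i = ⟨2, by omega⟩ := ⟨_, rfl⟩
  obtain ⟨i₄, hi₄⟩ : ∃ i : Fin t, i = ⟨3, by omega⟩ := ⟨_, rfl⟩
  have h12 : i₁ ≠ i₂ := by rw [hi₁, hi₂]; intro h; have := Fin.mk.inj_iff.1 h; omega
  have h13 : i₁ ≠ i₃ := by rw [hi₁, hi₃]; intro h; have := Fin.mk.inj_iff.1 h; omega
  have h14 : i₁ ≠ i₄ := by rw [hi₁, hi₄]; intro h; have := Fin.mk.inj_iff.1 h; omega
  have h23 : i₂ ≠ i₃ := by rw [hi₂, hi₃]; intro h; have := Fin.mk.inj_iff.1 h; omega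
  have h24 : i₂ ≠ i₄ := by rw [hi₂, hi₄]; intro h; have := Fin.mk.inj_iff.1 h; omega
  have h34 : i₃ ≠ i₄ := by rw [hi₃, hi₄]; intro h; have := Fin.mk.inj_iff.1 h; omega
  have hQsum : ∀ i j, i ≠ j → Q ((e i + f i) + (e j + f j)) = 0 := by
    intro i j hij
    rw [Q_add_of_ne hB hij (hd.a_mem i) (hd.a_mem j), hd.Qa, hd.Qa]
    rw [← h2]; norm_num
  have hcpsum : ∀ i j, i ≠ j → cp hB i ((e i + f i) + (e j + f j)) ≠ 0 ∧
      cp hB j ((e i + f i) + (e j + f j)) ≠ 0 := by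
    intro i j hij
    constructor
    · rw [map_add, cp_of_mem hB (hd.a_mem i), cp_of_mem_ne hB (Ne.symm hij) (hd.a_mem j),
        add_zero]
      exact hd.a_ne i
    · rw [map_add, cp_of_mem hB (hd.a_mem j), cp_of_mem_ne hB hij (hd.a_mem i), zero_add]
      exact hd.a_ne j
  apply between_of_set Q D (SS Q D 1) (SS_invariant Q D 1)
  · -- a mixed Siegel transformation moves a nonsingular vector outside the members
    obtain ⟨huv, hmv, hout⟩ := sgl_move hB h12 h13 h23 (x := e i₁ + f i₁) (v := e i₁)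
      (u := (e i₂ + f i₂) + (e i₃ + f i₃)) (hd.a_mem i₁) (hd.e_mem i₁) (hd.pae i₁)
      (hQsum i₂ i₃ h23)
      (by
        intro y hy
        rw [QuadraticMap.polar_add_right, hB.perp i₁ i₂ h12 y hy _ (hd.a_mem i₂),
          hB.perp i₁ i₃ h13 y hy _ (hd.a_mem i₃), add_zero])
      (hcpsum i₂ i₃ h23).1 (hcpsum i₂ i₃ h23).2
    refine ⟨_, sgl_mem Q hQ h5 (hQsum i₂ i₃ h23) huv, e i₁ + f i₁,
      ⟨hd.Qa i₁, i₁, hd.a_mem i₁⟩, ?_⟩
    rw [hmv]
    rintro ⟨-, j, hj⟩
    exact hout j hj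
  · -- a Siegel transformation fixing all the nonsingular vectors of the members
    have hu : Q ((e i₁ + f i₁) + (e i₂ + f i₂)) = 0 := hQsum i₁ i₂ h12
    have hw : Q ((e i₃ + f i₃) + (e i₄ + f i₄)) = 0 := hQsum i₃ i₄ h34
    have huw : QuadraticMap.polar Q ((e i₁ + f i₁) + (e i₂ + f i₂))
        ((e i₃ + f i₃) + (e i₄ + f i₄)) = 0 := by
      rw [polar_add_add, hpaa, hpaa, hpaa, hpaa]
      simp
    refine ⟨_, sgl_mem Q hQ h5 hu huw, ?_, ?_⟩
    · rintro x ⟨hQx, j, hj⟩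
      have hx := hchar j x hj hQx
      have e1 : QuadraticMap.polar Q x ((e i₃ + f i₃) + (e i₄ + f i₄)) = 0 := by
        rw [hx, QuadraticMap.polar_add_right, hpaa, hpaa, add_zero]
      have e2 : QuadraticMap.polar Q x ((e i₁ + f i₁) + (e i₂ + f i₂)) = 0 := by
        rw [hx, QuadraticMap.polar_add_right, hpaa, hpaa, add_zero]
      rw [sgl_mulVec Q hu huw, e1, e2]
      simp only [zero_smul, mul_zero, add_zero, sub_zero]
      exact ⟨hQx, j, hj⟩
    · apply not_stab_of_out (hd.e_mem i₁)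
      have e1 : QuadraticMap.polar Q (e i₁) ((e i₃ + f i₃) + (e i₄ + f i₄)) = 0 := by
        rw [QuadraticMap.polar_add_right, hB.perp i₁ i₃ h13 _ (hd.e_mem i₁) _ (hd.a_mem i₃),
          hB.perp i₁ i₄ h14 _ (hd.e_mem i₁) _ (hd.a_mem i₄), add_zero]
      have e2 : QuadraticMap.polar Q (e i₁) ((e i₁ + f i₁) + (e i₂ + f i₂)) = 1 := by
        rw [QuadraticMap.polar_add_right, hd.pea,
          hB.perp i₁ i₂ h12 _ (hd.e_mem i₁) _ (hd.a_mem i₂), add_zero]
      rw [sgl_mulVec Q hu huw, e1, e2, hw]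
      simp only [zero_smul, mul_one, add_zero, sub_zero, one_smul]
      apply not_mem_of_two hB h34
      · rw [map_sub, map_add, cp_of_mem_ne hB h13 (hd.e_mem i₁), cp_of_mem hB (hd.a_mem i₃),
          cp_of_mem_ne hB (Ne.symm h34) (hd.a_mem i₄), add_zero, zero_sub, neg_ne_zero]
        exact hd.a_ne i₃
      · rw [map_sub, map_add, cp_of_mem_ne hB h14 (hd.e_mem i₁), cp_of_mem hB (hd.a_mem i₄),
          cp_of_mem_ne hB h34 (hd.a_mem i₃), zero_add, zero_sub, neg_ne_zero]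
        exact hd.a_ne i₄

end q2

end Cfsg.Agent.Helper7.ONm
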