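import Mathlib
import Cfsg.Agent.Helper7.ONmB

set_option autoImplicit false
set_option linter.unusedSectionVars false

/-! Decomposition stabilisers that are not maximal in `Ω(Q)`: the generic frame in odd
characteristic, and the hyperbolic planes over the fields of order three and five (helper7). -/

namespace Cfsg.Agent.Helper7.ONm

open Module Cfsg.Agent.Helper8.QuadForm Cfsg.Agent.Helper8.WittQuad Cfsg.Agent.Helper8.OrthOrder
  Cfsg.Agent.Helper8.Siegel Cfsg.Agent.Helper8.SiegelGroup Cfsg.Agent.Helper7.OrthMax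
  Cfsg.Agent.Helper7.OrthBlk Cfsg.Agent.Lead.OrthFrame Cfsg.Agent.Lead.OrthPlane
  Cfsg.Agent.Helper8.Reflections

variable {F : Type*} [Field F] {ι : Type} [Fintype ι] [DecidableEq ι]
  {Q : QuadraticForm F (ι → F)} {t : ℕ} {D : Fin t → Submodule F (ι → F)}

section refl

variable (hB : Blk Q D) {c : F} (x : Fin t → (ι → F)) (hxm : ∀ i, x i ∈ D i)
  (hxQ : ∀ i, Q (x i) = c)

include hB hxm hxQ

theorem Q_sub_of_ne {i j : Fin t} (hij : i ≠ j) : Q (x i - x j) = 2 * c := by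
  rw [sub_eq_add_neg, QuadraticMap.map_add Q, QuadraticMap.map_neg, QuadraticMap.polar_neg_right,
    hB.perp i j hij _ (hxm i) _ (hxm j), hxQ, hxQ]
  ring

theorem refl_sub_right (h2 : (2 : F) ≠ 0) (hc : c ≠ 0) {i j : Fin t} (hij : i ≠ j) :
    refl Q (x i - x j) (x j) = x i := by
  apply refl_sub Q (by rw [hxQ, hxQ])
  rw [Q_sub_of_ne hB x hxm hxQ hij]
  exact mul_ne_zero h2 hc

theorem refl_sub_left (h2 : (2 : F) ≠ 0) (hc : c ≠ 0) {i j : Fin t} (hij : i ≠ j) :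
    refl Q (x i - x j) (x i) = x j := by
  have h := refl_sub_right hB x hxm hxQ h2 hc hij
  have h' := refl_refl Q (x i - x j) (x j)
  rw [h] at h'
  exact h'

/-- the reflection exchanging two frame vectors permutes the norm-`c` vectors of the members. -/
theorem refl_maps_SS (h2 : (2 : F) ≠ 0) (hc : c ≠ 0)
    (hP : ∀ i, ∀ y ∈ D i, Q y = c → y = x i ∨ y = - x i ∨ QuadraticMap.polar Q y (x i) = 0)
    {i j : Fin t} (hij : i ≠ j) :
    ∀ y ∈ SS Q D c, refl Q (x i - x j) y ∈ SS Q D c := by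
  rintro y ⟨hQy, l, hl⟩
  have hxi : x i ∈ SS Q D c := ⟨hxQ i, i, hxm i⟩
  have hxj : x j ∈ SS Q D c := ⟨hxQ j, j, hxm j⟩
  have hfix : QuadraticMap.polar Q (x i) y = 0 → QuadraticMap.polar Q (x j) y = 0 →
      refl Q (x i - x j) y ∈ SS Q D c := by
    intro h1 h2'
    rw [refl_of_perp Q (by rw [QuadraticMap.polar_sub_left, h1, h2', sub_zero])]
    exact ⟨hQy, l, hl⟩
  by_cases hli : l = i
  · subst hli
    have hj0 : QuadraticMap.polar Q (x j) y = 0 := hB.perp j l (Ne.symm hij) _ (hxm j) _ hl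
    rcases hP l y hl hQy with rfl | rfl | h
    · rw [refl_sub_left hB x hxm hxQ h2 hc hij]; exact hxj
    · rw [map_neg, refl_sub_left hB x hxm hxQ h2 hc hij]; exact neg_mem_SS Q hxj
    · exact hfix (by rw [QuadraticMap.polar_comm]; exact h) hj0
  · have hi0 : QuadraticMap.polar Q (x i) y = 0 := hB.perp i l (Ne.symm hli) _ (hxm i) _ hl
    by_cases hlj : l = j
    · subst hlj
      rcases hP l y hl hQy with rfl | rfl | h
      · rw [refl_sub_right hB x hxm hxQ h2 hc hij]; exact hxi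
      · rw [map_neg, refl_sub_right hB x hxm hxQ h2 hc hij]; exact neg_mem_SS Q hxi
      · exact hfix hi0 (by rw [QuadraticMap.polar_comm]; exact h)
    · exact hfix hi0 (hB.perp j l (Ne.symm hlj) _ (hxm j) _ hl)

end refl

variable [Fintype F]

/-- **the generic frame in odd characteristic.** -/
theorem main_odd (h2 : (2 : F) ≠ 0) (hQ : (QuadraticMap.polarBilin Q).Nondegenerate)
    (h5 : 5 ≤ Fintype.card ι) (hB : Blk Q D) {c : F} (hc : c ≠ 0) (x : Fin t → (ι → F))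
    (hxm : ∀ i, x i ∈ D i) (hxQ : ∀ i, Q (x i) = c)
    (hP : ∀ i, ∀ y ∈ D i, Q y = c → y = x i ∨ y = - x i ∨ QuadraticMap.polar Q y (x i) = 0)
    {i₁ i₂ i₃ : Fin t} (h12 : i₁ ≠ i₂) (h13 : i₁ ≠ i₃) (h23 : i₂ ≠ i₃)
    {z : ι → F} (hz : z ∈ D i₁) (hz0 : z ≠ 0) (hzx : QuadraticMap.polar Q z (x i₁) = 0)
    {u : ι → F} (hu : Q u = 0) (huo : ∀ y ∈ D i₁, QuadraticMap.polar Q y u = 0)
    (hu2 : cp hB i₂ u ≠ 0) (hu3 : cp hB i₃ u ≠ 0) :
    ∃ K : Subgroup (GL ι F), Cfsg.Geo.decompositionStabilizer D ⊓ Cfsg.Geo.omegaGL ⇑Q < K ∧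
      K < Cfsg.Geo.omegaGL ⇑Q := by
  have hc2 : 2 * c ≠ 0 := mul_ne_zero h2 hc
  have hx0 : ∀ i, x i ≠ 0 := by
    intro i h
    have := hxQ i
    rw [h, map_zero] at this
    exact hc this.symm
  apply between_of_set Q D (SS Q D c) (SS_invariant Q D c)
  · have hxv : QuadraticMap.polar Q (x i₁) ((2 * c)⁻¹ • x i₁) = 1 := by
      rw [QuadraticMap.polar_smul_right, polar_self', hxQ, smul_eq_mul, inv_mul_cancel₀ hc2]
    obtain ⟨huv, hmv, hout⟩ := sgl_move hB h12 h13 h23 (hxm i₁)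
      ((D i₁).smul_mem _ (hxm i₁)) hxv hu huo hu2 hu3
    refine ⟨_, sgl_mem Q hQ h5 hu huv, x i₁, ⟨hxQ i₁, i₁, hxm i₁⟩, ?_⟩
    rw [hmv]
    rintro ⟨-, j, hj⟩
    exact hout j hj
  · have hQp : Q (x i₁ - x i₂) = 2 * c := Q_sub_of_ne hB x hxm hxQ h12
    have hQp' : Q (x i₁ - x i₃) = 2 * c := Q_sub_of_ne hB x hxm hxQ h13
    refine ⟨((rr Q (x i₁ - x i₂) (x i₁ - x i₃) : ↥(Cfsg.isometryGroup F ⇑Q)) : GL ι F),
      rr_mem_omegaGL Q h2 hQ (by omega) (by rw [hQp]; exact hc2) (by rw [hQp']; exact hc2)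
        (by rw [hQp, hQp']; exact ⟨2 * c, rfl⟩), ?_, ?_⟩
    · intro y hy
      rw [rr_mulVec]
      exact refl_maps_SS hB x hxm hxQ h2 hc hP h12 _ (refl_maps_SS hB x hxm hxQ h2 hc hP h13 y hy)
    · have hz2 : QuadraticMap.polar Q (x i₂) z = 0 := hB.perp i₂ i₁ (Ne.symm h12) _ (hxm i₂) _ hz
      have hz3 : QuadraticMap.polar Q (x i₃) z = 0 := hB.perp i₃ i₁ (Ne.symm h13) _ (hxm i₃) _ hz
      have hz1 : QuadraticMap.polar Q (x i₁) z = 0 := by rw [QuadraticMap.polar_comm]; exact hzx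
      apply not_stab_of_split hB (Ne.symm h13) hz hz0 _ (hxm i₁) (x := x i₁)
      · rw [rr_mulVec, refl_sub_left hB x hxm hxQ h2 hc h13,
          refl_of_perp Q (by
            rw [QuadraticMap.polar_sub_left, hB.perp i₁ i₃ h13 _ (hxm i₁) _ (hxm i₃),
              hB.perp i₂ i₃ h23 _ (hxm i₂) _ (hxm i₃), sub_zero])]
        exact hxm i₃
      · rw [rr_mulVec, refl_sub_left hB x hxm hxQ h2 hc h13,
          refl_of_perp Q (by
            rw [QuadraticMap.polar_sub_left, hB.perp i₁ i₃ h13 _ (hxm i₁) _ (hxm i₃),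
              hB.perp i₂ i₃ h23 _ (hxm i₂) _ (hxm i₃), sub_zero])]
        exact hx0 i₃
      · rw [rr_mulVec, refl_of_perp Q (z := x i₁ - x i₃) (x := z)
            (by rw [QuadraticMap.polar_sub_left, hz1, hz3, sub_zero]),
          refl_of_perp Q (by rw [QuadraticMap.polar_sub_left, hz1, hz2, sub_zero])]

end Cfsg.Agent.Helper7.ONm
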