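import Mathlib
import Cfsg.Agent.Helper7.ONmC

set_option autoImplicit false
set_option linter.unusedSectionVars false

/-! Decompositions into hyperbolic planes over the fields of order three and five (helper7). -/

namespace Cfsg.Agent.Helper7.ONm

open Module Cfsg.Agent.Helper8.QuadForm Cfsg.Agent.Helper8.WittQuad Cfsg.Agent.Helper8.OrthOrder
  Cfsg.Agent.Helper8.Siegel Cfsg.Agent.Helper8.SiegelGroup Cfsg.Agent.Helper7.OrthMax
  Cfsg.Agent.Helper7.OrthBlk Cfsg.Agent.Lead.OrthFrame Cfsg.Agent.Lead.OrthPlane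
  Cfsg.Agent.Helper8.Reflections

variable {F : Type*} [Field F] [Fintype F] {ι : Type} [Fintype ι] [DecidableEq ι]
  {Q : QuadraticForm F (ι → F)} {t : ℕ} {D : Fin t → Submodule F (ι → F)}

/-- hyperbolic planes in odd characteristic, when the norm-one vectors of a plane form a frame. -/
theorem main_odd_hyp (h2 : (2 : F) ≠ 0) (hQ : (QuadraticMap.polarBilin Q).Nondegenerate)
    (h5 : 5 ≤ Fintype.card ι) (hD : Cfsg.Geo.IsOrthogonalMDecomposition ⇑Q 2 D)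
    (hplus : ∀ i, Cfsg.Geo.IsPlusTypeOn ⇑Q (D i)) (ht : 4 ≤ t)
    (hP' : ∀ s r : F, s * r = 1 → (s = 1 ∧ r = 1) ∨ (s = -1 ∧ r = -1) ∨ s + r = 0)
    (hαβ : ∃ α β : F, α ≠ 0 ∧ 1 + α ^ 2 + β ^ 2 = 0) :
    ∃ K : Subgroup (GL ι F), Cfsg.Geo.decompositionStabilizer D ⊓ Cfsg.Geo.omegaGL ⇑Q < K ∧
      K < Cfsg.Geo.omegaGL ⇑Q := by
  obtain ⟨e, f, hd⟩ := exists_hypData Q D hD hplus
  have hB : Blk Q D := blk_of_frozen Q hQ hD
  obtain ⟨α, β, hα, hαβ⟩ := hαβ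
  obtain ⟨i₁, hi₁⟩ : ∃ i : Fin t, i = ⟨0, by omega⟩ := ⟨_, rfl⟩
  obtain ⟨i₂, hi₂⟩ : ∃ i : Fin t, i = ⟨1, by omega⟩ := ⟨_, rfl⟩
  obtain ⟨i₃, hi₃⟩ : ∃ i : Fin t, i = ⟨2, by omega⟩ := ⟨_, rfl⟩
  obtain ⟨i₄, hi₄⟩ : ∃ i : Fin t, i = ⟨3, by omega⟩ := ⟨_, rfl⟩
  have h12 : i₁ ≠ i₂ := by rw [hi₁, hi₂]; intro h; have := Fin.mk.inj_iff.1 h; omega
  have h13 : i₁ ≠ i₃ := by rw [hi₁, hi₃]; intro h; have := Fin.mk.inj_iff.1 h; omega
  have h14 : i₁ ≠ i₄ := by rw [hi₁, hi₄]; intro h; have := Fin.mk.inj_iff.1 h; omega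
  have h23 : i₂ ≠ i₃ := by rw [hi₂, hi₃]; intro h; have := Fin.mk.inj_iff.1 h; omega
  have h24 : i₂ ≠ i₄ := by rw [hi₂, hi₄]; intro h; have := Fin.mk.inj_iff.1 h; omega
  have h34 : i₃ ≠ i₄ := by rw [hi₃, hi₄]; intro h; have := Fin.mk.inj_iff.1 h; omega
  have hz : e i₁ - f i₁ ∈ D i₁ := (D i₁).sub_mem (hd.e_mem i₁) (hd.f_mem i₁)
  have hQz : Q (e i₁ - f i₁) = -1 := by
    rw [sub_eq_add_neg, QuadraticMap.map_add Q, QuadraticMap.map_neg, QuadraticMap.polar_neg_right,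
      hd.Qe, hd.Qf, hd.pef]
    ring
  have ha2 : e i₂ + f i₂ ∈ D i₂ := hd.a_mem i₂
  have ha3 : α • (e i₃ + f i₃) ∈ D i₃ := (D i₃).smul_mem _ (hd.a_mem i₃)
  have ha4 : β • (e i₄ + f i₄) ∈ D i₄ := (D i₄).smul_mem _ (hd.a_mem i₄)
  apply main_odd h2 hQ h5 hB one_ne_zero (fun i => e i + f i) hd.a_mem hd.Qa ?_ h12 h13 h23
    hz ?_ ?_ (u := (e i₂ + f i₂) + α • (e i₃ + f i₃) + β • (e i₄ + f i₄)) ?_ ?_ ?_ ?_
  · intro i y hy hQy
    obtain ⟨s, r, rfl⟩ := hd.span i y hy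
    rw [hd.Q_comb] at hQy
    rcases hP' s r hQy with ⟨rfl, rfl⟩ | ⟨rfl, rfl⟩ | h
    · left; rw [one_smul, one_smul]
    · right; left; rw [neg_smul, neg_smul, one_smul, one_smul, neg_add]
    · right; right
      have := hd.polar_comb i s r 1 1
      rw [one_smul, one_smul, mul_one, mul_one] at this
      rw [this, h]
  · intro h
    rw [h, map_zero] at hQz
    exact one_ne_zero (neg_eq_zero.1 hQz.symm)
  · show QuadraticMap.polar Q (e i₁ - f i₁) (e i₁ + f i₁) = 0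
    rw [QuadraticMap.polar_sub_left, QuadraticMap.polar_add_right Q (e i₁),
      QuadraticMap.polar_add_right Q (f i₁), hd.pee, hd.pef, hd.pfe, hd.pff]
    ring
  · rw [QuadraticMap.map_add Q, Q_add_of_ne hB h23 ha2 ha3, QuadraticMap.polar_add_left,
      hB.perp i₂ i₄ h24 _ ha2 _ ha4, hB.perp i₃ i₄ h34 _ ha3 _ ha4, QuadraticMap.map_smul,
      QuadraticMap.map_smul, hd.Qa, hd.Qa, hd.Qa]
    simp only [smul_eq_mul, mul_one, add_zero]
    linear_combination hαβ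
  · intro y hy
    rw [QuadraticMap.polar_add_right, QuadraticMap.polar_add_right,
      hB.perp i₁ i₂ h12 y hy _ ha2, hB.perp i₁ i₃ h13 y hy _ ha3, hB.perp i₁ i₄ h14 y hy _ ha4]
    simp
  · rw [map_add, map_add, cp_of_mem hB ha2, cp_of_mem_ne hB (Ne.symm h23) ha3,
      cp_of_mem_ne hB (Ne.symm h24) ha4, add_zero, add_zero]
    exact hd.a_ne i₂
  · rw [map_add, map_add, cp_of_mem hB ha3, cp_of_mem_ne hB h23 ha2,
      cp_of_mem_ne hB (Ne.symm h34) ha4, add_zero, zero_add]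
    exact smul_ne_zero hα (hd.a_ne i₃)

section fields

omit [Fintype ι] [DecidableEq ι] in
theorem f3_three (hq : Fintype.card F = 3) : (3 : F) = 0 := by
  have h3 : ((Fintype.card F : ℕ) : F) = 0 := FiniteField.cast_card_eq_zero F
  rw [hq] at h3
  exact_mod_cast h3

omit [Fintype ι] [DecidableEq ι] in
theorem f5_five (hq : Fintype.card F = 5) : (5 : F) = 0 := by
  have h3 : ((Fintype.card F : ℕ) : F) = 0 := FiniteField.cast_card_eq_zero F
  rw [hq] at h3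
  exact_mod_cast h3

omit [Fintype ι] [DecidableEq ι] in
theorem f5_two_ne (hq : Fintype.card F = 5) : (2 : F) ≠ 0 := by
  intro h
  have h5 := f5_five hq
  have : (1 : F) = 0 := by linear_combination h5 - 2 * h
  exact one_ne_zero this

omit [Fintype ι] [DecidableEq ι] in
theorem f5_mul_eq_one (hq : Fintype.card F = 5) {s r : F} (h : s * r = 1) :
    (s = 1 ∧ r = 1) ∨ (s = -1 ∧ r = -1) ∨ s + r = 0 := by
  have hs0 : s ≠ 0 := by
    rintro rfl
    rw [zero_mul] at h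
    exact zero_ne_one h
  have h4 : s ^ 4 = 1 := by
    have := FiniteField.pow_card_sub_one_eq_one s hs0
    rwa [hq] at this
  have hfac : (s - 1) * (s + 1) * (s ^ 2 + 1) = 0 := by linear_combination h4
  rcases mul_eq_zero.1 hfac with h1 | h1
  · rcases mul_eq_zero.1 h1 with h1 | h1
    · have hs : s = 1 := sub_eq_zero.1 h1
      left
      refine ⟨hs, ?_⟩
      rw [hs, one_mul] at h
      exact h
    · have hs : s = -1 := eq_neg_of_add_eq_zero_left h1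
      right; left
      refine ⟨hs, ?_⟩
      rw [hs] at h
      linear_combination -h
  · right; right
    have : s * (s + r) = 0 := by linear_combination h1 + h
    rcases mul_eq_zero.1 this with h' | h'
    · exact absurd h' hs0
    · exact h'

end fields

/-- **the field of order three, hyperbolic planes.** -/
theorem main_q3_hyp (hq : Fintype.card F = 3) (hQ : (QuadraticMap.polarBilin Q).Nondegenerate)
    (h5 : 5 ≤ Fintype.card ι) (hD : Cfsg.Geo.IsOrthogonalMDecomposition ⇑Q 2 D)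
    (hplus : ∀ i, Cfsg.Geo.IsPlusTypeOn ⇑Q (D i)) (ht : 4 ≤ t) :
    ∃ K : Subgroup (GL ι F), Cfsg.Geo.decompositionStabilizer D ⊓ Cfsg.Geo.omegaGL ⇑Q < K ∧
      K < Cfsg.Geo.omegaGL ⇑Q := by
  apply main_odd_hyp (f3_two_ne hq) hQ h5 hD hplus ht
  · intro s r h
    rcases f3_mul_eq_one hq h with h' | h'
    · exact Or.inl h'
    · exact Or.inr (Or.inl h')
  · refine ⟨1, 1, one_ne_zero, ?_⟩
    linear_combination f3_three hq

/-- **the field of order five, hyperbolic planes.** -/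
theorem main_q5_hyp (hq : Fintype.card F = 5) (hQ : (QuadraticMap.polarBilin Q).Nondegenerate)
    (h5 : 5 ≤ Fintype.card ι) (hD : Cfsg.Geo.IsOrthogonalMDecomposition ⇑Q 2 D)
    (hplus : ∀ i, Cfsg.Geo.IsPlusTypeOn ⇑Q (D i)) (ht : 4 ≤ t) :
    ∃ K : Subgroup (GL ι F), Cfsg.Geo.decompositionStabilizer D ⊓ Cfsg.Geo.omegaGL ⇑Q < K ∧
      K < Cfsg.Geo.omegaGL ⇑Q := by
  apply main_odd_hyp (f5_two_ne hq) hQ h5 hD hplus ht
  · intro s r h
    exact f5_mul_eq_one hq h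
  · refine ⟨2, 0, f5_two_ne hq, ?_⟩
    linear_combination f5_five hq

end Cfsg.Agent.Helper7.ONm
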