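import Mathlib
import Cfsg.Agent.Helper7.ONmB

set_option autoImplicit false
set_option linter.unusedSectionVars false

/-! Decompositions into hyperbolic planes over the field of order four: the overgroup is the
stabiliser of the additive span of the norm-one vectors of the planes (helper7). -/

namespace Cfsg.Agent.Helper7.ONm

open Module Cfsg.Agent.Helper8.QuadForm Cfsg.Agent.Helper8.WittQuad Cfsg.Agent.Helper8.OrthOrder
  Cfsg.Agent.Helper8.Siegel Cfsg.Agent.Helper8.SiegelGroup Cfsg.Agent.Helper7.OrthMax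
  Cfsg.Agent.Helper7.OrthBlk Cfsg.Agent.Lead.OrthFrame Cfsg.Agent.Lead.OrthPlane

variable {F : Type*} [Field F] [Fintype F] {ι : Type} [Fintype ι] [DecidableEq ι]
  {Q : QuadraticForm F (ι → F)} {t : ℕ} {D : Fin t → Submodule F (ι → F)}

section fields

omit [Fintype ι] [DecidableEq ι]

theorem f4_two (hq : Fintype.card F = 4) : (2 : F) = 0 := by
  have h3 : ((Fintype.card F : ℕ) : F) = 0 := FiniteField.cast_card_eq_zero F
  rw [hq] at h3
  have h4 : (2 : F) * 2 = 0 := by
    have : ((4 : ℕ) : F) = 2 * 2 := by norm_num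
    rw [← this]; exact h3
  exact mul_self_eq_zero.1 h4

theorem f4_cube (hq : Fintype.card F = 4) {s : F} (hs : s ≠ 0) : s ^ 3 = 1 := by
  have := FiniteField.pow_card_sub_one_eq_one s hs
  rwa [hq] at this

/-- in the field of order four, `z + z⁻¹ = 1` for `z ≠ 0, 1`. -/
theorem f4_add_inv (hq : Fintype.card F = 4) {z w : F} (hzw : z * w = 1) (hz1 : z ≠ 1) :
    z + w = 1 := by
  have hz0 : z ≠ 0 := by
    rintro rfl
    rw [zero_mul] at hzw
    exact zero_ne_one hzw
  have h3 := f4_cube hq hz0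
  have h2 := f4_two hq
  have hw : w = z ^ 2 := by
    have : z * w = z * z ^ 2 := by rw [hzw, ← h3]; ring
    exact mul_left_cancel₀ hz0 this
  have hfac : (z - 1) * (z ^ 2 + z + 1) = 0 := by linear_combination h3
  rcases mul_eq_zero.1 hfac with h | h
  · exact absurd (sub_eq_zero.1 h) hz1
  · rw [hw]
    linear_combination h - h2

theorem exists_ne_zero_one (hq : Fintype.card F = 4) : ∃ ω : F, ω ≠ 0 ∧ ω ≠ 1 := by
  have h : 2 < Fintype.card F := by rw [hq]; norm_num
  obtain ⟨a, b, c, hab, hac, hbc⟩ := Fintype.two_lt_card_iff.1 h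
  by_cases ha0 : a = 0
  · by_cases hb1 : b = 1
    · refine ⟨c, ?_, ?_⟩
      · intro h; exact hac (ha0.trans h.symm)
      · intro h; exact hbc (hb1.trans h.symm)
    · refine ⟨b, ?_, hb1⟩
      intro h; exact hab (ha0.trans h.symm)
  · by_cases ha1 : a = 1
    · by_cases hb0 : b = 0
      · refine ⟨c, ?_, ?_⟩
        · intro h; exact hbc (hb0.trans h.symm)
        · intro h; exact hac (ha1.trans h.symm)
      · refine ⟨b, hb0, ?_⟩
        intro h; exact hab (ha1.trans h.symm)
    · exact ⟨a, ha0, ha1⟩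

end fields

/-- a matrix mapping a set into its additive span maps the span into itself. -/
theorem closure_maps (S₁ : Set (ι → F)) (M : Matrix ι ι F)
    (h : ∀ x ∈ S₁, M.mulVec x ∈ AddSubgroup.closure S₁) :
    ∀ y ∈ AddSubgroup.closure S₁, M.mulVec y ∈ AddSubgroup.closure S₁ := by
  intro y hy
  induction hy using AddSubgroup.closure_induction with
  | mem x hx => exact h x hx
  | zero => rw [Matrix.mulVec_zero]; exact AddSubgroup.zero_mem _
  | add a b _ _ iha ihb => rw [Matrix.mulVec_add]; exact AddSubgroup.add_mem _ iha ihb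
  | neg a _ iha => rw [Matrix.mulVec_neg]; exact AddSubgroup.neg_mem _ iha

/-- **the field of order four, hyperbolic planes.** -/
theorem main_q4_k2 (hq : Fintype.card F = 4) (hQ : (QuadraticMap.polarBilin Q).Nondegenerate)
    (h5 : 5 ≤ Fintype.card ι) (hD : Cfsg.Geo.IsOrthogonalMDecomposition ⇑Q 2 D)
    (hplus : ∀ i, Cfsg.Geo.IsPlusTypeOn ⇑Q (D i)) (ht : 3 ≤ t) :
    ∃ K : Subgroup (GL ι F), Cfsg.Geo.decompositionStabilizer D ⊓ Cfsg.Geo.omegaGL ⇑Q < K ∧
      K < Cfsg.Geo.omegaGL ⇑Q := by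
  obtain ⟨e, f, hd⟩ := exists_hypData Q D hD hplus
  have hB : Blk Q D := blk_of_frozen Q hQ hD
  have h2 : (2 : F) = 0 := f4_two hq
  have hneg1 : (-1 : F) = 1 := by linear_combination -h2
  obtain ⟨ω, hω0, hω1⟩ := exists_ne_zero_one hq
  obtain ⟨i₁, hi₁⟩ : ∃ i : Fin t, i = ⟨0, by omega⟩ := ⟨_, rfl⟩
  obtain ⟨i₂, hi₂⟩ : ∃ i : Fin t, i = ⟨1, by omega⟩ := ⟨_, rfl⟩
  obtain ⟨i₃, hi₃⟩ : ∃ i : Fin t, i = ⟨2, by omega⟩ := ⟨_, rfl⟩
  have h12 : i₁ ≠ i₂ := by rw [hi₁, hi₂]; intro h; have := Fin.mk.inj_iff.1 h; omega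
  have h13 : i₁ ≠ i₃ := by rw [hi₁, hi₃]; intro h; have := Fin.mk.inj_iff.1 h; omega
  have h23 : i₂ ≠ i₃ := by rw [hi₂, hi₃]; intro h; have := Fin.mk.inj_iff.1 h; omega
  -- two different norm-one vectors of a member add up to a norm-one vector
  have hP4 : ∀ i, ∀ x ∈ D i, ∀ y ∈ D i, Q x = 1 → Q y = 1 → x ≠ y → Q (x + y) = 1 := by
    intro i x hx y hy hQx hQy hxy
    obtain ⟨s, r, rfl⟩ := hd.span i x hx
    obtain ⟨s', r', rfl⟩ := hd.span i y hy
    rw [hd.Q_comb] at hQx hQy
    have e1 : s • e i + r • f i + (s' • e i + r' • f i) = (s + s') • e i + (r + r') • f i := by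
      rw [add_smul, add_smul]; abel
    rw [e1, hd.Q_comb]
    have hz1 : s * r' ≠ 1 := by
      intro h
      apply hxy
      have hs0 : s ≠ 0 := by
        rintro rfl
        rw [zero_mul] at hQx
        exact zero_ne_one hQx
      have hr : r = r' := mul_left_cancel₀ hs0 (hQx.trans h.symm)
      have hr0 : r ≠ 0 := by
        rintro rfl
        rw [mul_zero] at hQx
        exact zero_ne_one hQx
      have hs : s = s' := by
        rw [← hr] at hQy
        exact mul_right_cancel₀ hr0 (hQx.trans hQy.symm)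
      rw [hs, hr]
    have hzw : (s * r') * (s' * r) = 1 := by
      have : (s * r') * (s' * r) = (s * r) * (s' * r') := by ring
      rw [this, hQx, hQy, one_mul]
    have := f4_add_inv hq hzw hz1
    linear_combination this + hQx + hQy + h2
  have hpolar01 : ∀ y ∈ SS Q D 1, ∀ w ∈ SS Q D 1,
      QuadraticMap.polar Q y w = 0 ∨ QuadraticMap.polar Q y w = 1 := by
    rintro y ⟨hQy, i, hi⟩ w ⟨hQw, j, hj⟩
    by_cases hij : i = j
    · subst hij
      by_cases hyw : y = w
      · left
        rw [hyw, polar_self', h2, zero_mul]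
      · right
        have := hP4 i y hi w hj hQy hQw hyw
        rw [QuadraticMap.map_add Q, hQy, hQw] at this
        linear_combination this - h2
    · left
      exact hB.perp i j hij y hi w hj
  have h01add : ∀ a b : F, (a = 0 ∨ a = 1) → (b = 0 ∨ b = 1) → (a + b = 0 ∨ a + b = 1) := by
    rintro a b (rfl | rfl) (rfl | rfl)
    · left; ring
    · right; ring
    · right; ring
    · left; linear_combination h2
  have haS : ∀ i, e i + f i ∈ SS Q D 1 := fun i => ⟨hd.Qa i, i, hd.a_mem i⟩
  have hQu : Q ((e i₂ + f i₂) + (e i₃ + f i₃)) = 0 := by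
    rw [Q_add_of_ne hB h23 (hd.a_mem i₂) (hd.a_mem i₃), hd.Qa, hd.Qa]
    linear_combination h2
  have huo : ∀ y ∈ D i₁, QuadraticMap.polar Q y ((e i₂ + f i₂) + (e i₃ + f i₃)) = 0 := by
    intro y hy
    rw [QuadraticMap.polar_add_right, hB.perp i₁ i₂ h12 y hy _ (hd.a_mem i₂),
      hB.perp i₁ i₃ h13 y hy _ (hd.a_mem i₃), add_zero]
  have hcp2 : cp hB i₂ ((e i₂ + f i₂) + (e i₃ + f i₃)) = e i₂ + f i₂ := by
    rw [map_add, cp_of_mem hB (hd.a_mem i₂), cp_of_mem_ne hB (Ne.symm h23) (hd.a_mem i₃),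
      add_zero]
  have hcp3 : cp hB i₃ ((e i₂ + f i₂) + (e i₃ + f i₃)) = e i₃ + f i₃ := by
    rw [map_add, cp_of_mem hB (hd.a_mem i₃), cp_of_mem_ne hB h23 (hd.a_mem i₂), zero_add]
  have huC : (e i₂ + f i₂) + (e i₃ + f i₃) ∈ AddSubgroup.closure (SS Q D 1) :=
    AddSubgroup.add_mem _ (AddSubgroup.subset_closure (haS i₂))
      (AddSubgroup.subset_closure (haS i₃))
  -- components of the vectors of the additive span
  have hInv : ∀ y ∈ AddSubgroup.closure (SS Q D 1), ∀ i, cp hB i y = 0 ∨ Q (cp hB i y) = 1 := by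
    intro y hy
    induction hy using AddSubgroup.closure_induction with
    | mem x hx =>
      obtain ⟨hQx, j, hj⟩ := hx
      intro i
      by_cases hij : i = j
      · subst hij
        right
        rw [cp_of_mem hB hj, hQx]
      · left
        exact cp_of_mem_ne hB (Ne.symm hij) hj
    | zero => intro i; left; exact map_zero _
    | add a b _ _ iha ihb =>
      intro i
      rw [map_add]
      rcases iha i with ha | ha
      · rw [ha, zero_add]; exact ihb i
      · rcases ihb i with hb | hb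
        · rw [hb, add_zero]; exact Or.inr ha
        · by_cases hab : cp hB i a = cp hB i b
          · left
            rw [hab, ← two_smul F, h2, zero_smul]
          · right
            exact hP4 i _ (cp_mem hB i a) _ (cp_mem hB i b) ha hb hab
    | neg a _ iha =>
      intro i
      rw [map_neg]
      rcases iha i with ha | ha
      · left; rw [ha, neg_zero]
      · right; rw [QuadraticMap.map_neg, ha]
  apply between_of_set Q D (AddSubgroup.closure (SS Q D 1) : Set (ι → F))
  · intro g hg x hx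
    exact closure_maps _ _ (fun y hy => AddSubgroup.subset_closure (SS_invariant Q D 1 g hg y hy))
      x hx
  · -- a Siegel transformation with a non-rational parameter leaves the span
    have hQu' : Q (ω • ((e i₂ + f i₂) + (e i₃ + f i₃))) = 0 := by
      rw [QuadraticMap.map_smul, hQu, smul_zero]
    obtain ⟨huv, hmv, -⟩ := sgl_move hB h12 h13 h23 (x := e i₁ + f i₁) (v := e i₁)
      (u := ω • ((e i₂ + f i₂) + (e i₃ + f i₃))) (hd.a_mem i₁) (hd.e_mem i₁) (hd.pae i₁) hQu'
      (by
        intro y hy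
        rw [QuadraticMap.polar_smul_right, huo y hy, smul_zero])
      (by
        rw [map_smul, hcp2]
        exact smul_ne_zero hω0 (hd.a_ne i₂))
      (by
        rw [map_smul, hcp3]
        exact smul_ne_zero hω0 (hd.a_ne i₃))
    refine ⟨_, sgl_mem Q hQ h5 hQu' huv, e i₁ + f i₁, AddSubgroup.subset_closure (haS i₁), ?_⟩
    rw [hmv]
    intro hmem
    have := hInv _ hmem i₂
    rw [map_add, cp_of_mem_ne hB h12 (hd.a_mem i₁), zero_add, map_smul, hcp2] at this
    rcases this with h | h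
    · exact smul_ne_zero hω0 (hd.a_ne i₂) h
    · rw [QuadraticMap.map_smul, hd.Qa, smul_eq_mul, mul_one] at h
      have hfac : (ω - 1) * (ω - 1) = 0 := by linear_combination h - ω * h2 + h2
      exact hω1 (sub_eq_zero.1 (mul_self_eq_zero.1 hfac))
  · -- a Siegel transformation with rational parameters stabilises the span
    have hω3 := f4_cube hq hω0
    have hωinv : ω * ω ^ 2 = 1 := by rw [← hω3]; ring
    have hvm : ω • e i₁ + ω ^ 2 • f i₁ ∈ D i₁ := hd.comb_mem i₁ _ _
    have hQv : Q (ω • e i₁ + ω ^ 2 • f i₁) = 1 := by rw [hd.Q_comb, hωinv]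
    have hvS : ω • e i₁ + ω ^ 2 • f i₁ ∈ SS Q D 1 := ⟨hQv, i₁, hvm⟩
    have hxv : QuadraticMap.polar Q (e i₁ + f i₁) (ω • e i₁ + ω ^ 2 • f i₁) = 1 := by
      have := hd.polar_comb i₁ 1 1 ω (ω ^ 2)
      rw [one_smul, one_smul, one_mul, one_mul] at this
      rw [this]
      have := f4_add_inv hq hωinv hω1
      linear_combination this
    obtain ⟨huv, hmv, hout⟩ := sgl_move hB h12 h13 h23 (x := e i₁ + f i₁)
      (v := ω • e i₁ + ω ^ 2 • f i₁) (u := (e i₂ + f i₂) + (e i₃ + f i₃)) (hd.a_mem i₁) hvm hxv hQu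
      huo (by rw [hcp2]; exact hd.a_ne i₂) (by rw [hcp3]; exact hd.a_ne i₃)
    refine ⟨_, sgl_mem Q hQ h5 hQu huv, ?_, ?_⟩
    · apply closure_maps
      intro y hy
      rw [sgl_mulVec Q hQu huv, hQv, one_mul]
      have hα := hpolar01 y hy _ hvS
      have hβ : QuadraticMap.polar Q y ((e i₂ + f i₂) + (e i₃ + f i₃)) = 0 ∨
          QuadraticMap.polar Q y ((e i₂ + f i₂) + (e i₃ + f i₃)) = 1 := by
        rw [QuadraticMap.polar_add_right]
        exact h01add _ _ (hpolar01 y hy _ (haS i₂)) (hpolar01 y hy _ (haS i₃))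
      have hsm : ∀ (a : F) (w : ι → F), (a = 0 ∨ a = 1) → w ∈ AddSubgroup.closure (SS Q D 1) →
          a • w ∈ AddSubgroup.closure (SS Q D 1) := by
        rintro a w (rfl | rfl) hw
        · rw [zero_smul]; exact AddSubgroup.zero_mem _
        · rw [one_smul]; exact hw
      exact AddSubgroup.sub_mem _ (AddSubgroup.sub_mem _
        (AddSubgroup.add_mem _ (AddSubgroup.subset_closure hy) (hsm _ _ hα huC))
        (hsm _ _ hβ (AddSubgroup.subset_closure hvS))) (hsm _ _ hβ huC)
    · apply not_stab_of_out (hd.a_mem i₁)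
      rw [hmv]
      exact hout

end Cfsg.Agent.Helper7.ONm
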