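import Mathlib
import Cfsg.Agent.Helper7.ONmB

set_option autoImplicit false
set_option linter.unusedSectionVars false

/-! A hyperbolic basis of a four-dimensional quadratic space of plus type (helper7). -/

namespace Cfsg.Agent.Helper7.ONm

open Module Cfsg.Agent.Helper8.QuadForm

variable {F : Type*} [Field F] {V : Type*} [AddCommGroup V] [Module F V]

/-- a totally singular subspace is totally isotropic. -/
theorem polar_of_ts (Q : QuadraticForm F V) {U : Submodule F V} (hUs : ∀ u ∈ U, Q u = 0)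
    {x y : V} (hx : x ∈ U) (hy : y ∈ U) : QuadraticMap.polar Q x y = 0 := by
  unfold QuadraticMap.polar
  rw [hUs _ (U.add_mem hx hy), hUs x hx, hUs y hy]
  ring

/-- a hyperbolic basis of a four-dimensional space of plus type. -/
theorem exists_hyp4 (Q : QuadraticForm F V) {W U : Submodule F V} (hnd : NondegOn Q W)
    (hdim : finrank F W = 4) (hUW : U ≤ W) (hUs : ∀ u ∈ U, Q u = 0) (hUd : finrank F U = 2) :
    ∃ e₁ f₁ e₂ f₂ : V, e₁ ∈ W ∧ f₁ ∈ W ∧ e₂ ∈ W ∧ f₂ ∈ W ∧ Q e₁ = 0 ∧ Q f₁ = 0 ∧ Q e₂ = 0 ∧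
      Q f₂ = 0 ∧ QuadraticMap.polar Q e₁ f₁ = 1 ∧ QuadraticMap.polar Q e₂ f₂ = 1 ∧
      QuadraticMap.polar Q e₁ e₂ = 0 ∧ QuadraticMap.polar Q e₁ f₂ = 0 ∧
      QuadraticMap.polar Q f₁ e₂ = 0 ∧ QuadraticMap.polar Q f₁ f₂ = 0 ∧
      ∀ x ∈ W, ∃ a b c d : F, x = a • e₁ + b • f₁ + c • e₂ + d • f₂ := by
  haveI : FiniteDimensional F W := Module.finite_of_finrank_pos (by omega)
  haveI : FiniteDimensional F U := Module.finite_of_finrank_pos (by omega)
  -- two independent vectors of `U`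
  obtain ⟨e0, he0⟩ := (Module.finrank_pos_iff_exists_ne_zero (R := F) (M := U)).1 (by omega)
  have he1U : (e0 : V) ∈ U := e0.2
  have he10 : (e0 : V) ≠ 0 := fun h => he0 (Subtype.ext h)
  obtain ⟨e2', he2'U, he2'⟩ : ∃ x ∈ U, x ∉ Submodule.span F {(e0 : V)} := by
    by_contra hcon
    push Not at hcon
    have hle : U ≤ Submodule.span F {(e0 : V)} := hcon
    have h1 := Submodule.finrank_mono hle
    rw [finrank_span_singleton he10, hUd] at h1
    omega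
  obtain ⟨e₁, he₁⟩ : ∃ e₁ : V, e₁ = (e0 : V) := ⟨_, rfl⟩
  rw [← he₁] at he1U he10 he2'
  have he₁W : e₁ ∈ W := hUW he1U
  have hQe₁ : Q e₁ = 0 := hUs _ he1U
  -- the hyperbolic partner of `e₁`
  have hndc : Nondeg (Q.comp W.subtype) := (nondeg_comp_subtype_iff Q W).2 hnd
  obtain ⟨f1, hQf1, hef1⟩ := exists_hyperbolic_pair (Q.comp W.subtype) hndc
    (e := ⟨e₁, he₁W⟩) (fun h => he10 (congrArg Subtype.val h)) hQe₁
  obtain ⟨f₁, hf₁⟩ : ∃ f₁ : V, f₁ = (f1 : V) := ⟨_, rfl⟩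
  have hf₁W : f₁ ∈ W := by rw [hf₁]; exact f1.2
  have hQf₁ : Q f₁ = 0 := by rw [hf₁]; exact hQf1
  have hef₁ : QuadraticMap.polar Q e₁ f₁ = 1 := by rw [hf₁]; exact hef1
  have hfe₁ : QuadraticMap.polar Q f₁ e₁ = 1 := by rw [QuadraticMap.polar_comm]; exact hef₁
  have hee₁ : QuadraticMap.polar Q e₁ e₁ = 0 := by rw [polar_self', hQe₁, mul_zero]
  have hff₁ : QuadraticMap.polar Q f₁ f₁ = 0 := by rw [polar_self', hQf₁, mul_zero]
  -- the second singular vector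
  obtain ⟨e₂, he₂⟩ : ∃ e₂ : V, e₂ = e2' - QuadraticMap.polar Q e2' f₁ • e₁ := ⟨_, rfl⟩
  have he₂U : e₂ ∈ U := by rw [he₂]; exact U.sub_mem he2'U (U.smul_mem _ he1U)
  have he₂W : e₂ ∈ W := hUW he₂U
  have hQe₂ : Q e₂ = 0 := hUs _ he₂U
  have he₂0 : e₂ ≠ 0 := by
    intro h
    apply he2'
    rw [he₂, sub_eq_zero] at h
    rw [h]
    exact Submodule.smul_mem _ _ (Submodule.mem_span_singleton_self _)
  have he₁e₂ : QuadraticMap.polar Q e₁ e₂ = 0 := polar_of_ts Q hUs he1U he₂U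
  have he₂e₁ : QuadraticMap.polar Q e₂ e₁ = 0 := polar_of_ts Q hUs he₂U he1U
  have he₂f₁ : QuadraticMap.polar Q e₂ f₁ = 0 := by
    rw [he₂, QuadraticMap.polar_sub_left, QuadraticMap.polar_smul_left, hef₁, smul_eq_mul, mul_one,
      sub_self]
  have hf₁e₂ : QuadraticMap.polar Q f₁ e₂ = 0 := by rw [QuadraticMap.polar_comm]; exact he₂f₁
  have hee₂ : QuadraticMap.polar Q e₂ e₂ = 0 := by rw [polar_self', hQe₂, mul_zero]
  -- a vector pairing to one with `e₂`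
  obtain ⟨g0, hg0W, hg0⟩ : ∃ g0 ∈ W, QuadraticMap.polar Q e₂ g0 ≠ 0 := by
    by_contra hcon
    push Not at hcon
    exact he₂0 (hnd e₂ he₂W hcon)
  obtain ⟨g, hg⟩ : ∃ g : V, g = (QuadraticMap.polar Q e₂ g0)⁻¹ • g0 := ⟨_, rfl⟩
  have hgW : g ∈ W := by rw [hg]; exact W.smul_mem _ hg0W
  have he₂g : QuadraticMap.polar Q e₂ g = 1 := by
    rw [hg, QuadraticMap.polar_smul_right, smul_eq_mul, inv_mul_cancel₀ hg0]
  have hge₂ : QuadraticMap.polar Q g e₂ = 1 := by rw [QuadraticMap.polar_comm]; exact he₂g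
  obtain ⟨g', hg'⟩ : ∃ g' : V, g' = g - QuadraticMap.polar Q g f₁ • e₁
      - QuadraticMap.polar Q g e₁ • f₁ := ⟨_, rfl⟩
  have hg'W : g' ∈ W := by
    rw [hg']
    exact W.sub_mem (W.sub_mem hgW (W.smul_mem _ he₁W)) (W.smul_mem _ hf₁W)
  have hg'e₁ : QuadraticMap.polar Q g' e₁ = 0 := by
    rw [hg', QuadraticMap.polar_sub_left, QuadraticMap.polar_sub_left,
      QuadraticMap.polar_smul_left, QuadraticMap.polar_smul_left, hee₁, hfe₁]
    simp
  have hg'f₁ : QuadraticMap.polar Q g' f₁ = 0 := by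
    rw [hg', QuadraticMap.polar_sub_left, QuadraticMap.polar_sub_left,
      QuadraticMap.polar_smul_left, QuadraticMap.polar_smul_left, hef₁, hff₁]
    simp
  have hg'e₂ : QuadraticMap.polar Q g' e₂ = 1 := by
    rw [hg', QuadraticMap.polar_sub_left, QuadraticMap.polar_sub_left,
      QuadraticMap.polar_smul_left, QuadraticMap.polar_smul_left, he₁e₂, hf₁e₂, hge₂]
    simp
  obtain ⟨f₂, hf₂⟩ : ∃ f₂ : V, f₂ = g' - Q g' • e₂ := ⟨_, rfl⟩
  have hf₂W : f₂ ∈ W := by rw [hf₂]; exact W.sub_mem hg'W (W.smul_mem _ he₂W)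
  have hQf₂ : Q f₂ = 0 := by
    rw [hf₂, sub_eq_add_neg, QuadraticMap.map_add Q, QuadraticMap.map_neg, QuadraticMap.map_smul,
      hQe₂, QuadraticMap.polar_neg_right, QuadraticMap.polar_smul_right, hg'e₂]
    simp
  have hf₂e₁ : QuadraticMap.polar Q f₂ e₁ = 0 := by
    rw [hf₂, QuadraticMap.polar_sub_left, QuadraticMap.polar_smul_left, hg'e₁, he₂e₁]
    simp
  have hf₂f₁ : QuadraticMap.polar Q f₂ f₁ = 0 := by
    rw [hf₂, QuadraticMap.polar_sub_left, QuadraticMap.polar_smul_left, hg'f₁, he₂f₁]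
    simp
  have hf₂e₂ : QuadraticMap.polar Q f₂ e₂ = 1 := by
    rw [hf₂, QuadraticMap.polar_sub_left, QuadraticMap.polar_smul_left, hg'e₂, hee₂]
    simp
  have he₂f₂ : QuadraticMap.polar Q e₂ f₂ = 1 := by rw [QuadraticMap.polar_comm]; exact hf₂e₂
  have he₁f₂ : QuadraticMap.polar Q e₁ f₂ = 0 := by rw [QuadraticMap.polar_comm]; exact hf₂e₁
  have hf₁f₂ : QuadraticMap.polar Q f₁ f₂ = 0 := by rw [QuadraticMap.polar_comm]; exact hf₂f₁
  have hff₂ : QuadraticMap.polar Q f₂ f₂ = 0 := by rw [polar_self', hQf₂, mul_zero]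
  refine ⟨e₁, f₁, e₂, f₂, he₁W, hf₁W, he₂W, hf₂W, hQe₁, hQf₁, hQe₂, hQf₂, hef₁, he₂f₂, he₁e₂,
    he₁f₂, hf₁e₂, hf₁f₂, ?_⟩
  -- the four vectors span `W`
  have hli : LinearIndependent F ![e₁, f₁, e₂, f₂] := by
    rw [Fintype.linearIndependent_iff]
    intro c hc
    rw [Fin.sum_univ_four] at hc
    simp only [Matrix.cons_val_zero, Matrix.cons_val_one, Matrix.cons_val] at hc
    have k0 := congrArg (fun z => QuadraticMap.polar Q z f₁) hc
    have k1 := congrArg (fun z => QuadraticMap.polar Q z e₁) hc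
    have k2 := congrArg (fun z => QuadraticMap.polar Q z f₂) hc
    have k3 := congrArg (fun z => QuadraticMap.polar Q z e₂) hc
    simp only [QuadraticMap.polar_add_left, QuadraticMap.polar_smul_left, hee₁, hef₁, hfe₁, hff₁,
      he₁e₂, he₂e₁, he₂f₁, hf₁e₂, hee₂, he₂f₂, hf₂e₂, hff₂, he₁f₂, hf₂e₁, hf₁f₂, hf₂f₁,
      QuadraticMap.polar_zero_left, smul_eq_mul, mul_zero, mul_one, zero_add, add_zero]
      at k0 k1 k2 k3
    intro i
    fin_cases i
    · exact k0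
    · exact k1
    · exact k2
    · exact k3
  have hspan : Submodule.span F (Set.range ![e₁, f₁, e₂, f₂]) = W := by
    apply Submodule.eq_of_le_of_finrank_eq
    · rw [Submodule.span_le]
      rintro _ ⟨i, rfl⟩
      fin_cases i
      · exact he₁W
      · exact hf₁W
      · exact he₂W
      · exact hf₂W
    · rw [finrank_span_eq_card hli, hdim, Fintype.card_fin]
  intro x hx
  rw [← hspan, Submodule.mem_span_range_iff_exists_fun] at hx
  obtain ⟨c, hc⟩ := hx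
  refine ⟨c 0, c 1, c 2, c 3, ?_⟩
  rw [← hc, Fin.sum_univ_four]
  rfl

end Cfsg.Agent.Helper7.ONm
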