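import Mathlib
import Cfsg.Agent.Helper7.ONmF

set_option autoImplicit false
set_option linter.unusedSectionVars false

/-! Decompositions into four-dimensional spaces of plus type over the field of order two:
each member is the orthogonal sum of two elliptic planes, and the overgroup is the stabiliser of the
nonsingular vectors of the members (helper7). -/

namespace Cfsg.Agent.Helper7.ONm

open Module Cfsg.Agent.Helper8.QuadForm Cfsg.Agent.Helper8.WittQuad Cfsg.Agent.Helper8.OrthOrder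
  Cfsg.Agent.Helper8.Siegel Cfsg.Agent.Helper8.SiegelGroup Cfsg.Agent.Helper7.OrthMax
  Cfsg.Agent.Helper7.OrthBlk Cfsg.Agent.Lead.OrthFrame Cfsg.Agent.Lead.OrthPlane

variable {F : Type*} [Field F] [Fintype F] {ι : Type} [Fintype ι] [DecidableEq ι]
  {Q : QuadraticForm F (ι → F)} {t : ℕ} {D : Fin t → Submodule F (ι → F)}

omit [Fintype ι] [DecidableEq ι] in
/-- the nonsingular vectors of the hyperbolic quadric in four variables over the field of order
two. -/
theorem f2_quad (hq : Fintype.card F = 2) {a b c d : F} (h : a * b + c * d = 1) :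
    (a = b ∧ c = a + d) ∨ (c + d = 0 ∧ a + b + d = 0) := by
  have h2 : (2 : F) = 0 := f2_two hq
  rcases f2_cases hq a with rfl | rfl <;> rcases f2_cases hq b with rfl | rfl <;>
    rcases f2_cases hq c with rfl | rfl <;> rcases f2_cases hq d with rfl | rfl
  all_goals
    first
    | exact absurd (show (1 : F) = 0 by linear_combination -h) one_ne_zero
    | exact absurd (show (1 : F) = 0 by linear_combination h2 - h) one_ne_zero
    | exact Or.inl ⟨rfl, by linear_combination (0 : F) * h2⟩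
    | exact Or.inl ⟨rfl, by linear_combination -h2⟩
    | exact Or.inr ⟨by linear_combination (0 : F) * h2, by linear_combination h2⟩
    | exact Or.inr ⟨by linear_combination h2, by linear_combination h2⟩

/-- elliptic planes in the members of a decomposition into four-dimensional spaces of plus type
over the field of order two. -/
structure EllData (Q : QuadraticForm F (ι → F)) {t : ℕ} (D : Fin t → Submodule F (ι → F))
    (p q z : Fin t → (ι → F)) : Prop where
  p_mem : ∀ i, p i ∈ D i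
  q_mem : ∀ i, q i ∈ D i
  z_mem : ∀ i, z i ∈ D i
  Qp : ∀ i, Q (p i) = 1
  Qq : ∀ i, Q (q i) = 1
  ppq : ∀ i, QuadraticMap.polar Q (p i) (q i) = 1
  z_ne : ∀ i, z i ≠ 0
  pzp : ∀ i, QuadraticMap.polar Q (z i) (p i) = 0
  pzq : ∀ i, QuadraticMap.polar Q (z i) (q i) = 0
  char : ∀ i, ∀ y ∈ D i, Q y = 1 → (∃ a b : F, y = a • p i + b • q i) ∨
    (QuadraticMap.polar Q y (p i) = 0 ∧ QuadraticMap.polar Q y (q i) = 0)

omit [DecidableEq ι] in
/-- an elliptic plane whose orthogonal in the member is elliptic. -/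
theorem exists_ell_block (hq : Fintype.card F = 2) (Q : QuadraticForm F (ι → F))
    {W : Submodule F (ι → F)} (hnd : NondegOn Q W) (hdim : finrank F W = 4)
    (hplus : Cfsg.Geo.IsPlusTypeOn ⇑Q W) :
    ∃ p q z : ι → F, p ∈ W ∧ q ∈ W ∧ z ∈ W ∧ Q p = 1 ∧ Q q = 1 ∧ QuadraticMap.polar Q p q = 1 ∧
      z ≠ 0 ∧ QuadraticMap.polar Q z p = 0 ∧ QuadraticMap.polar Q z q = 0 ∧
      ∀ y ∈ W, Q y = 1 → (∃ a b : F, y = a • p + b • q) ∨
        (QuadraticMap.polar Q y p = 0 ∧ QuadraticMap.polar Q y q = 0) := by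
  have h2 : (2 : F) = 0 := f2_two hq
  obtain ⟨U, hUW, hUs, hUd⟩ := hplus
  obtain ⟨e₁, f₁, e₂, f₂, he₁W, hf₁W, he₂W, hf₂W, hQe₁, hQf₁, hQe₂, hQf₂, hef₁, hef₂, he₁e₂, he₁f₂,
    hf₁e₂, hf₁f₂, hspan⟩ := exists_hyp4 Q hnd hdim hUW hUs (by omega)
  have hfe₁ : QuadraticMap.polar Q f₁ e₁ = 1 := by rw [QuadraticMap.polar_comm]; exact hef₁
  have hfe₂ : QuadraticMap.polar Q f₂ e₂ = 1 := by rw [QuadraticMap.polar_comm]; exact hef₂
  have he₂e₁ : QuadraticMap.polar Q e₂ e₁ = 0 := by rw [QuadraticMap.polar_comm]; exact he₁e₂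
  have hf₂e₁ : QuadraticMap.polar Q f₂ e₁ = 0 := by rw [QuadraticMap.polar_comm]; exact he₁f₂
  have he₂f₁ : QuadraticMap.polar Q e₂ f₁ = 0 := by rw [QuadraticMap.polar_comm]; exact hf₁e₂
  have hf₂f₁ : QuadraticMap.polar Q f₂ f₁ = 0 := by rw [QuadraticMap.polar_comm]; exact hf₁f₂
  have hee₁ : QuadraticMap.polar Q e₁ e₁ = 0 := by rw [polar_self', hQe₁, mul_zero]
  have hff₁ : QuadraticMap.polar Q f₁ f₁ = 0 := by rw [polar_self', hQf₁, mul_zero]
  have hee₂ : QuadraticMap.polar Q e₂ e₂ = 0 := by rw [polar_self', hQe₂, mul_zero]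
  have hff₂ : QuadraticMap.polar Q f₂ f₂ = 0 := by rw [polar_self', hQf₂, mul_zero]
  obtain ⟨v, hv⟩ : ∃ v : F → F → F → F → (ι → F),
      v = fun a b c d => a • e₁ + b • f₁ + c • e₂ + d • f₂ := ⟨_, rfl⟩
  have hvW : ∀ a b c d, v a b c d ∈ W := by
    intro a b c d
    rw [hv]
    exact W.add_mem (W.add_mem (W.add_mem (W.smul_mem _ he₁W) (W.smul_mem _ hf₁W))
      (W.smul_mem _ he₂W)) (W.smul_mem _ hf₂W)
  have hpv : ∀ a b c d a' b' c' d', QuadraticMap.polar Q (v a b c d) (v a' b' c' d') =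
      a * b' + b * a' + c * d' + d * c' := by
    intro a b c d a' b' c' d'
    rw [hv]
    simp only [QuadraticMap.polar_add_left, QuadraticMap.polar_add_right,
      QuadraticMap.polar_smul_left, QuadraticMap.polar_smul_right, hee₁, hef₁, hfe₁, hff₁, he₁e₂,
      he₂e₁, he₂f₁, hf₁e₂, hee₂, hef₂, hfe₂, hff₂, he₁f₂, hf₂e₁, hf₁f₂, hf₂f₁, smul_eq_mul,
      mul_zero, mul_one, zero_add, add_zero]
    ring
  have hQv : ∀ a b c d, Q (v a b c d) = a * b + c * d := by
    intro a b c d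
    have h1 : Q (a • e₁ + b • f₁) = a * b := by
      rw [QuadraticMap.map_add Q, QuadraticMap.map_smul, QuadraticMap.map_smul, hQe₁, hQf₁,
        QuadraticMap.polar_smul_left, QuadraticMap.polar_smul_right, hef₁]
      simp
    have h3 : Q (c • e₂ + d • f₂) = c * d := by
      rw [QuadraticMap.map_add Q, QuadraticMap.map_smul, QuadraticMap.map_smul, hQe₂, hQf₂,
        QuadraticMap.polar_smul_left, QuadraticMap.polar_smul_right, hef₂]
      simp
    have h4 : QuadraticMap.polar Q (a • e₁ + b • f₁) (c • e₂ + d • f₂) = 0 := by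
      simp only [QuadraticMap.polar_add_left, QuadraticMap.polar_add_right,
        QuadraticMap.polar_smul_left, QuadraticMap.polar_smul_right, he₁e₂, he₁f₂, hf₁e₂, hf₁f₂,
        smul_eq_mul, mul_zero, add_zero]
    have e1 : v a b c d = (a • e₁ + b • f₁) + (c • e₂ + d • f₂) := by rw [hv]; abel
    rw [e1, QuadraticMap.map_add Q, h1, h3, h4, add_zero]
  refine ⟨v 0 0 1 1, v 1 1 1 0, v 1 1 0 0, hvW _ _ _ _, hvW _ _ _ _, hvW _ _ _ _, ?_, ?_, ?_, ?_,
    ?_, ?_, ?_⟩
  · rw [hQv]; ring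
  · rw [hQv]; ring
  · rw [hpv]; ring
  · intro h
    have := hQv 1 1 0 0
    rw [h, map_zero] at this
    have h' : (1 : F) = 0 := by linear_combination -this
    exact one_ne_zero h'
  · rw [hpv]; ring
  · rw [hpv]; linear_combination h2
  · intro y hy hQy
    obtain ⟨a, b, c, d, hy'⟩ := hspan y hy
    have hyv : y = v a b c d := by rw [hv]; exact hy'
    rw [hyv, hQv] at hQy
    rcases f2_quad hq hQy with ⟨hab, hc⟩ | ⟨hcd, habd⟩
    · left
      refine ⟨d, a, ?_⟩
      subst hab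
      subst hc
      rw [hyv, hv]
      show a • e₁ + a • f₁ + (a + d) • e₂ + d • f₂ =
        d • ((0 : F) • e₁ + (0 : F) • f₁ + (1 : F) • e₂ + (1 : F) • f₂) +
          a • ((1 : F) • e₁ + (1 : F) • f₁ + (1 : F) • e₂ + (0 : F) • f₂)
      module
    · right
      rw [hyv, hpv, hpv]
      constructor
      · linear_combination hcd
      · linear_combination habd

/-- elliptic data for a decomposition. -/
theorem exists_ellData (hq : Fintype.card F = 2) (Q : QuadraticForm F (ι → F))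
    (hD : Cfsg.Geo.IsOrthogonalMDecomposition ⇑Q 4 D)
    (hplus : ∀ i, Cfsg.Geo.IsPlusTypeOn ⇑Q (D i)) : ∃ p q z, EllData Q D p q z := by
  have ht := hD.decomp.decomp.two_le
  have hnd : ∀ i, NondegOn Q (D i) := fun i => nondegOn_of_geo Q (hD.decomp.nondegenerate i)
  have hdim : ∀ i, finrank F (D i) = 4 := hD.decomp.decomp.finrank_eq
  obtain ⟨p, q, z, hp, hq', hz, hQp, hQq, hpq, hz0, hzp, hzq, hchar⟩ :=
    exists_ell_block hq Q (hnd ⟨0, by omega⟩) (hdim ⟨0, by omega⟩) (hplus ⟨0, by omega⟩)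
  have hiso := fun i => hD.isometric ⟨0, by omega⟩ i
  choose e he using hiso
  have hpolar : ∀ i (x y : D ⟨0, by omega⟩), QuadraticMap.polar Q ((e i x : D i) : ι → F)
      ((e i y : D i) : ι → F) = QuadraticMap.polar Q (x : ι → F) (y : ι → F) := by
    intro i x y
    unfold QuadraticMap.polar
    have h1 : ((e i x : D i) : ι → F) + ((e i y : D i) : ι → F) = ((e i (x + y) : D i) : ι → F) := by
      rw [map_add]; rfl
    rw [h1, he, he, he]
    rfl
  refine ⟨fun i => ((e i ⟨p, hp⟩ : D i) : ι → F), fun i => ((e i ⟨q, hq'⟩ : D i) : ι → F),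
    fun i => ((e i ⟨z, hz⟩ : D i) : ι → F), fun i => Subtype.mem _, fun i => Subtype.mem _,
    fun i => Subtype.mem _, ?_, ?_, ?_, ?_, ?_, ?_, ?_⟩
  · intro i; rw [he i ⟨p, hp⟩]; exact hQp
  · intro i; rw [he i ⟨q, hq'⟩]; exact hQq
  · intro i; rw [hpolar]; exact hpq
  · intro i h
    apply hz0
    have h1 : e i ⟨z, hz⟩ = 0 := Subtype.ext h
    have h2 : (⟨z, hz⟩ : D ⟨0, by omega⟩) = 0 := by
      rw [← (e i).map_eq_zero_iff]; exact h1
    exact congrArg Subtype.val h2
  · intro i; rw [hpolar]; exact hzp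
  · intro i; rw [hpolar]; exact hzq
  · intro i y hy hQy
    obtain ⟨y₀, hy₀⟩ : ∃ y₀ : D ⟨0, by omega⟩, e i y₀ = ⟨y, hy⟩ := ⟨(e i).symm ⟨y, hy⟩, (e i).apply_symm_apply _⟩
    have hyv : y = ((e i y₀ : D i) : ι → F) := by rw [hy₀]
    have hQy₀ : Q (y₀ : ι → F) = 1 := by
      rw [← he i y₀, ← hyv]; exact hQy
    rcases hchar y₀ y₀.2 hQy₀ with ⟨a, b, hab⟩ | ⟨h1, h2⟩
    · left
      refine ⟨a, b, ?_⟩
      have : y₀ = a • (⟨p, hp⟩ : D _) + b • ⟨q, hq'⟩ := Subtype.ext hab
      rw [hyv, this, map_add, map_smul, map_smul]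
      rfl
    · right
      rw [hyv]
      constructor
      · rw [hpolar]; exact h1
      · rw [hpolar]; exact h2

end Cfsg.Agent.Helper7.ONm
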