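import Mathlib
import Cfsg.Agent.Helper7.ONmG

set_option autoImplicit false
set_option linter.unusedSectionVars false

/-! Decompositions into four-dimensional spaces of plus type over the field of order two:
the stabiliser is not maximal (helper7). -/

namespace Cfsg.Agent.Helper7.ONm

open Module Cfsg.Agent.Helper8.QuadForm Cfsg.Agent.Helper8.WittQuad Cfsg.Agent.Helper8.OrthOrder
  Cfsg.Agent.Helper8.Siegel Cfsg.Agent.Helper8.SiegelGroup Cfsg.Agent.Helper7.OrthMax
  Cfsg.Agent.Helper7.OrthBlk Cfsg.Agent.Lead.OrthFrame Cfsg.Agent.Lead.OrthPlane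

variable {F : Type*} [Field F] [Fintype F] {ι : Type} [Fintype ι] [DecidableEq ι]
  {Q : QuadraticForm F (ι → F)} {t : ℕ} {D : Fin t → Submodule F (ι → F)}
  {p q z : Fin t → (ι → F)}

/-- the Siegel transformation exchanging two elliptic planes of different members maps the
nonsingular vectors of a member into a member. -/
theorem EllData.move (ed : EllData Q D p q z) (hB : Blk Q D) (h2 : (2 : F) = 0) {i j : Fin t}
    (hij : i ≠ j) {y : ι → F} (hy : y ∈ D i) (hQy : Q y = 1) :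
    ∃ l, y + QuadraticMap.polar Q y (q i) • (p i + p j) -
      QuadraticMap.polar Q y (p i) • (q i + q j) ∈ D l := by
  rcases ed.char i y hy hQy with ⟨α, β, rfl⟩ | ⟨h1, h2'⟩
  · refine ⟨j, ?_⟩
    have hqp : QuadraticMap.polar Q (q i) (p i) = 1 := by
      rw [QuadraticMap.polar_comm]; exact ed.ppq i
    have e1 : QuadraticMap.polar Q (α • p i + β • q i) (q i) = α := by
      rw [QuadraticMap.polar_add_left, QuadraticMap.polar_smul_left, QuadraticMap.polar_smul_left,
        ed.ppq, polar_self', ed.Qq, h2]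
      simp
    have e2 : QuadraticMap.polar Q (α • p i + β • q i) (p i) = β := by
      rw [QuadraticMap.polar_add_left, QuadraticMap.polar_smul_left, QuadraticMap.polar_smul_left,
        hqp, polar_self', ed.Qp, h2]
      simp
    rw [e1, e2]
    have e3 : α • p i + β • q i + α • (p i + p j) - β • (q i + q j) =
        α • p j - β • q j + (2 * α) • p i := by module
    rw [e3, h2, zero_mul, zero_smul, add_zero]
    exact (D j).sub_mem ((D j).smul_mem _ (ed.p_mem j)) ((D j).smul_mem _ (ed.q_mem j))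
  · refine ⟨i, ?_⟩
    rw [h1, h2', zero_smul, zero_smul, add_zero, sub_zero]
    exact hy

/-- **the field of order two, four-dimensional members of plus type.** -/
theorem main_q2_k4 (hq : Fintype.card F = 2) (hQ : (QuadraticMap.polarBilin Q).Nondegenerate)
    (h5 : 5 ≤ Fintype.card ι) (hD : Cfsg.Geo.IsOrthogonalMDecomposition ⇑Q 4 D)
    (hplus : ∀ i, Cfsg.Geo.IsPlusTypeOn ⇑Q (D i)) (ht : 3 ≤ t) :
    ∃ K : Subgroup (GL ι F), Cfsg.Geo.decompositionStabilizer D ⊓ Cfsg.Geo.omegaGL ⇑Q < K ∧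
      K < Cfsg.Geo.omegaGL ⇑Q := by
  obtain ⟨p, q, z, ed⟩ := exists_ellData hq Q hD hplus
  have hB : Blk Q D := blk_of_frozen Q hQ hD
  have h2 : (2 : F) = 0 := f2_two hq
  obtain ⟨i₁, hi₁⟩ : ∃ i : Fin t, i = ⟨0, by omega⟩ := ⟨_, rfl⟩
  obtain ⟨i₂, hi₂⟩ : ∃ i : Fin t, i = ⟨1, by omega⟩ := ⟨_, rfl⟩
  obtain ⟨i₃, hi₃⟩ : ∃ i : Fin t, i = ⟨2, by omega⟩ := ⟨_, rfl⟩
  have h12 : i₁ ≠ i₂ := by rw [hi₁, hi₂]; intro h; have := Fin.mk.inj_iff.1 h; omega
  have h13 : i₁ ≠ i₃ := by rw [hi₁, hi₃]; intro h; have := Fin.mk.inj_iff.1 h; omega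
  have h23 : i₂ ≠ i₃ := by rw [hi₂, hi₃]; intro h; have := Fin.mk.inj_iff.1 h; omega
  have hp0 : ∀ i, p i ≠ 0 := by
    intro i h
    have := ed.Qp i
    rw [h, map_zero] at this
    exact zero_ne_one this
  have hQpp : ∀ i j, i ≠ j → Q (p i + p j) = 0 := by
    intro i j hij
    rw [Q_add_of_ne hB hij (ed.p_mem i) (ed.p_mem j), ed.Qp, ed.Qp]
    linear_combination h2
  have hQqq : ∀ i j, i ≠ j → Q (q i + q j) = 0 := by
    intro i j hij
    rw [Q_add_of_ne hB hij (ed.q_mem i) (ed.q_mem j), ed.Qq, ed.Qq]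
    linear_combination h2
  apply between_of_set Q D (SS Q D 1) (SS_invariant Q D 1)
  · obtain ⟨huv, hmv, hout⟩ := sgl_move hB h12 h13 h23 (x := p i₁) (v := q i₁)
      (u := p i₂ + p i₃) (ed.p_mem i₁) (ed.q_mem i₁) (ed.ppq i₁) (hQpp i₂ i₃ h23)
      (by
        intro y hy
        rw [QuadraticMap.polar_add_right, hB.perp i₁ i₂ h12 y hy _ (ed.p_mem i₂),
          hB.perp i₁ i₃ h13 y hy _ (ed.p_mem i₃), add_zero])
      (by
        rw [map_add, cp_of_mem hB (ed.p_mem i₂), cp_of_mem_ne hB (Ne.symm h23) (ed.p_mem i₃),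
          add_zero]
        exact hp0 i₂)
      (by
        rw [map_add, cp_of_mem hB (ed.p_mem i₃), cp_of_mem_ne hB h23 (ed.p_mem i₂), zero_add]
        exact hp0 i₃)
    refine ⟨_, sgl_mem Q hQ h5 (hQpp i₂ i₃ h23) huv, p i₁, ⟨ed.Qp i₁, i₁, ed.p_mem i₁⟩, ?_⟩
    rw [hmv]
    rintro ⟨-, j, hj⟩
    exact hout j hj
  · have hQa := hQpp i₁ i₂ h12
    have hQb := hQqq i₁ i₂ h12
    have hab : QuadraticMap.polar Q (p i₁ + p i₂) (q i₁ + q i₂) = 0 := by
      rw [polar_add_add, ed.ppq, ed.ppq, hB.perp i₁ i₂ h12 _ (ed.p_mem i₁) _ (ed.q_mem i₂),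
        hB.perp i₂ i₁ (Ne.symm h12) _ (ed.p_mem i₂) _ (ed.q_mem i₁)]
      linear_combination h2
    have hmem := sgl_mem Q hQ h5 hQa hab
    have hform : ∀ y : ι → F, ((sgl Q (p i₁ + p i₂) (q i₁ + q i₂) : GL ι F) :
        Matrix ι ι F).mulVec y = y + QuadraticMap.polar Q y (q i₁ + q i₂) • (p i₁ + p i₂) -
          QuadraticMap.polar Q y (p i₁ + p i₂) • (q i₁ + q i₂) := by
      intro y
      rw [sgl_mulVec Q hQa hab, hQb, zero_mul, zero_smul, sub_zero]
    refine ⟨_, hmem, ?_, ?_⟩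
    · rintro y ⟨hQy, l, hl⟩
      refine ⟨by rw [isom_of_mem_omegaGL Q hmem, hQy], ?_⟩
      rw [hform]
      by_cases hl1 : l = i₁
      · subst hl1
        rw [QuadraticMap.polar_add_right, QuadraticMap.polar_add_right,
          hB.perp l i₂ h12 y hl _ (ed.q_mem i₂), hB.perp l i₂ h12 y hl _ (ed.p_mem i₂),
          add_zero, add_zero]
        exact ed.move hB h2 h12 hl hQy
      · by_cases hl2 : l = i₂
        · subst hl2
          rw [QuadraticMap.polar_add_right, QuadraticMap.polar_add_right,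
            hB.perp l i₁ hl1 y hl _ (ed.q_mem i₁), hB.perp l i₁ hl1 y hl _ (ed.p_mem i₁),
            zero_add, zero_add, add_comm (p i₁) (p l), add_comm (q i₁) (q l)]
          exact ed.move hB h2 hl1 hl hQy
        · refine ⟨l, ?_⟩
          rw [QuadraticMap.polar_add_right, QuadraticMap.polar_add_right,
            hB.perp l i₁ hl1 y hl _ (ed.q_mem i₁), hB.perp l i₁ hl1 y hl _ (ed.p_mem i₁),
            hB.perp l i₂ hl2 y hl _ (ed.q_mem i₂), hB.perp l i₂ hl2 y hl _ (ed.p_mem i₂)]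
          simp only [add_zero, zero_smul, sub_zero]
          exact hl
    · have e1 : ((sgl Q (p i₁ + p i₂) (q i₁ + q i₂) : GL ι F) : Matrix ι ι F).mulVec (p i₁)
          = p i₂ := by
        rw [hform, QuadraticMap.polar_add_right, QuadraticMap.polar_add_right, ed.ppq,
          hB.perp i₁ i₂ h12 _ (ed.p_mem i₁) _ (ed.q_mem i₂),
          hB.perp i₁ i₂ h12 _ (ed.p_mem i₁) _ (ed.p_mem i₂), polar_self', ed.Qp, h2]
        simp only [add_zero, zero_mul, zero_smul, sub_zero, one_smul]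
        have : p i₁ + (p i₁ + p i₂) = p i₂ + (2 : F) • p i₁ := by module
        rw [this, h2, zero_smul, add_zero]
      apply not_stab_of_split hB (Ne.symm h12) (ed.z_mem i₁) (ed.z_ne i₁) _ (ed.p_mem i₁)
      · rw [e1]; exact ed.p_mem i₂
      · rw [e1]; exact hp0 i₂
      · rw [hform, QuadraticMap.polar_add_right, QuadraticMap.polar_add_right, ed.pzq, ed.pzp,
          hB.perp i₁ i₂ h12 _ (ed.z_mem i₁) _ (ed.q_mem i₂),
          hB.perp i₁ i₂ h12 _ (ed.z_mem i₁) _ (ed.p_mem i₂)]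
        simp

end Cfsg.Agent.Helper7.ONm
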