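import Mathlib
import Cfsg.Agent.Helper7.OpNDK

set_option autoImplicit false
set_option linter.unusedSectionVars false
set_option linter.unusedVariables false

/-!
# Odd primes `r ≠ p`: minus type subspaces of the plus type space
-/

namespace Cfsg.Agent.Helper7.OpND

open Matrix Module Polynomial Cfsg.Agent.Helper7.POrd Cfsg.Agent.Helper7.SpOrd Cfsg.Agent.Helper7.SpTI
  Cfsg.Agent.Helper7.OrTS Cfsg.Agent.Helper7.QTy Cfsg.Agent.Helper7.QPa Cfsg.Agent.Helper7.QMi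
  Cfsg.Agent.Helper7.OpTS Cfsg.Agent.Helper8.QuadForm Cfsg.Agent.Helper8.OrT Cfsg.Agent.Helper8.OrR
  Cfsg.Agent.Helper8.StdForms

universe u

variable {F : Type u} [Field F] [Fintype F] {p : ℕ} [Fact p.Prime] [CharP F p] {r : ℕ} [Fact r.Prime]

/-- **odd `r ≠ p`, minus type subspaces of the plus type space.** -/
theorem odd_pm (d m : ℕ) (hd : 4 ≤ d) (hm : 2 ≤ m) (hme : Even m) (hmd : m < d)
    (hr2 : r ≠ 2) (hrp : r ≠ p)
    (hrΩ : r ∣ Nat.card {W : Submodule F (Fin d ⊕ Fin d → F) // Module.finrank F ↥W = m ∧ Cfsg.Geo.IsNondegenerateOn (QuadraticMap.polar (Cfsg.quadFormPlus d F)) W ∧ ¬ Cfsg.Geo.IsPlusTypeOn (Cfsg.quadFormPlus d F) W})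
    (i c : ℕ) (hi : i = orderOf ((Fintype.card F : ℕ) : ZMod r)) (hc : c = if Even i then i else 2 * i) :
    (∀ x : GL (Fin d ⊕ Fin d) F, x ∈ Cfsg.Geo.omegaGL (Cfsg.quadFormPlus d F) →
      (∃ z : F, ((x ^ r : GL (Fin d ⊕ Fin d) F) : Matrix (Fin d ⊕ Fin d) (Fin d ⊕ Fin d) F) = z • (1 : Matrix (Fin d ⊕ Fin d) (Fin d ⊕ Fin d) F)) →
      (∀ z : F, (x : Matrix (Fin d ⊕ Fin d) (Fin d ⊕ Fin d) F) ≠ z • (1 : Matrix (Fin d ⊕ Fin d) (Fin d ⊕ Fin d) F)) →
      ∃ W : Submodule F (Fin d ⊕ Fin d → F), (Module.finrank F ↥W = m ∧ Cfsg.Geo.IsNondegenerateOn (QuadraticMap.polar (Cfsg.quadFormPlus d F)) W ∧ ¬ Cfsg.Geo.IsPlusTypeOn (Cfsg.quadFormPlus d F) W) ∧ W.map (Matrix.toLin' (x : Matrix (Fin d ⊕ Fin d) (Fin d ⊕ Fin d) F)) ≤ W) ↔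
    ((Odd i ∧ c ≤ m ∧ 0 < m % c ∧ m % c < (2 * d) % c) ∨
     (Even i ∧
       (((2 * d) % c = 0 ∧ (Odd ((2 * d) / i) ∨ (m % c = 0 ∧ Odd (m / i)))) ∨
        (i ≤ m ∧ ((0 < m % c ∧ m % c < (2 * d) % c) ∨
                  (0 < m % c ∧ m % c = (2 * d) % c ∧ Odd ((2 * d + m - 2 * ((2 * d) % c)) / i)) ∨
                  (m % c = 0 ∧ 0 < (2 * d) % c ∧ Odd (m / i))))))) := by
  classical
  have hc' : c = cOf i := hc
  have hι : Fintype.card (Fin d ⊕ Fin d) = 2 * d := by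
    rw [Fintype.card_sum, Fintype.card_fin]; ring
  have hpred := pred_pm_iff (F := F) d m
  have hdvd : r ∣ Nat.card {W : Submodule F (Fin d ⊕ Fin d → F) // finrank F ↥W = m ∧
      ND (QuadraticMap.polarBilin (plusForm F d)) W ∧ sg (plusForm F d) W = -1} := by
    rw [← Nat.card_congr (Equiv.subtypeEquivRight hpred)]
    exact hrΩ
  obtain ⟨hW, hiff⟩ := odd_main (p := p) (plusForm F d) (plus_nd_top d) (by omega) hι hr2 hrp hme hm
    (by omega) (Or.inr rfl) hdvd hi hc' rfl rfl rfl rfl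
  have hsg : sg (plusForm F d) ⊤ = 1 := sg_eq_one_iff.mpr (plus_hyp_top d)
  rw [hsg] at hW hiff
  rw [coe_plusForm] at hiff
  simp only [hpred, and_assoc]
  rw [hiff]
  have hipos : 0 < i := by
    rcases Nat.eq_zero_or_pos i with h0 | h0
    · exfalso
      unfold WeakL at hW
      rw [hc', h0] at hW
      simp [cOf] at hW
      omega
    · exact h0
  have hcpos : 0 < c := by rw [hc']; exact cOf_pos' hipos
  have hn' : 2 * d = c * (2 * d / c) + 2 * d % c := (Nat.div_add_mod _ _).symm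
  have hm' : m = c * (m / c) + m % c := (Nat.div_add_mod _ _).symm
  have hkc : 2 * d % c < c := Nat.mod_lt _ hcpos
  have hlc : m % c < c := Nat.mod_lt _ hcpos
  have hMN := lex_lt' hlc hkc
    (by rw [Nat.div_add_mod, Nat.div_add_mod]; omega : c * (m / c) + m % c < c * (2 * d / c) + 2 * d % c)
  have hm1 : 1 ≤ m / c ∨ 1 ≤ m % c := by
    by_contra hcon
    push_neg at hcon
    have h1 : m / c = 0 := Nat.lt_one_iff.mp hcon.1
    have h2 : m % c = 0 := Nat.lt_one_iff.mp hcon.2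
    rw [h1, h2] at hm'
    omega
  rw [arith_pm (X := (2 * d + m - 2 * ((2 * d) % c)) / i) hMN hm1 ?_ hW]
  · rw [one_le_div_iff' hcpos]
    rcases Nat.even_or_odd i with hie | hio
    · have hci : c = i := by rw [hc, if_pos hie]
      rw [hci]
    · have hno : ¬ Even i := Nat.not_even_iff_odd.mpr hio
      simp only [hno, false_and, or_false]
  · intro hie hkl
    have hci : c = i := by rw [hc, if_pos hie]
    rw [← hci]
    exact X_eq hcpos hn' hm' hkl

end Cfsg.Agent.Helper7.OpND
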