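import Mathlib
import Cfsg.Agent.Helper7.OpNDK

set_option autoImplicit false
set_option linter.unusedSectionVars false
set_option linter.unusedVariables false

/-!
# Odd primes `r ≠ p`: minus type subspaces of the minus type space
-/

namespace Cfsg.Agent.Helper7.OpND

open Matrix Module Polynomial Cfsg.Agent.Helper7.POrd Cfsg.Agent.Helper7.SpOrd Cfsg.Agent.Helper7.SpTI
  Cfsg.Agent.Helper7.OrTS Cfsg.Agent.Helper7.QTy Cfsg.Agent.Helper7.QPa Cfsg.Agent.Helper7.QMi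
  Cfsg.Agent.Helper7.OpTS Cfsg.Agent.Helper8.QuadForm Cfsg.Agent.Helper8.OrT Cfsg.Agent.Helper8.OrR
  Cfsg.Agent.Helper8.StdForms

universe u

variable {F : Type u} [Field F] [Fintype F] {p : ℕ} [Fact p.Prime] [CharP F p] {r : ℕ} [Fact r.Prime]

/-- **odd `r ≠ p`, minus type subspaces of the minus type space.** -/
theorem odd_mm (d m : ℕ) (hd : 4 ≤ d) (hm : 2 ≤ m) (hme : Even m) (hmn : m + 2 ≤ 2 * d) (a b : F)
    (hab : ∀ x y : F, x ^ 2 + a * x * y + b * y ^ 2 = 0 → x = 0 ∧ y = 0)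
    (hr2 : r ≠ 2) (hrp : r ≠ p)
    (hrΩ : r ∣ Nat.card {W : Submodule F (((Fin (d - 1) ⊕ Fin (d - 1)) ⊕ Fin 2) → F) // Module.finrank F ↥W = m ∧ Cfsg.Geo.IsNondegenerateOn (QuadraticMap.polar (Cfsg.quadFormMinus (d - 1) F a b)) W ∧ ¬ Cfsg.Geo.IsPlusTypeOn (Cfsg.quadFormMinus (d - 1) F a b) W})
    (i c : ℕ) (hi : i = orderOf ((Fintype.card F : ℕ) : ZMod r)) (hc : c = if Even i then i else 2 * i) :
    (∀ x : GL ((Fin (d - 1) ⊕ Fin (d - 1)) ⊕ Fin 2) F, x ∈ Cfsg.Geo.omegaGL (Cfsg.quadFormMinus (d - 1) F a b) →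
      (∃ z : F, ((x ^ r : GL ((Fin (d - 1) ⊕ Fin (d - 1)) ⊕ Fin 2) F) : Matrix ((Fin (d - 1) ⊕ Fin (d - 1)) ⊕ Fin 2) ((Fin (d - 1) ⊕ Fin (d - 1)) ⊕ Fin 2) F) = z • (1 : Matrix ((Fin (d - 1) ⊕ Fin (d - 1)) ⊕ Fin 2) ((Fin (d - 1) ⊕ Fin (d - 1)) ⊕ Fin 2) F)) →
      (∀ z : F, (x : Matrix ((Fin (d - 1) ⊕ Fin (d - 1)) ⊕ Fin 2) ((Fin (d - 1) ⊕ Fin (d - 1)) ⊕ Fin 2) F) ≠ z • (1 : Matrix ((Fin (d - 1) ⊕ Fin (d - 1)) ⊕ Fin 2) ((Fin (d - 1) ⊕ Fin (d - 1)) ⊕ Fin 2) F)) →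
      ∃ W : Submodule F (((Fin (d - 1) ⊕ Fin (d - 1)) ⊕ Fin 2) → F), (Module.finrank F ↥W = m ∧ Cfsg.Geo.IsNondegenerateOn (QuadraticMap.polar (Cfsg.quadFormMinus (d - 1) F a b)) W ∧ ¬ Cfsg.Geo.IsPlusTypeOn (Cfsg.quadFormMinus (d - 1) F a b) W) ∧ W.map (Matrix.toLin' (x : Matrix ((Fin (d - 1) ⊕ Fin (d - 1)) ⊕ Fin 2) ((Fin (d - 1) ⊕ Fin (d - 1)) ⊕ Fin 2) F)) ≤ W) ↔
    ((Odd i ∧ ((2 * d) % c = 0 ∨ (c ≤ m ∧ 0 < m % c ∧ m % c ≤ (2 * d) % c))) ∨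
     (Even i ∧
       (((2 * d) % c = 0 ∧ (Even ((2 * d) / i) ∨ (m % c = 0 ∧ Odd (m / i)))) ∨
        (0 < (2 * d) % c ∧ i ≤ m ∧ ((0 < m % c ∧ m % c < (2 * d) % c) ∨ (m % c = 0 ∧ Odd (m / i)) ∨
                                    (m % c = (2 * d) % c ∧ Even ((2 * d + m - 2 * ((2 * d) % c)) / i))))))) := by
  classical
  have hc' : c = cOf i := hc
  have hι : Fintype.card ((Fin (d - 1) ⊕ Fin (d - 1)) ⊕ Fin 2) = 2 * d := by
    rw [Fintype.card_sum, Fintype.card_sum, Fintype.card_fin, Fintype.card_fin]; omega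
  have hpred := pred_mm_iff (F := F) (d - 1) m a b
  have hdvd : r ∣ Nat.card {W : Submodule F (((Fin (d - 1) ⊕ Fin (d - 1)) ⊕ Fin 2) → F) // finrank F ↥W = m ∧
      ND (QuadraticMap.polarBilin (minusForm F (d - 1) a b)) W ∧ sg (minusForm F (d - 1) a b) W = -1} := by
    rw [← Nat.card_congr (Equiv.subtypeEquivRight hpred)]
    exact hrΩ
  obtain ⟨hW, hiff⟩ := odd_main (p := p) (minusForm F (d - 1) a b) (minus_nd_top (d - 1) hab) (by omega) hι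
    hr2 hrp hme hm hmn (Or.inr rfl) hdvd hi hc' rfl rfl rfl rfl
  have hsg : sg (minusForm F (d - 1) a b) ⊤ = -1 := sg_eq_neg_one_iff.mpr (minus_not_hyp (d - 1) hab)
  rw [hsg] at hW hiff
  rw [coe_minusForm] at hiff
  simp only [hpred, and_assoc]
  rw [hiff]
  have hipos : 0 < i := by
    rcases Nat.eq_zero_or_pos i with h0 | h0
    · exfalso
      unfold WeakL at hW
      rw [hc', h0] at hW
      simp [cOf] at hW
      omega
    · exact h0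
  have hcpos : 0 < c := by rw [hc']; exact cOf_pos' hipos
  have hn' : 2 * d = c * (2 * d / c) + 2 * d % c := (Nat.div_add_mod _ _).symm
  have hm' : m = c * (m / c) + m % c := (Nat.div_add_mod _ _).symm
  have hkc : 2 * d % c < c := Nat.mod_lt _ hcpos
  have hlc : m % c < c := Nat.mod_lt _ hcpos
  have hMN := lex_lt' hlc hkc
    (by rw [Nat.div_add_mod, Nat.div_add_mod]; omega : c * (m / c) + m % c < c * (2 * d / c) + 2 * d % c)
  have hm1 : 1 ≤ m / c ∨ 1 ≤ m % c := by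
    by_contra hcon
    push_neg at hcon
    have h1 : m / c = 0 := Nat.lt_one_iff.mp hcon.1
    have h2 : m % c = 0 := Nat.lt_one_iff.mp hcon.2
    rw [h1, h2] at hm'
    omega
  rw [arith_mm (X := (2 * d + m - 2 * ((2 * d) % c)) / i) hMN hm1 ?_ hW]
  · rw [one_le_div_iff' hcpos]
    rcases Nat.even_or_odd i with hie | hio
    · have hci : c = i := by rw [hc, if_pos hie]
      rw [hci]
    · have hno : ¬ Even i := Nat.not_even_iff_odd.mpr hio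
      simp only [hno, false_and, or_false]
  · intro hie hkl
    have hci : c = i := by rw [hc, if_pos hie]
    rw [← hci]
    exact X_eq hcpos hn' hm' hkl

end Cfsg.Agent.Helper7.OpND
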