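import Mathlib
import Cfsg.Agent.Helper7.OpNDR
import Cfsg.Agent.Helper7.QPaI
import Cfsg.Agent.Helper7.QMiG
import Cfsg.Agent.Helper7.OpNDD

set_option autoImplicit false
set_option linter.unusedSectionVars false
set_option linter.unusedVariables false

/-!
# Isometries of square `-1`, odd characteristic: invariant nondegenerate subspaces and their types
-/

namespace Cfsg.Agent.Helper7.OpND

open Matrix Module Polynomial Cfsg.Agent.Helper7.POrd Cfsg.Agent.Helper7.SpOrd Cfsg.Agent.Helper7.SpTI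
  Cfsg.Agent.Helper7.OrTS Cfsg.Agent.Helper7.QTy Cfsg.Agent.Helper7.QPa Cfsg.Agent.Helper7.QMi
  Cfsg.Agent.Helper7.OpTS Cfsg.Agent.Helper8.QuadForm Cfsg.Agent.Helper8.OrT Cfsg.Agent.Helper8.OrR
  Cfsg.Agent.Helper8.StdForms

universe u

variable {F : Type u} [Field F] [Fintype F] {V : Type u} [AddCommGroup V] [Module F V] [FiniteDimensional F V]

section

variable {Q : QuadraticForm F V} {T : Module.End F V}

/-- the perpendicular of an invariant subspace is invariant. -/
theorem perp_invt_sq_neg_one (hQT : ∀ v, Q (T v) = Q v) (hTT : ∀ v, T (T v) = -v) {P : Submodule F V}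
    (hP : P ∈ Module.End.invtSubmodule T) :
    LinearMap.BilinForm.orthogonal (QuadraticMap.polarBilin Q) P ∈ Module.End.invtSubmodule T := by
  rw [Module.End.mem_invtSubmodule]
  intro x hx
  rw [Submodule.mem_comap, mem_perp]
  intro y hy
  have hTy : T y ∈ P := (Module.End.mem_invtSubmodule _).mp hP hy
  have h1 : y = T (-(T y)) := by rw [map_neg, hTT, neg_neg]
  rw [h1, iso_of_Q hQT]
  exact mem_perp.mp hx _ (P.neg_mem hTy)

/-- an invariant nondegenerate plane inside a nonzero invariant nondegenerate subspace. -/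
theorem exists_invt_plane (h2 : (2 : F) ≠ 0) (hV : ND (QuadraticMap.polarBilin Q) ⊤)
    (hQT : ∀ v, Q (T v) = Q v) (hTT : ∀ v, T (T v) = -v) {U : Submodule F V}
    (hUinv : U ∈ Module.End.invtSubmodule T) (hUnd : ND (QuadraticMap.polarBilin Q) U) (hUne : U ≠ ⊥) :
    ∃ P : Submodule F V, P ≤ U ∧ P ∈ Module.End.invtSubmodule T ∧ ND (QuadraticMap.polarBilin Q) P ∧
      finrank F ↥P = 2 := by
  have hUinv' : ∀ x ∈ U, T x ∈ U := fun x hx => (Module.End.mem_invtSubmodule _).mp hUinv hx
  obtain ⟨v, hvU, hvv⟩ := exists_self_ne_zero (pB_symm' Q) h2 hUnd hUne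
  have hQv : Q v ≠ 0 := by
    intro h0
    apply hvv
    rw [pB_apply, QuadraticMap.polar_self, h0, smul_zero]
  have hQw0 : Q (T v) ≠ 0 := by rw [hQT]; exact hQv
  have hvw : QuadraticMap.polar Q v (T v) = 0 := polar_self_apply h2 hQT hTT v
  obtain ⟨hPnd, hPd⟩ := plane_props h2 hV hQv hQw0 hvw
  refine ⟨Submodule.span F {v} ⊔ Submodule.span F {T v}, ?_, ?_, hPnd, hPd⟩
  · apply sup_le
    · rw [Submodule.span_singleton_le_iff_mem]; exact hvU
    · rw [Submodule.span_singleton_le_iff_mem]; exact hUinv' v hvU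
  · rw [Module.End.mem_invtSubmodule]
    intro y hy
    rw [Submodule.mem_comap]
    obtain ⟨y₁, hy₁, y₂, hy₂, rfl⟩ := Submodule.mem_sup.mp hy
    obtain ⟨α, rfl⟩ := Submodule.mem_span_singleton.mp hy₁
    obtain ⟨β, rfl⟩ := Submodule.mem_span_singleton.mp hy₂
    rw [map_add, map_smul, map_smul, hTT, add_comm]
    apply Submodule.add_mem_sup
    · rw [smul_neg, ← neg_smul]
      exact Submodule.smul_mem _ _ (Submodule.mem_span_singleton_self v)
    · exact Submodule.smul_mem _ _ (Submodule.mem_span_singleton_self (T v))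

/-- **invariant nondegenerate subspaces of every even dimension.** -/
theorem exists_invt_nd_sq_neg_one (h2 : (2 : F) ≠ 0) (hV : ND (QuadraticMap.polarBilin Q) ⊤)
    (hQT : ∀ v, Q (T v) = Q v) (hTT : ∀ v, T (T v) = -v) :
    ∀ (k n : ℕ) (U : Submodule F V), finrank F ↥U = 2 * n → U ∈ Module.End.invtSubmodule T →
      ND (QuadraticMap.polarBilin Q) U → k ≤ n →
      ∃ W : Submodule F V, W ≤ U ∧ W ∈ Module.End.invtSubmodule T ∧ ND (QuadraticMap.polarBilin Q) W ∧
        finrank F ↥W = 2 * k := by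
  have hrefl := pB_refl Q
  intro k
  induction k with
  | zero =>
    intro n U _ _ _ _
    exact ⟨⊥, bot_le, Module.End.invtSubmodule.bot_mem T, nd_bot _, by simp⟩
  | succ k ih =>
    intro n U hUd hUinv hUnd hkn
    have hUne : U ≠ ⊥ := by
      intro h0
      rw [h0, finrank_bot] at hUd
      omega
    obtain ⟨P, hPU, hPinv, hPnd, hPd⟩ := exists_invt_plane h2 hV hQT hTT hUinv hUnd hUne
    have hU'nd := nd_perp_inf hrefl hPnd hUnd hPU
    have hU'd := finrank_perp_inf hrefl hPnd hPU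
    have hU'inv := inf_invt (perp_invt_sq_neg_one hQT hTT hPinv) hUinv
    obtain ⟨W', hW'U, hW'inv, hW'nd, hW'd⟩ := ih (n - 1) _ (by omega) hU'inv hU'nd (by omega)
    have hperp : W' ≤ LinearMap.BilinForm.orthogonal (QuadraticMap.polarBilin Q) P :=
      hW'U.trans inf_le_left
    refine ⟨P ⊔ W', sup_le hPU (hW'U.trans inf_le_right), sup_invt hPinv hW'inv,
      nd_sup hrefl hPnd hW'nd hperp, ?_⟩
    rw [finrank_sup_of_le_perp hrefl hPnd hperp, hPd, hW'd]
    ring

/-- when `-1` is a square every invariant nondegenerate subspace has plus type. -/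
theorem hyp_of_invt_root (h2 : (2 : F) ≠ 0) (hQT : ∀ v, Q (T v) = Q v) (hTT : ∀ v, T (T v) = -v)
    {ω : F} (hω : ω * ω = -1) {U : Submodule F V} (hUinv : U ∈ Module.End.invtSubmodule T)
    (hUnd : ND (QuadraticMap.polarBilin Q) U) : Hyp Q U := by
  have hU' : ∀ x ∈ U, T x ∈ U := fun x hx => (Module.End.mem_invtSubmodule _).mp hUinv hx
  rw [← hyp_comp_subtype_iff]
  apply hyp_of_sq_neg_one_of_root h2 (nd_top_comp_subtype hUnd) (T := T.restrict hU') _ _ hω
  · intro v
    exact hQT (v : V)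
  · intro v
    apply Subtype.ext
    exact hTT (v : V)

/-- when `-1` is not a square the type of an invariant nondegenerate subspace is given by its dimension. -/
theorem hyp_iff_of_invt_nonsq (h2 : (2 : F) ≠ 0) (hV : ND (QuadraticMap.polarBilin Q) ⊤)
    (hQT : ∀ v, Q (T v) = Q v) (hTT : ∀ v, T (T v) = -v) (hns : ¬ IsSquare (-1 : F)) {n : ℕ}
    {U : Submodule F V} (hUd : finrank F ↥U = 2 * n) (hUinv : U ∈ Module.End.invtSubmodule T)
    (hUnd : ND (QuadraticMap.polarBilin Q) U) : Hyp Q U ↔ Even n :=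
  (sq_neg_one_props h2 hV hQT hTT n U hUd hUinv hUnd).2 hns

end

end Cfsg.Agent.Helper7.OpND
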