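import Mathlib
import Cfsg.Agent.Helper7.OpNDS
import Cfsg.Agent.Helper7.OpNDT
import Cfsg.Agent.Helper7.OpNDK
import Cfsg.Agent.Helper7.OpTSW

set_option autoImplicit false
set_option linter.unusedSectionVars false
set_option linter.unusedVariables false

/-!
# The prime `r = 2`, odd characteristic: elements of square `-1`, group level
-/

namespace Cfsg.Agent.Helper7.OpND

open Matrix Module Polynomial Cfsg.Agent.Helper7.POrd Cfsg.Agent.Helper7.SpOrd Cfsg.Agent.Helper7.SpTI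
  Cfsg.Agent.Helper7.OrTS Cfsg.Agent.Helper7.QTy Cfsg.Agent.Helper7.QPa Cfsg.Agent.Helper7.QMi
  Cfsg.Agent.Helper7.OpTS Cfsg.Agent.Helper8.QuadForm Cfsg.Agent.Helper8.OrT Cfsg.Agent.Helper8.OrR
  Cfsg.Agent.Helper8.StdForms

universe u

variable {F : Type u} [Field F] [Fintype F] {ι : Type} [Fintype ι] [DecidableEq ι]

/-- invariant nondegenerate subspaces of an isometry of square `-1`, with their types. -/
theorem sq_neg_one_gl_exists (h2F : (2 : F) ≠ 0) (Qs : QuadraticForm F (ι → F))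
    (hQs : ND (QuadraticMap.polarBilin Qs) ⊤) {d : ℕ} (hdim : finrank F (ι → F) = 2 * d)
    {x : GL ι F} (hxiso : x ∈ Cfsg.isometryGroup F ⇑Qs)
    (hz : ((x ^ 2 : GL ι F) : Matrix ι ι F) = (-1 : F) • (1 : Matrix ι ι F)) {k : ℕ} (hk : k ≤ d) :
    ∃ W : Submodule F (ι → F), finrank F ↥W = 2 * k ∧ ND (QuadraticMap.polarBilin Qs) W ∧
      W.map (Matrix.toLin' (x : Matrix ι ι F)) ≤ W ∧
      ((∃ ω : F, ω * ω = -1) → Hyp Qs W) ∧ (¬ IsSquare (-1 : F) → (Hyp Qs W ↔ Even k)) := by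
  have hQT := QT_of_mem_iso hxiso
  have hsq := toLin'_sq_of_scalar hz
  have hTT : ∀ v, Matrix.toLin' (x : Matrix ι ι F) (Matrix.toLin' (x : Matrix ι ι F) v) = -v := by
    intro v
    rw [hsq, neg_one_smul]
  obtain ⟨W, -, hWinv, hWnd, hWd⟩ := exists_invt_nd_sq_neg_one h2F hQs hQT hTT k d ⊤
    (by rw [finrank_top]; exact hdim) (Module.End.invtSubmodule.top_mem _) hQs hk
  refine ⟨W, hWd, hWnd, map_le_of_invt hWinv, ?_, ?_⟩
  · rintro ⟨ω, hω⟩
    exact hyp_of_invt_root h2F hQT hTT hω hWinv hWnd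
  · intro hns
    exact hyp_iff_of_invt_nonsq h2F hQs hQT hTT hns hWd hWinv hWnd

/-- the type of an invariant nondegenerate subspace of an isometry of square `-1`. -/
theorem sq_neg_one_gl_type (h2F : (2 : F) ≠ 0) (Qs : QuadraticForm F (ι → F))
    (hQs : ND (QuadraticMap.polarBilin Qs) ⊤)
    {x : GL ι F} (hxiso : x ∈ Cfsg.isometryGroup F ⇑Qs)
    (hz : ((x ^ 2 : GL ι F) : Matrix ι ι F) = (-1 : F) • (1 : Matrix ι ι F))
    {W : Submodule F (ι → F)} (hWinv : W.map (Matrix.toLin' (x : Matrix ι ι F)) ≤ W)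
    (hWnd : ND (QuadraticMap.polarBilin Qs) W) {n : ℕ} (hWd : finrank F ↥W = 2 * n) :
    ((∃ ω : F, ω * ω = -1) → Hyp Qs W) ∧ (¬ IsSquare (-1 : F) → (Hyp Qs W ↔ Even n)) := by
  have hQT := QT_of_mem_iso hxiso
  have hsq := toLin'_sq_of_scalar hz
  have hTT : ∀ v, Matrix.toLin' (x : Matrix ι ι F) (Matrix.toLin' (x : Matrix ι ι F) v) = -v := by
    intro v
    rw [hsq, neg_one_smul]
  have hWinv' := (invt_iff_map_le _ W).mp hWinv
  constructor
  · rintro ⟨ω, hω⟩
    exact hyp_of_invt_root h2F hQT hTT hω hWinv' hWnd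
  · intro hns
    exact hyp_iff_of_invt_nonsq h2F hQs hQT hTT hns hWd hWinv' hWnd

/-- an element of the isometry group of square `-1` as an element of `GL`: the matrix identities. -/
theorem sq_neg_one_of_hTT {Qs : QuadraticForm F (ι → F)} (y : ↥(Cfsg.isometryGroup F ⇑Qs))
    (hTT : ∀ v, Matrix.toLin' ((y : GL ι F) : Matrix ι ι F)
      (Matrix.toLin' ((y : GL ι F) : Matrix ι ι F) v) = -v) :
    (((y : GL ι F) ^ 2 : GL ι F) : Matrix ι ι F) = (-1 : F) • (1 : Matrix ι ι F) := by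
  apply Matrix.toLin'.injective
  rw [← toLin'_pow_gl]
  apply LinearMap.ext
  intro v
  rw [pow_two, Module.End.mul_apply, hTT, Matrix.toLin'_apply, Matrix.smul_mulVec, Matrix.one_mulVec,
    neg_one_smul]

theorem not_scalar_of_sq_neg_one [Nonempty ι] (h2F : (2 : F) ≠ 0) {Qs : QuadraticForm F (ι → F)}
    (hQs : ND (QuadraticMap.polarBilin Qs) ⊤) {x : GL ι F} (hxiso : x ∈ Cfsg.isometryGroup F ⇑Qs)
    (hz : ((x ^ 2 : GL ι F) : Matrix ι ι F) = (-1 : F) • (1 : Matrix ι ι F)) (z : F) :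
    (x : Matrix ι ι F) ≠ z • (1 : Matrix ι ι F) := by
  intro hxz
  have h1 : ((x ^ 1 : GL ι F) : Matrix ι ι F) = z • (1 : Matrix ι ι F) := by rw [pow_one]; exact hxz
  have h2 : ((x ^ 2 : GL ι F) : Matrix ι ι F) = (z * z) • (1 : Matrix ι ι F) := by
    rw [pow_two, Units.val_mul, hxz, smul_mul_smul_comm, mul_one]
  rw [hz] at h2
  have h3 : (-1 : F) = z * z := by
    obtain ⟨i⟩ := (inferInstance : Nonempty ι)
    have := congrFun (congrFun h2 i) i
    simpa using this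
  rcases scalar_pow_pm_one hQs hxiso h1 with rfl | rfl
  · apply h2F
    linear_combination -h3
  · apply h2F
    linear_combination -h3

end Cfsg.Agent.Helper7.OpND
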