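import Mathlib
import Cfsg.Agent.Helper7.OpNDU
import Cfsg.Agent.Helper7.QPaJ

set_option autoImplicit false
set_option linter.unusedSectionVars false
set_option linter.unusedVariables false

/-!
# The prime `r = 2`, odd characteristic: plus type subspaces of the plus type space
-/

namespace Cfsg.Agent.Helper7.OpND

open Matrix Module Polynomial Cfsg.Agent.Helper7.POrd Cfsg.Agent.Helper7.SpOrd Cfsg.Agent.Helper7.SpTI
  Cfsg.Agent.Helper7.OrTS Cfsg.Agent.Helper7.QTy Cfsg.Agent.Helper7.QPa Cfsg.Agent.Helper7.QMi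
  Cfsg.Agent.Helper7.OpTS Cfsg.Agent.Helper8.QuadForm Cfsg.Agent.Helper8.OrT Cfsg.Agent.Helper8.OrR
  Cfsg.Agent.Helper8.StdForms

universe u

variable {F : Type u} [Field F] [Fintype F]

/-- **`r = 2`, `q` odd, plus type subspaces of the plus type space.** -/
theorem two_case_pp (h2F : (2 : F) ≠ 0) (hqodd : Odd (Fintype.card F)) {d m : ℕ} (hd : 4 ≤ d)
    (hm : 2 ≤ m) (hme : Even m) (hmd : m < d) :
    (∀ x : GL (Fin d ⊕ Fin d) F, x ∈ Cfsg.Geo.omegaGL (Cfsg.quadFormPlus d F) →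
      (∃ z : F, ((x ^ 2 : GL (Fin d ⊕ Fin d) F) : Matrix (Fin d ⊕ Fin d) (Fin d ⊕ Fin d) F) = z • (1 : Matrix (Fin d ⊕ Fin d) (Fin d ⊕ Fin d) F)) →
      (∀ z : F, (x : Matrix (Fin d ⊕ Fin d) (Fin d ⊕ Fin d) F) ≠ z • (1 : Matrix (Fin d ⊕ Fin d) (Fin d ⊕ Fin d) F)) →
      ∃ W : Submodule F (Fin d ⊕ Fin d → F), (Module.finrank F ↥W = m ∧ (∀ u ∈ W, u ≠ 0 → ∃ v ∈ W, QuadraticMap.polar (Cfsg.quadFormPlus d F) u v ≠ 0) ∧
          ∃ U : Submodule F (Fin d ⊕ Fin d → F), U ≤ W ∧ 2 * Module.finrank F ↥U = m ∧ ∀ u ∈ U, Cfsg.quadFormPlus d F u = 0) ∧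
        W.map (Matrix.toLin' (x : Matrix (Fin d ⊕ Fin d) (Fin d ⊕ Fin d) F)) ≤ W) ↔
    ((2 * d) % 4 = 2 ∨ m % 4 = 0 ∨ Fintype.card F % 4 = 1) := by
  classical
  simp only [pred_pp_iff, and_assoc]
  rw [← coe_plusForm]
  have hQs := plus_nd_top (F := F) d
  have hyV := plus_hyp_top (F := F) d
  have hdimV : finrank F (Fin d ⊕ Fin d → F) = 2 * d := finrank_plus F d
  haveI : Nonempty (Fin d ⊕ Fin d) := ⟨Sum.inl ⟨0, by omega⟩⟩
  have hq2 : Fintype.card F % 2 = 1 := Nat.odd_iff.mp hqodd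
  obtain ⟨μ, hμ⟩ := hme
  constructor
  · intro hall
    by_contra hcon
    push Not at hcon
    obtain ⟨hd4, hm4, hq4⟩ := hcon
    have hns : ¬ IsSquare (-1 : F) := by
      rw [FiniteField.isSquare_neg_one_iff]
      omega
    obtain ⟨e, he⟩ : ∃ e, d = e + e := ⟨d / 2, by omega⟩
    subst he
    obtain ⟨y, hTT⟩ := exists_sq_neg_one_of_even (F := F) h2F e
    have hycomm := (mem_commutator_iff_of_sq_neg_one h2F (by omega) y hTT).mpr
      ⟨2 ^ e, by rw [pow_add]⟩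
    have hx2 := sq_neg_one_of_hTT y hTT
    have hxns := not_scalar_of_sq_neg_one h2F hQs y.2 hx2
    obtain ⟨W, hWd, hWnd, hWsg, hWinv⟩ := hall (y : GL (Fin (e + e) ⊕ Fin (e + e)) F) ⟨y, hycomm, rfl⟩
      ⟨-1, hx2⟩ hxns
    have hty := (sq_neg_one_gl_type h2F _ hQs y.2 hx2 hWinv hWnd (n := μ) (by rw [hWd, hμ]; ring)).2 hns
    have hμodd : ¬ Even μ := by
      rw [Nat.even_iff]
      omega
    exact hμodd (hty.mp (sg_eq_one_iff.mp hWsg))
  · intro hcond x hxΩ ⟨z, hz⟩ hxns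
    have hxiso := iso_of_mem_omega hxΩ
    rcases scalar_pow_pm_one hQs hxiso hz with rfl | rfl
    · obtain ⟨W, h1, h2, h3, h4⟩ := exists_nd_of_invol_gl h2F (plusForm F d) hQs (by omega) hdimV hxΩ hz hxns
        (μ := μ) (by omega) (by omega) (Or.inl rfl)
      exact ⟨W, by rw [h1, hμ]; ring, h2, h3, h4⟩
    · obtain ⟨W, h1, h2, h3, h4, h5⟩ := sq_neg_one_gl_exists h2F (plusForm F d) hQs hdimV hxiso hz
        (k := μ) (by omega)
      refine ⟨W, by rw [h1, hμ]; ring, h2, ?_, h3⟩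
      rw [sg_eq_one_iff]
      by_cases hsq : IsSquare (-1 : F)
      · obtain ⟨ω, hω⟩ := hsq
        exact h4 ⟨ω, hω.symm⟩
      · have hq3 : Fintype.card F % 4 = 3 := by
          rw [FiniteField.isSquare_neg_one_iff] at hsq
          omega
        have hdev : Even d :=
          (hyp_iff_even_of_sq_neg_one_gen h2F (plusForm F d) hQs hdimV ⟨x, hxiso⟩
            (by
              intro v
              rw [toLin'_sq_of_scalar hz, neg_one_smul]) hsq).mp hyV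
        rw [h5 hsq, Nat.even_iff]
        rw [Nat.even_iff] at hdev
        omega

end Cfsg.Agent.Helper7.OpND
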