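import Mathlib
import Cfsg.Agent.Helper7.OpNDU
import Cfsg.Agent.Helper7.QPaJ

set_option autoImplicit false
set_option linter.unusedSectionVars false
set_option linter.unusedVariables false

/-!
# The prime `r = 2`, odd characteristic: minus type subspaces of the plus type space
-/

namespace Cfsg.Agent.Helper7.OpND

open Matrix Module Polynomial Cfsg.Agent.Helper7.POrd Cfsg.Agent.Helper7.SpOrd Cfsg.Agent.Helper7.SpTI
  Cfsg.Agent.Helper7.OrTS Cfsg.Agent.Helper7.QTy Cfsg.Agent.Helper7.QPa Cfsg.Agent.Helper7.QMi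
  Cfsg.Agent.Helper7.OpTS Cfsg.Agent.Helper8.QuadForm Cfsg.Agent.Helper8.OrT Cfsg.Agent.Helper8.OrR
  Cfsg.Agent.Helper8.StdForms

universe u

variable {F : Type u} [Field F] [Fintype F]

/-- **`r = 2`, `q` odd, minus type subspaces of the plus type space.** -/
theorem two_case_pm (h2F : (2 : F) ≠ 0) (hqodd : Odd (Fintype.card F)) {d m : ℕ} (hd : 4 ≤ d)
    (hm : 2 ≤ m) (hme : Even m) (hmd : m < d) :
    (∀ x : GL (Fin d ⊕ Fin d) F, x ∈ Cfsg.Geo.omegaGL (Cfsg.quadFormPlus d F) →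
      (∃ z : F, ((x ^ 2 : GL (Fin d ⊕ Fin d) F) : Matrix (Fin d ⊕ Fin d) (Fin d ⊕ Fin d) F) = z • (1 : Matrix (Fin d ⊕ Fin d) (Fin d ⊕ Fin d) F)) →
      (∀ z : F, (x : Matrix (Fin d ⊕ Fin d) (Fin d ⊕ Fin d) F) ≠ z • (1 : Matrix (Fin d ⊕ Fin d) (Fin d ⊕ Fin d) F)) →
      ∃ W : Submodule F (Fin d ⊕ Fin d → F), (Module.finrank F ↥W = m ∧ Cfsg.Geo.IsNondegenerateOn (QuadraticMap.polar (Cfsg.quadFormPlus d F)) W ∧ ¬ Cfsg.Geo.IsPlusTypeOn (Cfsg.quadFormPlus d F) W) ∧ W.map (Matrix.toLin' (x : Matrix (Fin d ⊕ Fin d) (Fin d ⊕ Fin d) F)) ≤ W) ↔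
    ((Even d ∧ Fintype.card F % 4 = 3 ∧ m % 4 = 2) ∨ (Odd d ∧ Fintype.card F % 8 ≠ 1)) := by
  classical
  simp only [pred_pm_iff, and_assoc]
  rw [← coe_plusForm]
  have hQs := plus_nd_top (F := F) d
  have hyV := plus_hyp_top (F := F) d
  have hdimV : finrank F (Fin d ⊕ Fin d → F) = 2 * d := finrank_plus F d
  haveI : Nonempty (Fin d ⊕ Fin d) := ⟨Sum.inl ⟨0, by omega⟩⟩
  have hq2 : Fintype.card F % 2 = 1 := Nat.odd_iff.mp hqodd
  obtain ⟨μ, hμ⟩ := hme
  constructor
  · intro hall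
    by_contra hcon
    push Not at hcon
    obtain ⟨hc1, hc2⟩ := hcon
    by_cases hsq : IsSquare (-1 : F)
    · obtain ⟨ω, hω⟩ := hsq
      obtain ⟨y, hTT⟩ := exists_sq_neg_one_of_root (F := F) d hω.symm
      have h2pow : IsSquare ((2 : F) ^ d) := by
        by_cases hde : Even d
        · obtain ⟨e, he⟩ := hde
          exact ⟨2 ^ e, by rw [he, pow_add]⟩
        · have hq1 := hc2 (Nat.not_even_iff_odd.mp hde)
          have h2sq : IsSquare (2 : F) := by
            rw [FiniteField.isSquare_two_iff]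
            omega
          exact h2sq.pow d
      have hycomm := (mem_commutator_iff_of_sq_neg_one h2F (by omega) y hTT).mpr h2pow
      have hx2 := sq_neg_one_of_hTT y hTT
      have hxns := not_scalar_of_sq_neg_one h2F hQs y.2 hx2
      obtain ⟨W, hWd, hWnd, hWsg, hWinv⟩ := hall (y : GL (Fin d ⊕ Fin d) F) ⟨y, hycomm, rfl⟩
        ⟨-1, hx2⟩ hxns
      have hty := (sq_neg_one_gl_type h2F _ hQs y.2 hx2 hWinv hWnd (n := μ)
        (by rw [hWd, hμ]; ring)).1 ⟨ω, hω.symm⟩
      exact sg_eq_neg_one_iff.mp hWsg hty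
    · have hq3 : Fintype.card F % 4 = 3 := by
        rw [FiniteField.isSquare_neg_one_iff] at hsq
        omega
      have hde : Even d := by
        by_contra hdo
        have := hc2 (Nat.not_even_iff_odd.mp hdo)
        omega
      have hm4 : m % 4 ≠ 2 := hc1 hde hq3
      obtain ⟨e, he⟩ := hde
      subst he
      obtain ⟨y, hTT⟩ := exists_sq_neg_one_of_even (F := F) h2F e
      have hycomm := (mem_commutator_iff_of_sq_neg_one h2F (by omega) y hTT).mpr
        ⟨2 ^ e, by rw [pow_add]⟩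
      have hx2 := sq_neg_one_of_hTT y hTT
      have hxns := not_scalar_of_sq_neg_one h2F hQs y.2 hx2
      obtain ⟨W, hWd, hWnd, hWsg, hWinv⟩ := hall (y : GL (Fin (e + e) ⊕ Fin (e + e)) F) ⟨y, hycomm, rfl⟩
        ⟨-1, hx2⟩ hxns
      have hty := (sq_neg_one_gl_type h2F _ hQs y.2 hx2 hWinv hWnd (n := μ)
        (by rw [hWd, hμ]; ring)).2 hsq
      have hμev : Even μ := by
        rw [Nat.even_iff]
        omega
      exact sg_eq_neg_one_iff.mp hWsg (hty.mpr hμev)
  · intro hcond x hxΩ ⟨z, hz⟩ hxns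
    have hxiso := iso_of_mem_omega hxΩ
    rcases scalar_pow_pm_one hQs hxiso hz with rfl | rfl
    · obtain ⟨W, h1, h2, h3, h4⟩ := exists_nd_of_invol_gl h2F (plusForm F d) hQs (by omega) hdimV hxΩ hz hxns
        (μ := μ) (by omega) (by omega) (Or.inr rfl)
      exact ⟨W, by rw [h1, hμ]; ring, h2, h3, h4⟩
    · have hTT : ∀ v, Matrix.toLin' (x : Matrix (Fin d ⊕ Fin d) (Fin d ⊕ Fin d) F)
          (Matrix.toLin' (x : Matrix (Fin d ⊕ Fin d) (Fin d ⊕ Fin d) F) v) = -v := by
        intro v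
        rw [toLin'_sq_of_scalar hz, neg_one_smul]
      by_cases hsq : IsSquare (-1 : F)
      · exfalso
        have hq1 : Fintype.card F % 4 = 1 := by
          rw [FiniteField.isSquare_neg_one_iff] at hsq
          omega
        have hdo : Odd d ∧ Fintype.card F % 8 ≠ 1 := by
          rcases hcond with h | h
          · omega
          · exact h
        obtain ⟨y, hycomm, hyx⟩ := hxΩ
        have hyx' : ((y : GL (Fin d ⊕ Fin d) F) : Matrix (Fin d ⊕ Fin d) (Fin d ⊕ Fin d) F) =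
            (x : Matrix (Fin d ⊕ Fin d) (Fin d ⊕ Fin d) F) := by
          rw [← hyx]
          rfl
        have h2pow := (mem_commutator_iff_of_sq_neg_one h2F (by omega) y
          (by rw [hyx']; exact hTT)).mp hycomm
        have h2sq := OpTS.isSquare_two_of_pow_odd hdo.1 h2F h2pow
        rw [FiniteField.isSquare_two_iff] at h2sq
        omega
      · have hq3 : Fintype.card F % 4 = 3 := by
          rw [FiniteField.isSquare_neg_one_iff] at hsq
          omega
        have hdev : Even d :=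
          (hyp_iff_even_of_sq_neg_one_gen h2F (plusForm F d) hQs hdimV ⟨x, hxiso⟩ hTT hsq).mp hyV
        have hm4 : m % 4 = 2 := by
          rcases hcond with h | h
          · exact h.2.2
          · exact absurd hdev (Nat.not_even_iff_odd.mpr h.1)
        obtain ⟨W, h1, h2, h3, h4, h5⟩ := sq_neg_one_gl_exists h2F (plusForm F d) hQs hdimV hxiso hz
          (k := μ) (by omega)
        refine ⟨W, by rw [h1, hμ]; ring, h2, ?_, h3⟩
        rw [sg_eq_neg_one_iff, h5 hsq, Nat.even_iff]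
        omega

end Cfsg.Agent.Helper7.OpND
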