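import Mathlib
import Cfsg.Agent.Helper7.OpNDU
import Cfsg.Agent.Helper7.QMiG

set_option autoImplicit false
set_option linter.unusedSectionVars false
set_option linter.unusedVariables false

/-!
# The prime `r = 2`, odd characteristic: minus type subspaces of the minus type space
-/

namespace Cfsg.Agent.Helper7.OpND

open Matrix Module Polynomial Cfsg.Agent.Helper7.POrd Cfsg.Agent.Helper7.SpOrd Cfsg.Agent.Helper7.SpTI
  Cfsg.Agent.Helper7.OrTS Cfsg.Agent.Helper7.QTy Cfsg.Agent.Helper7.QPa Cfsg.Agent.Helper7.QMi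
  Cfsg.Agent.Helper7.OpTS Cfsg.Agent.Helper8.QuadForm Cfsg.Agent.Helper8.OrT Cfsg.Agent.Helper8.OrR
  Cfsg.Agent.Helper8.StdForms

universe u

variable {F : Type u} [Field F] [Fintype F]

/-- **`r = 2`, `q` odd, minus type subspaces of the minus type space.** -/
theorem two_case_mm (h2F : (2 : F) ≠ 0) (hqodd : Odd (Fintype.card F)) {d k m : ℕ} (hdk : d = k + 1)
    (hd : 4 ≤ d) (hm : 2 ≤ m) (hme : Even m) (hmn : m + 2 ≤ 2 * d) {a b : F}
    (hab : ∀ x y : F, x ^ 2 + a * x * y + b * y ^ 2 = 0 → x = 0 ∧ y = 0) :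
    (∀ x : GL ((Fin k ⊕ Fin k) ⊕ Fin 2) F, x ∈ Cfsg.Geo.omegaGL (Cfsg.quadFormMinus k F a b) →
      (∃ z : F, ((x ^ 2 : GL ((Fin k ⊕ Fin k) ⊕ Fin 2) F) : Matrix ((Fin k ⊕ Fin k) ⊕ Fin 2) ((Fin k ⊕ Fin k) ⊕ Fin 2) F) = z • (1 : Matrix ((Fin k ⊕ Fin k) ⊕ Fin 2) ((Fin k ⊕ Fin k) ⊕ Fin 2) F)) →
      (∀ z : F, (x : Matrix ((Fin k ⊕ Fin k) ⊕ Fin 2) ((Fin k ⊕ Fin k) ⊕ Fin 2) F) ≠ z • (1 : Matrix ((Fin k ⊕ Fin k) ⊕ Fin 2) ((Fin k ⊕ Fin k) ⊕ Fin 2) F)) →
      ∃ W : Submodule F ((Fin k ⊕ Fin k) ⊕ Fin 2 → F), (Module.finrank F ↥W = m ∧ Cfsg.Geo.IsNondegenerateOn (QuadraticMap.polar (Cfsg.quadFormMinus k F a b)) W ∧ ¬ Cfsg.Geo.IsPlusTypeOn (Cfsg.quadFormMinus k F a b) W) ∧ W.map (Matrix.toLin' (x : Matrix ((Fin k ⊕ Fin k) ⊕ Fin 2) ((Fin k ⊕ Fin k) ⊕ Fin 2) F)) ≤ W) ↔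
    (Even d ∨ Fintype.card F % 8 ≠ 7 ∨ m % 4 = 2) := by
  classical
  simp only [pred_mm_iff, and_assoc]
  rw [← coe_minusForm]
  have hQs := minus_nd_top (F := F) k hab
  have hnot := minus_not_hyp (F := F) k hab
  have hQnd := minusForm_nondeg F k hab
  have hdimV : finrank F ((Fin k ⊕ Fin k) ⊕ Fin 2 → F) = 2 * d := by
    rw [finrank_minus, hdk]
    ring
  haveI : Nonempty ((Fin k ⊕ Fin k) ⊕ Fin 2) := ⟨Sum.inr 0⟩
  have hq2 : Fintype.card F % 2 = 1 := Nat.odd_iff.mp hqodd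
  obtain ⟨μ, hμ⟩ := hme
  constructor
  · intro hall
    by_contra hcon
    push Not at hcon
    obtain ⟨hdodd, hq7, hm4⟩ := hcon
    have hdodd' : Odd d := Nat.not_even_iff_odd.mp hdodd
    have hns : ¬ IsSquare (-1 : F) := by
      rw [FiniteField.isSquare_neg_one_iff]
      omega
    have h2sq : IsSquare (2 : F) := by
      rw [FiniteField.isSquare_two_iff]
      omega
    obtain ⟨y, hTT⟩ := exists_sq_neg_one_minus h2F hns hdk hdodd' hab
    have hycomm := (mem_commutator_iff_of_sq_neg_one_gen h2F (minusForm F k a b) hQnd hQs (by omega) hdimV y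
      hTT).mpr (h2sq.pow d)
    have hx2 := sq_neg_one_of_hTT y hTT
    have hxns := not_scalar_of_sq_neg_one h2F hQs y.2 hx2
    obtain ⟨W, hWd, hWnd, hWsg, hWinv⟩ := hall (y : GL ((Fin k ⊕ Fin k) ⊕ Fin 2) F) ⟨y, hycomm, rfl⟩
      ⟨-1, hx2⟩ hxns
    have hty := (sq_neg_one_gl_type h2F _ hQs y.2 hx2 hWinv hWnd (n := μ)
      (by rw [hWd, hμ]; ring)).2 hns
    have hμev : Even μ := by
      rw [Nat.even_iff]
      omega
    exact sg_eq_neg_one_iff.mp hWsg (hty.mpr hμev)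
  · intro hcond x hxΩ ⟨z, hz⟩ hxns
    have hxiso := iso_of_mem_omega hxΩ
    have hQT := QT_of_mem_iso hxiso
    rcases scalar_pow_pm_one hQs hxiso hz with rfl | rfl
    · obtain ⟨W, h1, h2, h3, h4⟩ := exists_nd_of_invol_gl h2F (minusForm F k a b) hQs (by omega) hdimV hxΩ hz
        hxns (μ := μ) (by omega) (by omega) (Or.inr rfl)
      exact ⟨W, by rw [h1, hμ]; ring, h2, h3, h4⟩
    · have hTT : ∀ v, Matrix.toLin' (x : Matrix ((Fin k ⊕ Fin k) ⊕ Fin 2) ((Fin k ⊕ Fin k) ⊕ Fin 2) F)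
          (Matrix.toLin' (x : Matrix ((Fin k ⊕ Fin k) ⊕ Fin 2) ((Fin k ⊕ Fin k) ⊕ Fin 2) F) v) = -v := by
        intro v
        rw [toLin'_sq_of_scalar hz, neg_one_smul]
      by_cases hsq : IsSquare (-1 : F)
      · exfalso
        obtain ⟨ω, hω⟩ := hsq
        exact hnot (hyp_of_sq_neg_one_of_root h2F hQs hQT hTT hω.symm)
      · have hq3 : Fintype.card F % 4 = 3 := by
          rw [FiniteField.isSquare_neg_one_iff] at hsq
          omega
        have hdodd : ¬ Even d := by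
          intro hdev
          exact hnot ((hyp_iff_even_of_sq_neg_one_gen h2F (minusForm F k a b) hQs hdimV ⟨x, hxiso⟩ hTT
            hsq).mpr hdev)
        have hq7 : Fintype.card F % 8 = 7 := by
          obtain ⟨y, hycomm, hyx⟩ := hxΩ
          have hyx' : ((y : GL ((Fin k ⊕ Fin k) ⊕ Fin 2) F) :
              Matrix ((Fin k ⊕ Fin k) ⊕ Fin 2) ((Fin k ⊕ Fin k) ⊕ Fin 2) F) =
              (x : Matrix ((Fin k ⊕ Fin k) ⊕ Fin 2) ((Fin k ⊕ Fin k) ⊕ Fin 2) F) := by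
            rw [← hyx]
            rfl
          have h2pow := (mem_commutator_iff_of_sq_neg_one_gen h2F (minusForm F k a b) hQnd hQs (by omega)
            hdimV y (by rw [hyx']; exact hTT)).mp hycomm
          have h2sq := OpTS.isSquare_two_of_pow_odd (Nat.not_even_iff_odd.mp hdodd) h2F h2pow
          rw [FiniteField.isSquare_two_iff] at h2sq
          omega
        have hm4 : m % 4 = 2 := by
          rcases hcond with h | h | h
          · exact absurd h hdodd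
          · exact absurd hq7 h
          · exact h
        obtain ⟨W, h1, h2, h3, h4, h5⟩ := sq_neg_one_gl_exists h2F (minusForm F k a b) hQs hdimV hxiso hz
          (k := μ) (by omega)
        refine ⟨W, by rw [h1, hμ]; ring, h2, ?_, h3⟩
        rw [sg_eq_neg_one_iff, h5 hsq, Nat.even_iff]
        omega

end Cfsg.Agent.Helper7.OpND
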