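import Mathlib
import Cfsg.Agent.Helper7.OpNDA

set_option autoImplicit false
set_option linter.unusedSectionVars false
set_option linter.unusedVariables false

/-!
# Unipotent isometries `1 + N` with `N² = 0` and totally singular image: invariant nondegenerate subspaces
-/

namespace Cfsg.Agent.Helper7.OpND

open Module Polynomial Cfsg.Agent.Helper7.POrd Cfsg.Agent.Helper7.SpOrd Cfsg.Agent.Helper7.SpTI
  Cfsg.Agent.Helper7.OrTS Cfsg.Agent.Helper7.QTy Cfsg.Agent.Helper7.QPa
  Cfsg.Agent.Helper7.OpTS Cfsg.Agent.Helper8.QuadForm Cfsg.Agent.Helper8.OrT Cfsg.Agent.Helper8.OrR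
  Cfsg.Agent.Helper8.StdForms

universe u

variable {F : Type u} [Field F] [Fintype F] {V : Type u} [AddCommGroup V] [Module F V] [FiniteDimensional F V]

/-- the set-up: an isometry `T` with `(T - 1)² = 0` and totally singular `(T - 1) V`. -/
structure Unip (Q : QuadraticForm F V) (T : Module.End F V) : Prop where
  iso : ∀ v, Q (T v) = Q v
  sq : ∀ v, (T - 1) ((T - 1) v) = 0
  sing : ∀ v, Q ((T - 1) v) = 0

section

variable {Q : QuadraticForm F V} {T : Module.End F V}

theorem Unip.apply_eq (h : Unip Q T) (v : V) : T v = v + (T - 1) v := by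
  simp

theorem Unip.polar_iso (h : Unip Q T) (u v : V) :
    QuadraticMap.polar Q (T u) (T v) = QuadraticMap.polar Q u v := by
  unfold QuadraticMap.polar
  rw [← map_add, h.iso, h.iso, h.iso]

theorem Unip.polar_N_N (h : Unip Q T) (u v : V) :
    QuadraticMap.polar Q ((T - 1) u) ((T - 1) v) = 0 := by
  have h1 := h.polar_iso ((T - 1) u) v
  rw [h.apply_eq ((T - 1) u), h.sq, add_zero, h.apply_eq v, QuadraticMap.polar_add_right] at h1
  linear_combination h1

theorem Unip.polar_skew (h : Unip Q T) (u v : V) :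
    QuadraticMap.polar Q u ((T - 1) v) = - QuadraticMap.polar Q ((T - 1) u) v := by
  have h1 := h.polar_iso u v
  rw [h.apply_eq u, h.apply_eq v, QuadraticMap.polar_add_left, QuadraticMap.polar_add_right,
    QuadraticMap.polar_add_right, h.polar_N_N] at h1
  have : QuadraticMap.polar Q u ((T - 1) v) + QuadraticMap.polar Q ((T - 1) u) v = 0 := by
    have := h1
    linear_combination this
  exact eq_neg_of_add_eq_zero_left this

/-- the inverse of `T` on an invariant subspace. -/
theorem Unip.inv_mem (h : Unip Q T) {W : Submodule F V} (hW : W.map T ≤ W) {w : V} (hw : w ∈ W) :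
    ∃ w' ∈ W, T w' = w := by
  have hTw : T w ∈ W := hW (Submodule.mem_map_of_mem hw)
  refine ⟨w - (T - 1) w, W.sub_mem hw ?_, ?_⟩
  · have : (T - 1) w = T w - w := by simp
    rw [this]
    exact W.sub_mem hTw hw
  · rw [h.apply_eq, map_sub, h.sq]
    abel

theorem Unip.map_N_le (h : Unip Q T) {W : Submodule F V} (hW : W.map T ≤ W) : W.map (T - 1) ≤ W := by
  rintro _ ⟨w, hw, rfl⟩
  have hTw : T w ∈ W := hW (Submodule.mem_map_of_mem hw)
  have : (T - 1) w = T w - w := by simp
  rw [this]
  exact W.sub_mem hTw hw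

theorem Unip.perp_invt (h : Unip Q T) {W : Submodule F V} (hW : W.map T ≤ W) :
    (LinearMap.BilinForm.orthogonal (QuadraticMap.polarBilin Q) W).map T ≤
      LinearMap.BilinForm.orthogonal (QuadraticMap.polarBilin Q) W := by
  rintro _ ⟨v, hv, rfl⟩
  have hv' := mem_perp.mp hv
  refine mem_perp.mpr ?_
  intro w hw
  obtain ⟨w', hw', rfl⟩ := h.inv_mem hW hw
  rw [pB_apply, h.polar_iso]
  exact hv' w' hw'

theorem Unip.ts_map_N (h : Unip Q T) (W : Submodule F V) : TS Q (W.map (T - 1)) := by
  rintro _ ⟨w, -, rfl⟩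
  exact h.sing w

/-- a totally singular subspace of a nondegenerate subspace has at most half its dimension. -/
theorem ts_le_half (hV : ND (QuadraticMap.polarBilin Q) ⊤) {W L : Submodule F V}
    (hW : ND (QuadraticMap.polarBilin Q) W) (hLW : L ≤ W) (hL : TS Q L) :
    2 * finrank F ↥L ≤ finrank F ↥W := by
  obtain ⟨H, -, hHW, -, hHd, -⟩ := exists_hull hV hW hLW hL
  rw [← hHd]
  exact Submodule.finrank_mono hHW

/-- the ranks on an invariant nondegenerate subspace and on its perpendicular add up. -/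
theorem Unip.finrank_map_add (h : Unip Q T) {W : Submodule F V} (hWnd : ND (QuadraticMap.polarBilin Q) W)
    (hW : W.map T ≤ W) :
    finrank F ↥(W.map (T - 1)) +
      finrank F ↥((LinearMap.BilinForm.orthogonal (QuadraticMap.polarBilin Q) W).map (T - 1)) =
      finrank F ↥(LinearMap.range (T - 1)) := by
  have hc := isCompl_perp (pB_refl Q) hWnd
  have h1 : LinearMap.range (T - 1) = W.map (T - 1) ⊔
      (LinearMap.BilinForm.orthogonal (QuadraticMap.polarBilin Q) W).map (T - 1) := by
    rw [← Submodule.map_sup, hc.sup_eq_top, Submodule.map_top]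
  have h2 : Disjoint (W.map (T - 1))
      ((LinearMap.BilinForm.orthogonal (QuadraticMap.polarBilin Q) W).map (T - 1)) :=
    hc.disjoint.mono (h.map_N_le hW) (h.map_N_le (h.perp_invt hW))
  rw [h1, ← Submodule.finrank_sup_add_finrank_inf_eq, h2.eq_bot, finrank_bot, add_zero]

theorem nd_perp_top {W : Submodule F V} (hV : ND (QuadraticMap.polarBilin Q) ⊤)
    (hW : ND (QuadraticMap.polarBilin Q) W) :
    ND (QuadraticMap.polarBilin Q) (LinearMap.BilinForm.orthogonal (QuadraticMap.polarBilin Q) W) := by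
  have := nd_perp_inf (pB_refl Q) hW hV le_top
  rwa [inf_top_eq] at this

theorem finrank_perp_top {W : Submodule F V} (hW : ND (QuadraticMap.polarBilin Q) W) :
    finrank F ↥W + finrank F ↥(LinearMap.BilinForm.orthogonal (QuadraticMap.polarBilin Q) W) =
      finrank F V := by
  have := finrank_perp_inf (pB_refl Q) hW (le_top : W ≤ ⊤)
  rwa [inf_top_eq, finrank_top] at this

theorem sg_mul_perp {W : Submodule F V} (hV : ND (QuadraticMap.polarBilin Q) ⊤)
    (hW : ND (QuadraticMap.polarBilin Q) W) (he : Even (finrank F ↥W)) (heV : Even (finrank F V)) :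
    sg Q ⊤ = sg Q W * sg Q (LinearMap.BilinForm.orthogonal (QuadraticMap.polarBilin Q) W) := by
  have hd := finrank_perp_top hW
  have he' : Even (finrank F ↥(LinearMap.BilinForm.orthogonal (QuadraticMap.polarBilin Q) W)) := by
    rw [← hd] at heV
    exact (Nat.even_add.mp heV).mp he
  rw [← sg_sup hV hW (nd_perp_top hV hW) le_rfl he he', (isCompl_perp (pB_refl Q) hW).sup_eq_top]

/-- **first consequence**: if the rank of `T - 1` is at least `d - 1` in a plus type space of dimension `2d`,
every invariant nondegenerate subspace of even dimension has plus type. -/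
theorem Unip.hyp_of_invt (h : Unip Q T) (hV : ND (QuadraticMap.polarBilin Q) ⊤) (hyV : Hyp Q ⊤) {d : ℕ}
    (hdim : finrank F V = 2 * d) (hrank : d ≤ finrank F ↥(LinearMap.range (T - 1)) + 1)
    {W : Submodule F V} (hWnd : ND (QuadraticMap.polarBilin Q) W) (hW : W.map T ≤ W)
    (he : Even (finrank F ↥W)) : Hyp Q W := by
  obtain ⟨a, ha⟩ := he
  have hd := finrank_perp_top hWnd
  have hadd := h.finrank_map_add hWnd hW
  have hP := nd_perp_top hV hWnd
  have h1 := ts_le_half hV hWnd (h.map_N_le hW) (h.ts_map_N W)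
  have h2 := ts_le_half hV hP (h.map_N_le (h.perp_invt hW)) (h.ts_map_N _)
  by_cases hc : finrank F ↥(W.map (T - 1)) = a
  · exact ⟨W.map (T - 1), h.map_N_le hW, h.ts_map_N W, by omega⟩
  · have hyP : Hyp Q (LinearMap.BilinForm.orthogonal (QuadraticMap.polarBilin Q) W) :=
      ⟨_, h.map_N_le (h.perp_invt hW), h.ts_map_N _, by omega⟩
    have hs := sg_mul_perp hV hWnd ⟨a, ha⟩ ⟨d, by rw [hdim]; ring⟩
    rw [sg_eq_one_iff.mpr hyV, sg_eq_one_iff.mpr hyP, mul_one] at hs
    exact sg_eq_one_iff.mp hs.symm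

/-- the rank on an invariant nondegenerate subspace is even when `B(v, (T-1) v) = 0` for all `v`. -/
theorem Unip.even_finrank_map (h : Unip Q T) (halt : ∀ v, QuadraticMap.polar Q v ((T - 1) v) = 0)
    {W : Submodule F V} (hWnd : ND (QuadraticMap.polarBilin Q) W) (hW : W.map T ≤ W) :
    Even (finrank F ↥(W.map (T - 1))) := by
  obtain ⟨C₀, hC₀⟩ := Submodule.exists_isCompl (LinearMap.ker (T - 1) ⊓ W)
  have hsup : (LinearMap.ker (T - 1) ⊓ W) ⊔ (C₀ ⊓ W) = W := by
    rw [← sup_inf_assoc_of_le C₀ (inf_le_right : LinearMap.ker (T - 1) ⊓ W ≤ W), hC₀.sup_eq_top, top_inf_eq]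
  have hdisj : Disjoint (LinearMap.ker (T - 1)) (C₀ ⊓ W) := by
    rw [disjoint_iff]
    have : LinearMap.ker (T - 1) ⊓ (C₀ ⊓ W) = (LinearMap.ker (T - 1) ⊓ W) ⊓ C₀ := by
      rw [inf_assoc, inf_comm W C₀]
    rw [this, hC₀.inf_eq_bot]
  -- the image of `C` is the image of `W`
  have hmap : W.map (T - 1) = (C₀ ⊓ W).map (T - 1) := by
    conv_lhs => rw [← hsup]
    rw [Submodule.map_sup]
    have : (LinearMap.ker (T - 1) ⊓ W).map (T - 1) = ⊥ := by
      rw [Submodule.eq_bot_iff]
      rintro _ ⟨w, hw, rfl⟩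
      exact LinearMap.mem_ker.mp hw.1
    rw [this, bot_sup_eq]
  -- `T - 1` is injective on `C`
  have hinj : Function.Injective ((T - 1).domRestrict (C₀ ⊓ W)) := by
    rw [← LinearMap.ker_eq_bot, LinearMap.ker_eq_bot']
    intro c hc
    have hc' : (T - 1) (c : V) = 0 := hc
    have : (c : V) ∈ LinearMap.ker (T - 1) ⊓ (C₀ ⊓ W) := ⟨LinearMap.mem_ker.mpr hc', c.2⟩
    rw [hdisj.eq_bot] at this
    exact Subtype.ext ((Submodule.mem_bot F).mp this)
  have hfin : finrank F ↥(W.map (T - 1)) = finrank F ↥(C₀ ⊓ W) := by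
    rw [hmap, ← LinearMap.range_domRestrict]
    exact (LinearEquiv.ofInjective _ hinj).finrank_eq.symm
  rw [hfin]
  -- the alternating form
  have hβalt : (LinearMap.BilinForm.compRight (QuadraticMap.polarBilin Q) (T - 1)).IsAlt := by
    intro v
    rw [LinearMap.BilinForm.compRight_apply, pB_apply]
    exact halt v
  apply even_finrank_of_nd hβalt
  intro v hv hv0
  have hNv : (T - 1) v ≠ 0 := by
    intro h0
    have : v ∈ LinearMap.ker (T - 1) ⊓ (C₀ ⊓ W) := ⟨LinearMap.mem_ker.mpr h0, hv⟩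
    rw [hdisj.eq_bot] at this
    exact hv0 ((Submodule.mem_bot F).mp this)
  have hNvW : (T - 1) v ∈ W := h.map_N_le hW (Submodule.mem_map_of_mem hv.2)
  obtain ⟨u, hu, hune⟩ := hWnd _ hNvW hNv
  rw [← hsup] at hu
  obtain ⟨k, hk, c, hc, rfl⟩ := Submodule.mem_sup.mp hu
  refine ⟨c, hc, ?_⟩
  rw [LinearMap.BilinForm.compRight_apply, pB_apply, h.polar_skew]
  rw [pB_apply, QuadraticMap.polar_add_right] at hune
  have hk0 : QuadraticMap.polar Q ((T - 1) v) k = 0 := by
    rw [QuadraticMap.polar_comm, h.polar_skew, LinearMap.mem_ker.mp hk.1]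
    simp
  rw [hk0, zero_add] at hune
  exact neg_ne_zero.mpr hune

/-- **second consequence**: full rank `d` and the alternating condition force `4 ∣ dim W`. -/
theorem Unip.four_dvd_of_invt (h : Unip Q T) (halt : ∀ v, QuadraticMap.polar Q v ((T - 1) v) = 0)
    (hV : ND (QuadraticMap.polarBilin Q) ⊤) {d : ℕ}
    (hdim : finrank F V = 2 * d) (hrank : finrank F ↥(LinearMap.range (T - 1)) = d)
    {W : Submodule F V} (hWnd : ND (QuadraticMap.polarBilin Q) W) (hW : W.map T ≤ W)
    (he : Even (finrank F ↥W)) : 4 ∣ finrank F ↥W := by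
  obtain ⟨a, ha⟩ := he
  have hd := finrank_perp_top hWnd
  have hadd := h.finrank_map_add hWnd hW
  have hP := nd_perp_top hV hWnd
  have h1 := ts_le_half hV hWnd (h.map_N_le hW) (h.ts_map_N W)
  have h2 := ts_le_half hV hP (h.map_N_le (h.perp_invt hW)) (h.ts_map_N _)
  obtain ⟨e, he⟩ := h.even_finrank_map halt hWnd hW
  exact ⟨e, by omega⟩

/-- **third consequence**: rank `d - 1` and the alternating condition force `dim W ≡ 2 (mod 4)` for an
invariant nondegenerate subspace of minus type. -/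
theorem Unip.mod_four_of_invt (h : Unip Q T) (halt : ∀ v, QuadraticMap.polar Q v ((T - 1) v) = 0)
    (hV : ND (QuadraticMap.polarBilin Q) ⊤) {d : ℕ}
    (hdim : finrank F V = 2 * d) (hrank : finrank F ↥(LinearMap.range (T - 1)) + 1 = d)
    {W : Submodule F V} (hWnd : ND (QuadraticMap.polarBilin Q) W) (hW : W.map T ≤ W)
    (he : Even (finrank F ↥W)) (hnot : ¬ Hyp Q W) : finrank F ↥W % 4 = 2 := by
  obtain ⟨a, ha⟩ := he
  have hd := finrank_perp_top hWnd
  have hadd := h.finrank_map_add hWnd hW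
  have hP := nd_perp_top hV hWnd
  have h1 := ts_le_half hV hWnd (h.map_N_le hW) (h.ts_map_N W)
  have h2 := ts_le_half hV hP (h.map_N_le (h.perp_invt hW)) (h.ts_map_N _)
  have hne : finrank F ↥(W.map (T - 1)) ≠ a := by
    intro hc
    exact hnot ⟨W.map (T - 1), h.map_N_le hW, h.ts_map_N W, by omega⟩
  obtain ⟨e, he⟩ := h.even_finrank_map halt hWnd hW
  omega

/-- in odd characteristic the singularity of the image is automatic. -/
theorem unip_of_two_ne (h2 : (2 : F) ≠ 0) (hiso : ∀ v, Q (T v) = Q v)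
    (hsq : ∀ v, (T - 1) ((T - 1) v) = 0) : Unip Q T := by
  refine ⟨hiso, hsq, ?_⟩
  intro v
  have hap : ∀ w, T w = w + (T - 1) w := fun w => by simp
  have hpi : ∀ u w, QuadraticMap.polar Q (T u) (T w) = QuadraticMap.polar Q u w := by
    intro u w
    unfold QuadraticMap.polar
    rw [← map_add, hiso, hiso, hiso]
  have h1 := hpi ((T - 1) v) v
  rw [hap ((T - 1) v), hsq, add_zero, hap v, QuadraticMap.polar_add_right] at h1
  have h3 : QuadraticMap.polar Q ((T - 1) v) ((T - 1) v) = 0 := by linear_combination h1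
  rw [QuadraticMap.polar_self, two_smul, ← two_mul] at h3
  rcases mul_eq_zero.mp h3 with h4 | h4
  · exact absurd h4 h2
  · exact h4

end

end Cfsg.Agent.Helper7.OpND
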