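import Mathlib
import Cfsg.Agent.Helper7.OpNDP
import Cfsg.Agent.Helper7.OpNDK
import Cfsg.Agent.Helper7.OrUnL

set_option autoImplicit false
set_option linter.unusedSectionVars false
set_option linter.unusedVariables false

/-!
# The prime `r = p`, odd: an element of order `p` of `Ω⁺` all of whose invariant nondegenerate subspaces have
plus type
-/

namespace Cfsg.Agent.Helper7.OpND

open Matrix Module Polynomial Cfsg.Agent.Helper7.POrd Cfsg.Agent.Helper7.SpOrd Cfsg.Agent.Helper7.SpTI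
  Cfsg.Agent.Helper7.OrTS Cfsg.Agent.Helper7.QTy Cfsg.Agent.Helper7.QPa Cfsg.Agent.Helper7.QMi
  Cfsg.Agent.Helper7.OpTS Cfsg.Agent.Helper8.QuadForm Cfsg.Agent.Helper8.OrT Cfsg.Agent.Helper8.OrR
  Cfsg.Agent.Helper8.StdForms Cfsg.Agent.Helper7.OrUn Cfsg.Agent.Helper8.UJ

universe u

variable {F : Type u} [Field F] [Fintype F] {p : ℕ} [Fact p.Prime] [CharP F p]

theorem matrix_eq_zero_of_rank {ι : Type} [Fintype ι] [DecidableEq ι] (A : Matrix ι ι F)
    (h : A.rank = 0) : A = 0 := by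
  unfold Matrix.rank at h
  have h1 : LinearMap.range A.mulVecLin = ⊥ := Submodule.finrank_eq_zero.mp h
  have h2 : A.mulVecLin = 0 := LinearMap.range_eq_bot.mp h1
  have h3 : Matrix.toLin' A = 0 := h2
  exact (LinearEquiv.map_eq_zero_iff _).mp h3

/-- the unipotent set-up from a matrix. -/
theorem unip_of_matrix {ι : Type} [Fintype ι] [DecidableEq ι] (Qs : QuadraticForm F (ι → F))
    (x : GL ι F) (hx : x ∈ Cfsg.isometryGroup F ⇑Qs)
    (hsq : ((x : Matrix ι ι F) - 1) ^ 2 = 0)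
    (hsing : ∀ v, Qs (((x : Matrix ι ι F) - 1) *ᵥ v) = 0) :
    Unip Qs (Matrix.toLin' (x : Matrix ι ι F)) := by
  have hN : (Matrix.toLin' (x : Matrix ι ι F) - 1 : Module.End F (ι → F)) =
      Matrix.toLin' ((x : Matrix ι ι F) - 1) := by
    rw [map_sub, Matrix.toLin'_one]
    rfl
  refine ⟨fun v => QT_of_mem_iso hx v, ?_, ?_⟩
  · intro v
    rw [hN, Matrix.toLin'_apply, Matrix.toLin'_apply, Matrix.mulVec_mulVec, ← pow_two, hsq,
      Matrix.zero_mulVec]
  · intro v
    rw [hN, Matrix.toLin'_apply]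
    exact hsing v

theorem finrank_range_sub_one {ι : Type} [Fintype ι] [DecidableEq ι] (x : Matrix ι ι F) :
    finrank F ↥(LinearMap.range (Matrix.toLin' x - 1 : Module.End F (ι → F))) = (x - 1).rank := by
  have hN : (Matrix.toLin' x - 1 : Module.End F (ι → F)) = Matrix.toLin' (x - 1) := by
    rw [map_sub, Matrix.toLin'_one]
    rfl
  rw [hN]
  rfl

theorem two_ne_zero_of_char (hp2 : p ≠ 2) : (2 : F) ≠ 0 := by
  have hp : p.Prime := Fact.out
  intro h20
  have h1 : ((2 : ℕ) : F) = 0 := by exact_mod_cast h20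
  rw [CharP.cast_eq_zero_iff F p] at h1
  exact hp2 ((Nat.prime_dvd_prime_iff_eq hp Nat.prime_two).mp h1)

/-- an element of order `p` of `Ω⁺_{2d}(q)`, `p` odd, with `(x - 1)² = 0` and `x - 1` of rank `d` or `d - 1`. -/
theorem exists_unip_plus_odd (hp2 : p ≠ 2) {d : ℕ} (hd : 3 ≤ d) :
    ∃ x : GL (Fin d ⊕ Fin d) F, x ∈ Cfsg.Geo.omegaGL (Cfsg.quadFormPlus d F) ∧ x ^ p = 1 ∧
      ((x : Matrix (Fin d ⊕ Fin d) (Fin d ⊕ Fin d) F) - 1) ^ 2 = 0 ∧
      d ≤ ((x : Matrix (Fin d ⊕ Fin d) (Fin d ⊕ Fin d) F) - 1).rank + 1 := by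
  have hp : p.Prime := Fact.out
  have h2 : (2 : F) ≠ 0 := two_ne_zero_of_char (p := p) hp2
  rcases Nat.even_or_odd d with hde | hdo
  · obtain ⟨x, hx, hxp, hprof⟩ := exists_omega_elt (F := F) p hp2 hd (Multiset.replicate d 2)
      (by
        intro a ha
        rw [Multiset.eq_of_mem_replicate ha]
        exact hp.two_le)
      (by rw [Multiset.sum_replicate, smul_eq_mul, mul_comm])
      (pReal_of_valid h2 _ _ rfl
        (by
          intro a ha
          rw [Multiset.count_replicate]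
          split_ifs
          · exact hde
          · exact Even.zero)
        (by rw [Multiset.sum_replicate, smul_eq_mul]; exact even_two.mul_left d))
    refine ⟨x, hx, hxp, ?_, ?_⟩
    · apply matrix_eq_zero_of_rank
      rw [hprof 2, Cfsg.Agent.Helper7.SpUn.mprof_replicate]
      simp
    · have := hprof 1
      rw [pow_one, Cfsg.Agent.Helper7.SpUn.mprof_replicate] at this
      omega
  · obtain ⟨e, he⟩ := hdo
    obtain ⟨x, hx, hxp, hprof⟩ := exists_omega_elt (F := F) p hp2 hd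
      (1 ::ₘ 1 ::ₘ Multiset.replicate (d - 1) 2)
      (by
        intro a ha
        rcases Multiset.mem_cons.mp ha with rfl | ha
        · exact hp.one_lt.le
        rcases Multiset.mem_cons.mp ha with rfl | ha
        · exact hp.one_lt.le
        rw [Multiset.eq_of_mem_replicate ha]
        exact hp.two_le)
      (by rw [Multiset.sum_cons, Multiset.sum_cons, Multiset.sum_replicate, smul_eq_mul]; omega)
      (pReal_of_valid h2 _ _ rfl
        (by
          intro a ha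
          have ha1 : a ≠ 1 := by rintro rfl; exact absurd ha (by decide)
          rw [Multiset.count_cons_of_ne ha1, Multiset.count_cons_of_ne ha1, Multiset.count_replicate]
          split_ifs
          · exact ⟨e, by omega⟩
          · exact Even.zero)
        (by
          rw [Multiset.sum_cons, Multiset.sum_cons, Multiset.sum_replicate, smul_eq_mul]
          exact ⟨d, by omega⟩))
    refine ⟨x, hx, hxp, ?_, ?_⟩
    · apply matrix_eq_zero_of_rank
      rw [hprof 2, Cfsg.Agent.Helper7.SpUn.mprof_cons, Cfsg.Agent.Helper7.SpUn.mprof_cons, Cfsg.Agent.Helper7.SpUn.mprof_replicate]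
      simp
    · have := hprof 1
      rw [pow_one, Cfsg.Agent.Helper7.SpUn.mprof_cons, Cfsg.Agent.Helper7.SpUn.mprof_cons, Cfsg.Agent.Helper7.SpUn.mprof_replicate] at this
      omega

/-- **`r = p` odd: some element of order `p` of `Ω⁺` fixes no nondegenerate `m`-space of minus type.** -/
theorem not_all_pm_char_odd (hp2 : p ≠ 2) (d m : ℕ) (hd : 4 ≤ d) (hm : 2 ≤ m) (hme : Even m) (hmd : m < d) :
    ¬ (∀ x : GL (Fin d ⊕ Fin d) F, x ∈ Cfsg.Geo.omegaGL (Cfsg.quadFormPlus d F) →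
      (∃ z : F, ((x ^ p : GL (Fin d ⊕ Fin d) F) : Matrix (Fin d ⊕ Fin d) (Fin d ⊕ Fin d) F) = z • (1 : Matrix (Fin d ⊕ Fin d) (Fin d ⊕ Fin d) F)) →
      (∀ z : F, (x : Matrix (Fin d ⊕ Fin d) (Fin d ⊕ Fin d) F) ≠ z • (1 : Matrix (Fin d ⊕ Fin d) (Fin d ⊕ Fin d) F)) →
      ∃ W : Submodule F (Fin d ⊕ Fin d → F), (Module.finrank F ↥W = m ∧ Cfsg.Geo.IsNondegenerateOn (QuadraticMap.polar (Cfsg.quadFormPlus d F)) W ∧ ¬ Cfsg.Geo.IsPlusTypeOn (Cfsg.quadFormPlus d F) W) ∧ W.map (Matrix.toLin' (x : Matrix (Fin d ⊕ Fin d) (Fin d ⊕ Fin d) F)) ≤ W) := by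
  classical
  intro hall
  have h2 : (2 : F) ≠ 0 := two_ne_zero_of_char (p := p) hp2
  obtain ⟨x, hxΩ, hxp, hsq, hrank⟩ := exists_unip_plus_odd (F := F) (p := p) hp2 (by omega : 3 ≤ d)
  have hxΩ' : x ∈ Cfsg.Geo.omegaGL ⇑(plusForm F d) := by rw [coe_plusForm]; exact hxΩ
  have hiso := iso_of_mem_omega hxΩ'
  have hN : (Matrix.toLin' (x : Matrix (Fin d ⊕ Fin d) (Fin d ⊕ Fin d) F) - 1 :
      Module.End F (Fin d ⊕ Fin d → F)) =
      Matrix.toLin' ((x : Matrix (Fin d ⊕ Fin d) (Fin d ⊕ Fin d) F) - 1) := by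
    rw [map_sub, Matrix.toLin'_one]
    rfl
  have hU : Unip (plusForm F d) (Matrix.toLin' (x : Matrix (Fin d ⊕ Fin d) (Fin d ⊕ Fin d) F)) := by
    apply unip_of_two_ne h2 (fun v => QT_of_mem_iso hiso v)
    intro v
    rw [hN, Matrix.toLin'_apply, Matrix.toLin'_apply, Matrix.mulVec_mulVec, ← pow_two, hsq,
      Matrix.zero_mulVec]
  obtain ⟨W, hWp, hWinv⟩ := hall x hxΩ ⟨1, by rw [hxp, one_smul]; rfl⟩ (by
    intro z hz
    have h1 : ((x : Matrix (Fin d ⊕ Fin d) (Fin d ⊕ Fin d) F) - 1) = (z - 1) • 1 := by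
      rw [hz, sub_smul, one_smul]
    rw [h1, _root_.smul_pow, one_pow] at hsq
    have h3 : (z - 1) ^ 2 = 0 := by
      have := congrFun (congrFun hsq (Sum.inl ⟨0, by omega⟩)) (Sum.inl ⟨0, by omega⟩)
      simpa using this
    have h4 : z - 1 = 0 := by simpa using h3
    rw [h1, h4, zero_smul, Matrix.rank_zero] at hrank
    omega)
  rw [pred_pm_iff] at hWp
  obtain ⟨hWd, hWnd, hWsg⟩ := hWp
  have hy := hU.hyp_of_invt (plus_nd_top d) (plus_hyp_top d) (finrank_plus F d)
    (by rw [finrank_range_sub_one]; exact hrank) hWnd hWinv (by rw [hWd]; exact hme)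
  exact sg_eq_neg_one_iff.mp hWsg hy

end Cfsg.Agent.Helper7.OpND
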