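import Mathlib
import Cfsg.Agent.Helper7.OpNDQ

set_option autoImplicit false
set_option linter.unusedSectionVars false
set_option linter.unusedVariables false

/-!
# Characteristic two: involutions of alternating type and their invariant nondegenerate subspaces
-/

namespace Cfsg.Agent.Helper7.OpND

open Matrix Module Polynomial Cfsg.Agent.Helper7.POrd Cfsg.Agent.Helper7.SpOrd Cfsg.Agent.Helper7.SpTI
  Cfsg.Agent.Helper7.OrTS Cfsg.Agent.Helper7.QTy Cfsg.Agent.Helper7.QPa Cfsg.Agent.Helper7.QMi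
  Cfsg.Agent.Helper7.OpTS Cfsg.Agent.Helper8.QuadForm Cfsg.Agent.Helper8.OrT Cfsg.Agent.Helper8.OrR
  Cfsg.Agent.Helper8.StdForms

universe u

variable {F : Type u} [Field F] [Fintype F] [CharP F 2] {ι : Type} [Fintype ι] [DecidableEq ι]

/-- an involution of alternating type in characteristic two gives the unipotent set-up. -/
theorem unip_of_alt_invol (Qs : QuadraticForm F (ι → F)) {x : GL ι F}
    (hxiso : x ∈ Cfsg.isometryGroup F ⇑Qs) (hx2 : x ^ 2 = 1)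
    (halt : ∀ v, QuadraticMap.polar ⇑Qs v (((x : Matrix ι ι F) - 1) *ᵥ v) = 0) :
    Unip Qs (Matrix.toLin' (x : Matrix ι ι F)) ∧
      ∀ v, QuadraticMap.polar Qs v
        ((Matrix.toLin' (x : Matrix ι ι F) - 1 : Module.End F (ι → F)) v) = 0 := by
  have hQT := QT_of_mem_iso hxiso
  have hz : ((x ^ 2 : GL ι F) : Matrix ι ι F) = (1 : F) • (1 : Matrix ι ι F) := by
    rw [hx2, one_smul]
    rfl
  have hTT : ∀ v, Matrix.toLin' (x : Matrix ι ι F) (Matrix.toLin' (x : Matrix ι ι F) v) = v := by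
    intro v
    rw [toLin'_sq_of_scalar hz, one_smul]
  have hN : ∀ v, (Matrix.toLin' (x : Matrix ι ι F) - 1 : Module.End F (ι → F)) v =
      ((x : Matrix ι ι F) - 1) *ᵥ v := by
    intro v
    rw [LinearMap.sub_apply, Module.End.one_apply, Matrix.toLin'_apply, Matrix.sub_mulVec,
      Matrix.one_mulVec]
  have halt' : ∀ v, QuadraticMap.polar Qs v
      ((Matrix.toLin' (x : Matrix ι ι F) - 1 : Module.End F (ι → F)) v) = 0 := by
    intro v
    rw [hN]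
    exact halt v
  refine ⟨⟨hQT, ?_, ?_⟩, halt'⟩
  · intro v
    simp only [LinearMap.sub_apply, Module.End.one_apply, map_sub, hTT]
    have h2 : ∀ w : ι → F, w + w = 0 := by
      intro w
      funext i
      exact CharTwo.add_self_eq_zero (w i)
    have : v - Matrix.toLin' (x : Matrix ι ι F) v - (Matrix.toLin' (x : Matrix ι ι F) v - v) =
        (v + v) - (Matrix.toLin' (x : Matrix ι ι F) v + Matrix.toLin' (x : Matrix ι ι F) v) := by abel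
    rw [this, h2, h2, sub_zero]
  · intro v
    have h1 := hQT v
    have h3 : Matrix.toLin' (x : Matrix ι ι F) v =
        v + (Matrix.toLin' (x : Matrix ι ι F) - 1 : Module.End F (ι → F)) v := by simp
    rw [h3, QuadraticMap.map_add Qs, halt' v, add_zero] at h1
    exact left_eq_add.mp h1.symm

theorem not_scalar_of_invol_char_two [Nonempty ι] {x : GL ι F} (hx2 : x ^ 2 = 1)
    (hrank : 0 < ((x : Matrix ι ι F) - 1).rank) (z : F) :
    (x : Matrix ι ι F) ≠ z • (1 : Matrix ι ι F) := by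
  intro hxz
  have h2 : ((x ^ 2 : GL ι F) : Matrix ι ι F) = (z * z) • (1 : Matrix ι ι F) := by
    rw [pow_two, Units.val_mul, hxz, smul_mul_smul_comm, mul_one]
  rw [hx2] at h2
  have h3 : (1 : F) = z * z := by
    obtain ⟨i⟩ := (inferInstance : Nonempty ι)
    have := congrFun (congrFun h2 i) i
    simpa using this
  have h4 : (z + 1) * (z + 1) = 0 := by
    have h5 : z + z = 0 := CharTwo.add_self_eq_zero z
    have h6 : (1 : F) + 1 = 0 := CharTwo.add_self_eq_zero 1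
    linear_combination -h3 + h5 + h6
  have h5 : z + 1 = 0 := by
    rcases mul_eq_zero.mp h4 with h | h <;> exact h
  have h6 : z = 1 := by
    have h7 : (1 : F) + 1 = 0 := CharTwo.add_self_eq_zero 1
    linear_combination h5 - h7
  rw [hxz, h6, one_smul, sub_self, Matrix.rank_zero] at hrank
  exact lt_irrefl _ hrank

theorem scalar_sq_of_invol {x : GL ι F} (hx2 : x ^ 2 = 1) :
    ∃ z : F, ((x ^ 2 : GL ι F) : Matrix ι ι F) = z • (1 : Matrix ι ι F) :=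
  ⟨1, by rw [hx2, one_smul]; rfl⟩

/-- **characteristic two, plus type subspaces of the plus type space**: an involution of alternating type and
full rank `d` fixes nondegenerate subspaces of dimension divisible by four only. -/
theorem not_all_pp_char_two {d m : ℕ} (hd : 4 ≤ d) (hm4 : m % 4 = 2)
    (hE : ∃ x : GL (Fin d ⊕ Fin d) F, x ∈ Cfsg.Geo.omegaGL (Cfsg.quadFormPlus d F) ∧ x ^ 2 = 1 ∧
      ((x : Matrix (Fin d ⊕ Fin d) (Fin d ⊕ Fin d) F) - 1).rank = d ∧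
      ∀ v, QuadraticMap.polar (Cfsg.quadFormPlus d F) v
        (((x : Matrix (Fin d ⊕ Fin d) (Fin d ⊕ Fin d) F) - 1) *ᵥ v) = 0) :
    ¬ (∀ x : GL (Fin d ⊕ Fin d) F, x ∈ Cfsg.Geo.omegaGL (Cfsg.quadFormPlus d F) →
      (∃ z : F, ((x ^ 2 : GL (Fin d ⊕ Fin d) F) : Matrix (Fin d ⊕ Fin d) (Fin d ⊕ Fin d) F) = z • (1 : Matrix (Fin d ⊕ Fin d) (Fin d ⊕ Fin d) F)) →
      (∀ z : F, (x : Matrix (Fin d ⊕ Fin d) (Fin d ⊕ Fin d) F) ≠ z • (1 : Matrix (Fin d ⊕ Fin d) (Fin d ⊕ Fin d) F)) →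
      ∃ W : Submodule F (Fin d ⊕ Fin d → F), (Module.finrank F ↥W = m ∧ (∀ u ∈ W, u ≠ 0 → ∃ v ∈ W, QuadraticMap.polar (Cfsg.quadFormPlus d F) u v ≠ 0) ∧
          ∃ U : Submodule F (Fin d ⊕ Fin d → F), U ≤ W ∧ 2 * Module.finrank F ↥U = m ∧ ∀ u ∈ U, Cfsg.quadFormPlus d F u = 0) ∧
        W.map (Matrix.toLin' (x : Matrix (Fin d ⊕ Fin d) (Fin d ⊕ Fin d) F)) ≤ W) := by
  classical
  intro hall
  obtain ⟨x, hxΩ, hx2, hrank, halt⟩ := hE
  haveI : Nonempty (Fin d ⊕ Fin d) := ⟨Sum.inl ⟨0, by omega⟩⟩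
  have hxΩ' : x ∈ Cfsg.Geo.omegaGL ⇑(plusForm F d) := by rw [coe_plusForm]; exact hxΩ
  have hiso := iso_of_mem_omega hxΩ'
  obtain ⟨hU, halt'⟩ := unip_of_alt_invol (plusForm F d) hiso hx2 (by rw [coe_plusForm]; exact halt)
  obtain ⟨W, hWp, hWinv⟩ := hall x hxΩ (scalar_sq_of_invol hx2)
    (not_scalar_of_invol_char_two hx2 (by rw [hrank]; omega))
  rw [pred_pp_iff] at hWp
  obtain ⟨hWd, hWnd, -⟩ := hWp
  have h4 := hU.four_dvd_of_invt halt' (plus_nd_top d) (finrank_plus F d)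
    (by rw [finrank_range_sub_one]; exact hrank) hWnd hWinv (by rw [hWd, Nat.even_iff]; omega)
  rw [hWd] at h4
  omega

/-- **characteristic two, minus type subspaces of the plus type space**: an involution of alternating type and
rank `d` or `d - 1` fixes nondegenerate subspaces of plus type only. -/
theorem not_all_pm_char_two {d m : ℕ} (hd : 4 ≤ d) (hme : Even m)
    (hE : ∃ x : GL (Fin d ⊕ Fin d) F, x ∈ Cfsg.Geo.omegaGL (Cfsg.quadFormPlus d F) ∧ x ^ 2 = 1 ∧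
      d ≤ ((x : Matrix (Fin d ⊕ Fin d) (Fin d ⊕ Fin d) F) - 1).rank + 1 ∧
      ∀ v, QuadraticMap.polar (Cfsg.quadFormPlus d F) v
        (((x : Matrix (Fin d ⊕ Fin d) (Fin d ⊕ Fin d) F) - 1) *ᵥ v) = 0) :
    ¬ (∀ x : GL (Fin d ⊕ Fin d) F, x ∈ Cfsg.Geo.omegaGL (Cfsg.quadFormPlus d F) →
      (∃ z : F, ((x ^ 2 : GL (Fin d ⊕ Fin d) F) : Matrix (Fin d ⊕ Fin d) (Fin d ⊕ Fin d) F) = z • (1 : Matrix (Fin d ⊕ Fin d) (Fin d ⊕ Fin d) F)) →
      (∀ z : F, (x : Matrix (Fin d ⊕ Fin d) (Fin d ⊕ Fin d) F) ≠ z • (1 : Matrix (Fin d ⊕ Fin d) (Fin d ⊕ Fin d) F)) →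
      ∃ W : Submodule F (Fin d ⊕ Fin d → F), (Module.finrank F ↥W = m ∧ Cfsg.Geo.IsNondegenerateOn (QuadraticMap.polar (Cfsg.quadFormPlus d F)) W ∧ ¬ Cfsg.Geo.IsPlusTypeOn (Cfsg.quadFormPlus d F) W) ∧ W.map (Matrix.toLin' (x : Matrix (Fin d ⊕ Fin d) (Fin d ⊕ Fin d) F)) ≤ W) := by
  classical
  intro hall
  obtain ⟨x, hxΩ, hx2, hrank, halt⟩ := hE
  haveI : Nonempty (Fin d ⊕ Fin d) := ⟨Sum.inl ⟨0, by omega⟩⟩
  have hxΩ' : x ∈ Cfsg.Geo.omegaGL ⇑(plusForm F d) := by rw [coe_plusForm]; exact hxΩ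
  have hiso := iso_of_mem_omega hxΩ'
  obtain ⟨hU, halt'⟩ := unip_of_alt_invol (plusForm F d) hiso hx2 (by rw [coe_plusForm]; exact halt)
  obtain ⟨W, hWp, hWinv⟩ := hall x hxΩ (scalar_sq_of_invol hx2)
    (not_scalar_of_invol_char_two hx2 (by omega))
  rw [pred_pm_iff] at hWp
  obtain ⟨hWd, hWnd, hWsg⟩ := hWp
  have hy := hU.hyp_of_invt (plus_nd_top d) (plus_hyp_top d) (finrank_plus F d)
    (by rw [finrank_range_sub_one]; exact hrank) hWnd hWinv (by rw [hWd]; exact hme)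
  exact sg_eq_neg_one_iff.mp hWsg hy

/-- **characteristic two, minus type subspaces of the minus type space**: an involution of alternating type
and rank `d - 1` fixes nondegenerate subspaces of minus type of dimension `2 (mod 4)` only. -/
theorem not_all_mm_char_two {d k m : ℕ} (hdk : d = k + 1) (hd : 4 ≤ d) (hme : Even m) (hm4 : m % 4 = 0)
    {a b : F} (hab : ∀ x y : F, x ^ 2 + a * x * y + b * y ^ 2 = 0 → x = 0 ∧ y = 0)
    (hE : ∃ x : GL ((Fin k ⊕ Fin k) ⊕ Fin 2) F, x ∈ Cfsg.Geo.omegaGL (Cfsg.quadFormMinus k F a b) ∧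
      x ^ 2 = 1 ∧
      ((x : Matrix ((Fin k ⊕ Fin k) ⊕ Fin 2) ((Fin k ⊕ Fin k) ⊕ Fin 2) F) - 1).rank + 1 = d ∧
      ∀ v, QuadraticMap.polar (Cfsg.quadFormMinus k F a b) v
        (((x : Matrix ((Fin k ⊕ Fin k) ⊕ Fin 2) ((Fin k ⊕ Fin k) ⊕ Fin 2) F) - 1) *ᵥ v) = 0) :
    ¬ (∀ x : GL ((Fin k ⊕ Fin k) ⊕ Fin 2) F, x ∈ Cfsg.Geo.omegaGL (Cfsg.quadFormMinus k F a b) →
      (∃ z : F, ((x ^ 2 : GL ((Fin k ⊕ Fin k) ⊕ Fin 2) F) : Matrix ((Fin k ⊕ Fin k) ⊕ Fin 2) ((Fin k ⊕ Fin k) ⊕ Fin 2) F) = z • (1 : Matrix ((Fin k ⊕ Fin k) ⊕ Fin 2) ((Fin k ⊕ Fin k) ⊕ Fin 2) F)) →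
      (∀ z : F, (x : Matrix ((Fin k ⊕ Fin k) ⊕ Fin 2) ((Fin k ⊕ Fin k) ⊕ Fin 2) F) ≠ z • (1 : Matrix ((Fin k ⊕ Fin k) ⊕ Fin 2) ((Fin k ⊕ Fin k) ⊕ Fin 2) F)) →
      ∃ W : Submodule F ((Fin k ⊕ Fin k) ⊕ Fin 2 → F), (Module.finrank F ↥W = m ∧ Cfsg.Geo.IsNondegenerateOn (QuadraticMap.polar (Cfsg.quadFormMinus k F a b)) W ∧ ¬ Cfsg.Geo.IsPlusTypeOn (Cfsg.quadFormMinus k F a b) W) ∧ W.map (Matrix.toLin' (x : Matrix ((Fin k ⊕ Fin k) ⊕ Fin 2) ((Fin k ⊕ Fin k) ⊕ Fin 2) F)) ≤ W) := by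
  classical
  intro hall
  obtain ⟨x, hxΩ, hx2, hrank, halt⟩ := hE
  haveI : Nonempty ((Fin k ⊕ Fin k) ⊕ Fin 2) := ⟨Sum.inr 0⟩
  have hxΩ' : x ∈ Cfsg.Geo.omegaGL ⇑(minusForm F k a b) := by rw [coe_minusForm]; exact hxΩ
  have hiso := iso_of_mem_omega hxΩ'
  obtain ⟨hU, halt'⟩ := unip_of_alt_invol (minusForm F k a b) hiso hx2 (by rw [coe_minusForm]; exact halt)
  obtain ⟨W, hWp, hWinv⟩ := hall x hxΩ (scalar_sq_of_invol hx2)
    (not_scalar_of_invol_char_two hx2 (by omega))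
  rw [pred_mm_iff] at hWp
  obtain ⟨hWd, hWnd, hWsg⟩ := hWp
  have hdimV : finrank F ((Fin k ⊕ Fin k) ⊕ Fin 2 → F) = 2 * d := by
    rw [finrank_minus, hdk]
    ring
  have h4 := hU.mod_four_of_invt halt' (minus_nd_top k hab) hdimV
    (by rw [finrank_range_sub_one]; exact hrank) hWnd hWinv (by rw [hWd]; exact hme)
    (sg_eq_neg_one_iff.mp hWsg)
  rw [hWd] at h4
  omega

end Cfsg.Agent.Helper7.OpND
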