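import Mathlib
import Cfsg.Agent.Helper7.OpNDL
import Cfsg.Agent.Helper7.OpNDM
import Cfsg.Agent.Helper7.OpNDN
import Cfsg.Agent.Helper7.OpNDV
import Cfsg.Agent.Helper7.OpNDW
import Cfsg.Agent.Helper7.OpNDX
import Cfsg.Agent.Helper7.OpNDY

set_option autoImplicit false
set_option linter.unusedSectionVars false
set_option linter.unusedVariables false

/-!
# Assembly: plus type subspaces of the plus type space
-/

namespace Cfsg.Agent.Helper7.OpND

open Matrix Module Polynomial Cfsg.Agent.Helper7.POrd Cfsg.Agent.Helper7.SpOrd Cfsg.Agent.Helper7.SpTI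
  Cfsg.Agent.Helper7.OrTS Cfsg.Agent.Helper7.QTy Cfsg.Agent.Helper7.QPa Cfsg.Agent.Helper7.QMi
  Cfsg.Agent.Helper7.OpTS Cfsg.Agent.Helper8.QuadForm Cfsg.Agent.Helper8.OrT Cfsg.Agent.Helper8.OrR
  Cfsg.Agent.Helper8.StdForms

universe u

variable {F : Type u} [Field F] [Fintype F] {p : ℕ} [Fact p.Prime] [CharP F p]

theorem two_ne_zero_iff_char : (2 : F) ≠ 0 ↔ p ≠ 2 := by
  have hp : p.Prime := Fact.out
  constructor
  · intro h2 hp2
    apply h2
    subst hp2
    exact CharTwo.two_eq_zero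
  · exact two_ne_zero_of_char (p := p)

theorem odd_card_of_two_ne (h2F : (2 : F) ≠ 0) : Odd (Fintype.card F) := by
  rw [← Nat.not_even_iff_odd]
  intro hev
  have hch : ringChar F = 2 := (FiniteField.even_card_iff_char_two (F := F)).mpr (Nat.even_iff.mp hev)
  apply h2F
  have h1 : ((ringChar F : ℕ) : F) = 0 := ringChar.Nat.cast_ringChar
  rw [hch] at h1
  exact_mod_cast h1

theorem even_card_of_char_two (hp2 : p = 2) : Even (Fintype.card F) := by
  subst hp2
  obtain ⟨e, -, he⟩ := FiniteField.card F 2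
  rw [he]
  exact (Nat.even_pow.mpr ⟨even_two, e.ne_zero⟩)

/-- in characteristic two an element of the isometry group with scalar square is an involution. -/
theorem sq_eq_one_of_char_two (hp2 : p = 2) {ι : Type} [Fintype ι] [DecidableEq ι] [Nonempty ι]
    {Qs : QuadraticForm F (ι → F)} (hQs : ND (QuadraticMap.polarBilin Qs) ⊤) {x : GL ι F}
    (hxiso : x ∈ Cfsg.isometryGroup F ⇑Qs) {z : F}
    (hz : ((x ^ 2 : GL ι F) : Matrix ι ι F) = z • (1 : Matrix ι ι F)) : x ^ 2 = 1 := by
  subst hp2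
  have h1 : z = 1 := by
    rcases scalar_pow_pm_one hQs hxiso hz with h | h
    · exact h
    · rw [h]
      exact CharTwo.neg_eq 1
  apply Units.ext
  rw [hz, h1, one_smul]
  rfl

end Cfsg.Agent.Helper7.OpND
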