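import Mathlib
import Cfsg.Agent.Helper7.OpNDZ

set_option autoImplicit false
set_option linter.unusedSectionVars false
set_option linter.unusedVariables false

/-!
# Main theorem: minus type subspaces of the plus type space (the characteristic two input as hypothesis)
-/

namespace Cfsg.Agent.Helper7.OpND

open Matrix Module Polynomial Cfsg.Agent.Helper7.POrd Cfsg.Agent.Helper7.SpOrd Cfsg.Agent.Helper7.SpTI
  Cfsg.Agent.Helper7.OrTS Cfsg.Agent.Helper7.QTy Cfsg.Agent.Helper7.QPa Cfsg.Agent.Helper7.QMi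
  Cfsg.Agent.Helper7.OpTS Cfsg.Agent.Helper8.QuadForm Cfsg.Agent.Helper8.OrT Cfsg.Agent.Helper8.OrR
  Cfsg.Agent.Helper8.StdForms

universe u

theorem main_pm {F : Type u} [Field F] [Fintype F] {p : ℕ} [Fact p.Prime] [CharP F p] {q : ℕ} (hq : Fintype.card F = q)
    (d m : ℕ) (hd : 4 ≤ d) (hm : 2 ≤ m) (hme : Even m) (hmd : m < d)
    (r : ℕ) [Fact r.Prime]
    (hrΩ : r ∣ Nat.card {W : Submodule F (Fin d ⊕ Fin d → F) // Module.finrank F ↥W = m ∧ Cfsg.Geo.IsNondegenerateOn (QuadraticMap.polar (Cfsg.quadFormPlus d F)) W ∧ ¬ Cfsg.Geo.IsPlusTypeOn (Cfsg.quadFormPlus d F) W})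
    (i c : ℕ) (hi : i = orderOf (q : ZMod r)) (hc : c = if Even i then i else 2 * i)
    (hE1 : p = 2 → ∃ x : GL (Fin d ⊕ Fin d) F, x ∈ Cfsg.Geo.omegaGL (Cfsg.quadFormPlus d F) ∧
      x ^ 2 = 1 ∧ d ≤ ((x : Matrix (Fin d ⊕ Fin d) (Fin d ⊕ Fin d) F) - 1).rank + 1 ∧
      ∀ v, QuadraticMap.polar (Cfsg.quadFormPlus d F) v
        (((x : Matrix (Fin d ⊕ Fin d) (Fin d ⊕ Fin d) F) - 1) *ᵥ v) = 0) :
    (∀ x : GL (Fin d ⊕ Fin d) F, x ∈ Cfsg.Geo.omegaGL (Cfsg.quadFormPlus d F) →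
      (∃ z : F, ((x ^ r : GL (Fin d ⊕ Fin d) F) : Matrix (Fin d ⊕ Fin d) (Fin d ⊕ Fin d) F) = z • (1 : Matrix (Fin d ⊕ Fin d) (Fin d ⊕ Fin d) F)) →
      (∀ z : F, (x : Matrix (Fin d ⊕ Fin d) (Fin d ⊕ Fin d) F) ≠ z • (1 : Matrix (Fin d ⊕ Fin d) (Fin d ⊕ Fin d) F)) →
      ∃ W : Submodule F (Fin d ⊕ Fin d → F), (Module.finrank F ↥W = m ∧ Cfsg.Geo.IsNondegenerateOn (QuadraticMap.polar (Cfsg.quadFormPlus d F)) W ∧ ¬ Cfsg.Geo.IsPlusTypeOn (Cfsg.quadFormPlus d F) W) ∧ W.map (Matrix.toLin' (x : Matrix (Fin d ⊕ Fin d) (Fin d ⊕ Fin d) F)) ≤ W) ↔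
    ((r = 2 ∧ p ≠ 2 ∧ ((Even d ∧ q % 4 = 3 ∧ m % 4 = 2) ∨ (Odd d ∧ q % 8 ≠ 1))) ∨
     (r ≠ p ∧ 2 < r ∧ Odd i ∧ c ≤ m ∧ 0 < m % c ∧ m % c < (2 * d) % c) ∨
     (r ≠ p ∧ 2 < r ∧ Even i ∧
       (((2 * d) % c = 0 ∧ (Odd ((2 * d) / i) ∨ (m % c = 0 ∧ Odd (m / i)))) ∨
        (i ≤ m ∧ ((0 < m % c ∧ m % c < (2 * d) % c) ∨
                  (0 < m % c ∧ m % c = (2 * d) % c ∧ Odd ((2 * d + m - 2 * ((2 * d) % c)) / i)) ∨
                  (m % c = 0 ∧ 0 < (2 * d) % c ∧ Odd (m / i))))))) := by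
  classical
  subst hq
  have hrp' : r.Prime := Fact.out
  have hp : p.Prime := Fact.out
  by_cases hrp : r = p
  · -- `r = p`: both sides are false
    subst hrp
    constructor
    · intro hall
      exfalso
      by_cases hp2 : r = 2
      · haveI : CharP F 2 := by rw [← hp2]; infer_instance
        subst hp2
        exact not_all_pm_char_two hd hme (hE1 rfl) hall
      · exact not_all_pm_char_odd (p := r) hp2 d m hd hm hme hmd hall
    · rintro (⟨h1, h2, -⟩ | ⟨h, -⟩ | ⟨h, -⟩)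
      · exact absurd h1 h2
      · exact absurd rfl h
      · exact absurd rfl h
  · by_cases hr2 : r = 2
    · subst hr2
      have hp2 : p ≠ 2 := fun h => hrp h.symm
      have h2F : (2 : F) ≠ 0 := two_ne_zero_of_char (p := p) hp2
      have hqodd := odd_card_of_two_ne h2F
      rw [two_case_pm h2F hqodd hd hm hme hmd]
      constructor
      · intro h
        exact Or.inl ⟨rfl, hp2, h⟩
      · rintro (⟨-, -, h⟩ | ⟨-, h, -⟩ | ⟨-, h, -⟩)
        · exact h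
        · omega
        · omega
    · have hr2lt : 2 < r := by
        have := hrp'.two_le
        omega
      rw [odd_pm (p := p) d m hd hm hme hmd hr2 hrp hrΩ i c hi hc]
      constructor
      · rintro (h | h)
        · exact Or.inr (Or.inl ⟨hrp, hr2lt, h⟩)
        · exact Or.inr (Or.inr ⟨hrp, hr2lt, h⟩)
      · rintro (⟨h, -⟩ | ⟨-, -, h⟩ | ⟨-, -, h⟩)
        · exact absurd h hr2
        · exact Or.inl h
        · exact Or.inr h

end Cfsg.Agent.Helper7.OpND
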