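import Mathlib
import Cfsg.Agent.Helper7.OpNDZ

set_option autoImplicit false
set_option linter.unusedSectionVars false
set_option linter.unusedVariables false

/-!
# Main theorem: plus type subspaces of the plus type space (the characteristic two inputs as hypotheses)
-/

namespace Cfsg.Agent.Helper7.OpND

open Matrix Module Polynomial Cfsg.Agent.Helper7.POrd Cfsg.Agent.Helper7.SpOrd Cfsg.Agent.Helper7.SpTI
  Cfsg.Agent.Helper7.OrTS Cfsg.Agent.Helper7.QTy Cfsg.Agent.Helper7.QPa Cfsg.Agent.Helper7.QMi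
  Cfsg.Agent.Helper7.OpTS Cfsg.Agent.Helper8.QuadForm Cfsg.Agent.Helper8.OrT Cfsg.Agent.Helper8.OrR
  Cfsg.Agent.Helper8.StdForms

universe u

theorem main_pp {F : Type u} [Field F] [Fintype F] {p : ℕ} [Fact p.Prime] [CharP F p] {q : ℕ} (hq : Fintype.card F = q)
    (d m : ℕ) (hd : 4 ≤ d) (hm : 2 ≤ m) (hme : Even m) (hmd : m < d)
    (r : ℕ) [Fact r.Prime] (hr : r = 2 ∨ r ≠ p)
    (hrΩ : r ∣ Nat.card {W : Submodule F (Fin d ⊕ Fin d → F) // (Module.finrank F ↥W = m ∧ (∀ u ∈ W, u ≠ 0 → ∃ v ∈ W, QuadraticMap.polar (Cfsg.quadFormPlus d F) u v ≠ 0) ∧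
          ∃ U : Submodule F (Fin d ⊕ Fin d → F), U ≤ W ∧ 2 * Module.finrank F ↥U = m ∧ ∀ u ∈ U, Cfsg.quadFormPlus d F u = 0)})
    (i c : ℕ) (hi : i = orderOf (q : ZMod r)) (hc : c = if Even i then i else 2 * i)
    (hE1 : p = 2 → Even d → ∃ x : GL (Fin d ⊕ Fin d) F, x ∈ Cfsg.Geo.omegaGL (Cfsg.quadFormPlus d F) ∧
      x ^ 2 = 1 ∧ ((x : Matrix (Fin d ⊕ Fin d) (Fin d ⊕ Fin d) F) - 1).rank = d ∧
      ∀ v, QuadraticMap.polar (Cfsg.quadFormPlus d F) v
        (((x : Matrix (Fin d ⊕ Fin d) (Fin d ⊕ Fin d) F) - 1) *ᵥ v) = 0)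
    (hE2 : p = 2 → (Odd d ∨ m % 4 = 0) → ∀ x : GL (Fin d ⊕ Fin d) F,
      x ∈ Cfsg.Geo.omegaGL (Cfsg.quadFormPlus d F) → x ^ 2 = 1 →
      ∃ W : Submodule F (Fin d ⊕ Fin d → F), (Module.finrank F ↥W = m ∧ (∀ u ∈ W, u ≠ 0 → ∃ v ∈ W, QuadraticMap.polar (Cfsg.quadFormPlus d F) u v ≠ 0) ∧
          ∃ U : Submodule F (Fin d ⊕ Fin d → F), U ≤ W ∧ 2 * Module.finrank F ↥U = m ∧ ∀ u ∈ U, Cfsg.quadFormPlus d F u = 0) ∧
        W.map (Matrix.toLin' (x : Matrix (Fin d ⊕ Fin d) (Fin d ⊕ Fin d) F)) ≤ W) :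
    (∀ x : GL (Fin d ⊕ Fin d) F, x ∈ Cfsg.Geo.omegaGL (Cfsg.quadFormPlus d F) →
      (∃ z : F, ((x ^ r : GL (Fin d ⊕ Fin d) F) : Matrix (Fin d ⊕ Fin d) (Fin d ⊕ Fin d) F) = z • (1 : Matrix (Fin d ⊕ Fin d) (Fin d ⊕ Fin d) F)) →
      (∀ z : F, (x : Matrix (Fin d ⊕ Fin d) (Fin d ⊕ Fin d) F) ≠ z • (1 : Matrix (Fin d ⊕ Fin d) (Fin d ⊕ Fin d) F)) →
      ∃ W : Submodule F (Fin d ⊕ Fin d → F), (Module.finrank F ↥W = m ∧ (∀ u ∈ W, u ≠ 0 → ∃ v ∈ W, QuadraticMap.polar (Cfsg.quadFormPlus d F) u v ≠ 0) ∧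
          ∃ U : Submodule F (Fin d ⊕ Fin d → F), U ≤ W ∧ 2 * Module.finrank F ↥U = m ∧ ∀ u ∈ U, Cfsg.quadFormPlus d F u = 0) ∧
        W.map (Matrix.toLin' (x : Matrix (Fin d ⊕ Fin d) (Fin d ⊕ Fin d) F)) ≤ W) ↔
    ((r = 2 ∧ ((2 * d) % 4 = 2 ∨ m % 4 = 0 ∨ q % 4 = 1)) ∨
     (r ≠ p ∧ 2 < r ∧ Odd i ∧ c ≤ m ∧ m % c ≤ (2 * d) % c) ∨
     (r ≠ p ∧ 2 < r ∧ Even i ∧
       (((2 * d) % c = 0 ∧ (Odd ((2 * d) / i) ∨ (m % c = 0 ∧ Even (m / i)))) ∨
        (i ≤ m ∧ ((m % c < (2 * d) % c ∧ 0 < m % c) ∨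
                  ((2 * d) % c = m % c ∧ 0 < m % c ∧ Even ((2 * d + m - 2 * ((2 * d) % c)) / i)) ∨
                  (0 < (2 * d) % c ∧ m % c = 0 ∧ Even (m / i))))))) := by
  classical
  subst hq
  have hrp' : r.Prime := Fact.out
  have hp : p.Prime := Fact.out
  by_cases hr2 : r = 2
  · subst hr2
    by_cases hp2 : p = 2
    · -- characteristic two
      haveI : Nonempty (Fin d ⊕ Fin d) := ⟨Sum.inl ⟨0, by omega⟩⟩
      have hqev := even_card_of_char_two (F := F) hp2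
      have hq4 : Fintype.card F % 4 ≠ 1 := by
        rw [Nat.even_iff] at hqev
        omega
      constructor
      · intro hall
        left
        refine ⟨rfl, ?_⟩
        by_contra hcon
        push Not at hcon
        obtain ⟨h1, h2, -⟩ := hcon
        have hde : Even d := by
          rw [Nat.even_iff]
          omega
        have hm4 : m % 4 = 2 := by
          obtain ⟨μ, hμ⟩ := hme
          omega
        haveI : CharP F 2 := by rw [← hp2]; infer_instance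
        exact not_all_pp_char_two hd hm4 (hE1 hp2 hde) hall
      · rintro (⟨-, h⟩ | ⟨-, h, -⟩ | ⟨-, h, -⟩)
        · intro x hxΩ ⟨z, hz⟩ hxns
          have hxΩ' : x ∈ Cfsg.Geo.omegaGL ⇑(plusForm F d) := by rw [coe_plusForm]; exact hxΩ
          have hx2 := sq_eq_one_of_char_two hp2 (plus_nd_top d) (iso_of_mem_omega hxΩ') hz
          apply hE2 hp2 _ x hxΩ hx2
          rcases h with h | h | h
          · left
            rw [Nat.odd_iff]
            omega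
          · right
            exact h
          · exact absurd h hq4
        · omega
        · omega
    · have h2F : (2 : F) ≠ 0 := two_ne_zero_of_char (p := p) hp2
      have hqodd := odd_card_of_two_ne h2F
      rw [two_case_pp h2F hqodd hd hm hme hmd]
      constructor
      · intro h
        exact Or.inl ⟨rfl, h⟩
      · rintro (⟨-, h⟩ | ⟨-, h, -⟩ | ⟨-, h, -⟩)
        · exact h
        · omega
        · omega
  · have hrp : r ≠ p := by
      rcases hr with h | h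
      · exact absurd h hr2
      · exact h
    have hr2lt : 2 < r := by
      have := hrp'.two_le
      omega
    rw [odd_pp (p := p) d m hd hm hme hmd hr2 hrp hrΩ i c hi hc]
    constructor
    · rintro (h | h)
      · exact Or.inr (Or.inl ⟨hrp, hr2lt, h⟩)
      · exact Or.inr (Or.inr ⟨hrp, hr2lt, h⟩)
    · rintro (⟨h, -⟩ | ⟨-, -, h⟩ | ⟨-, -, h⟩)
      · exact absurd h hr2
      · exact Or.inl h
      · exact Or.inr h

end Cfsg.Agent.Helper7.OpND
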