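import Mathlib
import Cfsg.Agent.Helper8.O2OmegaPlus
import Cfsg.Agent.Helper8.O2OmegaMinus
import Cfsg.Agent.Helper7.OpTSP

set_option autoImplicit false
set_option linter.unusedSectionVars false
set_option linter.unusedVariables false

/-!
# Characteristic two: involutions of alternating type of prescribed even rank in `Ω^±`
-/

namespace Cfsg.Agent.Helper7.OpND

open Matrix Module Cfsg.Agent.Helper8.O2 Cfsg.Agent.Helper8.StdForms

universe u

variable {F : Type u} [Field F] [Fintype F] [CharP F 2]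

theorem alt_sub_one_of_alt {ι : Type} [Fintype ι] [DecidableEq ι] (Q : QuadraticForm F (ι → F))
    (t : ↥(Cfsg.isometryGroup F ⇑Q)) (halt : IsAltType Q t) (v : ι → F) :
    QuadraticMap.polar ⇑Q v ((((t : GL ι F) : Matrix ι ι F) - 1) *ᵥ v) = 0 := by
  rw [Matrix.sub_mulVec, Matrix.one_mulVec, QuadraticMap.polar_sub_right, halt v,
    QuadraticMap.polar_self, zero_sub, neg_eq_zero]
  have h2 : (2 : F) = 0 := CharTwo.two_eq_zero
  rw [two_smul]
  exact CharTwo.add_self_eq_zero _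

/-- **an involution of alternating type and rank `s` in `Ω⁺_{2d}(q)`, `q` even.** -/
theorem exists_alt_invol_plus (d s : ℕ) (hd : 4 ≤ d) (hs : Even s) (hs0 : 0 < s) (hsd : s ≤ d) :
    ∃ x : GL (Fin d ⊕ Fin d) F, x ∈ Cfsg.Geo.omegaGL (Cfsg.quadFormPlus d F) ∧ x ^ 2 = 1 ∧
      ((x : Matrix (Fin d ⊕ Fin d) (Fin d ⊕ Fin d) F) - 1).rank = s ∧
      ∀ v, QuadraticMap.polar (Cfsg.quadFormPlus d F) v
        (((x : Matrix (Fin d ⊕ Fin d) (Fin d ⊕ Fin d) F) - 1) *ᵥ v) = 0 := by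
  have hcoe : (⇑(plusForm F d) : (Fin d ⊕ Fin d → F) → F) = Cfsg.quadFormPlus d F :=
    funext (plusForm_apply F d)
  obtain ⟨e, he⟩ := hs
  have hj : e - 1 < d / 2 := by omega
  obtain ⟨t, ht⟩ : ∃ t, t = repPlus F d (Sum.inr ⟨e - 1, hj⟩) := ⟨_, rfl⟩
  have hrk : rk _ t = s := by
    rw [ht, rk_repPlus_inr]
    simp only
    omega
  have halt : IsAltType _ t := by rw [ht]; exact alt_repPlus_inr _
  have hord : orderOf t = 2 := by rw [ht]; exact orderOf_repPlus _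
  have ht2 : t ^ 2 = 1 := by
    have := pow_orderOf_eq_one t
    rwa [hord] at this
  have hmem : t ∈ commutator ↥(Cfsg.isometryGroup F ⇑(plusForm F d)) := by
    rw [mem_omega_plus_iff_even (by omega) (Or.inr (by omega)), hrk]
    exact ⟨e, he⟩
  rw [← hcoe]
  refine ⟨(t : GL (Fin d ⊕ Fin d) F), ⟨t, hmem, rfl⟩, ?_, hrk, fun v => alt_sub_one_of_alt _ t halt v⟩
  have := congrArg (fun u : ↥(Cfsg.isometryGroup F ⇑(plusForm F d)) => (u : GL (Fin d ⊕ Fin d) F)) ht2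
  simpa using this

/-- **an involution of alternating type and rank `s` in `Ω⁻_{2d}(q)`, `q` even.** -/
theorem exists_alt_invol_minus (d s : ℕ) (hd : 4 ≤ d) (hs : Even s) (hs0 : 0 < s) (hsd : s + 1 ≤ d)
    (a b : F) (hab : ∀ x y : F, x ^ 2 + a * x * y + b * y ^ 2 = 0 → x = 0 ∧ y = 0) :
    ∃ x : GL ((Fin (d - 1) ⊕ Fin (d - 1)) ⊕ Fin 2) F,
      x ∈ Cfsg.Geo.omegaGL (Cfsg.quadFormMinus (d - 1) F a b) ∧ x ^ 2 = 1 ∧
      ((x : Matrix ((Fin (d - 1) ⊕ Fin (d - 1)) ⊕ Fin 2) ((Fin (d - 1) ⊕ Fin (d - 1)) ⊕ Fin 2) F) - 1).rank = s ∧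
      ∀ v, QuadraticMap.polar (Cfsg.quadFormMinus (d - 1) F a b) v
        (((x : Matrix ((Fin (d - 1) ⊕ Fin (d - 1)) ⊕ Fin 2) ((Fin (d - 1) ⊕ Fin (d - 1)) ⊕ Fin 2) F) - 1) *ᵥ v) = 0 := by
  have hcoe : (⇑(minusForm F (d - 1) a b) : ((Fin (d - 1) ⊕ Fin (d - 1)) ⊕ Fin 2 → F) → F) =
      Cfsg.quadFormMinus (d - 1) F a b := funext (minusForm_apply F (d - 1) a b)
  have ha0 : a ≠ 0 := by
    intro h0
    -- `x² + b y² = 0` has a nontrivial solution in characteristic two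
    obtain ⟨c, hc⟩ : ∃ c : F, c * c = b := by
      have := (FiniteField.isSquare_of_char_two (F := F) (by
        exact CharP.ringChar_of_prime_eq_zero Nat.prime_two (CharTwo.two_eq_zero)) b)
      obtain ⟨c, hc⟩ := this
      exact ⟨c, hc.symm⟩
    have := hab c 1 (by
      rw [h0]
      have h2 : b + b = 0 := CharTwo.add_self_eq_zero b
      rw [← hc] at h2 ⊢
      linear_combination h2)
    exact one_ne_zero this.2
  obtain ⟨e, he⟩ := hs
  have hj : e - 1 < (d - 1) / 2 := by omega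
  obtain ⟨t, ht⟩ : ∃ t, t = repMinus F (d - 1) a b (Sum.inr ⟨e - 1, hj⟩) := ⟨_, rfl⟩
  have hrk : rk _ t = s := by
    rw [ht, rk_repMinus_inr]
    simp only
    omega
  have halt : IsAltType _ t := by rw [ht]; exact alt_repMinus_inr _ _ _
  have hord : orderOf t = 2 := by rw [ht]; exact orderOf_repMinus ha0 _ _
  have ht2 : t ^ 2 = 1 := by
    have := pow_orderOf_eq_one t
    rwa [hord] at this
  have hmem : t ∈ commutator ↥(Cfsg.isometryGroup F ⇑(minusForm F (d - 1) a b)) := by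
    rw [mem_omega_minus_iff_even hab, hrk]
    exact ⟨e, he⟩
  rw [← hcoe]
  refine ⟨(t : GL ((Fin (d - 1) ⊕ Fin (d - 1)) ⊕ Fin 2) F), ⟨t, hmem, rfl⟩, ?_, hrk,
    fun v => alt_sub_one_of_alt _ t halt v⟩
  have := congrArg (fun u : ↥(Cfsg.isometryGroup F ⇑(minusForm F (d - 1) a b)) =>
    (u : GL ((Fin (d - 1) ⊕ Fin (d - 1)) ⊕ Fin 2) F)) ht2
  simpa using this

end Cfsg.Agent.Helper7.OpND
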