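import Mathlib

set_option autoImplicit false
set_option linter.unusedSectionVars false
set_option linter.unusedVariables false

/-!
# An abstract argument on finite soluble groups

Let `Γ` be a finite soluble group with a function `d : Γ → ℕ` (dimension of the fixed space) such that
`2 d(g) ≤ n + d(g⁻¹ x g x⁻¹)` and such that `d` vanishes on the non-identity elements of the abelian normal
subgroups.  Then `3 n < 4 d(g)` forces `g = 1`.
-/

namespace Cfsg.Agent.Helper7.PrimSol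

variable {Γ : Type*} [Group Γ]

/-- the commutator-like word used throughout. -/
def kap (g x : Γ) : Γ := g⁻¹ * x * g * x⁻¹

theorem kap_mem_right {B : Subgroup Γ} [hB : B.Normal] (g : Γ) {x : Γ} (hx : x ∈ B) : kap g x ∈ B := by
  unfold kap
  have h1 : g⁻¹ * x * g ∈ B := by
    have := hB.conj_mem x hx g⁻¹
    rwa [inv_inv] at this
  exact B.mul_mem h1 (B.inv_mem hx)

theorem kap_mem_left {B : Subgroup Γ} [hB : B.Normal] {g : Γ} (hg : g ∈ B) (x : Γ) : kap g x ∈ B := by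
  unfold kap
  have h1 : x * g * x⁻¹ ∈ B := hB.conj_mem g hg x
  have : g⁻¹ * x * g * x⁻¹ = g⁻¹ * (x * g * x⁻¹) := by group
  rw [this]
  exact B.mul_mem (B.inv_mem hg) h1

theorem kap_eq_one_iff (g x : Γ) : kap g x = 1 ↔ g * x = x * g := by
  unfold kap
  constructor
  · intro h
    have h1 : g * (g⁻¹ * x * g * x⁻¹) * x = g * 1 * x := by rw [h]
    have h2 : g * (g⁻¹ * x * g * x⁻¹) * x = x * g := by group
    rw [h2] at h1
    rw [h1, mul_one]
  · intro h
    have : g⁻¹ * x * g * x⁻¹ = g⁻¹ * (x * g) * x⁻¹ := by group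
    rw [this, ← h]
    group

/-- the centre of a subgroup, as a subgroup of the ambient group. -/
def cen (B : Subgroup Γ) : Subgroup Γ where
  carrier := {x | x ∈ B ∧ ∀ b ∈ B, x * b = b * x}
  mul_mem' := by
    rintro x y ⟨hx, hx'⟩ ⟨hy, hy'⟩
    refine ⟨B.mul_mem hx hy, fun b hb => ?_⟩
    rw [mul_assoc, hy' b hb, ← mul_assoc, hx' b hb, mul_assoc]
  one_mem' := ⟨B.one_mem, fun b _ => by rw [one_mul, mul_one]⟩
  inv_mem' := by
    rintro x ⟨hx, hx'⟩
    refine ⟨B.inv_mem hx, fun b hb => ?_⟩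
    have h := hx' b hb
    have h1 : x⁻¹ * (x * b) * x⁻¹ = x⁻¹ * (b * x) * x⁻¹ := by rw [h]
    have h2 : x⁻¹ * (x * b) * x⁻¹ = b * x⁻¹ := by group
    have h3 : x⁻¹ * (b * x) * x⁻¹ = x⁻¹ * b := by group
    rw [h2, h3] at h1
    exact h1.symm

theorem mem_cen {B : Subgroup Γ} {x : Γ} : x ∈ cen B ↔ x ∈ B ∧ ∀ b ∈ B, x * b = b * x := Iff.rfl

instance cen_normal (B : Subgroup Γ) [hB : B.Normal] : (cen B).Normal where
  conj_mem := by
    rintro x ⟨hx, hx'⟩ g
    refine ⟨hB.conj_mem x hx g, fun b hb => ?_⟩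
    have hb' : g⁻¹ * b * g ∈ B := by
      have := hB.conj_mem b hb g⁻¹
      rwa [inv_inv] at this
    have h := hx' _ hb'
    have h1 : g * x * g⁻¹ * b = g * (x * (g⁻¹ * b * g)) * g⁻¹ := by group
    have h2 : b * (g * x * g⁻¹) = g * ((g⁻¹ * b * g) * x) * g⁻¹ := by group
    rw [h1, h2, h]

theorem cen_comm {B : Subgroup Γ} : ∀ a ∈ cen B, ∀ b ∈ cen B, a * b = b * a :=
  fun a ha b hb => ha.2 b hb.1

/-- the class `ℬ` of normal subgroups `B ≥ A` centralising `A` with `B/A` abelian. -/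
structure InB (A B : Subgroup Γ) : Prop where
  normal : B.Normal
  le : A ≤ B
  comm : ∀ b ∈ B, ∀ b' ∈ B, kap b b' ∈ A
  cent : ∀ b ∈ B, ∀ a ∈ A, b * a = a * b

/-- the common centraliser of the members of `ℬ`. -/
def CC (A : Subgroup Γ) : Subgroup Γ where
  carrier := {c | ∀ B : Subgroup Γ, InB A B → ∀ b ∈ B, c * b = b * c}
  mul_mem' := by
    intro x y hx hy B hB b hb
    rw [mul_assoc, hy B hB b hb, ← mul_assoc, hx B hB b hb, mul_assoc]
  one_mem' := fun B _ b _ => by rw [one_mul, mul_one]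
  inv_mem' := by
    intro x hx B hB b hb
    have h := hx B hB b hb
    have h1 : x⁻¹ * (x * b) * x⁻¹ = x⁻¹ * (b * x) * x⁻¹ := by rw [h]
    have h2 : x⁻¹ * (x * b) * x⁻¹ = b * x⁻¹ := by group
    have h3 : x⁻¹ * (b * x) * x⁻¹ = x⁻¹ * b := by group
    rw [h2, h3] at h1
    exact h1.symm

theorem mem_CC {A : Subgroup Γ} {c : Γ} : c ∈ CC A ↔ ∀ B : Subgroup Γ, InB A B → ∀ b ∈ B, c * b = b * c := Iff.rfl

instance CC_normal (A : Subgroup Γ) : (CC A).Normal where
  conj_mem := by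
    intro x hx g B hB b hb
    have hb' : g⁻¹ * b * g ∈ B := by
      have := hB.normal.conj_mem b hb g⁻¹
      rwa [inv_inv] at this
    have h := hx B hB _ hb'
    have h1 : g * x * g⁻¹ * b = g * (x * (g⁻¹ * b * g)) * g⁻¹ := by group
    have h2 : b * (g * x * g⁻¹) = g * ((g⁻¹ * b * g) * x) * g⁻¹ := by group
    rw [h1, h2, h]

theorem InB.self {A : Subgroup Γ} [hA : A.Normal] (hab : ∀ a ∈ A, ∀ b ∈ A, a * b = b * a) : InB A A where
  normal := hA
  le := le_rfl
  comm := fun b hb b' hb' => kap_mem_left hb b'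
  cent := fun b hb a ha => hab b hb a ha

end Cfsg.Agent.Helper7.PrimSol
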