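import Mathlib
import Cfsg.Agent.Helper7.PrimSolA

set_option autoImplicit false
set_option linter.unusedSectionVars false
set_option linter.unusedVariables false

/-!
# The abstract argument: the main theorem
-/

namespace Cfsg.Agent.Helper7.PrimSol

open scoped commutatorElement

variable {Γ : Type*} [Group Γ]

section main

variable (d : Γ → ℕ) (n : ℕ)
  (hcomm : ∀ g x : Γ, 2 * d g ≤ n + d (kap g x))
  (hab : ∀ A : Subgroup Γ, A.Normal → (∀ a ∈ A, ∀ b ∈ A, a * b = b * a) → ∀ z ∈ A, z ≠ 1 → d z = 0)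

include hcomm hab

/-- Step 1: elements with large fixed space centralise every member of `ℬ`. -/
theorem step_one {A B : Subgroup Γ} [hA : A.Normal] (hAab : ∀ a ∈ A, ∀ b ∈ A, a * b = b * a) (hB : InB A B)
    {x : Γ} (hx : 3 * n < 4 * d x) {b : Γ} (hb : b ∈ B) : x * b = b * x := by
  haveI := hB.normal
  rw [← kap_eq_one_iff]
  by_contra hne
  have h1 : kap x b ∈ B := kap_mem_right x hb
  have h2 := hcomm x b
  have h3 : n < 2 * d (kap x b) := by omega
  -- `kap x b` is central in `B`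
  have h4 : kap x b ∈ cen B := by
    refine ⟨h1, fun b' hb' => ?_⟩
    rw [← kap_eq_one_iff]
    by_contra hne'
    have h5 := hcomm (kap x b) b'
    have h6 : kap (kap x b) b' ∈ A := hB.comm _ h1 _ hb'
    have h7 := hab A hA hAab _ h6 hne'
    omega
  have h8 := hab (cen B) inferInstance cen_comm _ h4 hne
  omega

end main

/-- moving a central factor out of `kap`, on the left. -/
theorem kap_mul_left {a e y : Γ} (h : a * y = y * a) : kap (a * e) y = kap e y := by
  unfold kap
  have h1 : (a * e)⁻¹ * y * (a * e) * y⁻¹ = e⁻¹ * (a⁻¹ * (y * a)) * e * y⁻¹ := by group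
  rw [h1, ← h]
  group

/-- moving a central factor out of `kap`, on the right. -/
theorem kap_mul_right {a e y : Γ} (h : a * y = y * a) : kap y (a * e) = a * kap y e * a⁻¹ := by
  unfold kap
  have h1 : y⁻¹ * (a * e) * y * (a * e)⁻¹ = y⁻¹ * a * e * y * e⁻¹ * a⁻¹ := by group
  have h2 : y⁻¹ * a = a * y⁻¹ := by
    have : y⁻¹ * (a * y) * y⁻¹ = y⁻¹ * (y * a) * y⁻¹ := by rw [h]
    have e1 : y⁻¹ * (a * y) * y⁻¹ = y⁻¹ * a := by group
    have e2 : y⁻¹ * (y * a) * y⁻¹ = a * y⁻¹ := by group
    rw [e1, e2] at this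
    exact this
  rw [h1, h2]
  group

theorem mem_sup_normal {A E : Subgroup Γ} [A.Normal] {x : Γ} (hx : x ∈ A ⊔ E) :
    ∃ a ∈ A, ∃ e ∈ E, x = a * e := by
  have h : x ∈ ((A ⊔ E : Subgroup Γ) : Set Γ) := hx
  rw [Subgroup.normal_mul] at h
  obtain ⟨a, ha, e, he, rfl⟩ := Set.mem_mul.mp h
  exact ⟨a, ha, e, he, rfl⟩

section main2

variable [Finite Γ] [Group.IsSolvable Γ]

/-- Step 2: every normal subgroup inside the common centraliser lies in a maximal abelian normal subgroup `A`. -/
theorem le_of_le_CC {A : Subgroup Γ} [hA : A.Normal] (hAab : ∀ a ∈ A, ∀ b ∈ A, a * b = b * a)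
    (hmax : ∀ A' : Subgroup Γ, A'.Normal → (∀ a ∈ A', ∀ b ∈ A', a * b = b * a) → A ≤ A' → A' ≤ A) :
    ∀ (k : ℕ) (E : Subgroup Γ), E.Normal → E ≤ CC A → Nat.card E ≤ k → E ≤ A := by
  intro k
  induction k with
  | zero =>
    intro E _ _ hk
    have : 0 < Nat.card E := Nat.card_pos
    omega
  | succ k ih =>
    intro E hEn hEC hk
    by_cases hE : E = ⊥
    · rw [hE]; exact bot_le
    have hlt : ⁅E, E⁆ < E := Group.IsSolvable.commutator_lt_of_ne_bot hE
    have hcard : Nat.card (⁅E, E⁆ : Subgroup Γ) < Nat.card E := by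
      by_contra hge
      push Not at hge
      exact hlt.ne (Subgroup.eq_of_le_of_card_ge hlt.le hge)
    have hder : ⁅E, E⁆ ≤ A := ih ⁅E, E⁆ inferInstance (le_trans hlt.le hEC) (by omega)
    -- elements of `E` commute with `A`
    have hEA : ∀ e ∈ E, ∀ a ∈ A, e * a = a * e := fun e he a ha => hEC he A (InB.self hAab) a ha
    have hkapE : ∀ e ∈ E, ∀ e' ∈ E, kap e e' ∈ A := by
      intro e he e' he'
      apply hder
      have : kap e e' = ⁅e⁻¹, e'⁆ := by
        unfold kap
        rw [commutatorElement_def, inv_inv]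
      rw [this]
      exact Subgroup.commutator_mem_commutator (E.inv_mem he) he'
    -- `B = A ⊔ E` is in the class
    have hB : InB A (A ⊔ E) := by
      refine ⟨inferInstance, le_sup_left, ?_, ?_⟩
      · intro b hb b' hb'
        obtain ⟨a, ha, e, he, rfl⟩ := mem_sup_normal hb
        obtain ⟨a', ha', e', he', rfl⟩ := mem_sup_normal hb'
        -- `a` commutes with `a' * e'`
        have hc1 : a * (a' * e') = (a' * e') * a := by
          rw [← mul_assoc, hAab a ha a' ha', mul_assoc, ← hEA e' he' a ha, mul_assoc]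
        rw [kap_mul_left hc1]
        have hc2 : a' * e = e * a' := (hEA e he a' ha').symm
        rw [kap_mul_right hc2]
        exact hA.conj_mem _ (hkapE e he e' he') a'
      · intro b hb a ha
        obtain ⟨a', ha', e, he, rfl⟩ := mem_sup_normal hb
        rw [mul_assoc, hEA e he a ha, ← mul_assoc, hAab a' ha' a ha, mul_assoc]
    -- hence `E` centralises `A ⊔ E`
    have hEE : ∀ e ∈ E, ∀ e' ∈ E, e * e' = e' * e := fun e he e' he' =>
      hEC he (A ⊔ E) hB e' (Subgroup.mem_sup_right he')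
    -- `A ⊔ E` is abelian
    have habel : ∀ x ∈ A ⊔ E, ∀ y ∈ A ⊔ E, x * y = y * x := by
      intro x hx y hy
      obtain ⟨a, ha, e, he, rfl⟩ := mem_sup_normal hx
      obtain ⟨a', ha', e', he', rfl⟩ := mem_sup_normal hy
      have c1 := hAab a ha a' ha'
      have c2 := hEA e he a' ha'
      have c3 := hEA e' he' a ha
      have c4 := hEE e he e' he'
      calc a * e * (a' * e') = a * (e * a') * e' := by group
        _ = a * (a' * e) * e' := by rw [c2]
        _ = (a * a') * (e * e') := by group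
        _ = (a' * a) * (e' * e) := by rw [c1, c4]
        _ = a' * (a * e') * e := by group
        _ = a' * (e' * a) * e := by rw [c3]
        _ = a' * e' * (a * e) := by group
    exact le_trans le_sup_right (hmax (A ⊔ E) inferInstance habel le_sup_left)

/-- a maximal abelian normal subgroup exists. -/
theorem exists_max_abelian_normal :
    ∃ A : Subgroup Γ, A.Normal ∧ (∀ a ∈ A, ∀ b ∈ A, a * b = b * a) ∧
      ∀ A' : Subgroup Γ, A'.Normal → (∀ a ∈ A', ∀ b ∈ A', a * b = b * a) → A ≤ A' → A' ≤ A := by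
  classical
  let P : ℕ → Prop := fun k => ∃ A : Subgroup Γ, A.Normal ∧ (∀ a ∈ A, ∀ b ∈ A, a * b = b * a) ∧ Nat.card A = k
  have hP : ∃ k, P k := ⟨Nat.card (⊥ : Subgroup Γ), ⊥, inferInstance, by
    intro a ha b hb
    rw [Subgroup.mem_bot] at ha hb
    rw [ha, hb], rfl⟩
  have hbound : ∀ k, P k → k ≤ Nat.card Γ := by
    rintro k ⟨A, _, _, rfl⟩
    exact Subgroup.card_le_card_group A
  obtain ⟨A, hAn, hAab, hAk⟩ := Nat.findGreatest_spec (P := P) (hbound _ hP.choose_spec) hP.choose_spec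
  refine ⟨A, hAn, hAab, fun A' hA'n hA'ab hle => ?_⟩
  have h1 : Nat.card A' ≤ Nat.findGreatest P (Nat.card Γ) :=
    Nat.le_findGreatest (Subgroup.card_le_card_group A') ⟨A', hA'n, hA'ab, rfl⟩
  rw [← hAk] at h1
  have h2 : A = A' := Subgroup.eq_of_le_of_card_ge hle h1
  rw [h2]

/-- **The abstract theorem.** -/
theorem abstract_main (d : Γ → ℕ) (n : ℕ)
    (hcomm : ∀ g x : Γ, 2 * d g ≤ n + d (kap g x))
    (hab : ∀ A : Subgroup Γ, A.Normal → (∀ a ∈ A, ∀ b ∈ A, a * b = b * a) → ∀ z ∈ A, z ≠ 1 → d z = 0)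
    (g : Γ) (hg : 3 * n < 4 * d g) : g = 1 := by
  obtain ⟨A, hAn, hAab, hmax⟩ := exists_max_abelian_normal (Γ := Γ)
  haveI := hAn
  have h1 : g ∈ CC A := fun B hB b hb => step_one d n hcomm hab hAab hB hg hb
  have h2 : g ∈ A := le_of_le_CC hAab hmax (Nat.card (CC A)) (CC A) inferInstance le_rfl le_rfl h1
  by_contra hne
  have := hab A hAn hAab g h2 hne
  omega

end main2

end Cfsg.Agent.Helper7.PrimSol
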