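import Mathlib
import Cfsg.Agent.Helper7.ExSpC

set_option autoImplicit false
set_option linter.unusedSectionVars false
set_option linter.unusedVariables false

/-!
# Common fixed spaces of sets of matrices, and an independence criterion
-/

namespace Cfsg.Agent.Helper7.PrimSol

open Module Matrix Cfsg.Agent.Helper7.ExSp

variable {F : Type*} [Field F] {n : ℕ}

/-- the common fixed space of a set of invertible matrices. -/
def fixS (S : Set (GL (Fin n) F)) : Submodule F (Fin n → F) where
  carrier := {v | ∀ s ∈ S, act s v = v}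
  add_mem' := by
    intro v w hv hw s hs
    rw [map_add, hv s hs, hw s hs]
  zero_mem' := fun s _ => map_zero _
  smul_mem' := by
    intro c v hv s hs
    rw [map_smul, hv s hs]

theorem mem_fixS {S : Set (GL (Fin n) F)} {v : Fin n → F} : v ∈ fixS S ↔ ∀ s ∈ S, act s v = v := Iff.rfl

theorem fixS_singleton (z : GL (Fin n) F) : fixS {z} = Module.End.eigenspace (act z) 1 := by
  ext v
  rw [mem_fixS, Module.End.mem_eigenspace_iff, one_smul]
  constructor
  · intro h; exact h z rfl
  · rintro h s rfl; exact h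

theorem fixS_union (S S' : Set (GL (Fin n) F)) : fixS (S ∪ S') = fixS S ⊓ fixS S' := by
  ext v
  rw [Submodule.mem_inf, mem_fixS, mem_fixS, mem_fixS]
  constructor
  · intro h
    exact ⟨fun s hs => h s (Or.inl hs), fun s hs => h s (Or.inr hs)⟩
  · rintro ⟨h1, h2⟩ s (hs | hs)
    · exact h1 s hs
    · exact h2 s hs

theorem fixS_le_of_mem {S : Set (GL (Fin n) F)} {s : GL (Fin n) F} (hs : s ∈ S) :
    fixS S ≤ Module.End.eigenspace (act s) 1 := by
  intro v hv
  rw [Module.End.mem_eigenspace_iff, one_smul]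
  exact hv s hs

theorem map_fixS (g : GL (Fin n) F) (S : Set (GL (Fin n) F)) :
    (fixS S).map (act g) = fixS ((fun s => g * s * g⁻¹) '' S) := by
  ext v
  rw [Submodule.mem_map, mem_fixS]
  constructor
  · rintro ⟨w, hw, rfl⟩ s' ⟨s, hs, rfl⟩
    rw [act_mul_apply, act_mul_apply, act_inv_apply, hw s hs]
  · intro h
    refine ⟨act g⁻¹ v, fun s hs => ?_, act_apply_inv g v⟩
    have h1 := h (g * s * g⁻¹) ⟨s, hs, rfl⟩
    rw [act_mul_apply, act_mul_apply] at h1
    have h2 : act g⁻¹ (act g (act s (act g⁻¹ v))) = act g⁻¹ v := by rw [h1]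
    rwa [act_inv_apply] at h2

theorem eq_one_of_fixS_eq_top {S : Set (GL (Fin n) F)} (h : fixS S = ⊤) {s : GL (Fin n) F} (hs : s ∈ S) : s = 1 := by
  apply act_inj
  rw [act_one]
  apply LinearMap.ext
  intro v
  have hv : v ∈ fixS S := by rw [h]; exact Submodule.mem_top
  exact hv s hs

/-- fixed spaces of subsets of a commutative set are invariant under the set. -/
theorem act_mem_fixS {S : Set (GL (Fin n) F)} {a : GL (Fin n) F} (hc : ∀ s ∈ S, a * s = s * a)
    {v : Fin n → F} (hv : v ∈ fixS S) : act a v ∈ fixS S := by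
  intro s hs
  rw [← act_mul_apply, ← hc s hs, act_mul_apply, hv s hs]

/-- an independence criterion: each pair `i ≠ j` is separated by an endomorphism killing `D j`, injective on
`D i`, and preserving every member. -/
theorem supIndep_of_separating {ι : Type*} [DecidableEq ι] (D : ι → Submodule F (Fin n → F))
    (hsep : ∀ i j, i ≠ j → ∃ T : Module.End F (Fin n → F), D j ≤ LinearMap.ker T ∧
      LinearMap.ker T ⊓ D i = ⊥ ∧ ∀ k, (D k).map T ≤ D k) :
    ∀ (t : Finset ι) (i : ι), i ∉ t → Disjoint (D i) (t.sup D) := by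
  intro t
  induction t using Finset.induction_on with
  | empty =>
    intro i _
    rw [Finset.sup_empty]
    exact disjoint_bot_right
  | insert j t' hj ih =>
    intro i hi
    rw [Finset.mem_insert, not_or] at hi
    obtain ⟨T, hT1, hT2, hT3⟩ := hsep i j hi.1
    rw [Finset.sup_insert, Submodule.disjoint_def]
    intro v hvi hv
    have h1 : T v ∈ D i := hT3 i (Submodule.mem_map_of_mem hvi)
    have h2 : T v ∈ t'.sup D := by
      have h3 : T v ∈ (D j ⊔ t'.sup D).map T := Submodule.mem_map_of_mem hv
      rw [Submodule.map_sup] at h3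
      have h4 : (D j).map T = ⊥ := by
        rw [eq_bot_iff]
        rintro _ ⟨w, hw, rfl⟩
        rw [Submodule.mem_bot]
        exact LinearMap.mem_ker.mp (hT1 hw)
      have h5 : (t'.sup D).map T ≤ t'.sup D := by
        rw [Submodule.map_le_iff_le_comap]
        apply Finset.sup_le
        intro k hk
        rw [← Submodule.map_le_iff_le_comap]
        exact le_trans (hT3 k) (Finset.le_sup (f := D) hk)
      rw [h4, bot_sup_eq] at h3
      exact h5 h3
    have h6 : T v = 0 := by
      have := (Submodule.disjoint_def.mp (ih i hi.2)) (T v) h1 h2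
      exact this
    have h7 : v ∈ LinearMap.ker T ⊓ D i := ⟨LinearMap.mem_ker.mpr h6, hvi⟩
    rw [hT2] at h7
    exact (Submodule.mem_bot F).mp h7

/-- a subspace of minimal dimension with a given property. -/
theorem exists_min_finrank {P : Submodule F (Fin n → F) → Prop} (h : ∃ W, P W) :
    ∃ U, P U ∧ ∀ W, P W → finrank F ↥U ≤ finrank F ↥W := by
  classical
  have hex : ∃ k, ∃ W, P W ∧ finrank F ↥W = k := by
    obtain ⟨W, hW⟩ := h
    exact ⟨_, W, hW, rfl⟩
  obtain ⟨U, hU, hk⟩ := Nat.find_spec hex
  refine ⟨U, hU, fun W hW => ?_⟩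
  rw [hk]
  exact Nat.find_min' hex ⟨W, hW, rfl⟩

end Cfsg.Agent.Helper7.PrimSol
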