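import Mathlib
import Cfsg.Agent.Helper7.PrimSolC

set_option autoImplicit false
set_option linter.unusedSectionVars false
set_option linter.unusedVariables false

/-!
# Abelian normal subgroups of primitive irreducible linear groups act fixed-point-freely
-/

namespace Cfsg.Agent.Helper7.PrimSol

open Module Matrix Cfsg.Agent.Helper7.ExSp

variable {F : Type*} [Field F] {n : ℕ}

theorem ker_act_sub_one (s : GL (Fin n) F) :
    LinearMap.ker (act s - 1) = Module.End.eigenspace (act s) 1 := by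
  ext v
  rw [LinearMap.mem_ker, Module.End.mem_eigenspace_iff, one_smul, LinearMap.sub_apply, Module.End.one_apply,
    sub_eq_zero]

theorem fix_eq_bot_of_abelian_normal [Fintype F] {G A : Subgroup (GL (Fin n) F)}
    (hirr : Cfsg.Geo.ActsIrreducibly (Cfsg.Geo.matrixSet G))
    (hprim : ∀ (m t : ℕ) (D : Fin t → Submodule F (Fin n → F)), 2 ≤ t → Cfsg.Geo.IsMDecomposition m D →
      ¬ G ≤ Cfsg.Geo.decompositionStabilizer D)
    (hnorm : ∀ g ∈ G, ∀ a ∈ A, g * a * g⁻¹ ∈ A)
    (hab : ∀ a ∈ A, ∀ b ∈ A, a * b = b * a)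
    {z : GL (Fin n) F} (hz : z ∈ A) (hz1 : z ≠ 1) :
    Module.End.eigenspace (act z) 1 = ⊥ := by
  classical
  by_contra hne
  let Fam : Submodule F (Fin n → F) → Prop := fun W =>
    W ≠ ⊥ ∧ ∃ S : Set (GL (Fin n) F), S ⊆ (A : Set (GL (Fin n) F)) ∧ (∃ s ∈ S, s ≠ 1) ∧ W = fixS S
  have hFz : Fam (Module.End.eigenspace (act z) 1) :=
    ⟨hne, {z}, Set.singleton_subset_iff.mpr hz, ⟨z, rfl, hz1⟩, (fixS_singleton z).symm⟩
  obtain ⟨U, hU, hmin⟩ := exists_min_finrank (P := Fam) ⟨_, hFz⟩
  have hUfam := hU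
  obtain ⟨hU0, S₀, hS₀A, ⟨s₀, hs₀, hs₀1⟩, hUS⟩ := hU
  have hFam_map : ∀ g ∈ G, ∀ W, Fam W → Fam (W.map (act g)) := by
    rintro g hg W ⟨hW0, S, hSA, ⟨s, hs, hs1⟩, rfl⟩
    refine ⟨?_, (fun s => g * s * g⁻¹) '' S, ?_, ⟨g * s * g⁻¹, ⟨s, hs, rfl⟩, ?_⟩, map_fixS g S⟩
    · intro h
      apply hW0
      have h1 := finrank_map_act g (fixS S)
      rw [h, finrank_bot] at h1
      exact Submodule.finrank_eq_zero.mp h1.symm
    · rintro _ ⟨s', hs', rfl⟩
      exact hnorm g hg s' (hSA hs')
    · intro h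
      apply hs1
      have h2 : s = g⁻¹ * (g * s * g⁻¹) * g := by group
      rw [h2, h]
      group
  set m := finrank F ↥U with hm
  let O : Set (Submodule F (Fin n → F)) := {W | ∃ g ∈ G, W = U.map (act g)}
  haveI : Finite (Submodule F (Fin n → F)) := inferInstance
  haveI : Finite ↥O := inferInstance
  let t := Nat.card ↥O
  let e : ↥O ≃ Fin t := Finite.equivFin ↥O
  let D : Fin t → Submodule F (Fin n → F) := fun i => (e.symm i).1
  have hDmem : ∀ i, ∃ g ∈ G, D i = U.map (act g) := fun i => (e.symm i).2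
  have hDinj : Function.Injective D := fun i j h => e.symm.injective (Subtype.ext h)
  have hDe : ∀ (W : Submodule F (Fin n → F)) (hW : W ∈ O), D (e ⟨W, hW⟩) = W := by
    intro W hW
    change (e.symm (e ⟨W, hW⟩)).1 = W
    rw [Equiv.symm_apply_apply]
  have hDfam : ∀ i, Fam (D i) := by
    intro i
    obtain ⟨g, hg, h⟩ := hDmem i
    rw [h]
    exact hFam_map g hg U hUfam
  have hDrank : ∀ i, finrank F ↥(D i) = m := by
    intro i
    obtain ⟨g, hg, h⟩ := hDmem i
    rw [h]
    exact finrank_map_act g U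
  have hmem_of : ∀ g ∈ G, ∀ i, ∃ j, (D i).map (act g) = D j := by
    intro g hg i
    obtain ⟨g', hg', h⟩ := hDmem i
    have hO : (D i).map (act g) ∈ O := by
      refine ⟨g * g', G.mul_mem hg hg', ?_⟩
      rw [h, act_mul, Module.End.mul_eq_comp, Submodule.map_comp]
    exact ⟨e ⟨_, hO⟩, (hDe _ hO).symm⟩
  have hsep : ∀ i j, i ≠ j → ∃ T : Module.End F (Fin n → F), D j ≤ LinearMap.ker T ∧
      LinearMap.ker T ⊓ D i = ⊥ ∧ ∀ k, (D k).map T ≤ D k := by
    intro i j hij
    obtain ⟨hj0, Sj, hSjA, _, hDj⟩ := hDfam j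
    obtain ⟨hi0, Si, hSiA, ⟨si, hsi, hsi1⟩, hDi⟩ := hDfam i
    have hex : ∃ s ∈ Sj, ¬ D i ≤ Module.End.eigenspace (act s) 1 := by
      by_contra hcon
      push Not at hcon
      have hle : D i ≤ D j := by
        rw [hDj]
        intro v hv s hs
        have h1 := hcon s hs hv
        rwa [Module.End.mem_eigenspace_iff, one_smul] at h1
      have heq : D i = D j := Submodule.eq_of_le_of_finrank_eq hle (by rw [hDrank, hDrank])
      exact hij (hDinj heq)
    obtain ⟨s, hs, hsn⟩ := hex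
    have hsA : s ∈ A := hSjA hs
    refine ⟨act s - 1, ?_, ?_, ?_⟩
    · rw [ker_act_sub_one, hDj]
      exact fixS_le_of_mem hs
    · by_contra hne'
      have hW' : LinearMap.ker (act s - 1) ⊓ D i = fixS (Si ∪ {s}) := by
        rw [fixS_union, fixS_singleton, ← hDi, inf_comm, ker_act_sub_one]
      have hfam : Fam (LinearMap.ker (act s - 1) ⊓ D i) :=
        ⟨hne', Si ∪ {s}, Set.union_subset hSiA (Set.singleton_subset_iff.mpr hsA), ⟨si, Or.inl hsi, hsi1⟩, hW'⟩
      have h1 := hmin _ hfam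
      have h2 : LinearMap.ker (act s - 1) ⊓ D i = D i :=
        Submodule.eq_of_le_of_finrank_le inf_le_right (by rw [hDrank]; exact h1)
      apply hsn
      rw [← h2, ker_act_sub_one]
      exact inf_le_left
    · intro k
      rintro _ ⟨v, hv, rfl⟩
      obtain ⟨_, Sk, hSkA, _, hDk⟩ := hDfam k
      rw [LinearMap.sub_apply, Module.End.one_apply]
      refine (D k).sub_mem ?_ hv
      rw [hDk] at hv ⊢
      exact act_mem_fixS (fun s' hs' => hab s hsA s' (hSkA hs')) hv
  have hind : iSupIndep D := by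
    rw [iSupIndep_iff_supIndep_univ]
    intro t' _ i _ hi
    exact supIndep_of_separating D hsep t' i hi
  have hU_mem : ∃ i, D i = U := by
    have hO : U ∈ O := ⟨1, G.one_mem, by rw [act_one]; exact (Submodule.map_id U).symm⟩
    exact ⟨e ⟨U, hO⟩, hDe U hO⟩
  have hsup : iSup D = ⊤ := by
    have hinv : ∀ s ∈ Cfsg.Geo.matrixSet G, (iSup D).map (Matrix.toLin' s) ≤ iSup D := by
      rintro _ ⟨g, hg, rfl⟩
      rw [Submodule.map_iSup]
      apply iSup_le
      intro i
      obtain ⟨j, hj⟩ := hmem_of g hg i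
      change (D i).map (act g) ≤ _
      rw [hj]
      exact le_iSup D j
    rcases hirr _ hinv with h | h
    · exfalso
      obtain ⟨i, hi⟩ := hU_mem
      apply hU0
      rw [← hi, eq_bot_iff, ← h]
      exact le_iSup D i
    · exact h
  have ht : 2 ≤ t := by
    by_contra hlt
    push Not at hlt
    obtain ⟨i₀, hi₀⟩ := hU_mem
    have hall : ∀ i : Fin t, i = i₀ := fun i => by
      apply Fin.ext
      have h1 := i.isLt
      have h2 := i₀.isLt
      omega
    have h3 : iSup D ≤ D i₀ := iSup_le (fun i => by rw [hall i])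
    rw [hsup, hi₀, top_le_iff, hUS] at h3
    exact hs₀1 (eq_one_of_fixS_eq_top h3 hs₀)
  have hmpos : 0 < m := Nat.pos_of_ne_zero (fun h => hU0 (Submodule.finrank_eq_zero.mp h))
  have hstab : G ≤ Cfsg.Geo.decompositionStabilizer D := by
    intro g hg
    choose f hf using hmem_of g hg
    have hfinj : Function.Injective f := by
      intro i j hij
      have h1 : (D i).map (act g) = (D j).map (act g) := by rw [hf, hf, hij]
      exact hDinj (Submodule.map_injective_of_injective (act_injective g) h1)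
    exact ⟨Equiv.ofBijective f (Finite.injective_iff_bijective.mp hfinj), fun i => hf i⟩
  exact hprim m t D ht ⟨ht, hmpos, hDrank, hind, hsup⟩ hstab

end Cfsg.Agent.Helper7.PrimSol
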