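import Mathlib

set_option autoImplicit false

/-!
The projective line: `PGL_2` is sharply 3-transitive.
-/

namespace Cfsg.Agent.Helper7.PL

open scoped LinearAlgebra.Projectivization MatrixGroups
open Matrix

variable {F : Type*} [Field F]

/-- Two non-zero vectors of `F²` span the same line iff their cross product vanishes. -/
theorem mk_eq_mk_iff_cross {x y : Fin 2 → F} (hx : x ≠ 0) (hy : y ≠ 0) :
    Projectivization.mk F x hx = Projectivization.mk F y hy ↔ x 0 * y 1 - x 1 * y 0 = 0 := by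
  rw [Projectivization.mk_eq_mk_iff']
  constructor
  · rintro ⟨a, rfl⟩
    simp only [Pi.smul_apply, smul_eq_mul]
    ring
  · intro h
    have hy' : y 0 ≠ 0 ∨ y 1 ≠ 0 := by
      by_contra hcon
      push Not at hcon
      apply hy
      ext i
      fin_cases i
      · exact hcon.1
      · exact hcon.2
    rcases hy' with h0 | h1
    · refine ⟨x 0 / y 0, ?_⟩
      ext i
      fin_cases i
      · simp only [Fin.zero_eta, Pi.smul_apply, smul_eq_mul]
        field_simp
      · simp only [Fin.mk_one, Pi.smul_apply, smul_eq_mul]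
        field_simp
        linear_combination h
    · refine ⟨x 1 / y 1, ?_⟩
      ext i
      fin_cases i
      · simp only [Fin.zero_eta, Pi.smul_apply, smul_eq_mul]
        field_simp
        linear_combination -h
      · simp only [Fin.mk_one, Pi.smul_apply, smul_eq_mul]
        field_simp

theorem gl_smul_apply (g : GL (Fin 2) F) (v : Fin 2 → F) (i : Fin 2) :
    (g • v) i = (g : Matrix (Fin 2) (Fin 2) F) i 0 * v 0 + (g : Matrix (Fin 2) (Fin 2) F) i 1 * v 1 := by
  change ((g : Matrix (Fin 2) (Fin 2) F) *ᵥ v) i = _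
  rw [Matrix.mulVec, dotProduct, Fin.sum_univ_two]

/-- The element of `GL_2` with given columns. -/
noncomputable def ofCols (u v : Fin 2 → F) (h : u 0 * v 1 - u 1 * v 0 ≠ 0) : GL (Fin 2) F :=
  Matrix.GeneralLinearGroup.mkOfDetNeZero !![u 0, v 0; u 1, v 1] (by
    rw [Matrix.det_fin_two_of]
    intro h'
    apply h
    linear_combination h')

theorem ofCols_00 (u v : Fin 2 → F) (h) : (ofCols u v h : Matrix (Fin 2) (Fin 2) F) 0 0 = u 0 := rfl
theorem ofCols_01 (u v : Fin 2 → F) (h) : (ofCols u v h : Matrix (Fin 2) (Fin 2) F) 0 1 = v 0 := rfl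
theorem ofCols_10 (u v : Fin 2 → F) (h) : (ofCols u v h : Matrix (Fin 2) (Fin 2) F) 1 0 = u 1 := rfl
theorem ofCols_11 (u v : Fin 2 → F) (h) : (ofCols u v h : Matrix (Fin 2) (Fin 2) F) 1 1 = v 1 := rfl

theorem ofCols_smul (u v : Fin 2 → F) (h) (x : Fin 2 → F) :
    ofCols u v h • x = x 0 • u + x 1 • v := by
  ext i
  rw [gl_smul_apply]
  fin_cases i
  · simp only [Fin.zero_eta, ofCols_00, ofCols_01, Pi.add_apply, Pi.smul_apply, smul_eq_mul]
    ring
  · simp only [Fin.mk_one, ofCols_10, ofCols_11, Pi.add_apply, Pi.smul_apply, smul_eq_mul]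
    ring

/-- The standard vectors. -/
def e0 : Fin 2 → F := ![1, 0]
def e1 : Fin 2 → F := ![0, 1]
def e2 : Fin 2 → F := ![1, 1]

theorem e0_ne : (e0 : Fin 2 → F) ≠ 0 := fun h => one_ne_zero (congrFun h 0)
theorem e1_ne : (e1 : Fin 2 → F) ≠ 0 := fun h => one_ne_zero (congrFun h 1)
theorem e2_ne : (e2 : Fin 2 → F) ≠ 0 := fun h => one_ne_zero (congrFun h 0)

/-- Three distinct points are the image of the standard triple under an element of `PGL_2`. -/
theorem exists_pgl_triple (a b c : ℙ F (Fin 2 → F)) (hab : a ≠ b) (hac : a ≠ c) (hbc : b ≠ c) :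
    ∃ g : PGL(Fin 2, F), g • Projectivization.mk F e0 e0_ne = a ∧
      g • Projectivization.mk F e1 e1_ne = b ∧ g • Projectivization.mk F e2 e2_ne = c := by
  induction a using Projectivization.ind with
  | h u hu =>
  induction b using Projectivization.ind with
  | h v hv =>
  induction c using Projectivization.ind with
  | h w hw =>
  have hD : u 0 * v 1 - u 1 * v 0 ≠ 0 := fun h => hab ((mk_eq_mk_iff_cross hu hv).mpr h)
  have hβ : u 0 * w 1 - u 1 * w 0 ≠ 0 := fun h => hac ((mk_eq_mk_iff_cross hu hw).mpr h)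
  have hα : v 0 * w 1 - v 1 * w 0 ≠ 0 := fun h => hbc ((mk_eq_mk_iff_cross hv hw).mpr h)
  obtain ⟨α, hαd⟩ : ∃ α : F, α = -(v 0 * w 1 - v 1 * w 0) := ⟨_, rfl⟩
  obtain ⟨β, hβd⟩ : ∃ β : F, β = u 0 * w 1 - u 1 * w 0 := ⟨_, rfl⟩
  obtain ⟨D, hDd⟩ : ∃ D : F, D = u 0 * v 1 - u 1 * v 0 := ⟨_, rfl⟩
  have hα0 : α ≠ 0 := by rw [hαd]; exact neg_ne_zero.mpr hα
  have hβ0 : β ≠ 0 := by rw [hβd]; exact hβ
  have hD0 : D ≠ 0 := by rw [hDd]; exact hD
  have hdet : (α • u) 0 * (β • v) 1 - (α • u) 1 * (β • v) 0 ≠ 0 := by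
    simp only [Pi.smul_apply, smul_eq_mul]
    have : α * u 0 * (β * v 1) - α * u 1 * (β * v 0) = α * β * D := by rw [hDd]; ring
    rw [this]
    exact mul_ne_zero (mul_ne_zero hα0 hβ0) hD0
  refine ⟨Matrix.ProjGenLinGroup.mk (ofCols (α • u) (β • v) hdet), ?_, ?_, ?_⟩
  · rw [Projectivization.PGL.mk_smul_mk, Projectivization.mk_eq_mk_iff']
    refine ⟨α, ?_⟩
    rw [ofCols_smul]
    simp [e0]
  · rw [Projectivization.PGL.mk_smul_mk, Projectivization.mk_eq_mk_iff']
    refine ⟨β, ?_⟩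
    rw [ofCols_smul]
    simp [e1]
  · rw [Projectivization.PGL.mk_smul_mk, Projectivization.mk_eq_mk_iff']
    refine ⟨D, ?_⟩
    rw [ofCols_smul]
    ext i
    fin_cases i
    · simp only [e2, Fin.zero_eta, Pi.smul_apply, Pi.add_apply, smul_eq_mul, Matrix.cons_val_zero,
        Matrix.cons_val_one, one_mul]
      rw [hαd, hβd, hDd]; ring
    · simp only [e2, Fin.mk_one, Pi.smul_apply, Pi.add_apply, smul_eq_mul, Matrix.cons_val_zero,
        Matrix.cons_val_one, one_mul]
      rw [hαd, hβd, hDd]; ring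

/-- An element of `PGL_2` fixing the standard triple is trivial. -/
theorem eq_one_of_fix_std (g : GL (Fin 2) F)
    (h0 : (Matrix.ProjGenLinGroup.mk g : PGL(Fin 2, F)) •
      Projectivization.mk F (e0 : Fin 2 → F) (e0_ne (F := F)) =
      Projectivization.mk F (e0 : Fin 2 → F) (e0_ne (F := F)))
    (h1 : (Matrix.ProjGenLinGroup.mk g : PGL(Fin 2, F)) •
      Projectivization.mk F (e1 : Fin 2 → F) (e1_ne (F := F)) =
      Projectivization.mk F (e1 : Fin 2 → F) (e1_ne (F := F)))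
    (h2 : (Matrix.ProjGenLinGroup.mk g : PGL(Fin 2, F)) •
      Projectivization.mk F (e2 : Fin 2 → F) (e2_ne (F := F)) =
      Projectivization.mk F (e2 : Fin 2 → F) (e2_ne (F := F))) :
    (Matrix.ProjGenLinGroup.mk g : PGL(Fin 2, F)) = 1 := by
  rw [Projectivization.PGL.mk_smul_mk, mk_eq_mk_iff_cross, gl_smul_apply, gl_smul_apply] at h0 h1 h2
  simp only [e0, e1, e2, Matrix.cons_val_zero, Matrix.cons_val_one, mul_one, mul_zero, add_zero,
    zero_add, sub_zero, zero_sub, neg_eq_zero] at h0 h1 h2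
  rw [Matrix.ProjGenLinGroup.mk_eq_one, Matrix.GeneralLinearGroup.mem_center_iff_val_mem_range_scalar]
  refine ⟨(g : Matrix (Fin 2) (Fin 2) F) 0 0, ?_⟩
  ext i j
  fin_cases i <;> fin_cases j
  · simp
  · simp [h1]
  · simp [h0]
  · simp only [Fin.mk_one, Matrix.scalar_apply, Matrix.diagonal_apply_eq]
    rw [h0, h1, zero_add, add_zero] at h2
    exact sub_eq_zero.mp h2

/-- `PGL_2` is sharply 3-transitive: an element fixing three distinct points is trivial. -/
theorem eq_one_of_fix_three (g : PGL(Fin 2, F)) (a b c : ℙ F (Fin 2 → F))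
    (hab : a ≠ b) (hac : a ≠ c) (hbc : b ≠ c) (ha : g • a = a) (hb : g • b = b) (hc : g • c = c) :
    g = 1 := by
  obtain ⟨h, rfl, rfl, rfl⟩ := exists_pgl_triple a b c hab hac hbc
  have key : h⁻¹ * g * h = 1 := by
    obtain ⟨k, hk⟩ := Matrix.ProjGenLinGroup.mk_surjective (h⁻¹ * g * h)
    rw [← hk]
    apply eq_one_of_fix_std
    · rw [hk, mul_smul, mul_smul, ha, inv_smul_smul]
    · rw [hk, mul_smul, mul_smul, hb, inv_smul_smul]
    · rw [hk, mul_smul, mul_smul, hc, inv_smul_smul]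
  calc g = h * (h⁻¹ * g * h) * h⁻¹ := by group
    _ = 1 := by rw [key]; group

/-- `PGL_2` is 3-transitive on the projective line. -/
theorem isMultiplyPretransitive_three :
    MulAction.IsMultiplyPretransitive PGL(Fin 2, F) (ℙ F (Fin 2 → F)) 3 := by
  rw [MulAction.isMultiplyPretransitive_iff]
  intro x y
  have hx : ∀ i j : Fin 3, i ≠ j → x i ≠ x j := fun i j hij h => hij (x.injective h)
  have hy : ∀ i j : Fin 3, i ≠ j → y i ≠ y j := fun i j hij h => hij (y.injective h)
  obtain ⟨gx, hx0, hx1, hx2⟩ := exists_pgl_triple (x 0) (x 1) (x 2) (hx 0 1 (by decide))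
    (hx 0 2 (by decide)) (hx 1 2 (by decide))
  obtain ⟨gy, hy0, hy1, hy2⟩ := exists_pgl_triple (y 0) (y 1) (y 2) (hy 0 1 (by decide))
    (hy 0 2 (by decide)) (hy 1 2 (by decide))
  refine ⟨gy * gx⁻¹, ?_⟩
  ext i
  rw [Function.Embedding.smul_apply, mul_smul]
  fin_cases i
  · change gy • gx⁻¹ • x 0 = y 0
    rw [← hx0, inv_smul_smul, hy0]
  · change gy • gx⁻¹ • x 1 = y 1
    rw [← hx1, inv_smul_smul, hy1]
  · change gy • gx⁻¹ • x 2 = y 2
    rw [← hx2, inv_smul_smul, hy2]

end Cfsg.Agent.Helper7.PL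


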