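import Mathlib
import Cfsg.Prelude.Def_ClassicalGeometry

set_option autoImplicit false
set_option linter.unusedSectionVars false

/-!
The embedding of the symmetric group on `2k + 2` letters into the symplectic group `Sp_{2k}` over a
field of characteristic two, via an explicit symplectic basis of the even-weight vectors modulo the
all-ones vector.
-/

namespace Cfsg.Agent.Helper7.SymSp

open Matrix Cfsg

variable {F : Type*} [Field F] (k : ℕ)

/-- The support of the basis vector `a_t = e_{2t} + e_{2t+1}`. -/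
def suppA (t : Fin k) : Finset (Fin (2 * k + 2)) :=
  {⟨2 * t.val, by omega⟩, ⟨2 * t.val + 1, by omega⟩}

/-- The support of the basis vector `b_t = e_0 + ⋯ + e_{2t} + e_{2k+1}`. -/
def suppB (t : Fin k) : Finset (Fin (2 * k + 2)) :=
  Finset.univ.filter fun i => i.val ≤ 2 * t.val ∨ i.val = 2 * k + 1

/-- The supports of the rows. -/
def rowSupp : Fin k ⊕ Fin k → Finset (Fin (2 * k + 2)) := Sum.elim (suppA k) (suppB k)

theorem mem_suppA {t : Fin k} {i : Fin (2 * k + 2)} :
    i ∈ suppA k t ↔ i.val = 2 * t.val ∨ i.val = 2 * t.val + 1 := by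
  unfold suppA
  simp [Fin.ext_iff]

theorem mem_suppB {t : Fin k} {i : Fin (2 * k + 2)} :
    i ∈ suppB k t ↔ i.val ≤ 2 * t.val ∨ i.val = 2 * k + 1 := by
  unfold suppB
  simp

/-- The matrix whose rows are the symplectic basis vectors. -/
def E (F : Type*) [Field F] (k : ℕ) : Matrix (Fin k ⊕ Fin k) (Fin (2 * k + 2)) F :=
  Matrix.of fun r i => if i ∈ rowSupp k r then 1 else 0

theorem E_apply (r : Fin k ⊕ Fin k) (i : Fin (2 * k + 2)) :
    E F k r i = if i ∈ rowSupp k r then 1 else 0 := rfl

theorem sum_suppA (t : Fin k) (f : Fin (2 * k + 2) → F) :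
    ∑ i, (if i ∈ suppA k t then 1 else 0) * f i =
      f ⟨2 * t.val, by omega⟩ + f ⟨2 * t.val + 1, by omega⟩ := by
  have h : ∀ i, (if i ∈ suppA k t then (1 : F) else 0) * f i = if i ∈ suppA k t then f i else 0 := by
    intro i; split_ifs <;> simp
  simp only [h]
  rw [Finset.sum_ite_mem, Finset.univ_inter]
  unfold suppA
  rw [Finset.sum_pair]
  intro h
  simp [Fin.ext_iff] at h

theorem card_suppB (t : Fin k) : (suppB k t).card = 2 * t.val + 2 := by
  have h : suppB k t = Finset.Iic (⟨2 * t.val, by omega⟩ : Fin (2 * k + 2)) ∪ {Fin.last _} := by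
    ext i
    rw [mem_suppB]
    simp [Fin.ext_iff, Fin.le_def, or_comm]
  rw [h, Finset.card_union_of_disjoint, Fin.card_Iic, Finset.card_singleton]
  rw [Finset.disjoint_singleton_right]
  simp [Fin.le_def]

theorem suppB_inter (s t : Fin k) : suppB k s ∩ suppB k t = suppB k (min s t) := by
  ext i
  rw [Finset.mem_inter, mem_suppB, mem_suppB, mem_suppB]
  rcases le_total s t with h | h
  · rw [min_eq_left h]
    have : s.val ≤ t.val := h
    constructor
    · rintro ⟨h1, h2⟩; omega
    · intro h1; constructor <;> omega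
  · rw [min_eq_right h]
    have : t.val ≤ s.val := h
    constructor
    · rintro ⟨h1, h2⟩; omega
    · intro h1; constructor <;> omega

section char2

variable [CharP F 2]

theorem natCast_even {n : ℕ} (h : Even n) : (n : F) = 0 := by
  obtain ⟨m, rfl⟩ := h
  rw [Nat.cast_add]; exact CharTwo.add_self_eq_zero _

/-- Every row has even weight. -/
theorem E_mulVec_one : E F k *ᵥ (fun _ => (1 : F)) = 0 := by
  funext r
  simp only [Matrix.mulVec, dotProduct, E_apply, mul_one, Pi.zero_apply]
  rw [Finset.sum_boole, Finset.filter_mem_eq_inter, Finset.univ_inter]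
  apply natCast_even
  rcases r with t | t
  · show Even (suppA k t).card
    unfold suppA
    rw [Finset.card_pair]
    · exact even_two
    · intro h; simp [Fin.ext_iff] at h
  · show Even (suppB k t).card
    rw [card_suppB]
    exact ⟨t.val + 1, by ring⟩

theorem E_inl (t : Fin k) (i : Fin (2 * k + 2)) :
    E F k (Sum.inl t) i = if i.val = 2 * t.val ∨ i.val = 2 * t.val + 1 then 1 else 0 := by
  rw [E_apply]
  simp only [rowSupp, Sum.elim_inl, mem_suppA]

theorem E_inr (t : Fin k) (i : Fin (2 * k + 2)) :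
    E F k (Sum.inr t) i = if i.val ≤ 2 * t.val ∨ i.val = 2 * k + 1 then 1 else 0 := by
  rw [E_apply]
  simp only [rowSupp, Sum.elim_inr, mem_suppB]

/-- The Gram matrix of the rows is the standard symplectic matrix. -/
theorem E_mul_transpose : E F k * (E F k)ᵀ = J (Fin k) F := by
  ext r r'
  rw [Matrix.mul_apply]
  simp only [Matrix.transpose_apply]
  rcases r with s | s
  · have h1 : ∀ i, E F k (Sum.inl s) i * E F k r' i =
        (if i ∈ suppA k s then 1 else 0) * E F k r' i := fun i => rfl
    simp only [h1]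
    rw [sum_suppA]
    rcases r' with t | t
    · rw [E_inl, E_inl]
      simp only [J, Matrix.fromBlocks_apply₁₁, Matrix.zero_apply]
      by_cases hst : s = t
      · subst hst
        simp
        exact CharTwo.add_self_eq_zero _
      · have : s.val ≠ t.val := fun h => hst (Fin.ext h)
        rw [if_neg (by omega), if_neg (by omega), add_zero]
    · rw [E_inr, E_inr]
      simp only [J, Matrix.fromBlocks_apply₁₂, Matrix.neg_apply, Matrix.one_apply]
      have hs := s.isLt
      rcases lt_trichotomy s.val t.val with h | h | h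
      · rw [if_pos (by omega), if_pos (by omega), if_neg (fun e => by rw [e] at h; exact lt_irrefl _ h)]
        rw [neg_zero]; exact CharTwo.add_self_eq_zero _
      · have : s = t := Fin.ext h
        subst this
        rw [if_pos (by omega), if_neg (by omega), if_pos rfl, add_zero, CharTwo.neg_eq]
      · rw [if_neg (by omega), if_neg (by omega), if_neg (fun e => by rw [e] at h; exact lt_irrefl _ h)]
        simp
  · rcases r' with t | t
    · have h1 : ∀ i, E F k (Sum.inr s) i * E F k (Sum.inl t) i =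
          (if i ∈ suppA k t then 1 else 0) * E F k (Sum.inr s) i := fun i => mul_comm _ _
      simp only [h1]
      rw [sum_suppA, E_inr, E_inr]
      simp only [J, Matrix.fromBlocks_apply₂₁, Matrix.one_apply]
      have ht := t.isLt
      rcases lt_trichotomy t.val s.val with h | h | h
      · rw [if_pos (by omega), if_pos (by omega), if_neg (fun e => by rw [e] at h; exact lt_irrefl _ h)]
        exact CharTwo.add_self_eq_zero _
      · have : t = s := Fin.ext h
        subst this
        rw [if_pos (by omega), if_neg (by omega), if_pos rfl, add_zero]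
      · rw [if_neg (by omega), if_neg (by omega), if_neg (fun e => by rw [e] at h; exact lt_irrefl _ h)]
        simp
    · have h1 : ∀ i, E F k (Sum.inr s) i * E F k (Sum.inr t) i =
          if i ∈ suppB k s ∩ suppB k t then 1 else 0 := by
        intro i
        rw [E_apply, E_apply]
        simp only [rowSupp, Sum.elim_inr, Finset.mem_inter]
        by_cases h1 : i ∈ suppB k s <;> by_cases h2 : i ∈ suppB k t <;> simp [h1, h2]
      simp only [h1]
      rw [Finset.sum_boole, Finset.filter_mem_eq_inter, Finset.univ_inter, suppB_inter, card_suppB]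
      simp only [J, Matrix.fromBlocks_apply₂₂, Matrix.zero_apply]
      apply natCast_even
      exact ⟨(min s t).val + 1, by ring⟩

/-- The column `2k` of `E` vanishes. -/
theorem E_col_zero (r : Fin k ⊕ Fin k) : E F k r ⟨2 * k, by omega⟩ = 0 := by
  rcases r with t | t
  · rw [E_inl, if_neg]
    have := t.isLt
    simp only
    omega
  · rw [E_inr, if_neg]
    have := t.isLt
    simp only
    omega

/-- The all-ones vector. -/
def ones (F : Type*) [Field F] (k : ℕ) : Fin (2 * k + 2) → F := fun _ => 1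

/-- Coordinates to vectors. -/
def iota (x : Fin k ⊕ Fin k → F) : Fin (2 * k + 2) → F := (E F k)ᵀ *ᵥ x

/-- Vectors to coordinates. -/
def proj (v : Fin (2 * k + 2) → F) : Fin k ⊕ Fin k → F := J (Fin k) F *ᵥ (E F k *ᵥ v)

theorem ones_dot_iota (x : Fin k ⊕ Fin k → F) : ones F k ⬝ᵥ iota k x = 0 := by
  unfold iota
  rw [Matrix.dotProduct_mulVec, Matrix.vecMul_transpose]
  have := E_mulVec_one (F := F) k
  unfold ones
  rw [this, zero_dotProduct]

theorem proj_ones : proj k (ones F k) = 0 := by
  unfold proj ones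
  rw [E_mulVec_one, Matrix.mulVec_zero]

theorem E_iota (x : Fin k ⊕ Fin k → F) : E F k *ᵥ iota k x = J (Fin k) F *ᵥ x := by
  unfold iota
  rw [Matrix.mulVec_mulVec, E_mul_transpose]

theorem J_J (x : Fin k ⊕ Fin k → F) : J (Fin k) F *ᵥ (J (Fin k) F *ᵥ x) = x := by
  rw [Matrix.mulVec_mulVec, J_squared, Matrix.neg_mulVec, Matrix.one_mulVec]
  funext i
  exact CharTwo.neg_eq (x i)

theorem proj_iota (x : Fin k ⊕ Fin k → F) : proj k (iota k x) = x := by
  unfold proj
  rw [E_iota, J_J]

theorem proj_add (v w : Fin (2 * k + 2) → F) : proj k (v + w) = proj k v + proj k w := by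
  unfold proj
  rw [Matrix.mulVec_add, Matrix.mulVec_add]

theorem proj_smul (c : F) (v : Fin (2 * k + 2) → F) : proj k (c • v) = c • proj k v := by
  unfold proj
  rw [Matrix.mulVec_smul, Matrix.mulVec_smul]

/-- The kernel of `E` is spanned by the all-ones vector and `e_{2k}`. -/
theorem ker_E (w : Fin (2 * k + 2) → F) (h1 : ones F k ⬝ᵥ w = 0) (h2 : E F k *ᵥ w = 0) :
    ∃ c : F, w = c • ones F k := by
  classical
  set f : (Fin (2 * k + 2) → F) →ₗ[F] (Fin k ⊕ Fin k → F) := (E F k).mulVecLin with hf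
  set e2k : Fin (2 * k + 2) → F := Pi.single ⟨2 * k, by omega⟩ 1 with he2k
  have hsurj : LinearMap.range f = ⊤ := by
    rw [LinearMap.range_eq_top]
    intro x
    refine ⟨iota k (J (Fin k) F *ᵥ x), ?_⟩
    rw [hf, Matrix.mulVecLin_apply, E_iota, J_J]
  have hrank := LinearMap.finrank_range_add_finrank_ker f
  rw [hsurj, finrank_top, Module.finrank_fintype_fun_eq_card, Module.finrank_fin_fun,
    Fintype.card_sum, Fintype.card_fin] at hrank
  have hker : Module.finrank F ↥(LinearMap.ker f) = 2 := by omega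
  have hone : ones F k ∈ LinearMap.ker f := by
    rw [LinearMap.mem_ker, hf, Matrix.mulVecLin_apply]
    exact E_mulVec_one k
  have he : e2k ∈ LinearMap.ker f := by
    rw [LinearMap.mem_ker, hf, Matrix.mulVecLin_apply, he2k, Matrix.mulVec_single_one]
    funext r
    exact E_col_zero k r
  have hli : LinearIndependent F ![ones F k, e2k] := by
    rw [LinearIndependent.pair_iff]
    intro s t hst
    have e1 := congrFun hst ⟨2 * k + 1, by omega⟩
    have e2 := congrFun hst ⟨2 * k, by omega⟩
    simp [ones, he2k, Fin.ext_iff] at e1 e2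
    subst e1
    simpa using e2
  have hspan : Submodule.span F {ones F k, e2k} = LinearMap.ker f := by
    apply Submodule.eq_of_le_of_finrank_eq
    · rw [Submodule.span_le]
      rintro x (rfl | rfl)
      · exact hone
      · exact he
    · rw [hker, ← Matrix.range_cons_cons_empty (ones F k) e2k ![], finrank_span_eq_card hli]
      simp
  have hw : w ∈ Submodule.span F {ones F k, e2k} := by
    rw [hspan, LinearMap.mem_ker, hf, Matrix.mulVecLin_apply]
    exact h2
  rw [Submodule.mem_span_pair] at hw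
  obtain ⟨c, d, rfl⟩ := hw
  refine ⟨c, ?_⟩
  have h3 : ones F k ⬝ᵥ ones F k = 0 := by
    unfold ones
    simp only [dotProduct, mul_one, Finset.sum_const, Finset.card_univ, Fintype.card_fin, nsmul_eq_mul]
    apply natCast_even
    exact ⟨k + 1, by ring⟩
  have h4 : ones F k ⬝ᵥ e2k = 1 := by
    rw [he2k, dotProduct_single, mul_one]
    rfl
  rw [dotProduct_add, dotProduct_smul, dotProduct_smul, h3, h4, smul_zero, zero_add, smul_eq_mul,
    mul_one] at h1
  rw [h1, zero_smul, add_zero]

/-- On even-weight vectors `iota ∘ proj` is the identity modulo the all-ones vector. -/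
theorem iota_proj (w : Fin (2 * k + 2) → F) (h : ones F k ⬝ᵥ w = 0) :
    ∃ c : F, iota k (proj k w) = w + c • ones F k := by
  obtain ⟨c, hc⟩ := ker_E k (iota k (proj k w) - w)
    (by rw [dotProduct_sub, ones_dot_iota, h, sub_zero])
    (by
      rw [Matrix.mulVec_sub, E_iota]
      unfold proj
      rw [J_J, sub_self])
  exact ⟨c, by rw [← hc]; abel⟩

/-- The permutation matrix acting by `v ↦ v ∘ σ⁻¹`. -/
def Pm (F : Type*) [Field F] (k : ℕ) (σ : Equiv.Perm (Fin (2 * k + 2))) :
    Matrix (Fin (2 * k + 2)) (Fin (2 * k + 2)) F :=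
  (σ⁻¹ : Equiv.Perm (Fin (2 * k + 2))).toPEquiv.toMatrix

theorem Pm_mulVec (σ : Equiv.Perm (Fin (2 * k + 2))) (v : Fin (2 * k + 2) → F) :
    Pm F k σ *ᵥ v = v ∘ ⇑σ⁻¹ :=
  PEquiv.toMatrix_toPEquiv_mulVec _ _

/-- The matrix of a permutation on the symplectic coordinates. -/
def M (F : Type*) [Field F] (k : ℕ) (σ : Equiv.Perm (Fin (2 * k + 2))) :
    Matrix (Fin k ⊕ Fin k) (Fin k ⊕ Fin k) F :=
  J (Fin k) F * E F k * Pm F k σ * (E F k)ᵀ

theorem M_mulVec (σ : Equiv.Perm (Fin (2 * k + 2))) (x : Fin k ⊕ Fin k → F) :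
    M F k σ *ᵥ x = proj k (iota k x ∘ ⇑σ⁻¹) := by
  unfold M proj iota
  rw [← Matrix.mulVec_mulVec, ← Matrix.mulVec_mulVec, ← Matrix.mulVec_mulVec, Pm_mulVec]

theorem ones_dot_comp (σ : Equiv.Perm (Fin (2 * k + 2))) (v : Fin (2 * k + 2) → F) :
    ones F k ⬝ᵥ (v ∘ ⇑σ⁻¹) = ones F k ⬝ᵥ v := by
  unfold ones
  simp only [dotProduct, one_mul, Function.comp_apply]
  exact Equiv.sum_comp σ⁻¹ v

theorem comp_dot_comp (σ : Equiv.Perm (Fin (2 * k + 2))) (v w : Fin (2 * k + 2) → F) :
    (v ∘ ⇑σ⁻¹) ⬝ᵥ (w ∘ ⇑σ⁻¹) = v ⬝ᵥ w := by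
  simp only [dotProduct, Function.comp_apply]
  exact Equiv.sum_comp σ⁻¹ (fun i => v i * w i)

theorem M_one : M F k 1 = 1 := by
  apply Matrix.mulVec_injective
  funext x
  rw [M_mulVec, Matrix.one_mulVec]
  have : iota k x ∘ ⇑(1 : Equiv.Perm (Fin (2 * k + 2)))⁻¹ = iota k x := by
    funext i; simp
  rw [this, proj_iota]

theorem M_mul (σ τ : Equiv.Perm (Fin (2 * k + 2))) : M F k (σ * τ) = M F k σ * M F k τ := by
  apply Matrix.mulVec_injective
  funext x
  rw [← Matrix.mulVec_mulVec, M_mulVec, M_mulVec, M_mulVec]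
  set w : Fin (2 * k + 2) → F := iota k x ∘ ⇑τ⁻¹ with hw
  have hw0 : ones F k ⬝ᵥ w = 0 := by rw [hw, ones_dot_comp, ones_dot_iota]
  obtain ⟨c, hc⟩ := iota_proj k w hw0
  rw [hc]
  have h1 : (w + c • ones F k) ∘ ⇑σ⁻¹ = w ∘ ⇑σ⁻¹ + c • ones F k := by
    funext i; simp [ones]
  rw [h1, proj_add, proj_smul, proj_ones, smul_zero, add_zero, hw]
  congr 1

theorem sform_proj (v w : Fin (2 * k + 2) → F) (hv : ones F k ⬝ᵥ v = 0) (hw : ones F k ⬝ᵥ w = 0) :
    sympForm k F (proj k v) (proj k w) = v ⬝ᵥ w := by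
  unfold sympForm
  have h1 : J (Fin k) F *ᵥ proj k w = E F k *ᵥ w := by
    unfold proj; rw [J_J]
  rw [h1, Matrix.dotProduct_mulVec, ← Matrix.mulVec_transpose]
  obtain ⟨c, hc⟩ := iota_proj k v hv
  have h2 : (E F k)ᵀ *ᵥ proj k v = iota k (proj k v) := rfl
  rw [h2, hc, add_dotProduct, smul_dotProduct, hw, smul_zero, add_zero]

theorem M_preserves (σ : Equiv.Perm (Fin (2 * k + 2))) (x y : Fin k ⊕ Fin k → F) :
    sympForm k F (M F k σ *ᵥ x) (M F k σ *ᵥ y) = sympForm k F x y := by
  rw [M_mulVec, M_mulVec, sform_proj, comp_dot_comp]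
  · have := sform_proj k (iota k x) (iota k y) (ones_dot_iota k x) (ones_dot_iota k y)
    rw [proj_iota, proj_iota] at this
    exact this.symm
  · rw [ones_dot_comp, ones_dot_iota]
  · rw [ones_dot_comp, ones_dot_iota]

end char2

theorem mem_symp_of_preserves (D : Matrix (Fin k ⊕ Fin k) (Fin k ⊕ Fin k) F)
    (h : ∀ x y, sympForm k F (D *ᵥ x) (D *ᵥ y) = sympForm k F x y) :
    D ∈ Matrix.symplecticGroup (Fin k) F := by
  rw [SymplecticGroup.mem_iff']
  ext i j
  have h1 := h (Pi.single i 1) (Pi.single j 1)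
  unfold sympForm at h1
  rw [mulVec_mulVec, ← vecMul_transpose D (Pi.single i 1), ← dotProduct_mulVec, mulVec_mulVec,
    ← Matrix.mul_assoc] at h1
  simpa [Matrix.mulVec_single_one, single_one_dotProduct] using h1

section char2

variable [CharP F 2]

/-- The homomorphism from the symmetric group to the symplectic group. -/
def symHom (F : Type*) [Field F] [CharP F 2] (k : ℕ) :
    Equiv.Perm (Fin (2 * k + 2)) →* Matrix.symplecticGroup (Fin k) F where
  toFun σ := ⟨M F k σ, mem_symp_of_preserves k _ (M_preserves k σ)⟩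
  map_one' := Subtype.ext (M_one k)
  map_mul' σ τ := Subtype.ext (M_mul k σ τ)

end char2

section inj

variable [CharP F 2]

/-- If `M σ = 1` then `σ` fixes every even-weight vector modulo the all-ones vector. -/
theorem comp_eq_of_M_eq_one {σ : Equiv.Perm (Fin (2 * k + 2))} (h : M F k σ = 1)
    (w : Fin (2 * k + 2) → F) (hw : ones F k ⬝ᵥ w = 0) :
    ∃ c : F, w ∘ ⇑σ⁻¹ = w + c • ones F k := by
  obtain ⟨c₁, hc₁⟩ := iota_proj k w hw
  set x := proj k w with hx
  have h1 : proj k (iota k x ∘ ⇑σ⁻¹) = x := by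
    rw [← M_mulVec, h, Matrix.one_mulVec]
  set d : Fin (2 * k + 2) → F := iota k x ∘ ⇑σ⁻¹ - iota k x with hd
  have hd1 : ones F k ⬝ᵥ d = 0 := by
    rw [hd, dotProduct_sub, ones_dot_comp, sub_self]
  have hd2 : E F k *ᵥ d = 0 := by
    have h2 : proj k d = 0 := by
      have : proj k (iota k x ∘ ⇑σ⁻¹) = proj k (d + iota k x) := by rw [hd, sub_add_cancel]
      rw [proj_add, proj_iota, h1] at this
      exact (add_eq_right.mp this.symm)
    have h3 := congrArg (fun v => J (Fin k) F *ᵥ v) h2
    simp only [Matrix.mulVec_zero] at h3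
    unfold proj at h3
    rwa [J_J] at h3
  obtain ⟨c, hc⟩ := ker_E k d hd1 hd2
  refine ⟨c, ?_⟩
  have hw' : w = iota k x - c₁ • ones F k := by rw [hc₁]; abel
  have h4 : w ∘ ⇑σ⁻¹ = iota k x ∘ ⇑σ⁻¹ - c₁ • ones F k := by
    rw [hw']
    funext i
    simp [ones]
  rw [h4, ← hc, hd]
  conv_rhs => rw [hw']
  abel

theorem exists_not_mem_of_card_lt {n : ℕ} (S : Finset (Fin n)) (h : S.card < n) : ∃ m, m ∉ S := by
  by_contra hcon
  push Not at hcon
  have : S = Finset.univ := Finset.eq_univ_iff_forall.mpr hcon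
  rw [this, Finset.card_univ, Fintype.card_fin] at h
  exact lt_irrefl _ h

theorem symHom_injective (hk : 2 ≤ k) : Function.Injective (symHom F k) := by
  classical
  rw [injective_iff_map_eq_one]
  intro σ hσ
  have hM : M F k σ = 1 := congrArg Subtype.val hσ
  -- key: σ i ∈ {i, l} for all l ≠ i
  have key : ∀ i l : Fin (2 * k + 2), i ≠ l → σ i = i ∨ σ i = l := by
    intro i l hil
    set w : Fin (2 * k + 2) → F := Pi.single i 1 + Pi.single l 1 with hw
    have hw0 : ones F k ⬝ᵥ w = 0 := by
      rw [hw, dotProduct_add, dotProduct_single, dotProduct_single]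
      simp only [ones, mul_one]
      exact CharTwo.add_self_eq_zero _
    obtain ⟨c, hc⟩ := comp_eq_of_M_eq_one k hM w hw0
    obtain ⟨m, hm⟩ := exists_not_mem_of_card_lt ({i, l, σ i, σ l} : Finset (Fin (2 * k + 2))) (by
      have := Finset.card_le_four (a := i) (b := l) (c := σ i) (d := σ l)
      omega)
    simp only [Finset.mem_insert, Finset.mem_singleton, not_or] at hm
    obtain ⟨hm1, hm2, hm3, hm4⟩ := hm
    have w_apply : ∀ j, w j = (if j = i then 1 else 0) + (if j = l then 1 else 0) := by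
      intro j; simp [hw, Pi.single_apply]
    have hc0 : c = 0 := by
      have e := congrFun hc m
      have h1 : σ⁻¹ m ≠ i := fun h => hm3 (by rw [← h]; simp)
      have h2 : σ⁻¹ m ≠ l := fun h => hm4 (by rw [← h]; simp)
      rw [Function.comp_apply, Pi.add_apply, Pi.smul_apply, w_apply, w_apply, if_neg h1, if_neg h2,
        if_neg hm1, if_neg hm2] at e
      simp [ones] at e
      exact e.symm
    rw [hc0, zero_smul, add_zero] at hc
    have e := congrFun hc (σ i)
    have h5 : σ⁻¹ (σ i) = i := by simp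
    by_contra hcon
    push Not at hcon
    rw [Function.comp_apply, h5, w_apply, w_apply, if_pos rfl, if_neg hil, if_neg hcon.1,
      if_neg hcon.2] at e
    simp at e
  apply Equiv.ext
  intro i
  by_contra hne
  have hne' : σ i ≠ i := hne
  obtain ⟨l, hl⟩ := exists_not_mem_of_card_lt ({i, σ i} : Finset (Fin (2 * k + 2))) (by
    have := Finset.card_le_two (a := i) (b := σ i)
    omega)
  simp only [Finset.mem_insert, Finset.mem_singleton, not_or] at hl
  rcases key i l (Ne.symm hl.1) with h | h
  · exact hne' h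
  · exact hl.2 h.symm

end inj

end Cfsg.Agent.Helper7.SymSp
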