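import Mathlib
import Cfsg.Agent.Helper7.QF2B
import Cfsg.Agent.Helper7.O2MinB
import Cfsg.Agent.Helper8.SpSSympIso
import Cfsg.Agent.Helper8.SpStabMain
import Cfsg.Agent.Helper8.O2NonsingPt
import Cfsg.Agent.Helper8.OrTNu
import Cfsg.Agent.Helper8.SymOrth
set_option autoImplicit false

/-! Models: forms with polar form the standard alternating form on `F^(2d)` admitting a
fixed-point-free isometry of odd prime order. -/

namespace Cfsg.Agent.Helper7.QF2

open Module Matrix Cfsg Cfsg.Agent.Helper8.StdForms Cfsg.Agent.Helper8.ReflMatrix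
  Cfsg.Agent.Helper8.OrT Cfsg.Agent.Helper8.QuadForm

universe u

variable {F : Type*} [Field F] {d : ℕ}

local notation "PI" d => Fin d ⊕ Fin d

theorem sympForm_eq_sum [CharP F 2] (u v : (PI d) → F) :
    Cfsg.sympForm d F u v = ∑ x, ∑ y, u x * v y * (Cfsg.Agent.Helper8.SpS.Jent x y : F) := by
  unfold Cfsg.sympForm
  simp only [dotProduct, Matrix.mulVec, Finset.mul_sum]
  apply Finset.sum_congr rfl
  intro x _
  apply Finset.sum_congr rfl
  intro y _
  rw [Cfsg.Agent.Helper8.SpStab.Jent_eq, Matrix.neg_apply, CharTwo.neg_eq]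
  ring

/-- symplectic coordinates for the polar form of a nondegenerate quadratic form in
characteristic two -/
theorem exists_symp_coords [CharP F 2] {W : Type u} [AddCommGroup W] [Module F W]
    [FiniteDimensional F W] (hW : finrank F W = 2 * d) (Q : QuadraticForm F W) (hnd : Nondeg Q) :
    ∃ ψ : ((PI d) → F) ≃ₗ[F] W,
      ∀ u v, QuadraticMap.polar Q (ψ u) (ψ v) = Cfsg.sympForm d F u v := by
  have hAlt : Cfsg.Agent.Helper8.SpS.Alt (QuadraticMap.polarBilin Q) := by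
    intro v
    show QuadraticMap.polar Q v v = 0
    rw [QuadraticMap.polar_self, two_smul]
    exact CharTwo.add_self_eq_zero _
  have hND : Cfsg.Agent.Helper8.SpS.Nondeg (QuadraticMap.polarBilin Q) := fun u hu => hnd u hu
  obtain ⟨k, b, hb⟩ := Cfsg.Agent.Helper8.SpS.exists_symp_basis _ hAlt hND
  have hk : k = d := by
    have h1 := Module.finrank_eq_card_basis b
    rw [Fintype.card_sum, Fintype.card_fin] at h1
    omega
  subst hk
  refine ⟨b.equivFun.symm, fun u v => ?_⟩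
  rw [sympForm_eq_sum, Basis.equivFun_symm_apply, Basis.equivFun_symm_apply]
  show QuadraticMap.polarBilin Q (∑ i, u i • b i) (∑ i, v i • b i) = _
  simp only [map_sum, LinearMap.sum_apply, map_smul, LinearMap.smul_apply, smul_eq_mul, hb,
    Finset.mul_sum]
  rw [Finset.sum_comm]
  apply Finset.sum_congr rfl
  intro x _
  apply Finset.sum_congr rfl
  intro y _
  ring

/-- an endomorphism of finite order as a linear equivalence -/
theorem exists_equiv_of_pow {W : Type*} [AddCommGroup W] [Module F W] (g : Module.End F W)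
    (r : ℕ) (hr : 1 ≤ r) (hg : g ^ r = 1) :
    ∃ e : W ≃ₗ[F] W, (∀ w, e w = g w) ∧ e ^ r = 1 := by
  have h1 : g * g ^ (r - 1) = 1 := by rw [← pow_succ', Nat.sub_add_cancel hr, hg]
  have h2 : g ^ (r - 1) * g = 1 := by rw [← pow_succ, Nat.sub_add_cancel hr, hg]
  let U : (Module.End F W)ˣ := ⟨g, g ^ (r - 1), h1, h2⟩
  have hU : U ^ r = 1 := by
    apply Units.ext
    rw [Units.val_pow_eq_pow_val]
    exact hg
  refine ⟨LinearMap.GeneralLinearGroup.generalLinearEquiv F W U, fun w => rfl, ?_⟩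
  rw [← map_pow, hU, map_one]

/-- transport of a model to symplectic coordinates -/
theorem exists_fpf_model [Fintype F] [CharP F 2] {W : Type u} [AddCommGroup W] [Module F W]
    [FiniteDimensional F W] (hW : finrank F W = 2 * d) (Q : QuadraticForm F W) (hnd : Nondeg Q)
    (s : ℤ) (k : ℕ) (hs : NuS s Q k) (g : Module.End F W) (hg : ∀ w, Q (g w) = Q w) (r : ℕ)
    (hr : 1 ≤ r) (hgr : g ^ r = 1) (hfpf : ∀ w, g w = w → w = 0) :
    ∃ (Q₃ : QuadraticForm F ((PI d) → F)) (x : GL (PI d) F),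
      (∀ u v, QuadraticMap.polar Q₃ u v = Cfsg.sympForm d F u v) ∧ NuS s Q₃ k ∧
      (∀ v, Q₃ ((x : Matrix (PI d) (PI d) F) *ᵥ v) = Q₃ v) ∧ x ^ r = 1 ∧
      (∀ v, (x : Matrix (PI d) (PI d) F) *ᵥ v = v → v = 0) := by
  obtain ⟨ψ, hψ⟩ := exists_symp_coords hW Q hnd
  obtain ⟨e, he, her⟩ := exists_equiv_of_pow g r hr hgr
  have hx : ∀ v, ((glEquiv.symm (leCongr ψ.symm e) : GL (PI d) F) : Matrix (PI d) (PI d) F) *ᵥ v
      = ψ.symm (g (ψ v)) := by
    intro v
    rw [← glEquiv_apply, MulEquiv.apply_symm_apply, ← he]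
    rfl
  refine ⟨Q.comp ψ.toLinearMap, glEquiv.symm (leCongr ψ.symm e), ?_, ?_, ?_, ?_, ?_⟩
  · intro u v
    rw [← hψ]
    show Q (ψ (u + v)) - Q (ψ u) - Q (ψ v) = _
    rw [map_add]
    rfl
  · exact NuS.congr ψ.symm (fun w => by
      show Q (ψ (ψ.symm w)) = Q w
      rw [LinearEquiv.apply_symm_apply]) hs
  · intro v
    rw [hx]
    show Q (ψ (ψ.symm (g (ψ v)))) = Q (ψ v)
    rw [LinearEquiv.apply_symm_apply, hg]
  · rw [← map_pow, ← map_pow, her, map_one, map_one]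
  · intro v hv
    rw [hx] at hv
    have h1 : g (ψ v) = ψ v := by
      have := congrArg ψ hv
      rwa [LinearEquiv.apply_symm_apply] at this
    have h2 := hfpf _ h1
    exact ψ.map_eq_zero_iff.mp h2

/-- the minus-type model -/
theorem exists_minus_model [Fintype F] [CharP F 2] (hd : 2 ≤ d) (r : ℕ) [Fact r.Prime]
    (hr : r ∣ Fintype.card F ^ d + 1) :
    ∃ (Q₃ : QuadraticForm F ((PI d) → F)) (x : GL (PI d) F),
      (∀ u v, QuadraticMap.polar Q₃ u v = Cfsg.sympForm d F u v) ∧ NuS (-1) Q₃ (d - 1) ∧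
      (∀ v, Q₃ ((x : Matrix (PI d) (PI d) F) *ᵥ v) = Q₃ v) ∧ x ^ r = 1 ∧
      (∀ v, (x : Matrix (PI d) (PI d) F) *ᵥ v = v → v = 0) := by
  obtain ⟨Q, g, hnd, hs, hg, hgr, hfpf⟩ := Cfsg.Agent.Helper7.O2Min.exists_model (F := F) 2 d hd r hr
  have hW : finrank F (Fin (2 * d) → F) = 2 * d := by
    rw [Module.finrank_fintype_fun_eq_card, Fintype.card_fin]
  exact exists_fpf_model hW Q hnd (-1) (d - 1) hs g hg r (Fact.out : r.Prime).one_le hgr hfpf

theorem fpf_transpose {n : Type*} [Fintype n] [DecidableEq n] (C : Matrix n n F)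
    (hC : ∀ v, C *ᵥ v = v → v = 0) : ∀ v, Cᵀ *ᵥ v = v → v = 0 := by
  have h1 : Function.Injective (C - 1).mulVec := by
    intro a b hab
    have : (C - 1) *ᵥ (a - b) = 0 := by rw [Matrix.mulVec_sub, hab, sub_self]
    rw [Matrix.sub_mulVec, Matrix.one_mulVec, sub_eq_zero] at this
    exact sub_eq_zero.mp (hC _ this)
  rw [Matrix.mulVec_injective_iff_isUnit] at h1
  have h2 : IsUnit (C - 1)ᵀ := (Matrix.isUnit_transpose (C - 1)).mpr h1
  rw [← Matrix.mulVec_injective_iff_isUnit] at h2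
  intro v hv
  apply h2
  rw [Matrix.mulVec_zero, Matrix.transpose_sub, Matrix.transpose_one, Matrix.sub_mulVec,
    Matrix.one_mulVec, hv, sub_self]

/-- the plus-type model -/
theorem exists_plus_model [Fintype F] [CharP F 2] (n : ℕ) (r : ℕ) [Fact r.Prime]
    (hr : r ∣ Fintype.card F ^ (n + 1) - 1) :
    ∃ (Q₃ : QuadraticForm F ((PI (n + 1)) → F)) (x : GL (PI (n + 1)) F),
      (∀ u v, QuadraticMap.polar Q₃ u v = Cfsg.sympForm (n + 1) F u v) ∧ NuS 1 Q₃ n ∧
      (∀ v, Q₃ ((x : Matrix (PI (n + 1)) (PI (n + 1)) F) *ᵥ v) = Q₃ v) ∧ x ^ r = 1 ∧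
      (∀ v, (x : Matrix (PI (n + 1)) (PI (n + 1)) F) *ᵥ v = v → v = 0) := by
  obtain ⟨A, hAr, hAfix⟩ := Cfsg.Agent.Helper8.O2P.exists_fpf_matrix (F := F) 2 (n + 1) (by omega) r hr
  have hr1 : 1 ≤ r := (Fact.out : r.Prime).one_le
  have hAA' : A * A ^ (r - 1) = 1 := by rw [← pow_succ', Nat.sub_add_cancel hr1, hAr]
  have hA'A : A ^ (r - 1) * A = 1 := by rw [← pow_succ, Nat.sub_add_cancel hr1, hAr]
  have hCfix : ∀ v, A ^ (r - 1) *ᵥ v = v → v = 0 := by
    intro v hv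
    apply hAfix
    have := congrArg (fun w => A *ᵥ w) hv
    simp only [Matrix.mulVec_mulVec, hAA', Matrix.one_mulVec] at this
    exact this.symm
  have hCt := fpf_transpose _ hCfix
  set M := Cfsg.Agent.Helper8.O2P.bd A (A ^ (r - 1))ᵀ with hM
  have hpres : ∀ v, plusForm F (n + 1) (M *ᵥ v) = plusForm F (n + 1) v :=
    Cfsg.Agent.Helper8.O2P.plusForm_bd A _ (by rw [← transpose_mul, hA'A, transpose_one])
  have hMr : M ^ r = 1 := by
    rw [hM, Cfsg.Agent.Helper8.O2P.bd_pow, hAr, ← transpose_pow, ← pow_mul, mul_comm, pow_mul, hAr,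
      one_pow, transpose_one, Cfsg.Agent.Helper8.O2P.bd_one]
  have hMfix : ∀ v, M *ᵥ v = v → v = 0 := by
    intro v hv
    have h1 : v ∘ Sum.inl = 0 := by
      apply hAfix
      rw [← Cfsg.Agent.Helper8.O2P.bd_mulVec_inl A (A ^ (r - 1))ᵀ, ← hM, hv]
    have h2 : v ∘ Sum.inr = 0 := by
      apply hCt
      rw [← Cfsg.Agent.Helper8.O2P.bd_mulVec_inr A (A ^ (r - 1))ᵀ, ← hM, hv]
    funext x
    rcases x with i | i
    · exact congrFun h1 i
    · exact congrFun h2 i
  have hMM : M * M ^ (r - 1) = 1 := by rw [← pow_succ', Nat.sub_add_cancel hr1, hMr]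
  have hMM' : M ^ (r - 1) * M = 1 := by rw [← pow_succ, Nat.sub_add_cancel hr1, hMr]
  refine ⟨plusForm F (n + 1), ⟨M, M ^ (r - 1), hMM, hMM'⟩, ?_, nuS_plusForm n, hpres, ?_, hMfix⟩
  · intro u v
    rw [polar_plusForm, Cfsg.Agent.Helper8.SymOrth.sympForm_eq, Finset.sum_add_distrib]
  · apply Units.ext
    rw [Units.val_pow_eq_pow_val]
    exact hMr

end Cfsg.Agent.Helper7.QF2
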