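import Mathlib
import Cfsg.Agent.Helper7.QF2C
import Cfsg.Agent.Helper8.Sp2Conj
import Cfsg.Agent.Helper8.O2MinusCount
import Cfsg.Agent.Helper8.O2OmegaPlusCount
set_option autoImplicit false

/-! Involutions of `Sp_2d(q)`, `q` even, and the orthogonal subgroups; the main criterion. -/

namespace Cfsg.Agent.Helper7.QF2

open Module Matrix Cfsg Cfsg.Agent.Helper8.StdForms Cfsg.Agent.Helper8.ReflMatrix
  Cfsg.Agent.Helper8.OrT Cfsg.Agent.Helper8.QuadForm Cfsg.Agent.Helper8.O2 Cfsg.Agent.S5645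

universe u

variable {F : Type*} [Field F] {d : ℕ}

local notation "PI" d => Fin d ⊕ Fin d
local notation "MI" k => (Fin k ⊕ Fin k) ⊕ Fin 2

theorem polar_plusForm_eq_symp [CharP F 2] (u v : (PI d) → F) :
    QuadraticMap.polar (plusForm F d) u v = Cfsg.sympForm d F u v := by
  rw [polar_plusForm, Cfsg.Agent.Helper8.SymOrth.sympForm_eq, Finset.sum_add_distrib]

/-- a scalar symplectic matrix in characteristic two is the identity -/
theorem scalar_eq_one [CharP F 2] (hd : 1 ≤ d) (x : GL (PI d) F) (hx : x ∈ Cfsg.spGL d F) (z : F)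
    (hz : (x : Matrix (PI d) (PI d) F) = z • (1 : Matrix (PI d) (PI d) F)) : z = 1 := by
  have h1 := (Cfsg.Agent.Helper7.SpSub.mem_spGL_iff' x).mp hx
    (Cfsg.Agent.Helper7.SpSub.fb (⟨0, hd⟩ : Fin d)) (Cfsg.Agent.Helper7.SpSub.eb ⟨0, hd⟩)
  rw [hz, Matrix.smul_mulVec, Matrix.smul_mulVec, Matrix.one_mulVec, Matrix.one_mulVec,
    Cfsg.Agent.Helper7.Symp.sympForm_smul_left, Cfsg.Agent.Helper7.Symp.sympForm_smul_right,
    Cfsg.Agent.Helper7.SpSub.sympForm_fb_eb, mul_one] at h1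
  exact Cfsg.Agent.Helper8.O2P.eq_one_of_mul_self_eq_one h1

/-! ### the conjugated form -/

/-- the form `v ↦ Q (g⁻¹ v)` -/
noncomputable def conjForm (Qb : QuadraticForm F ((PI d) → F)) (g : GL (PI d) F) :
    QuadraticForm F ((PI d) → F) :=
  Qb.comp (Matrix.toLin' ((g⁻¹ : GL (PI d) F) : Matrix (PI d) (PI d) F))

theorem conjForm_apply (Qb : QuadraticForm F ((PI d) → F)) (g : GL (PI d) F) (v : (PI d) → F) :
    conjForm Qb g v = Qb (((g⁻¹ : GL (PI d) F) : Matrix (PI d) (PI d) F) *ᵥ v) := rfl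

theorem inv_mulVec_mulVec (g : GL (PI d) F) (v : (PI d) → F) :
    ((g⁻¹ : GL (PI d) F) : Matrix (PI d) (PI d) F) *ᵥ ((g : Matrix (PI d) (PI d) F) *ᵥ v) = v := by
  rw [Matrix.mulVec_mulVec, ← Units.val_mul, inv_mul_cancel, Units.val_one, Matrix.one_mulVec]

theorem conjForm_mulVec (Qb : QuadraticForm F ((PI d) → F)) (g : GL (PI d) F) (v : (PI d) → F) :
    conjForm Qb g ((g : Matrix (PI d) (PI d) F) *ᵥ v) = Qb v := by
  rw [conjForm_apply, inv_mulVec_mulVec]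

theorem polar_conjForm (Qb : QuadraticForm F ((PI d) → F))
    (hQf : ∀ u v, QuadraticMap.polar Qb u v = Cfsg.sympForm d F u v) (g : GL (PI d) F)
    (hg : g ∈ Cfsg.spGL d F) (u v : (PI d) → F) :
    QuadraticMap.polar (conjForm Qb g) u v = Cfsg.sympForm d F u v := by
  have h1 : QuadraticMap.polar (conjForm Qb g) u v
      = QuadraticMap.polar Qb (((g⁻¹ : GL (PI d) F) : Matrix (PI d) (PI d) F) *ᵥ u)
        (((g⁻¹ : GL (PI d) F) : Matrix (PI d) (PI d) F) *ᵥ v) := by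
    unfold QuadraticMap.polar
    rw [conjForm_apply, conjForm_apply, conjForm_apply, Matrix.mulVec_add]
  rw [h1, hQf]
  exact (Cfsg.Agent.Helper7.SpSub.mem_spGL_iff' _).mp (Subgroup.inv_mem _ hg) u v

theorem conjForm_invariant (Qb : QuadraticForm F ((PI d) → F)) (g x : GL (PI d) F)
    (h : ∀ v, Qb (((g⁻¹ * x * g : GL (PI d) F) : Matrix (PI d) (PI d) F) *ᵥ v) = Qb v)
    (v : (PI d) → F) :
    conjForm Qb g ((x : Matrix (PI d) (PI d) F) *ᵥ v) = conjForm Qb g v := by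
  rw [conjForm_apply, conjForm_apply]
  have h1 := h (((g⁻¹ : GL (PI d) F) : Matrix (PI d) (PI d) F) *ᵥ v)
  rw [Matrix.mulVec_mulVec, ← Units.val_mul] at h1
  have h2 : g⁻¹ * x * g * g⁻¹ = g⁻¹ * x := by group
  rw [h2, Units.val_mul, ← Matrix.mulVec_mulVec] at h1
  exact h1

theorem nuS_conjForm [Fintype F] (Qb : QuadraticForm F ((PI d) → F)) (g : GL (PI d) F) (s : ℤ)
    (k : ℕ) (hs : NuS s Qb k) : NuS s (conjForm Qb g) k :=
  NuS.congr (glEquiv g) (fun v => by rw [glEquiv_apply]; exact conjForm_mulVec Qb g v) hs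

/-! ### odd primes -/

theorem no_conj_of_fpf [Fintype F] (hd : 1 ≤ d) (Qb : QuadraticForm F ((PI d) → F))
    (hQf : ∀ u v, QuadraticMap.polar Qb u v = Cfsg.sympForm d F u v) (s s' : ℤ) (hss : s ≠ s')
    (k : ℕ) (hs : NuS s Qb k) (Q₃ : QuadraticForm F ((PI d) → F))
    (hpol : ∀ u v, QuadraticMap.polar Q₃ u v = Cfsg.sympForm d F u v) (hs' : NuS s' Q₃ k)
    (x : GL (PI d) F) (hx : ∀ v, Q₃ ((x : Matrix (PI d) (PI d) F) *ᵥ v) = Q₃ v)
    (hfpf : ∀ v, (x : Matrix (PI d) (PI d) F) *ᵥ v = v → v = 0)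
    (g : GL (PI d) F) (hg : g ∈ Cfsg.spGL d F)
    (hmem : g⁻¹ * x * g ∈ Cfsg.Geo.quadSimilarityGroup ⇑Qb) : False := by
  have hxsp : x ∈ Cfsg.spGL d F :=
    isometryGroup_le_spGL ⇑Q₃ hpol ((mem_isometryGroup_iff' _ _).mpr hx)
  have hy : g⁻¹ * x * g ∈ Cfsg.isometryGroup F ⇑Qb := by
    rw [← inf_spGL_eq hd ⇑Qb hQf]
    exact ⟨hmem, Subgroup.mul_mem _ (Subgroup.mul_mem _ (Subgroup.inv_mem _ hg) hxsp) hg⟩
  rw [mem_isometryGroup_iff'] at hy
  have h1 := conjForm_invariant Qb g x hy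
  have h2 : (⇑(conjForm Qb g) : ((PI d) → F) → F) = ⇑Q₃ :=
    eq_of_fpf (x : Matrix (PI d) (PI d) F) hfpf _ _
      (fun u v => by rw [polar_conjForm Qb hQf g hg, hpol]) (map_zero _) (map_zero _) h1 hx
  have h3 : conjForm Qb g = Q₃ := DFunLike.coe_injective h2
  have h4 := nuS_conjForm Qb g s k hs
  rw [h3] at h4
  exact hss (NuS.unique h4 hs')

theorem nonscalar_of_fpf [CharP F 2] (hd : 1 ≤ d) (x : GL (PI d) F) (hx : x ∈ Cfsg.spGL d F)
    (hfpf : ∀ v, (x : Matrix (PI d) (PI d) F) *ᵥ v = v → v = 0) (z : F) :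
    (x : Matrix (PI d) (PI d) F) ≠ z • (1 : Matrix (PI d) (PI d) F) := by
  intro hz
  have h1 := scalar_eq_one hd x hx z hz
  rw [h1, one_smul] at hz
  have h2 := hfpf (Cfsg.Agent.Helper7.SpSub.eb (⟨0, hd⟩ : Fin d)) (by rw [hz, Matrix.one_mulVec])
  have h3 := congrFun h2 (Sum.inl ⟨0, hd⟩)
  simp [Cfsg.Agent.Helper7.SpSub.eb] at h3

/-! ### the type -/

/-- the first coordinate embedding -/
def inlMap (F : Type*) [Field F] (m : ℕ) : (Fin m → F) →ₗ[F] ((PI m) → F) where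
  toFun a := Sum.elim a 0
  map_add' a b := by funext x; rcases x with i | i <;> simp
  map_smul' c a := by funext x; rcases x with i | i <;> simp

theorem plusType_of_iso (m : ℕ) (Qf : ((PI m) → F) → F)
    (φ : ((PI m) → F) ≃ₗ[F] ((PI m) → F)) (hφ : ∀ v, plusForm F m (φ v) = Qf v) :
    Cfsg.Geo.IsPlusTypeOn Qf ⊤ := by
  refine ⟨(LinearMap.range (inlMap F m)).map φ.symm.toLinearMap, le_top, ?_, ?_⟩
  · rintro w ⟨_, ⟨a, rfl⟩, rfl⟩
    show Qf (φ.symm (inlMap F m a)) = 0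
    rw [← hφ, LinearEquiv.apply_symm_apply, plusForm_apply]
    unfold Cfsg.quadFormPlus
    apply Finset.sum_eq_zero
    intro i _
    have h0 : inlMap F m a (Sum.inr i) = 0 := rfl
    rw [h0, mul_zero]
  · rw [finrank_top, Module.finrank_fintype_fun_eq_card, Fintype.card_sum, Fintype.card_fin,
      LinearEquiv.finrank_map_eq φ.symm, LinearMap.finrank_range_of_inj,
      Module.finrank_fintype_fun_eq_card, Fintype.card_fin]
    · ring
    · intro a b hab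
      funext i
      have := congrFun hab (Sum.inl i)
      exact this

theorem not_plusType_of_iso [Finite F] (k : ℕ) (Qf : ((PI (k + 1)) → F) → F) (a b : F)
    (hab : ∀ z₁ z₂ : F, z₁ ^ 2 + a * z₁ * z₂ + b * z₂ ^ 2 = 0 → z₁ = 0 ∧ z₂ = 0)
    (φ : ((PI (k + 1)) → F) ≃ₗ[F] ((MI k) → F)) (hφ : ∀ v, minusForm F k a b (φ v) = Qf v) :
    ¬ Cfsg.Geo.IsPlusTypeOn Qf ⊤ := by
  rintro ⟨U, -, hU, hfr⟩
  rw [finrank_top, Module.finrank_fintype_fun_eq_card, Fintype.card_sum, Fintype.card_fin] at hfr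
  have h1 := ts_finrank_le hab (U.map φ.toLinearMap) (by
    rintro _ ⟨u, hu, rfl⟩
    show minusForm F k a b (φ u) = 0
    rw [hφ]
    exact hU u hu)
  rw [LinearEquiv.finrank_map_eq φ] at h1
  omega

/-! ### involutions -/

theorem two_mul_rank_le [CharP F 2] (A : Matrix.symplecticGroup (Fin d) F) (hA : A ^ 2 = 1) :
    ((A : Matrix (PI d) (PI d) F) - 1).rank ≤ d := by
  rw [Cfsg.Agent.Helper8.Sp2.rank_eq_finrank]
  have h1 := LinearMap.finrank_range_add_finrank_ker (Cfsg.Agent.Helper8.Sp2.opN A)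
  have h2 : finrank F (LinearMap.range (Cfsg.Agent.Helper8.Sp2.opN A))
      ≤ finrank F (LinearMap.ker (Cfsg.Agent.Helper8.Sp2.opN A)) := by
    apply Submodule.finrank_mono
    rintro _ ⟨x, rfl⟩
    rw [LinearMap.mem_ker]
    exact Cfsg.Agent.Helper8.Sp2.opN_sq A hA x
  rw [Module.finrank_fintype_fun_eq_card, Fintype.card_sum, Fintype.card_fin] at h1
  omega

theorem reps_congr {ι κ : Type} [Fintype ι] [DecidableEq ι] [Fintype κ] [DecidableEq κ]
    {Q₁ : QuadraticForm F (ι → F)} {Q₂ : QuadraticForm F (κ → F)}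
    (φ : (ι → F) ≃ₗ[F] (κ → F)) (h : ∀ v, Q₂ (φ v) = Q₁ v) (s : ℕ) (alt : Prop)
    (hrep : ∃ t : ↥(Cfsg.isometryGroup F ⇑Q₁), t ^ 2 = 1 ∧ rk Q₁ t = s ∧ (IsAltType Q₁ t ↔ alt)) :
    ∃ t : ↥(Cfsg.isometryGroup F ⇑Q₂), t ^ 2 = 1 ∧ rk Q₂ t = s ∧ (IsAltType Q₂ t ↔ alt) := by
  obtain ⟨t, h1, h2, h3⟩ := hrep
  exact ⟨isoCongr φ h t, isoCongr_sq φ h t h1, (rk_isoCongr φ h t).trans h2,
    (alt_isoCongr φ h t).trans h3⟩

theorem reps_plus [CharP F 2] (m s : ℕ) (alt : Prop) (h1 : 1 ≤ s) (h2 : s ≤ m)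
    (h3 : alt → Even s) :
    ∃ t : ↥(Cfsg.isometryGroup F ⇑(plusForm F m)), t ^ 2 = 1 ∧ rk (plusForm F m) t = s ∧
      (IsAltType (plusForm F m) t ↔ alt) := by
  by_cases halt : alt
  · obtain ⟨c, hc⟩ := h3 halt
    have hj : c - 1 < m / 2 := by omega
    refine ⟨repPlus F m (Sum.inr ⟨c - 1, hj⟩), ?_, ?_, ?_⟩
    · have h0 := pow_orderOf_eq_one (repPlus F m (Sum.inr ⟨c - 1, hj⟩))
      rwa [orderOf_repPlus] at h0
    · rw [rk_repPlus_inr]
      simp only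
      omega
    · exact ⟨fun _ => halt, fun _ => alt_repPlus_inr _⟩
  · have hi : s - 1 < m := by omega
    refine ⟨repPlus F m (Sum.inl ⟨s - 1, hi⟩), ?_, ?_, ?_⟩
    · have h0 := pow_orderOf_eq_one (repPlus F m (Sum.inl ⟨s - 1, hi⟩))
      rwa [orderOf_repPlus] at h0
    · rw [rk_repPlus_inl]
      simp only
      omega
    · exact ⟨fun h => absurd h (not_alt_repPlus_inl _), fun h => absurd h halt⟩

theorem reps_minus [CharP F 2] (k : ℕ) (hk : Even k) {a : F} (ha : a ≠ 0) (b : F) (s : ℕ)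
    (alt : Prop) (h1 : 1 ≤ s) (h2 : s ≤ k + 1) (h3 : alt → Even s) :
    ∃ t : ↥(Cfsg.isometryGroup F ⇑(minusForm F k a b)), t ^ 2 = 1 ∧
      rk (minusForm F k a b) t = s ∧ (IsAltType (minusForm F k a b) t ↔ alt) := by
  by_cases halt : alt
  · obtain ⟨c, hc⟩ := h3 halt
    obtain ⟨e, he⟩ := hk
    have hj : c - 1 < k / 2 := by omega
    refine ⟨repMinus F k a b (Sum.inr ⟨c - 1, hj⟩), ?_, ?_, ?_⟩
    · have h0 := pow_orderOf_eq_one (repMinus F k a b (Sum.inr ⟨c - 1, hj⟩))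
      rwa [orderOf_repMinus ha] at h0
    · rw [rk_repMinus_inr]
      simp only
      omega
    · exact ⟨fun _ => halt, fun _ => alt_repMinus_inr _ _ _⟩
  · have hi : s - 1 < k + 1 := by omega
    refine ⟨repMinus F k a b (Sum.inl ⟨s - 1, hi⟩), ?_, ?_, ?_⟩
    · have h0 := pow_orderOf_eq_one (repMinus F k a b (Sum.inl ⟨s - 1, hi⟩))
      rwa [orderOf_repMinus ha] at h0
    · rw [rk_repMinus_inl ha]
      simp only
      omega
    · exact ⟨fun h => absurd h (not_alt_repMinus_inl ha _ _), fun h => absurd h halt⟩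

/-- if all rank/type combinations are realised in `O(Q)`, every involution of `Sp` is conjugate
into `O(Q)` -/
theorem all_conj_of_reps [Fintype F] [CharP F 2] (hd : 1 ≤ d) (Qb : QuadraticForm F ((PI d) → F))
    (hQf : ∀ u v, QuadraticMap.polar Qb u v = Cfsg.sympForm d F u v)
    (hreps : ∀ (s : ℕ) (alt : Prop), 1 ≤ s → s ≤ d → (alt → Even s) →
      ∃ t : ↥(Cfsg.isometryGroup F ⇑Qb), t ^ 2 = 1 ∧ rk Qb t = s ∧ (IsAltType Qb t ↔ alt))
    (x : GL (PI d) F) (hx : x ∈ Cfsg.spGL d F)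
    (hx2 : ∃ z : F, ((x ^ 2 : GL (PI d) F) : Matrix (PI d) (PI d) F)
      = z • (1 : Matrix (PI d) (PI d) F))
    (hxns : ∀ z : F, (x : Matrix (PI d) (PI d) F) ≠ z • (1 : Matrix (PI d) (PI d) F)) :
    ∃ g ∈ Cfsg.spGL d F, g⁻¹ * x * g ∈ Cfsg.Geo.quadSimilarityGroup ⇑Qb := by
  obtain ⟨z, hz⟩ := hx2
  have hz1 := scalar_eq_one hd (x ^ 2) (Subgroup.pow_mem _ hx 2) z hz
  rw [hz1, one_smul] at hz
  obtain ⟨A, rfl⟩ := exists_toGL_eq hx
  have hA2 : A ^ 2 = 1 := by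
    apply Subtype.ext
    have : ((toGL d F A ^ 2 : GL (PI d) F) : Matrix (PI d) (PI d) F) = A.1 * A.1 := by
      rw [pow_two, Units.val_mul]
      rfl
    rw [this] at hz
    rw [pow_two]
    exact hz
  have hA1 : ((A : Matrix (PI d) (PI d) F) - 1).rank ≠ 0 := by
    intro h0
    have h1 := Cfsg.Agent.Helper8.UJ.eq_zero_of_rank_eq_zero _ h0
    apply hxns 1
    rw [one_smul]
    exact sub_eq_zero.mp h1
  obtain ⟨t, ht2, htr, hta⟩ := hreps ((A : Matrix (PI d) (PI d) F) - 1).rank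
    (∀ v, Cfsg.sympForm d F v ((A : Matrix (PI d) (PI d) F) *ᵥ v) = 0)
    (by omega) (two_mul_rank_le A hA2) (Cfsg.Agent.Helper8.Sp2.even_rank_of_alt A hA2)
  have htsp : (t : GL (PI d) F) ∈ Cfsg.spGL d F := isometryGroup_le_spGL ⇑Qb hQf t.2
  obtain ⟨A', hA'⟩ := exists_toGL_eq htsp
  have hA'v : (A' : Matrix (PI d) (PI d) F) = ((t : GL (PI d) F) : Matrix (PI d) (PI d) F) := by
    rw [← hA']
    rfl
  have hA'2 : A' ^ 2 = 1 := by
    apply Subtype.ext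
    rw [pow_two]
    show (A' : Matrix (PI d) (PI d) F) * (A' : Matrix (PI d) (PI d) F) = 1
    rw [hA'v, ← Units.val_mul, ← pow_two]
    have : (t : GL (PI d) F) ^ 2 = 1 := congrArg Subtype.val ht2
    rw [this]
    rfl
  have hconj := Cfsg.Agent.Helper8.Sp2.conj_of_rank_type A A' hA2 hA'2
    (by rw [hA'v]; exact htr.symm)
    (by
      rw [hA'v, ← hta]
      constructor
      · intro h v
        rw [← hQf]
        exact h v
      · intro h v
        show QuadraticMap.polar Qb v _ = 0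
        rw [hQf]
        exact h v)
  obtain ⟨c, hc⟩ := isConj_iff.mp hconj
  refine ⟨toGL d F c⁻¹, toGL_mem _, ?_⟩
  have h5 : (toGL d F c⁻¹)⁻¹ * toGL d F A * toGL d F c⁻¹ = (t : GL (PI d) F) := by
    rw [← map_inv, inv_inv, ← map_mul, ← map_mul, hc, hA']
  rw [h5]
  exact isometryGroup_le_sim _ t.2

/-- the involution of type `a_d` is not conjugate into an orthogonal group of minus type -/
theorem topAlt_contra [Fintype F] [CharP F 2] (n : ℕ) (heven : Even (n + 1))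
    (Qb : QuadraticForm F ((PI (n + 1)) → F))
    (hQf : ∀ u v, QuadraticMap.polar Qb u v = Cfsg.sympForm (n + 1) F u v) (a b : F)
    (hab : ∀ z₁ z₂ : F, z₁ ^ 2 + a * z₁ * z₂ + b * z₂ ^ 2 = 0 → z₁ = 0 ∧ z₂ = 0)
    (φ : ((PI (n + 1)) → F) ≃ₗ[F] ((MI n) → F)) (hφ : ∀ v, minusForm F n a b (φ v) = Qb v)
    (hP : ∀ x ∈ Cfsg.spGL (n + 1) F,
      (∃ z : F, ((x ^ 2 : GL (PI (n + 1)) F) : Matrix (PI (n + 1)) (PI (n + 1)) F)
        = z • (1 : Matrix (PI (n + 1)) (PI (n + 1)) F)) →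
      (∀ z : F, (x : Matrix (PI (n + 1)) (PI (n + 1)) F)
        ≠ z • (1 : Matrix (PI (n + 1)) (PI (n + 1)) F)) →
      ∃ g ∈ Cfsg.spGL (n + 1) F, g⁻¹ * x * g ∈ Cfsg.Geo.quadSimilarityGroup ⇑Qb) : False := by
  have hm1 : 1 ≤ n + 1 := by omega
  have hrk := rk_topAlt (F := F) hm1 heven
  have halt := alt_topAlt (F := F) hm1 heven
  have hord := orderOf_topAlt (F := F) hm1 heven
  obtain ⟨x, hxdef⟩ : ∃ x : GL (PI (n + 1)) F, x = (topAlt F (n + 1) : GL (PI (n + 1)) F) :=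
    ⟨_, rfl⟩
  have hxiso : x ∈ Cfsg.isometryGroup F ⇑(plusForm F (n + 1)) := by
    rw [hxdef]; exact (topAlt F (n + 1)).2
  have hxsp : x ∈ Cfsg.spGL (n + 1) F :=
    isometryGroup_le_spGL _ polar_plusForm_eq_symp hxiso
  have hx2 : x ^ 2 = 1 := by
    have h1 : topAlt F (n + 1) ^ 2 = 1 := by
      rw [← hord]; exact pow_orderOf_eq_one _
    rw [hxdef]
    exact congrArg Subtype.val h1
  have hxrk : ((x : Matrix (PI (n + 1)) (PI (n + 1)) F) - 1).rank = n + 1 := by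
    rw [hxdef]; exact hrk
  have hxalt : ∀ v, Cfsg.sympForm (n + 1) F v ((x : Matrix (PI (n + 1)) (PI (n + 1)) F) *ᵥ v) = 0 := by
    intro v
    rw [← polar_plusForm_eq_symp, hxdef]
    exact halt v
  have hxns : ∀ z : F, (x : Matrix (PI (n + 1)) (PI (n + 1)) F)
      ≠ z • (1 : Matrix (PI (n + 1)) (PI (n + 1)) F) := by
    intro z hz
    have h1 := scalar_eq_one hm1 x hxsp z hz
    rw [h1, one_smul] at hz
    rw [hz, sub_self, Matrix.rank_zero] at hxrk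
    omega
  obtain ⟨g, hg, hmem⟩ := hP x hxsp ⟨1, by rw [hx2, one_smul]; rfl⟩ hxns
  have hy : g⁻¹ * x * g ∈ Cfsg.isometryGroup F ⇑Qb := by
    rw [← inf_spGL_eq hm1 ⇑Qb hQf]
    exact ⟨hmem, Subgroup.mul_mem _ (Subgroup.mul_mem _ (Subgroup.inv_mem _ hg) hxsp) hg⟩
  rw [mem_isometryGroup_iff'] at hy
  have h1 := conjForm_invariant Qb g x hy
  have hφ' : ∀ v, minusForm F n a b (((glEquiv g⁻¹).trans φ) v) = conjForm Qb g v := by
    intro v
    rw [LinearEquiv.trans_apply, hφ, glEquiv_apply]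
    rfl
  let t : ↥(Cfsg.isometryGroup F ⇑(conjForm Qb g)) := ⟨x, (mem_isometryGroup_iff' _ _).mpr h1⟩
  have htalt : IsAltType (conjForm Qb g) t := by
    intro v
    rw [polar_conjForm Qb hQf g hg]
    exact hxalt v
  have h2 := rk_le_of_alt hab (isoCongr _ hφ' t) ((alt_isoCongr _ hφ' t).mpr htalt)
  rw [rk_isoCongr] at h2
  have h3 : rk (conjForm Qb g) t = n + 1 := hxrk
  omega

/-! ### the criterion -/

theorem main [Fintype F] [CharP F 2] (n : ℕ) (hn : 1 ≤ n) (Qb : QuadraticForm F ((PI (n + 1)) → F))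
    (hnd : (QuadraticMap.polarBilin Qb).Nondegenerate)
    (hQf : ∀ u v, QuadraticMap.polar Qb u v = Cfsg.sympForm (n + 1) F u v)
    (r : ℕ) [Fact r.Prime]
    (hΩ : r ∣ (Cfsg.Geo.quadSimilarityGroup ⇑Qb).relIndex (Cfsg.spGL (n + 1) F)) :
    (∀ x ∈ Cfsg.spGL (n + 1) F,
      (∃ z : F, ((x ^ r : GL (PI (n + 1)) F) : Matrix (PI (n + 1)) (PI (n + 1)) F)
        = z • (1 : Matrix (PI (n + 1)) (PI (n + 1)) F)) →
      (∀ z : F, (x : Matrix (PI (n + 1)) (PI (n + 1)) F)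
        ≠ z • (1 : Matrix (PI (n + 1)) (PI (n + 1)) F)) →
      ∃ g ∈ Cfsg.spGL (n + 1) F, g⁻¹ * x * g ∈ Cfsg.Geo.quadSimilarityGroup ⇑Qb) ↔
    (r = 2 ∧ (Cfsg.Geo.IsPlusTypeOn ⇑Qb ⊤ ∨ Odd (n + 1))) := by
  have hm1 : 1 ≤ n + 1 := by omega
  have hV : finrank F ((PI (n + 1)) → F) = 2 * (n + 1) := by
    rw [Module.finrank_fintype_fun_eq_card, Fintype.card_sum, Fintype.card_fin]
    ring
  rcases dichotomy n hV Qb ((nondeg_iff Qb).mp hnd) with ⟨hs, φ, hφ⟩ | ⟨hs, e, f, x₀, y₀, hell⟩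
  · -- plus type
    have hplus : Cfsg.Geo.IsPlusTypeOn ⇑Qb ⊤ := plusType_of_iso (n + 1) ⇑Qb φ hφ
    constructor
    · intro hP
      by_cases hr2 : r = 2
      · exact ⟨hr2, Or.inl hplus⟩
      · exfalso
        have hdvd := dvd_of_plus n ⇑Qb hQf φ hφ r hΩ hr2
        obtain ⟨Q₃, x, hpol, hs', hx, hxr, hfpf⟩ :=
          exists_minus_model (F := F) (d := n + 1) (by omega) r hdvd
        rw [Nat.add_sub_cancel] at hs'
        have hxsp : x ∈ Cfsg.spGL (n + 1) F :=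
          isometryGroup_le_spGL ⇑Q₃ hpol ((mem_isometryGroup_iff' _ _).mpr hx)
        obtain ⟨g, hg, hmem⟩ := hP x hxsp ⟨1, by rw [hxr, one_smul]; rfl⟩
          (nonscalar_of_fpf hm1 x hxsp hfpf)
        exact no_conj_of_fpf hm1 Qb hQf 1 (-1) (by norm_num) n hs Q₃ hpol hs' x hx hfpf g hg hmem
    · rintro ⟨hr2, -⟩
      subst hr2
      intro x hx hx2 hxns
      refine all_conj_of_reps hm1 Qb hQf ?_ x hx hx2 hxns
      intro s alt h1 h2 h3
      exact reps_congr φ.symm (fun w => by rw [← hφ, LinearEquiv.apply_symm_apply]) s alt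
        (reps_plus (n + 1) s alt h1 h2 h3)
  · -- minus type
    obtain ⟨φ, hφ⟩ := hell.transfer (by rw [hV]; ring)
    have hab := aniso_of_irred hell.2.2.2.2.2
    have hminus : ¬ Cfsg.Geo.IsPlusTypeOn ⇑Qb ⊤ :=
      not_plusType_of_iso n ⇑Qb 1 (Qb y₀) hab φ hφ
    constructor
    · intro hP
      by_cases hr2 : r = 2
      · refine ⟨hr2, Or.inr ?_⟩
        by_contra hodd
        rw [Nat.not_odd_iff_even] at hodd
        subst hr2
        exact topAlt_contra n hodd Qb hQf 1 (Qb y₀) hab φ hφ hP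
      · exfalso
        have hdvd := dvd_of_minus n ⇑Qb hQf 1 (Qb y₀) hab φ hφ r hΩ hr2
        obtain ⟨Q₃, x, hpol, hs', hx, hxr, hfpf⟩ := exists_plus_model (F := F) n r hdvd
        have hxsp : x ∈ Cfsg.spGL (n + 1) F :=
          isometryGroup_le_spGL ⇑Q₃ hpol ((mem_isometryGroup_iff' _ _).mpr hx)
        obtain ⟨g, hg, hmem⟩ := hP x hxsp ⟨1, by rw [hxr, one_smul]; rfl⟩
          (nonscalar_of_fpf hm1 x hxsp hfpf)
        exact no_conj_of_fpf hm1 Qb hQf (-1) 1 (by norm_num) n hs Q₃ hpol hs' x hx hfpf g hg hmem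
    · rintro ⟨hr2, h | h⟩
      · exact absurd h hminus
      · subst hr2
        intro x hx hx2 hxns
        refine all_conj_of_reps hm1 Qb hQf ?_ x hx hx2 hxns
        intro s alt h1 h2 h3
        have hk : Even n := by
          obtain ⟨c, hc⟩ := h
          exact ⟨c, by omega⟩
        exact reps_congr φ.symm (fun w => by rw [← hφ, LinearEquiv.apply_symm_apply]) s alt
          (reps_minus n hk one_ne_zero (Qb y₀) s alt h1 h2 h3)

end Cfsg.Agent.Helper7.QF2
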