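import Mathlib
import Cfsg.Prelude.Def_LieRecognition

set_option autoImplicit false

/-!
Basic consequences of the rank-one set-up `IsRankOneSetup G Ω a t Q`.
-/

namespace Cfsg.Agent.Helper7.ROS

open Cfsg MulAction

variable {G Ω : Type*} [Group G] [MulAction G Ω] {a : Ω} {t : G} {Q : Subgroup G}

theorem t_inv (hS : IsRankOneSetup G Ω a t Q) : t⁻¹ = t :=
  inv_eq_of_mul_eq_one_left hS.mul_self

theorem t_smul_t_smul (hS : IsRankOneSetup G Ω a t Q) (c : Ω) : t • t • c = c := by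
  rw [smul_smul, hS.mul_self, one_smul]

theorem b_ne_a (hS : IsRankOneSetup G Ω a t Q) : t • a ≠ a := fun h =>
  hS.not_mem (mem_stabilizer_iff.mpr h)

theorem Q_smul_a (hS : IsRankOneSetup G Ω a t Q) {x : G} (hx : x ∈ Q) : x • a = a :=
  mem_stabilizer_iff.mp (hS.le hx)

/-- `Q` is normalised by `G_a` (the other conjugation). -/
theorem conj_mem' (hS : IsRankOneSetup G Ω a t Q) {h x : G} (hh : h ∈ stabilizer G a) (hx : x ∈ Q) :
    h⁻¹ * x * h ∈ Q := by
  have := hS.conj_mem h⁻¹ (Subgroup.inv_mem _ hh) x hx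
  rwa [inv_inv] at this

/-- Every element of `G_a` is a product `x d` with `x ∈ Q`, `d ∈ D`. -/
theorem exists_mul_of_mem_stabilizer (hS : IsRankOneSetup G Ω a t Q) {g : G}
    (hg : g ∈ stabilizer G a) :
    ∃ x ∈ Q, ∃ d ∈ stabilizer G a ⊓ stabilizer G (t • a), g = x * d := by
  rw [← hS.sup_eq, Subgroup.sup_eq_closure] at hg
  induction hg using Subgroup.closure_induction'' with
  | one => exact ⟨1, Q.one_mem, 1, Subgroup.one_mem _, by simp⟩
  | mem g hg =>
    rcases hg with hg | hg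
    · exact ⟨g, hg, 1, Subgroup.one_mem _, by simp⟩
    · exact ⟨1, Q.one_mem, g, hg, by simp⟩
  | inv_mem g hg =>
    rcases hg with hg | hg
    · exact ⟨g⁻¹, Q.inv_mem hg, 1, Subgroup.one_mem _, by simp⟩
    · exact ⟨1, Q.one_mem, g⁻¹, Subgroup.inv_mem _ hg, by simp⟩
  | mul g₁ g₂ _ _ h₁ h₂ =>
    obtain ⟨x₁, hx₁, d₁, hd₁, rfl⟩ := h₁
    obtain ⟨x₂, hx₂, d₂, hd₂, rfl⟩ := h₂
    refine ⟨x₁ * (d₁ * x₂ * d₁⁻¹), Q.mul_mem hx₁ (hS.conj_mem d₁ hd₁.1 x₂ hx₂), d₁ * d₂,
      Subgroup.mul_mem _ hd₁ hd₂, by group⟩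

/-- `G_a` is transitive on the points other than `a`. -/
theorem exists_stabilizer_smul (hS : IsRankOneSetup G Ω a t Q) {c d : Ω} (hc : c ≠ a) (hd : d ≠ a) :
    ∃ g ∈ stabilizer G a, g • c = d := by
  obtain ⟨g, h1, h2⟩ := (MulAction.is_two_pretransitive_iff.mp hS.two_transitive) hc.symm hd.symm
  exact ⟨g, mem_stabilizer_iff.mpr h1, h2⟩

/-- `Q` is transitive on the points other than `a`: every such point is `x • b`. -/
theorem exists_Q_smul_b (hS : IsRankOneSetup G Ω a t Q) {c : Ω} (hc : c ≠ a) :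
    ∃ x ∈ Q, x • t • a = c := by
  obtain ⟨g, hg, e⟩ := exists_stabilizer_smul hS (b_ne_a hS) hc
  obtain ⟨x, hx, d, hd, rfl⟩ := exists_mul_of_mem_stabilizer hS hg
  refine ⟨x, hx, ?_⟩
  rw [mul_smul, mem_stabilizer_iff.mp hd.2] at e
  exact e

/-- A non-identity element of `Q` fixes only `a`. -/
theorem eq_a_of_Q_smul (hS : IsRankOneSetup G Ω a t Q) {x : G} (hx : x ∈ Q) (hx1 : x ≠ 1) {c : Ω}
    (hc : x • c = c) : c = a := by
  by_contra hca
  obtain ⟨y, hy, rfl⟩ := exists_Q_smul_b hS hca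
  have h1 : y⁻¹ * x * y ∈ Q ⊓ stabilizer G (t • a) := by
    refine ⟨Q.mul_mem (Q.mul_mem (Q.inv_mem hy) hx) hy, ?_⟩
    change y⁻¹ * x * y ∈ stabilizer G (t • a)
    rw [mem_stabilizer_iff, mul_smul, mul_smul, hc, smul_smul, inv_mul_cancel, one_smul]
  rw [hS.inf_eq_bot, Subgroup.mem_bot] at h1
  apply hx1
  have := congrArg (fun z => y * z * y⁻¹) h1
  simpa [mul_assoc] using this

/-- `Q` acts regularly on the points other than `a`. -/
theorem existsUnique_Q_smul (hS : IsRankOneSetup G Ω a t Q) {c d : Ω} (hc : c ≠ a) (hd : d ≠ a) :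
    ∃! x : Q, (x : G) • c = d := by
  obtain ⟨x₁, hx₁, e₁⟩ := exists_Q_smul_b hS hc
  obtain ⟨x₂, hx₂, e₂⟩ := exists_Q_smul_b hS hd
  refine ⟨⟨x₂ * x₁⁻¹, Q.mul_mem hx₂ (Q.inv_mem hx₁)⟩, ?_, ?_⟩
  · change (x₂ * x₁⁻¹) • c = d
    rw [← e₁, ← e₂, smul_smul, mul_assoc, inv_mul_cancel, mul_one]
  · rintro ⟨y, hy⟩ hyc
    change y • c = d at hyc
    apply Subtype.ext
    change y = x₂ * x₁⁻¹
    by_contra hne
    have h1 : (x₂ * x₁⁻¹)⁻¹ * y ∈ Q := Q.mul_mem (Q.inv_mem (Q.mul_mem hx₂ (Q.inv_mem hx₁))) hy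
    have h2 : (x₂ * x₁⁻¹)⁻¹ * y ≠ 1 := by
      intro e
      apply hne
      exact (inv_mul_eq_one.mp e).symm
    have h3 : ((x₂ * x₁⁻¹)⁻¹ * y) • c = c := by
      rw [mul_smul, hyc]
      conv_rhs => rw [← e₁]
      rw [← e₂, smul_smul]
      congr 1; group
    exact hc (eq_a_of_Q_smul hS h1 h2 h3)

theorem Q_eq_of_smul_eq (hS : IsRankOneSetup G Ω a t Q) {x y : G} (hx : x ∈ Q) (hy : y ∈ Q)
    {c : Ω} (hc : c ≠ a) (e : x • c = y • c) : x = y := by
  have hd : y • c ≠ a := by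
    intro h
    apply hc
    have := congrArg (fun z => y⁻¹ • z) h
    simp only [smul_smul, inv_mul_cancel, one_smul] at this
    rw [this, Q_smul_a hS (Q.inv_mem hy)]
  obtain ⟨z, _, huniq⟩ := existsUnique_Q_smul hS hc hd
  have h1 := huniq ⟨x, hx⟩ e
  have h2 := huniq ⟨y, hy⟩ rfl
  exact congrArg Subtype.val (h1.trans h2.symm)

/-- `Q` is non-trivial. -/
theorem exists_ne_one (hS : IsRankOneSetup G Ω a t Q) : ∃ x ∈ Q, x ≠ 1 := by
  obtain ⟨x, hx, e⟩ := exists_Q_smul_b hS (b_ne_a hS)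
  obtain ⟨c, hc, e2⟩ := exists_Q_smul_b hS (b_ne_a hS)
  by_contra hcon
  push Not at hcon
  -- if `Q = 1` then `|Q| = 1` is odd
  have h1 : Nat.card Q = 1 := by
    rw [Nat.card_eq_one_iff_unique]
    refine ⟨⟨fun x y => ?_⟩, ⟨1⟩⟩
    apply Subtype.ext
    rw [hcon x x.2, hcon y y.2]
  have := hS.even_card
  rw [h1] at this
  exact absurd this (by decide)

section finite

variable [Finite G]

theorem finite_Ω (hS : IsRankOneSetup G Ω a t Q) : Finite Ω := by
  have hsurj : Function.Surjective (fun g : G => g • a) := by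
    intro c
    by_cases hc : c = a
    · exact ⟨1, by rw [hc]; exact one_smul _ _⟩
    · obtain ⟨x, _, e⟩ := exists_Q_smul_b hS hc
      exact ⟨x * t, by change (x * t) • a = c; rw [mul_smul, e]⟩
  exact Finite.of_surjective _ hsurj

omit [Finite G] in
theorem isPretransitive (hS : IsRankOneSetup G Ω a t Q) : IsPretransitive G Ω := by
  have hsurj : ∀ c : Ω, ∃ g : G, g • a = c := by
    intro c
    by_cases hc : c = a
    · exact ⟨1, by rw [hc]; exact one_smul _ _⟩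
    · obtain ⟨x, _, e⟩ := exists_Q_smul_b hS hc
      exact ⟨x * t, by rw [mul_smul, e]⟩
  constructor
  intro c d
  obtain ⟨g, rfl⟩ := hsurj c
  obtain ⟨h, rfl⟩ := hsurj d
  exact ⟨h * g⁻¹, by rw [smul_smul, mul_assoc, inv_mul_cancel, mul_one]⟩

/-- `|Ω| = |Q| + 1`. -/
theorem card_Ω (hS : IsRankOneSetup G Ω a t Q) : Nat.card Ω = Nat.card Q + 1 := by
  classical
  have := finite_Ω hS
  have e : Q ≃ {c : Ω // c ≠ a} := by
    refine Equiv.ofBijective (fun x => ⟨(x : G) • t • a, ?_⟩) ⟨?_, ?_⟩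
    · intro h
      apply b_ne_a hS
      have : t • a = (x : G)⁻¹ • a := by
        conv_rhs => rw [← h]
        rw [smul_smul, inv_mul_cancel, one_smul]
      rw [this, Q_smul_a hS (Q.inv_mem x.2)]
    · intro x y hxy
      apply Subtype.ext
      exact Q_eq_of_smul_eq hS x.2 y.2 (b_ne_a hS) (congrArg Subtype.val hxy)
    · rintro ⟨c, hc⟩
      obtain ⟨x, hx, e⟩ := exists_Q_smul_b hS hc
      exact ⟨⟨x, hx⟩, Subtype.ext e⟩
  rw [← Nat.card_congr (Equiv.optionSubtypeNe a), Finite.card_option, Nat.card_congr e]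

omit [Finite G] in
/-- `|G_a| = |Q| |D|`. -/
theorem card_stabilizer (hS : IsRankOneSetup G Ω a t Q) :
    Nat.card (stabilizer G a) =
      Nat.card Q * Nat.card ↥(stabilizer G a ⊓ stabilizer G (t • a)) := by
  rw [← Nat.card_prod]
  symm
  apply Nat.card_congr
  refine Equiv.ofBijective (fun p => ⟨(p.1 : G) * (p.2 : G),
    Subgroup.mul_mem _ (hS.le p.1.2) p.2.2.1⟩) ⟨?_, ?_⟩
  · rintro ⟨⟨x, hx⟩, ⟨d, hd⟩⟩ ⟨⟨x', hx'⟩, ⟨d', hd'⟩⟩ h
    have h' : x * d = x' * d' := congrArg Subtype.val h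
    have h1 : x'⁻¹ * x = d' * d⁻¹ := by
      have := congrArg (fun z => x'⁻¹ * z * d⁻¹) h'
      simpa [mul_assoc] using this
    have h2 : x'⁻¹ * x ∈ Q ⊓ stabilizer G (t • a) := by
      refine ⟨Q.mul_mem (Q.inv_mem hx') hx, ?_⟩
      rw [h1]
      exact Subgroup.mul_mem _ hd'.2 (Subgroup.inv_mem _ hd.2)
    rw [hS.inf_eq_bot, Subgroup.mem_bot] at h2
    have hxx : x = x' := by
      have := congrArg (fun z => x' * z) h2
      simpa using this
    subst hxx
    have hdd : d = d' := mul_left_cancel h'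
    subst hdd
    rfl
  · rintro ⟨g, hg⟩
    obtain ⟨x, hx, d, hd, rfl⟩ := exists_mul_of_mem_stabilizer hS hg
    exact ⟨⟨⟨x, hx⟩, ⟨d, hd⟩⟩, rfl⟩

/-- `|G| = |Q| |D| (|Q| + 1)`. -/
theorem card_G (hS : IsRankOneSetup G Ω a t Q) :
    Nat.card G =
      Nat.card Q * Nat.card ↥(stabilizer G a ⊓ stabilizer G (t • a)) * (Nat.card Q + 1) := by
  have := isPretransitive hS
  rw [← card_stabilizer hS, ← card_Ω hS, ← MulAction.index_stabilizer_of_transitive G a,
    Subgroup.card_mul_index]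

omit [Finite G] in
/-- An element of `D` whose square is trivial is trivial. -/
theorem D_sq_eq_one (hS : IsRankOneSetup G Ω a t Q) {d : G}
    (hd : d ∈ stabilizer G a ⊓ stabilizer G (t • a)) (h : d * d = 1) : d = 1 := by
  have h1 : orderOf (⟨d, hd⟩ : ↥(stabilizer G a ⊓ stabilizer G (t • a))) ∣ 2 := by
    apply orderOf_dvd_of_pow_eq_one
    apply Subtype.ext
    simp [pow_two, h]
  have h2 : orderOf (⟨d, hd⟩ : ↥(stabilizer G a ⊓ stabilizer G (t • a))) ∣
      Nat.card ↥(stabilizer G a ⊓ stabilizer G (t • a)) := orderOf_dvd_natCard _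
  have h3 : orderOf (⟨d, hd⟩ : ↥(stabilizer G a ⊓ stabilizer G (t • a))) = 1 := by
    have hodd := hS.odd_card
    have hodd' : Odd (orderOf (⟨d, hd⟩ : ↥(stabilizer G a ⊓ stabilizer G (t • a)))) :=
      hodd.of_dvd_nat h2
    rcases (Nat.dvd_prime Nat.prime_two).mp h1 with h | h
    · exact h
    · rw [h] at hodd'; exact absurd hodd' (by decide)
  rw [orderOf_eq_one_iff] at h3
  exact congrArg Subtype.val h3

omit [Finite G] in
/-- The involutions of `G_a` lie in `Q`. -/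
theorem mem_Q_of_sq_eq_one (hS : IsRankOneSetup G Ω a t Q) {s : G} (hs : s ∈ stabilizer G a)
    (h : s * s = 1) : s ∈ Q := by
  obtain ⟨x, hx, d, hd, rfl⟩ := exists_mul_of_mem_stabilizer hS hs
  have e : d * d = (x * (d * x * d⁻¹))⁻¹ := by
    have h2 : x * (d * x * d⁻¹) * (d * d) = 1 := by
      calc x * (d * x * d⁻¹) * (d * d) = x * d * (x * d) := by group
        _ = 1 := h
    exact eq_inv_of_mul_eq_one_right h2
  have hq : d * d ∈ Q ⊓ stabilizer G (t • a) := by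
    refine ⟨?_, Subgroup.mul_mem _ hd.2 hd.2⟩
    rw [e]
    exact Q.inv_mem (Q.mul_mem hx (hS.conj_mem d hd.1 x hx))
  rw [hS.inf_eq_bot, Subgroup.mem_bot] at hq
  rw [D_sq_eq_one hS hd hq, mul_one]
  exact hx

/-- Every element of square one fixes a point. -/
theorem exists_fixed_of_sq_eq_one (hS : IsRankOneSetup G Ω a t Q) {s : G} (hs : s * s = 1) :
    ∃ c : Ω, s • c = c := by
  have := finite_Ω hS
  have hord : orderOf s ∣ 2 := orderOf_dvd_of_pow_eq_one (by rw [pow_two, hs])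
  have hP : IsPGroup 2 (Subgroup.zpowers s) := by
    rcases (Nat.dvd_prime Nat.prime_two).mp hord with h | h
    · exact IsPGroup.of_card (n := 0) (by rw [Nat.card_zpowers, h, pow_zero])
    · exact IsPGroup.of_card (n := 1) (by rw [Nat.card_zpowers, h, pow_one])
  have h1 := hP.card_modEq_card_fixedPoints Ω
  rw [card_Ω hS] at h1
  have hodd : Odd (Nat.card Q + 1) := hS.even_card.add_one
  have h2 : Nat.card (MulAction.fixedPoints (Subgroup.zpowers s) Ω) ≠ 0 := by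
    intro h0
    rw [h0] at h1
    have : (Nat.card Q + 1) % 2 = 0 % 2 := h1
    rw [Nat.odd_iff] at hodd
    omega
  have h3 : Nonempty (MulAction.fixedPoints (Subgroup.zpowers s) Ω) := by
    by_contra hne
    rw [not_nonempty_iff] at hne
    exact h2 Nat.card_of_isEmpty
  obtain ⟨c, hc⟩ := h3
  exact ⟨c, hc ⟨s, Subgroup.mem_zpowers s⟩⟩

/-- Every involution of `G` fixes exactly one point. -/
theorem existsUnique_fixed_of_involution (hS : IsRankOneSetup G Ω a t Q) {s : G} (hs : s * s = 1)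
    (hs1 : s ≠ 1) : ∃! c : Ω, s • c = c := by
  obtain ⟨c, hc⟩ := exists_fixed_of_sq_eq_one hS hs
  refine ⟨c, hc, ?_⟩
  intro d hd
  have := isPretransitive hS
  obtain ⟨g, rfl⟩ := MulAction.exists_smul_eq G a c
  have h1 : g⁻¹ * s * g ∈ stabilizer G a := by
    rw [mem_stabilizer_iff, mul_smul, mul_smul, hc, smul_smul, inv_mul_cancel, one_smul]
  have h2 : (g⁻¹ * s * g) * (g⁻¹ * s * g) = 1 := by
    calc (g⁻¹ * s * g) * (g⁻¹ * s * g) = g⁻¹ * (s * s) * g := by group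
      _ = 1 := by rw [hs]; group
  have h3 : g⁻¹ * s * g ≠ 1 := by
    intro e
    apply hs1
    have := congrArg (fun z => g * z * g⁻¹) e
    simpa [mul_assoc] using this
  have h4 : (g⁻¹ * s * g) • (g⁻¹ • d) = g⁻¹ • d := by
    rw [smul_smul, mul_assoc, mul_assoc, mul_inv_cancel, mul_one, mul_smul, hd]
  have h5 := eq_a_of_Q_smul hS (mem_Q_of_sq_eq_one hS h1 h2) h3 h4
  rw [← h5, smul_smul, mul_inv_cancel, one_smul]

/-- Some Sylow 2-subgroup of `G` lies in `Q`. -/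
theorem exists_sylow_le (hS : IsRankOneSetup G Ω a t Q) : ∃ P : Sylow 2 G, (P : Subgroup G) ≤ Q := by
  let P₀ : Sylow 2 Q := default
  have hQ0 : Nat.card Q ≠ 0 := Nat.card_pos.ne'
  have hD0 : Nat.card ↥(stabilizer G a ⊓ stabilizer G (t • a)) ≠ 0 := Nat.card_pos.ne'
  have hcard : Nat.card (P₀.map Q.subtype : Subgroup G) = 2 ^ (Nat.card G).factorization 2 := by
    rw [Subgroup.card_map_of_injective Q.subtype_injective, P₀.card_eq_multiplicity, card_G hS,
      Nat.factorization_mul (Nat.mul_ne_zero hQ0 hD0) (by omega),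
      Nat.factorization_mul hQ0 hD0]
    have h1 : (Nat.card ↥(stabilizer G a ⊓ stabilizer G (t • a))).factorization 2 = 0 := by
      apply Nat.factorization_eq_zero_of_not_dvd
      intro h
      have := hS.odd_card
      rw [Nat.odd_iff] at this
      omega
    have h2 : (Nat.card Q + 1).factorization 2 = 0 := by
      apply Nat.factorization_eq_zero_of_not_dvd
      intro h
      have := hS.even_card
      rw [Nat.even_iff] at this
      omega
    rw [Finsupp.add_apply, Finsupp.add_apply, h1, h2, add_zero, add_zero]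
  exact ⟨Sylow.ofCard _ hcard, Subgroup.map_subtype_le _⟩

omit [Finite G] in
/-- Canonical form: every `g ∉ G_a` is uniquely `x t y` with `x ∈ G_a`, `y ∈ Q`. -/
theorem existsUnique_canonical (hS : IsRankOneSetup G Ω a t Q) {g : G} (hg : g ∉ stabilizer G a) :
    ∃! p : G × G, p.1 ∈ stabilizer G a ∧ p.2 ∈ Q ∧ g = p.1 * t * p.2 := by
  have hga : g⁻¹ • a ≠ a := by
    intro h
    apply hg
    rw [mem_stabilizer_iff]
    have := congrArg (fun z => g • z) h
    simp only [smul_smul, mul_inv_cancel, one_smul] at this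
    exact this.symm
  obtain ⟨y', hy', e⟩ := exists_Q_smul_b hS hga
  refine ⟨(g * y' * t, y'⁻¹), ⟨?_, Q.inv_mem hy', ?_⟩, ?_⟩
  · rw [mem_stabilizer_iff, mul_smul, mul_smul, e, smul_smul, mul_inv_cancel, one_smul]
  · change g = g * y' * t * t * y'⁻¹
    rw [mul_assoc (g * y') t t, hS.mul_self]; group
  · rintro ⟨x₁, y₁⟩ ⟨hx₁, hy₁, hg₁⟩
    change g = x₁ * t * y₁ at hg₁
    have h1 : g⁻¹ • a = y₁⁻¹ • t • a := by
      rw [hg₁]
      have : (x₁ * t * y₁)⁻¹ = y₁⁻¹ * t⁻¹ * x₁⁻¹ := by group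
      rw [this, t_inv hS, mul_smul, mul_smul, mem_stabilizer_iff.mp (Subgroup.inv_mem _ hx₁)]
    have h2 : y₁⁻¹ = y' :=
      Q_eq_of_smul_eq hS (Q.inv_mem hy₁) hy' (b_ne_a hS) (by rw [← h1, e])
    have hy : y₁ = y'⁻¹ := by rw [← h2, inv_inv]
    have hx : x₁ = g * y' * t := by
      rw [hg₁, hy]
      rw [mul_assoc (x₁ * t) y'⁻¹ y', inv_mul_cancel, mul_one, mul_assoc, hS.mul_self, mul_one]
    rw [hx, hy]

end finite

end Cfsg.Agent.Helper7.ROS
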