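import Mathlib
import Cfsg.Prelude.Def_LieRecognition
import Cfsg.Agent.Helper7.RankOneSetup

set_option autoImplicit false

/-!
Uniqueness of the canonical form `g h t f` (`g, f ∈ Q`, `h ∈ D`) in the rank-one set-up.
-/

namespace Cfsg.Agent.Helper7.ROS

open Cfsg MulAction

variable {G Ω : Type*} [Group G] [MulAction G Ω] {a : Ω} {t : G} {Q : Subgroup G}

/-- Uniqueness of the canonical form. -/
theorem canonical_unique (hS : IsRankOneSetup G Ω a t Q) {g h f g' h' f' : G}
    (hg : g ∈ Q) (hh : h ∈ stabilizer G a ⊓ stabilizer G (t • a)) (hf : f ∈ Q)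
    (hg' : g' ∈ Q) (hh' : h' ∈ stabilizer G a ⊓ stabilizer G (t • a)) (hf' : f' ∈ Q)
    (e : g * h * t * f = g' * h' * t * f') : g = g' ∧ h = h' ∧ f = f' := by
  have hga : g • a = a := Q_smul_a hS hg
  have hga' : g' • a = a := Q_smul_a hS hg'
  have hfa : f • a = a := Q_smul_a hS hf
  have hfa' : f' • a = a := Q_smul_a hS hf'
  have hha : h • a = a := mem_stabilizer_iff.mp hh.1
  have hha' : h' • a = a := mem_stabilizer_iff.mp hh'.1
  have hhb : h • t • a = t • a := mem_stabilizer_iff.mp hh.2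
  have hhb' : h' • t • a = t • a := mem_stabilizer_iff.mp hh'.2
  -- `f' f⁻¹` fixes `b`
  have e1 : (g' * h')⁻¹ * (g * h) * t = t * (f' * f⁻¹) := by
    have := congrArg (fun z => (g' * h')⁻¹ * z * f⁻¹) e
    beta_reduce at this
    have l1 : (g' * h')⁻¹ * (g * h * t * f) * f⁻¹ = (g' * h')⁻¹ * (g * h) * t := by group
    have l2 : (g' * h')⁻¹ * (g' * h' * t * f') * f⁻¹ = t * (f' * f⁻¹) := by group
    rw [l1, l2] at this
    exact this
  have hm : ((g' * h')⁻¹ * (g * h)) • a = a := by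
    rw [mul_smul, mul_smul, hha, hga, inv_smul_eq_iff, mul_smul, hha', hga']
  have hn : (f' * f⁻¹) • t • a = t • a := by
    have h1 : f' * f⁻¹ = t⁻¹ * ((g' * h')⁻¹ * (g * h)) * t := by
      rw [mul_assoc, e1]; group
    rw [h1, mul_smul, mul_smul, t_smul_t_smul hS, hm, t_inv hS]
  have hn1 : f' * f⁻¹ = 1 := by
    have : f' * f⁻¹ ∈ Q ⊓ stabilizer G (t • a) :=
      ⟨Q.mul_mem hf' (Q.inv_mem hf), mem_stabilizer_iff.mpr hn⟩
    rwa [hS.inf_eq_bot, Subgroup.mem_bot] at this
  have hff : f = f' := by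
    have := congrArg (fun z => z * f) hn1
    simpa using this.symm
  subst hff
  have e2 : g * h = g' * h' := by
    have := congrArg (fun z => z * f⁻¹ * t⁻¹) e
    simpa [mul_assoc] using this
  have e3 : g'⁻¹ * g = h' * h⁻¹ := by
    have := congrArg (fun z => g'⁻¹ * z * h⁻¹) e2
    simpa [mul_assoc] using this
  have h3 : g'⁻¹ * g ∈ Q ⊓ stabilizer G (t • a) := by
    refine ⟨Q.mul_mem (Q.inv_mem hg') hg, ?_⟩
    rw [e3]
    exact Subgroup.mul_mem _ hh'.2 (Subgroup.inv_mem _ hh.2)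
  rw [hS.inf_eq_bot, Subgroup.mem_bot] at h3
  have hgg : g = g' := by
    have := congrArg (fun z => g' * z) h3
    simpa using this
  subst hgg
  refine ⟨rfl, ?_, rfl⟩
  exact mul_left_cancel e2

/-- The simp set normalising words in `t` with `t * t = 1`. -/
theorem t_mul_t_mul (hS : IsRankOneSetup G Ω a t Q) (w : G) : t * (t * w) = w := by
  rw [← mul_assoc, hS.mul_self, one_mul]

end Cfsg.Agent.Helper7.ROS
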