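import Mathlib
import Cfsg.Prelude.Def_LieRecognition
import Cfsg.Agent.Helper7.RankOneSetup

set_option autoImplicit false

/-!
Dihedral lemmas and involutions in the rank-one set-up.
-/

namespace Cfsg.Agent.Helper7.ROS

open Cfsg MulAction

section dihedral

variable {G : Type*} [Group G]

theorem inv_of_sq {s : G} (hs : s * s = 1) : s⁻¹ = s := inv_eq_of_mul_eq_one_left hs

/-- `s (s u)^k s = (s u)^(-k)` for elements `s`, `u` of square one. -/
theorem conj_pow_left {s u : G} (hs : s * s = 1) (hu : u * u = 1) (k : ℕ) :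
    s * (s * u) ^ k * s = ((s * u) ^ k)⁻¹ := by
  induction k with
  | zero => simp [hs]
  | succ k ih =>
    have h1 : s * (s * u) * s = (s * u)⁻¹ := by
      rw [mul_inv_rev, inv_of_sq hs, inv_of_sq hu, ← mul_assoc, hs, one_mul]
    calc s * (s * u) ^ (k + 1) * s = (s * (s * u) ^ k * s) * (s * (s * u) * s) := by
          rw [pow_succ]
          have : (s * (s * u) ^ k * s) * (s * (s * u) * s) =
              s * (s * u) ^ k * (s * s) * (s * u) * s := by group
          rw [this, hs]; group
      _ = ((s * u) ^ k)⁻¹ * (s * u)⁻¹ := by rw [ih, h1]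
      _ = ((s * u) ^ (k + 1))⁻¹ := by rw [pow_succ', mul_inv_rev (s * u)]

theorem conj_pow_right {s u : G} (hs : s * s = 1) (hu : u * u = 1) (k : ℕ) :
    u * (s * u) ^ k * u = ((s * u) ^ k)⁻¹ := by
  -- `u (s u)^k u = u s (s (s u)^k s) s u`
  have h1 := conj_pow_left hs hu k
  have h2 : u * (s * u) ^ k * u = (s * u)⁻¹ * (s * (s * u) ^ k * s) * (s * u) := by
    rw [mul_inv_rev, inv_of_sq hs, inv_of_sq hu]
    have : u * s * (s * (s * u) ^ k * s) * (s * u) = u * (s * s) * (s * u) ^ k * (s * s) * u := by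
      group
    rw [this, hs]; group
  rw [h2, h1]
  have hc : Commute ((s * u)⁻¹) (((s * u) ^ k)⁻¹) :=
    ((Commute.refl (s * u)).pow_right k).inv_inv
  rw [hc.eq, mul_assoc, inv_mul_cancel, mul_one]

/-- If `s u` has even order then the dihedral group `⟨s, u⟩` has a central involution. -/
theorem exists_central_involution {s u : G} (hs : s * s = 1) (hu : u * u = 1)
    (hpos : 0 < orderOf (s * u)) (heven : Even (orderOf (s * u))) :
    ∃ z : G, z ≠ 1 ∧ z * z = 1 ∧ z * s = s * z ∧ z * u = u * z := by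
  obtain ⟨m, hm⟩ := heven
  have hm0 : 0 < m := by omega
  set z := (s * u) ^ m with hz
  have hzz : z * z = 1 := by
    rw [hz, ← pow_add, ← hm, pow_orderOf_eq_one]
  have hz1 : z ≠ 1 := by
    intro e
    have := orderOf_dvd_of_pow_eq_one e
    have := Nat.le_of_dvd hm0 this
    omega
  have hzinv : z⁻¹ = z := inv_of_sq hzz
  refine ⟨z, hz1, hzz, ?_, ?_⟩
  · have h1 := conj_pow_left hs hu m
    rw [← hz, hzinv] at h1
    -- s z s = z
    have := congrArg (fun w => s * w) h1
    simp only [← mul_assoc, hs, one_mul] at this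
    exact this
  · have h1 := conj_pow_right hs hu m
    rw [← hz, hzinv] at h1
    have := congrArg (fun w => u * w) h1
    simp only [← mul_assoc, hu, one_mul] at this
    exact this

/-- If `s u` has odd order then `s` and `u` are conjugate by an element of square one. -/
theorem exists_conj_of_odd {s u : G} (hs : s * s = 1) (hu : u * u = 1)
    (hodd : Odd (orderOf (s * u))) : ∃ w : G, w * w = 1 ∧ w * s * w⁻¹ = u := by
  obtain ⟨m, hm⟩ := hodd
  set g := (s * u) ^ m with hg
  have hgs : s * g * s = g⁻¹ := conj_pow_left hs hu m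
  have hgg : g * g * (s * u) = 1 := by
    rw [hg, ← pow_add, ← pow_succ, ← two_mul, ← hm, pow_orderOf_eq_one]
  refine ⟨g * s, ?_, ?_⟩
  · calc g * s * (g * s) = g * (s * g * s) := by group
      _ = 1 := by rw [hgs, mul_inv_cancel]
  · rw [mul_inv_rev, inv_of_sq hs]
    have h1 : g * s * s * (s * g⁻¹) = g * (s * s) * s * g⁻¹ := by group
    rw [h1, hs, mul_one]
    -- g s g⁻¹ = g g s = u
    have h2 : s * g⁻¹ = g * s := by
      have := congrArg (fun w => s * w) hgs
      simp only [← mul_assoc, hs, one_mul] at this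
      -- this : g * s = s * g⁻¹
      exact this.symm
    rw [mul_assoc, h2, ← mul_assoc]
    have h3 : g * g = (s * u)⁻¹ := eq_inv_of_mul_eq_one_left hgg
    rw [h3, mul_inv_rev, inv_of_sq hs, inv_of_sq hu, mul_assoc, hs, mul_one]

end dihedral

variable {G Ω : Type*} [Group G] [Finite G] [MulAction G Ω] {a : Ω} {t : G} {Q : Subgroup G}

/-- If `z` commutes with the involution `u` fixing only `c`, then `z` fixes `c`. -/
theorem smul_eq_of_commute (hS : IsRankOneSetup G Ω a t Q) {u z : G} (hu : u * u = 1) (hu1 : u ≠ 1)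
    {c : Ω} (hc : u • c = c) (hzu : z * u = u * z) : z • c = c := by
  obtain ⟨c', _, huniq⟩ := existsUnique_fixed_of_involution hS hu hu1
  have h1 : u • (z • c) = z • c := by rw [smul_smul, ← hzu, mul_smul, hc]
  rw [huniq _ h1, huniq _ hc]

/-- Involutions with different fixed points have a product of odd order. -/
theorem odd_orderOf_mul (hS : IsRankOneSetup G Ω a t Q) {u v : G} (hu : u * u = 1) (hu1 : u ≠ 1)
    (hv : v * v = 1) (hv1 : v ≠ 1) {c d : Ω} (hc : u • c = c) (hd : v • d = d) (hcd : c ≠ d) :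
    Odd (orderOf (u * v)) := by
  by_contra hodd
  rw [Nat.not_odd_iff_even] at hodd
  obtain ⟨z, hz1, hzz, hzu, hzv⟩ := exists_central_involution hu hv (orderOf_pos _) hodd
  have h1 := smul_eq_of_commute hS hu hu1 hc hzu
  have h2 := smul_eq_of_commute hS hv hv1 hd hzv
  obtain ⟨c', _, huniq⟩ := existsUnique_fixed_of_involution hS hzz hz1
  exact hcd ((huniq _ h1).trans (huniq _ h2).symm)

/-- Any two involutions of `G` are conjugate. -/
theorem involutions_conj (hS : IsRankOneSetup G Ω a t Q) {u v : G} (hu : u * u = 1) (hu1 : u ≠ 1)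
    (hv : v * v = 1) (hv1 : v ≠ 1) : ∃ g : G, g * u * g⁻¹ = v := by
  obtain ⟨c, hc, _⟩ := existsUnique_fixed_of_involution hS hu hu1
  obtain ⟨d, hd, _⟩ := existsUnique_fixed_of_involution hS hv hv1
  by_cases hcd : c = d
  · subst hcd
    -- move `u` away
    have := isPretransitive hS
    have hex : ∃ e : Ω, e ≠ c := by
      by_cases hca : c = a
      · exact ⟨t • a, by rw [hca]; exact b_ne_a hS⟩
      · exact ⟨a, Ne.symm hca⟩
    obtain ⟨e, hec⟩ := hex
    obtain ⟨g, rfl⟩ := MulAction.exists_smul_eq G c e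
    have hu' : (g * u * g⁻¹) * (g * u * g⁻¹) = 1 := by
      calc (g * u * g⁻¹) * (g * u * g⁻¹) = g * (u * u) * g⁻¹ := by group
        _ = 1 := by rw [hu]; group
    have hu1' : g * u * g⁻¹ ≠ 1 := by
      intro e
      apply hu1
      have := congrArg (fun z => g⁻¹ * z * g) e
      simpa [mul_assoc] using this
    have hc' : (g * u * g⁻¹) • (g • c) = g • c := by
      rw [smul_smul, mul_assoc, mul_assoc, inv_mul_cancel, mul_one, mul_smul, hc]
    obtain ⟨w, _, hw⟩ := exists_conj_of_odd hu' hv
      (odd_orderOf_mul hS hu' hu1' hv hv1 hc' hd hec)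
    refine ⟨w * g, ?_⟩
    rw [← hw]; group
  · obtain ⟨w, _, hw⟩ := exists_conj_of_odd hu hv (odd_orderOf_mul hS hu hu1 hv hv1 hc hd hcd)
    exact ⟨w, hw⟩

end Cfsg.Agent.Helper7.ROS
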