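import Mathlib
import Cfsg.Prelude.Def_LieRecognition
import Cfsg.Agent.Helper7.RankOneSetup
import Cfsg.Agent.Helper7.RankOneSetup2

set_option autoImplicit false

/-!
Subsets of the two-point stabiliser fixing at least three points, in the rank-one set-up.
-/

namespace Cfsg.Agent.Helper7.ROS

open Cfsg MulAction

variable {G Ω : Type*} [Group G] [MulAction G Ω] {a : Ω} {t : G} {Q : Subgroup G}

/-- `t` normalises `D`. -/
theorem tconj_mem_D' (hS : IsRankOneSetup G Ω a t Q) {d : G}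
    (hd : d ∈ stabilizer G a ⊓ stabilizer G (t • a)) :
    t * d * t ∈ stabilizer G a ⊓ stabilizer G (t • a) := by
  have h1 : d • a = a := mem_stabilizer_iff.mp hd.1
  have h2 : d • (t • a) = t • a := mem_stabilizer_iff.mp hd.2
  constructor
  · change t * d * t ∈ stabilizer G a
    rw [mem_stabilizer_iff, mul_smul, mul_smul, h2, t_smul_t_smul hS]
  · change t * d * t ∈ stabilizer G (t • a)
    rw [mem_stabilizer_iff, mul_smul, mul_smul, t_smul_t_smul hS, h1]

/-- If `X ⊆ G_a` fixes `b = t • a` and `c ≠ a`, the element of `Q` carrying `b` to `c` centralises `X`. -/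
theorem exists_cent_Q_smul (hS : IsRankOneSetup G Ω a t Q) {X : Set G}
    (hX : X ⊆ ((stabilizer G a ⊓ stabilizer G (t • a) : Subgroup G) : Set G)) {c : Ω} (hc : c ≠ a)
    (hXc : ∀ x ∈ X, x • c = c) :
    ∃ q ∈ Q, q ∈ Subgroup.centralizer X ∧ q • t • a = c := by
  obtain ⟨q, hq, e⟩ := exists_Q_smul_b hS hc
  refine ⟨q, hq, ?_, e⟩
  rw [Subgroup.mem_centralizer_iff]
  intro x hx
  have hxD := hX hx
  have hxa : x ∈ stabilizer G a := hxD.1
  have hxb : x • t • a = t • a := mem_stabilizer_iff.mp hxD.2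
  have hxb' : x⁻¹ • t • a = t • a := by
    rw [inv_smul_eq_iff, hxb]
  have h1 : x * q * x⁻¹ ∈ Q := hS.conj_mem x hxa q hq
  have h2 : (x * q * x⁻¹) • t • a = q • t • a := by
    rw [mul_smul, mul_smul, hxb', e, hXc x hx]
  have h3 := Q_eq_of_smul_eq hS h1 hq (b_ne_a hS) h2
  calc x * q = (x * q * x⁻¹) * x := by group
    _ = q * x := by rw [h3]

/-- The symmetric version: for `c ≠ b` fixed by `X` there is an element of the centraliser of `X`
fixing `b` and carrying `a` to `c`. -/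
theorem exists_cent_smul_a (hS : IsRankOneSetup G Ω a t Q) {X : Set G}
    (hX : X ⊆ ((stabilizer G a ⊓ stabilizer G (t • a) : Subgroup G) : Set G)) {c : Ω} (hc : c ≠ t • a)
    (hXc : ∀ x ∈ X, x • c = c) :
    ∃ g ∈ Subgroup.centralizer X, g • t • a = t • a ∧ g • a = c := by
  have htinv := t_inv hS
  -- conjugate by `t`
  have hX' : (fun x => t * x * t) '' X ⊆
      ((stabilizer G a ⊓ stabilizer G (t • a) : Subgroup G) : Set G) := by
    rintro _ ⟨x, hx, rfl⟩
    exact tconj_mem_D' hS (hX hx)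
  have hc' : t • c ≠ a := by
    intro h
    apply hc
    rw [← h, t_smul_t_smul hS]
  have hXc' : ∀ y ∈ (fun x => t * x * t) '' X, y • t • c = t • c := by
    rintro _ ⟨x, hx, rfl⟩
    rw [mul_smul, mul_smul, t_smul_t_smul hS, hXc x hx]
  obtain ⟨q, hq, hqc, e⟩ := exists_cent_Q_smul hS hX' hc' hXc'
  refine ⟨t * q * t, ?_, ?_, ?_⟩
  · rw [Subgroup.mem_centralizer_iff] at hqc ⊢
    intro x hx
    have h1 := hqc (t * x * t) ⟨x, hx, rfl⟩
    calc x * (t * q * t) = (t * t) * x * (t * q * t) := by rw [hS.mul_self, one_mul]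
      _ = t * ((t * x * t) * q) * t := by group
      _ = t * (q * (t * x * t)) * t := by rw [h1]
      _ = t * q * t * x * (t * t) := by group
      _ = t * q * t * x := by rw [hS.mul_self, mul_one]
  · rw [mul_smul, mul_smul, t_smul_t_smul hS, Q_smul_a hS hq]
  · rw [mul_smul, mul_smul, e, t_smul_t_smul hS]

/-- The centraliser of `X` preserves the fixed points of `X`. -/
theorem cent_smul_fixed {X : Set G} {g : G} (hg : g ∈ Subgroup.centralizer X) {c : Ω}
    (hXc : ∀ x ∈ X, x • c = c) : ∀ x ∈ X, x • g • c = g • c := by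
  intro x hx
  rw [Subgroup.mem_centralizer_iff] at hg
  rw [smul_smul, hg x hx, mul_smul, hXc x hx]

/-- Some element of `C_G(X)` carries a given fixed point of `X` to `a`, provided `X` has a
third fixed point. -/
theorem exists_cent_smul_eq_a (hS : IsRankOneSetup G Ω a t Q) {X : Set G}
    (hX : X ⊆ ((stabilizer G a ⊓ stabilizer G (t • a) : Subgroup G) : Set G))
    {e : Ω} (hea : e ≠ a) (heb : e ≠ t • a) (hXe : ∀ x ∈ X, x • e = e)
    {c : Ω} (hXc : ∀ x ∈ X, x • c = c) :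
    ∃ g ∈ Subgroup.centralizer X, g • c = a := by
  have key : ∀ c : Ω, c ≠ t • a → (∀ x ∈ X, x • c = c) →
      ∃ g ∈ Subgroup.centralizer X, g • c = a := by
    intro c hc hXc
    obtain ⟨g, hg, _, e2⟩ := exists_cent_smul_a hS hX hc hXc
    refine ⟨g⁻¹, Subgroup.inv_mem _ hg, ?_⟩
    rw [inv_smul_eq_iff, e2]
  by_cases hcb : c = t • a
  · -- first move `b` to `e` inside `G_a`, then `e` to `a`
    obtain ⟨q, _, hqc, e1⟩ := exists_cent_Q_smul hS hX hea hXe
    obtain ⟨g, hg, e2⟩ := key e heb hXe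
    refine ⟨g * q, Subgroup.mul_mem _ hg hqc, ?_⟩
    rw [hcb, mul_smul, e1, e2]
  · exact key c hcb hXc

/-- `C_G(X)` carries any pair of distinct fixed points of `X` to `(a, b)`. -/
theorem exists_cent_smul_pair (hS : IsRankOneSetup G Ω a t Q) {X : Set G}
    (hX : X ⊆ ((stabilizer G a ⊓ stabilizer G (t • a) : Subgroup G) : Set G))
    {e : Ω} (hea : e ≠ a) (heb : e ≠ t • a) (hXe : ∀ x ∈ X, x • e = e)
    {c d : Ω} (hcd : c ≠ d) (hXc : ∀ x ∈ X, x • c = c) (hXd : ∀ x ∈ X, x • d = d) :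
    ∃ g ∈ Subgroup.centralizer X, g • c = a ∧ g • d = t • a := by
  obtain ⟨g, hg, e1⟩ := exists_cent_smul_eq_a hS hX hea heb hXe hXc
  have hgd : g • d ≠ a := by
    intro h
    apply hcd
    rw [← e1] at h
    exact (MulAction.injective g h).symm
  obtain ⟨q, hq, hqc, e2⟩ := exists_cent_Q_smul hS hX hgd (cent_smul_fixed hg hXd)
  refine ⟨q⁻¹ * g, Subgroup.mul_mem _ (Subgroup.inv_mem _ hqc) hg, ?_, ?_⟩
  · rw [mul_smul, e1, inv_smul_eq_iff, Q_smul_a hS hq]
  · rw [mul_smul, inv_smul_eq_iff, e2]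

/-- There is a third fixed point. -/
theorem exists_third_fixed {X : Set G}
    (h3 : ∃ b c d : Ω, b ≠ c ∧ b ≠ d ∧ c ≠ d ∧ ∀ x ∈ X, x • b = b ∧ x • c = c ∧ x • d = d)
    (p q : Ω) : ∃ e : Ω, e ≠ p ∧ e ≠ q ∧ ∀ x ∈ X, x • e = e := by
  obtain ⟨b, c, d, hbc, hbd, hcd, h⟩ := h3
  by_cases h1 : b ≠ p ∧ b ≠ q
  · exact ⟨b, h1.1, h1.2, fun x hx => (h x hx).1⟩
  by_cases h2 : c ≠ p ∧ c ≠ q
  · exact ⟨c, h2.1, h2.2, fun x hx => (h x hx).2.1⟩
  refine ⟨d, ?_, ?_, fun x hx => (h x hx).2.2⟩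
  · rintro rfl
    rw [not_and_or, not_not, not_not] at h1 h2
    rcases h1 with h1 | h1
    · exact hbd h1
    · rcases h2 with h2 | h2
      · exact hcd h2
      · exact hbc (h1.trans h2.symm)
  · rintro rfl
    rw [not_and_or, not_not, not_not] at h1 h2
    rcases h1 with h1 | h1
    · rcases h2 with h2 | h2
      · exact hbc (h1.trans h2.symm)
      · exact hcd h2
    · exact hbd h1

/-- The elements of `D` have odd order. -/
theorem odd_orderOf_of_mem_D (hS : IsRankOneSetup G Ω a t Q) {d : G}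
    (hd : d ∈ stabilizer G a ⊓ stabilizer G (t • a)) : Odd (orderOf d) := by
  have h2 : orderOf (⟨d, hd⟩ : ↥(stabilizer G a ⊓ stabilizer G (t • a))) ∣
      Nat.card ↥(stabilizer G a ⊓ stabilizer G (t • a)) := orderOf_dvd_natCard _
  rw [Subgroup.orderOf_mk] at h2
  exact hS.odd_card.of_dvd_nat h2

/-- An element swapping `a` and `b` has an odd power which is an involution swapping `a` and `b`. -/
theorem exists_involution_of_swap (hS : IsRankOneSetup G Ω a t Q) {g : G}
    (h1 : g • a = t • a) (h2 : g • t • a = a) :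
    ∃ n : ℕ, (g ^ n) * (g ^ n) = 1 ∧ (g ^ n) • a = t • a ∧ (g ^ n) • t • a = a := by
  have hgg : g * g ∈ stabilizer G a ⊓ stabilizer G (t • a) := by
    constructor
    · change g * g ∈ stabilizer G a
      rw [mem_stabilizer_iff, mul_smul, h1, h2]
    · change g * g ∈ stabilizer G (t • a)
      rw [mem_stabilizer_iff, mul_smul, h2, h1]
  obtain ⟨m, hm⟩ := odd_orderOf_of_mem_D hS hgg
  have hpow : (g * g) ^ m ∈ stabilizer G a ⊓ stabilizer G (t • a) := Subgroup.pow_mem _ hgg m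
  have e1 : g ^ orderOf (g * g) = (g * g) ^ m * g := by
    rw [hm, pow_succ, pow_mul, pow_two]
  refine ⟨orderOf (g * g), ?_, ?_, ?_⟩
  · rw [← (Commute.refl g).mul_pow, pow_orderOf_eq_one]
  · rw [e1, mul_smul, h1]
    exact mem_stabilizer_iff.mp hpow.2
  · rw [e1, mul_smul, h2]
    exact mem_stabilizer_iff.mp hpow.1

/-- A set `X ⊆ D` fixing three points is centralised by an involution swapping `a` and `b`. -/
theorem exists_cent_involution (hS : IsRankOneSetup G Ω a t Q) {X : Set G}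
    (hX : X ⊆ ((stabilizer G a ⊓ stabilizer G (t • a) : Subgroup G) : Set G))
    (h3 : ∃ b c d : Ω, b ≠ c ∧ b ≠ d ∧ c ≠ d ∧ ∀ x ∈ X, x • b = b ∧ x • c = c ∧ x • d = d) :
    ∃ u ∈ Subgroup.centralizer X, u * u = 1 ∧ u • a = t • a ∧ u • t • a = a := by
  obtain ⟨e, hea, heb, hXe⟩ := exists_third_fixed h3 a (t • a)
  have hXa : ∀ x ∈ X, x • a = a := fun x hx => mem_stabilizer_iff.mp (hX hx).1
  have hXb : ∀ x ∈ X, x • t • a = t • a := fun x hx => mem_stabilizer_iff.mp (hX hx).2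
  obtain ⟨g, hg, e1, e2⟩ := exists_cent_smul_pair hS hX hea heb hXe (b_ne_a hS) hXb hXa
  obtain ⟨n, hn1, hn2, hn3⟩ := exists_involution_of_swap hS e2 e1
  exact ⟨g ^ n, Subgroup.pow_mem _ hg n, hn1, hn2, hn3⟩

/-- An involution swapping `a` and `b` is conjugate to `t` under `D`. -/
theorem exists_conj_of_swap (hS : IsRankOneSetup G Ω a t Q) {u : G} (hu : u * u = 1)
    (h1 : u • a = t • a) (h2 : u • t • a = a) :
    ∃ l ∈ stabilizer G a ⊓ stabilizer G (t • a), u = l⁻¹ * t * l := by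
  have htinv := t_inv hS
  have huinv : u⁻¹ = u := inv_eq_of_mul_eq_one_left hu
  have hκ : t * u ∈ stabilizer G a ⊓ stabilizer G (t • a) := by
    constructor
    · change t * u ∈ stabilizer G a
      rw [mem_stabilizer_iff, mul_smul, h1, t_smul_t_smul hS]
    · change t * u ∈ stabilizer G (t • a)
      rw [mem_stabilizer_iff, mul_smul, h2]
  have hinv : t * (t * u) * t⁻¹ = (t * u)⁻¹ := by
    rw [mul_inv_rev, htinv, huinv, ← mul_assoc, hS.mul_self, one_mul]
  obtain ⟨m, hm⟩ := odd_orderOf_of_mem_D hS hκ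
  have hl : (t * u) ^ (m + 1) ∈ stabilizer G a ⊓ stabilizer G (t • a) := Subgroup.pow_mem _ hκ _
  have hll : (t * u) ^ (m + 1) * (t * u) ^ (m + 1) = t * u := by
    rw [← pow_add]
    have : m + 1 + (m + 1) = orderOf (t * u) + 1 := by rw [hm]; ring
    rw [this, pow_succ, pow_orderOf_eq_one, one_mul]
  have hlinv : t * (t * u) ^ (m + 1) * t⁻¹ = ((t * u) ^ (m + 1))⁻¹ := by
    rw [← conj_pow, hinv, inv_pow]
  refine ⟨(t * u) ^ (m + 1), hl, ?_⟩
  set l := (t * u) ^ (m + 1) with hldef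
  clear_value l
  have e1 : t * l⁻¹ * t = l := by
    have := congrArg (fun z => z⁻¹) hlinv
    simp only [mul_inv_rev, inv_inv] at this
    rw [htinv, ← mul_assoc] at this
    exact this
  calc u = (t * t) * u := by rw [hS.mul_self, one_mul]
    _ = t * (l * l) := by rw [hll, mul_assoc]
    _ = t * ((t * l⁻¹ * t) * l) := by rw [e1]
    _ = (t * t) * l⁻¹ * t * l := by group
    _ = l⁻¹ * t * l := by rw [hS.mul_self, one_mul]

end Cfsg.Agent.Helper7.ROS
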