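import Mathlib
import Cfsg.Prelude.Def_LieRecognition
import Cfsg.Agent.Helper7.RankOneSetup3

set_option autoImplicit false

/-!
More on the rank-one set-up: the fixed point of `t`, conjugating involutions swapping `a`, `b`.
-/

namespace Cfsg.Agent.Helper7.ROS

open Cfsg MulAction

variable {G Ω : Type*} [Group G] [Finite G] [MulAction G Ω] {a : Ω} {t : G} {Q : Subgroup G}

omit [Finite G] in
/-- An involution swapping `a` and `b` is conjugate to `t` under a power of `t u`. -/
theorem exists_conj_pow_of_swap (hS : IsRankOneSetup G Ω a t Q) {u : G} (hu : u * u = 1)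
    (h1 : u • a = t • a) (h2 : u • t • a = a) :
    ∃ j : ℕ, u = ((t * u) ^ j)⁻¹ * t * (t * u) ^ j := by
  have htinv := t_inv hS
  have huinv : u⁻¹ = u := inv_eq_of_mul_eq_one_left hu
  have hκ : t * u ∈ stabilizer G a ⊓ stabilizer G (t • a) := by
    constructor
    · change t * u ∈ stabilizer G a
      rw [mem_stabilizer_iff, mul_smul, h1, t_smul_t_smul hS]
    · change t * u ∈ stabilizer G (t • a)
      rw [mem_stabilizer_iff, mul_smul, h2]
  have hinv : t * (t * u) * t⁻¹ = (t * u)⁻¹ := by
    rw [mul_inv_rev, htinv, huinv, ← mul_assoc, hS.mul_self, one_mul]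
  obtain ⟨m, hm⟩ := odd_orderOf_of_mem_D hS hκ
  have hll : (t * u) ^ (m + 1) * (t * u) ^ (m + 1) = t * u := by
    rw [← pow_add]
    have : m + 1 + (m + 1) = orderOf (t * u) + 1 := by rw [hm]; ring
    rw [this, pow_succ, pow_orderOf_eq_one, one_mul]
  have hlinv : t * (t * u) ^ (m + 1) * t⁻¹ = ((t * u) ^ (m + 1))⁻¹ := by
    rw [← conj_pow, hinv, inv_pow]
  refine ⟨m + 1, ?_⟩
  set l := (t * u) ^ (m + 1) with hldef
  clear_value l
  have e1 : t * l⁻¹ * t = l := by
    have := congrArg (fun z => z⁻¹) hlinv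
    simp only [mul_inv_rev, inv_inv] at this
    rw [htinv, ← mul_assoc] at this
    exact this
  calc u = (t * t) * u := by rw [hS.mul_self, one_mul]
    _ = t * (l * l) := by rw [hll, mul_assoc]
    _ = t * ((t * l⁻¹ * t) * l) := by rw [e1]
    _ = (t * t) * l⁻¹ * t * l := by group
    _ = l⁻¹ * t * l := by rw [hS.mul_self, one_mul]

/-- The fixed point of `t` is neither `a` nor `b`. -/
theorem exists_fixed_t (hS : IsRankOneSetup G Ω a t Q) :
    ∃ c : Ω, t • c = c ∧ c ≠ a ∧ c ≠ t • a := by
  obtain ⟨c, hc, _⟩ := existsUnique_fixed_of_involution hS hS.mul_self hS.ne_one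
  refine ⟨c, hc, ?_, ?_⟩
  · rintro rfl
    exact b_ne_a hS hc
  · intro h
    apply b_ne_a hS
    have h1 : t • c = t • t • a := congrArg (fun z => t • z) h
    rw [t_smul_t_smul hS, hc] at h1
    rw [← h, h1]

/-- Elements commuting with `t` fix the fixed point of `t`. -/
theorem smul_fixed_t_of_comm (hS : IsRankOneSetup G Ω a t Q) {c : Ω} (hc : t • c = c) {x : G}
    (hx : x * t = t * x) : x • c = c :=
  smul_eq_of_commute hS hS.mul_self hS.ne_one hc hx

end Cfsg.Agent.Helper7.ROS
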