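import Mathlib
import Cfsg.Agent.Helper7.RankOneSetup4
import Cfsg.Agent.S0033
import Cfsg.Agent.S1122
import Cfsg.Agent.S1128

set_option autoImplicit false

namespace Cfsg.Agent.Helper7.ROS

open MulAction Cfsg

variable {G Ω : Type*} [Group G] [Finite G] [MulAction G Ω] {a : Ω} {t : G} {Q : Subgroup G}

/-- With two distinct commuting involutions in `G`, the stabiliser `G_a` has two distinct
involutions. -/
theorem exists_two_involutions (hS : IsRankOneSetup G Ω a t Q)
    (h2 : ∃ x y : G, x ≠ 1 ∧ y ≠ 1 ∧ x ≠ y ∧ x * x = 1 ∧ y * y = 1 ∧ x * y = y * x) :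
    ∃ s s' : G, s ∈ involutionsIn (stabilizer G a : Set G) ∧
      s' ∈ involutionsIn (stabilizer G a : Set G) ∧ s ≠ s' := by
  obtain ⟨x, y, hx1, hy1, hxy, hxx, hyy, hc⟩ := h2
  obtain ⟨c, hc', _⟩ := existsUnique_fixed_of_involution hS hxx hx1
  have hyc : y • c = c := smul_eq_of_commute hS hxx hx1 hc' hc.symm
  have := isPretransitive hS
  obtain ⟨g, hg⟩ := MulAction.exists_smul_eq G c a
  have hfix : ∀ z : G, z • c = c → g * z * g⁻¹ ∈ stabilizer G a := by
    intro z hz
    rw [mem_stabilizer_iff, mul_smul, mul_smul, ← hg, inv_smul_smul, hz]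
  have hsq : ∀ z : G, z * z = 1 → (g * z * g⁻¹) * (g * z * g⁻¹) = 1 := by
    intro z hz
    calc (g * z * g⁻¹) * (g * z * g⁻¹) = g * (z * z) * g⁻¹ := by group
      _ = 1 := by rw [hz]; group
  have hne : ∀ z : G, z ≠ 1 → g * z * g⁻¹ ≠ 1 := by
    intro z hz e
    apply hz
    have := congrArg (fun w => g⁻¹ * w * g) e
    simpa [mul_assoc] using this
  refine ⟨g * x * g⁻¹, g * y * g⁻¹, ⟨hfix x hc', hne x hx1, hsq x hxx⟩,
    ⟨hfix y hyc, hne y hy1, hsq y hyy⟩, ?_⟩
  intro e
  apply hxy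
  have := congrArg (fun w => g⁻¹ * w * g) e
  simpa [mul_assoc] using this

/-- Powers of inverted elements are inverted. -/
theorem pow_mem_invertedBy {D : Subgroup G} {κ : G} (hκ : κ ∈ invertedBy D t) (j : ℕ) :
    κ ^ j ∈ invertedBy D t := by
  refine ⟨D.pow_mem hκ.1 j, ?_⟩
  have : t * κ ^ j * t⁻¹ = (t * κ * t⁻¹) ^ j := by
    rw [conj_pow]
  rw [this, hκ.2, inv_pow]

/-- In the rank-one set-up with two commuting involutions, `Q` is nilpotent. -/
theorem Q_nilpotent [FaithfulSMul G Ω] (hS : IsRankOneSetup G Ω a t Q)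
    (h2 : ∃ x y : G, x ≠ 1 ∧ y ≠ 1 ∧ x ≠ y ∧ x * x = 1 ∧ y * y = 1 ∧ x * y = y * x) :
    Group.IsNilpotent Q := by
  classical
  obtain ⟨s, s', hs, hs', hss'⟩ := exists_two_involutions hS h2
  obtain ⟨k, hk, hks⟩ := (Cfsg.Agent.S1122.result hS).2 s hs s' hs'
  have hk1 : k ≠ 1 := by
    rintro rfl
    apply hss'
    simpa using hks
  -- a power of prime order
  have hord : orderOf k ≠ 1 := by
    rw [Ne, orderOf_eq_one_iff]
    exact hk1
  obtain ⟨r, hr, hrk⟩ := Nat.exists_prime_and_dvd hord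
  obtain ⟨j, hj⟩ := hrk
  have hkpos : 0 < orderOf k := orderOf_pos k
  have hjpos : 0 < j := by
    rcases Nat.eq_zero_or_pos j with h | h
    · rw [h, mul_zero] at hj; omega
    · exact h
  obtain ⟨κ, hκdef⟩ : ∃ κ : G, κ = k ^ j := ⟨_, rfl⟩
  have hκord : orderOf κ = r := by
    rw [hκdef, orderOf_pow' k hjpos.ne', hj, Nat.gcd_eq_right (Dvd.intro_left r rfl),
      Nat.mul_div_cancel _ hjpos]
  have hκK : κ ∈ invertedBy (stabilizer G a ⊓ stabilizer G (t • a)) t := by
    rw [hκdef]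
    exact pow_mem_invertedBy hk j
  have hκ1 : κ ≠ 1 := by
    intro e
    rw [e, orderOf_one] at hκord
    exact hr.one_lt.ne hκord
  have hfpf := Cfsg.Agent.S1128.result hS h2 κ hκK hκ1
  have hκa : κ ∈ stabilizer G a := hκK.1.1
  have hκa' : κ⁻¹ ∈ stabilizer G a := (stabilizer G a).inv_mem hκa
  have hnorm : ∀ x ∈ Q, κ * x * κ⁻¹ ∈ Q := fun x hx => hS.conj_mem κ hκa x hx
  have hnorm' : ∀ x ∈ Q, κ⁻¹ * x * κ ∈ Q := fun x hx => by
    have := hS.conj_mem κ⁻¹ hκa' x hx
    rwa [inv_inv] at this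
  let φ : Q ≃* Q :=
    { toFun := fun x => ⟨κ * x * κ⁻¹, hnorm x x.2⟩
      invFun := fun x => ⟨κ⁻¹ * x * κ, hnorm' x x.2⟩
      left_inv := fun x => by
        apply Subtype.ext
        simp [mul_assoc]
      right_inv := fun x => by
        apply Subtype.ext
        simp [mul_assoc]
      map_mul' := fun x y => by
        apply Subtype.ext
        simp [mul_assoc] }
  have hφpow : ∀ (i : ℕ) (x : Q), (((φ ^ i) x : Q) : G) = κ ^ i * x * (κ ^ i)⁻¹ := by
    intro i
    induction i with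
    | zero => intro x; simp
    | succ i ih =>
      intro x
      rw [pow_succ', MulAut.mul_apply]
      change κ * (((φ ^ i) x : Q) : G) * κ⁻¹ = _
      rw [ih, pow_succ', mul_inv_rev]
      group
  have hφfpf : MonoidHom.FixedPointFree (φ : Q →* Q) := by
    intro x hx
    have hx' : κ * (x : G) * κ⁻¹ = x := congrArg Subtype.val hx
    have hmem : (x : G) ∈ Q ⊓ Subgroup.centralizer {κ} := by
      refine ⟨x.2, ?_⟩
      change (x : G) ∈ Subgroup.centralizer {κ}
      rw [Subgroup.mem_centralizer_iff]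
      intro z hz
      rw [Set.mem_singleton_iff] at hz
      subst hz
      calc z * x = z * x * z⁻¹ * z := by group
        _ = x * z := by rw [hx']
    rw [hfpf, Subgroup.mem_bot] at hmem
    exact Subtype.ext hmem
  have hφord : orderOf φ = r := by
    have h1 : φ ^ r = 1 := by
      ext x
      rw [hφpow, ← hκord, pow_orderOf_eq_one]
      simp
    have h2' : orderOf φ ∣ r := orderOf_dvd_of_pow_eq_one h1
    rcases (Nat.dvd_prime hr).mp h2' with h | h
    · exfalso
      rw [orderOf_eq_one_iff] at h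
      obtain ⟨x, hxQ, hx1⟩ := exists_ne_one hS
      have := hφfpf ⟨x, hxQ⟩ (by rw [h]; rfl)
      exact hx1 (congrArg Subtype.val this)
    · exact h
  exact Cfsg.Agent.S0033.result φ hφfpf r hr hφord

end Cfsg.Agent.Helper7.ROS
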