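import Mathlib
import Cfsg.Prelude.Def_RootSubgroups
import Cfsg.Agent.Helper7.RankOneOmega

set_option autoImplicit false

/-!
Rank one groups: normal subgroups, the centre and the second centre.
-/

namespace Cfsg.Agent.Helper7.R1

open Cfsg

variable {G : Type*} [Group G] {A B C D : Subgroup G}

theorem conjBy_of_comm {C : Subgroup G} {z : G} (hz : ∀ x ∈ C, z * x = x * z) : conjBy C z = C := by
  ext x
  rw [mem_conjBy]
  constructor
  · intro hx
    have := hz _ hx
    have e : x = z * (z⁻¹ * x * z) * z⁻¹ := by group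
    rw [e, this]
    simpa using hx
  · intro hx
    have := hz _ hx
    have e : z⁻¹ * x * z = z⁻¹ * (x * z) := by group
    rw [e, ← this]
    simpa using hx

/-- If a normal subgroup `N` of `⟨A, B⟩` moves some unipotent subgroup, then `B ≤ N A`. -/
theorem right_le_sup_of_moves (h : IsRankOnePair A B) {N : Subgroup G}
    (hNn : ∀ n ∈ N, ∀ x ∈ A ⊔ B, x * n * x⁻¹ ∈ N) (hN : N ≤ A ⊔ B) {n : G} (hn : n ∈ N)
    (hC : C ∈ unipotentSubgroups A B) (hmove : conjBy C n ≠ C) : B ≤ N ⊔ A := by
  obtain ⟨x, hx, rfl⟩ := hC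
  set n' := x⁻¹ * n * x with hn'
  have hn'N : n' ∈ N := by
    have := hNn n hn x⁻¹ (Subgroup.inv_mem _ hx)
    rwa [inv_inv] at this
  have hmove' : conjBy A n' ≠ A := by
    intro e
    apply hmove
    rw [conjBy_conjBy]
    have e2 : n * x = x * n' := by rw [hn']; group
    rw [e2, conjBy_mul, e]
  have hD : conjBy A n' ∈ unipotentSubgroups A B := ⟨n', hN hn'N, rfl⟩
  obtain ⟨a, ⟨ha, e⟩, _⟩ := regular h hD (right_mem_unipotent h) hmove' h.ne.symm
  have hB : B = conjBy A (a * n' * a⁻¹) := by
    rw [conjBy_mul, conjBy_of_mem (A.inv_mem ha), conjBy_mul, e]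
  rw [hB]
  apply conjBy_le_of_le le_sup_right
  have := hNn n' hn'N a (Subgroup.mem_sup_left ha)
  exact Subgroup.mem_sup_left this

theorem sup_eq_top_or_le_center {X : Type*} [Group X] {A B : Subgroup X}
    (h : IsRankOneGroup X A B) (N : Subgroup X) (hN : N.Normal) :
    N ⊔ A = ⊤ ∨ N ≤ Subgroup.center X := by
  obtain ⟨htop, hp⟩ := h
  by_cases hfix : ∀ n ∈ N, ∀ C ∈ unipotentSubgroups A B, conjBy C n = C
  · right
    intro n hn
    rw [Subgroup.mem_center_iff]
    intro x
    have := comm_of_fixes_all hp (hfix n hn) x (by rw [htop]; trivial)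
    exact this.symm
  · left
    push Not at hfix
    obtain ⟨n, hn, C, hC, hmove⟩ := hfix
    have hB : B ≤ N ⊔ A := right_le_sup_of_moves hp
      (fun n hn x _ => hN.conj_mem n hn x) (by rw [htop]; exact le_top) hn hC hmove
    rw [eq_top_iff, ← htop]
    exact sup_le le_sup_right hB

theorem left_not_le_center {X : Type*} [Group X] {A B : Subgroup X} (hp : IsRankOnePair A B) :
    ¬ A ≤ Subgroup.center X := by
  intro hle
  obtain ⟨a, ha, ha1⟩ := exists_nonid hp
  have hc := hle ha
  rw [Subgroup.mem_center_iff] at hc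
  apply ha1
  apply eq_one_of_conjBy_right hp ha
  exact conjBy_of_comm (fun x _ => (hc x).symm)

/-- In a rank one group, an element whose commutators with everything are central is central. -/
theorem mem_center_of_commutators {X : Type*} [Group X] {A B : Subgroup X}
    (h : IsRankOneGroup X A B) {z : X}
    (hz : ∀ y : X, z * y * z⁻¹ * y⁻¹ ∈ Subgroup.center X) : z ∈ Subgroup.center X := by
  obtain ⟨htop, hp⟩ := h
  have key : ∀ {A B : Subgroup X}, IsRankOnePair A B → A ⊔ B = ⊤ → conjBy A z = A := by
    intro A B hp htop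
    by_contra hne
    have hC : conjBy A z ∈ unipotentSubgroups A B := ⟨z, by rw [htop]; trivial, rfl⟩
    obtain ⟨a, ha, ha1⟩ := exists_nonid hp
    have hcentral : a * z * a⁻¹ * z⁻¹ ∈ Subgroup.center X := by
      have := Subgroup.inv_mem _ (hz a)
      have e : (z * a * z⁻¹ * a⁻¹)⁻¹ = a * z * a⁻¹ * z⁻¹ := by group
      rwa [e] at this
    have hfix : conjBy (conjBy A z) a = conjBy A z := by
      have h1 : conjBy (conjBy A z) (a * z * a⁻¹ * z⁻¹) = conjBy A z := by
        apply conjBy_of_comm
        intro x _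
        rw [Subgroup.mem_center_iff] at hcentral
        exact (hcentral x).symm
      rw [conjBy_mul, conjBy_mul, conjBy_mul, conjBy_conjBy A, inv_mul_cancel, conjBy_one,
        conjBy_of_mem (A.inv_mem ha)] at h1
      exact h1
    obtain ⟨a', _, huniq⟩ := regular hp hC hC hne hne
    have e1 := huniq a ⟨ha, hfix⟩
    have e2 := huniq 1 ⟨A.one_mem, conjBy_one _⟩
    exact ha1 (e1.trans e2.symm)
  have hfix : ∀ C ∈ unipotentSubgroups A B, conjBy C z = C := by
    intro C hC
    by_cases hCA : C = A
    · rw [hCA]; exact key hp htop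
    · obtain ⟨hp', hsup⟩ := pair_of_unipotent hp hC left_mem_unipotent hCA
      exact key hp' (hsup.trans htop)
  rw [Subgroup.mem_center_iff]
  intro x
  exact (comm_of_fixes_all hp hfix x (by rw [htop]; trivial)).symm

theorem upperCentralSeries_two_eq {X : Type*} [Group X] {A B : Subgroup X}
    (h : IsRankOneGroup X A B) : Subgroup.upperCentralSeries X 2 = Subgroup.center X := by
  apply le_antisymm
  · intro z hz
    rw [Subgroup.mem_upperCentralSeries_succ_iff] at hz
    apply mem_center_of_commutators h
    intro y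
    have := hz y
    rwa [Subgroup.upperCentralSeries_one] at this
  · rw [← Subgroup.upperCentralSeries_one]
    exact Subgroup.upperCentralSeries_mono X (by norm_num)

theorem upperCentralSeries_le_center {X : Type*} [Group X]
    (h2 : Subgroup.upperCentralSeries X 2 = Subgroup.center X) (n : ℕ) :
    Subgroup.upperCentralSeries X n ≤ Subgroup.center X := by
  induction n with
  | zero => simp
  | succ n ih =>
    intro z hz
    rw [Subgroup.mem_upperCentralSeries_succ_iff] at hz
    rw [← h2, Subgroup.mem_upperCentralSeries_succ_iff]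
    intro y
    rw [Subgroup.upperCentralSeries_one]
    exact ih (hz y)

theorem not_isNilpotent {X : Type*} [Group X] {A B : Subgroup X}
    (h : IsRankOneGroup X A B) : ¬ Group.IsNilpotent X := by
  rintro ⟨n, hn⟩
  have := upperCentralSeries_le_center (upperCentralSeries_two_eq h) n
  rw [hn] at this
  exact left_not_le_center h.2 (le_top.trans this)

end Cfsg.Agent.Helper7.R1
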