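import Mathlib

set_option autoImplicit false
set_option linter.unusedSectionVars false
set_option linter.unusedVariables false

/-!
Abstract counting lemmas: conjugates of a subset of a subgroup with a trivial-intersection property, pairs of
commuting elements, elements of order `2 i` with `i` odd, and preimages under a homomorphism.
-/

namespace Cfsg.Agent.Helper7.ReeCnt

/-- If all the fibres of a map have `c` elements, the source has `c` times as many elements as the target. -/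
theorem card_eq_mul_of_fibers {α β : Type*} [Finite α] [Finite β] (f : α → β) (c : ℕ)
    (h : ∀ b, Nat.card {a // f a = b} = c) : Nat.card α = Nat.card β * c := by
  haveI := Fintype.ofFinite β
  rw [← Nat.card_congr (Equiv.sigmaFiberEquiv f), Nat.card_sigma]
  simp [h, Nat.card_eq_fintype_card]

theorem card_pairs_fst {α β : Type*} [Finite α] [Finite β] (A : α → Prop) (R : α → β → Prop) (c : ℕ)
    (h : ∀ a, A a → Nat.card {b // R a b} = c) :
    Nat.card {p : α × β // A p.1 ∧ R p.1 p.2} = Nat.card {a // A a} * c := by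
  let f : {p : α × β // A p.1 ∧ R p.1 p.2} → {a // A a} := fun p => ⟨p.1.1, p.2.1⟩
  apply card_eq_mul_of_fibers f c
  rintro ⟨a, ha⟩
  rw [← h a ha]
  apply Nat.card_congr
  refine
    { toFun := fun p => ⟨p.1.1.2, ?_⟩
      invFun := fun b => ⟨⟨(a, b.1), ha, b.2⟩, rfl⟩
      left_inv := ?_
      right_inv := ?_ }
  · have h1 : p.1.1.1 = a := congrArg Subtype.val p.2
    have h2 := p.1.2.2
    rw [h1] at h2
    exact h2
  · rintro ⟨⟨⟨a', b⟩, h1, h2⟩, h3⟩
    have h4 : a' = a := congrArg Subtype.val h3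
    subst h4
    rfl
  · rintro ⟨b, hb⟩
    rfl

theorem card_pairs_snd {α β : Type*} [Finite α] [Finite β] (B : β → Prop) (R : α → β → Prop) (c : ℕ)
    (h : ∀ b, B b → Nat.card {a // R a b} = c) :
    Nat.card {p : α × β // B p.2 ∧ R p.1 p.2} = Nat.card {b // B b} * c := by
  rw [← card_pairs_fst B (fun b a => R a b) c h]
  apply Nat.card_congr
  exact
    { toFun := fun p => ⟨(p.1.2, p.1.1), p.2⟩
      invFun := fun p => ⟨(p.1.2, p.1.1), p.2⟩
      left_inv := fun p => rfl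
      right_inv := fun p => rfl }

section group

variable {G : Type*} [Group G]

/-- Counting the conjugates of the elements of a subset `Y` of a subgroup `T`, when an element conjugating an
element of `Y` into `T` normalises `T`. -/
theorem card_conj_mul_card_normalizer [Finite G] (T : Subgroup G) (Y : Set G)
    (hYT : Y ⊆ T) (hYN : ∀ n ∈ Subgroup.normalizer (T : Set G), ∀ y ∈ Y, n⁻¹ * y * n ∈ Y)
    (hTI : ∀ y ∈ Y, ∀ g : G, g⁻¹ * y * g ∈ T → g ∈ Subgroup.normalizer (T : Set G)) :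
    Nat.card {x : G // ∃ g : G, g⁻¹ * x * g ∈ Y} * Nat.card (Subgroup.normalizer (T : Set G)) =
      Nat.card G * Nat.card Y := by
  classical
  let X := {x : G // ∃ g : G, g⁻¹ * x * g ∈ Y}
  let g₀ : X → G := fun x => Classical.choose x.2
  have hg₀ : ∀ x : X, (g₀ x)⁻¹ * x.1 * g₀ x ∈ Y := fun x => Classical.choose_spec x.2
  let f : X × Subgroup.normalizer (T : Set G) → G × Y := fun p =>
    (g₀ p.1 * p.2.1, ⟨p.2.1⁻¹ * ((g₀ p.1)⁻¹ * p.1.1 * g₀ p.1) * p.2.1, hYN _ p.2.2 _ (hg₀ p.1)⟩)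
  have hf : Function.Bijective f := by
    constructor
    · rintro ⟨x, n⟩ ⟨x', n'⟩ h
      simp only [f, Prod.mk.injEq, Subtype.mk.injEq] at h
      obtain ⟨h1, h2⟩ := h
      have hx : x.1 = x'.1 := by
        have e1 : x.1 = (g₀ x * n.1) * (n.1⁻¹ * ((g₀ x)⁻¹ * x.1 * g₀ x) * n.1) * (g₀ x * n.1)⁻¹ := by
          group
        have e2 : x'.1 = (g₀ x' * n'.1) * (n'.1⁻¹ * ((g₀ x')⁻¹ * x'.1 * g₀ x') * n'.1) *
            (g₀ x' * n'.1)⁻¹ := by
          group
        rw [e1, e2, h1, h2]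
      have hx' : x = x' := Subtype.ext hx
      subst hx'
      have : n.1 = n'.1 := mul_left_cancel h1
      exact Prod.ext rfl (Subtype.ext this)
    · rintro ⟨g, y⟩
      have hx : ∃ k : G, k⁻¹ * (g * y.1 * g⁻¹) * k ∈ Y := by
        refine ⟨g, ?_⟩
        have : g⁻¹ * (g * y.1 * g⁻¹) * g = y.1 := by group
        rw [this]
        exact y.2
      let x : X := ⟨g * y.1 * g⁻¹, hx⟩
      have hn : (g₀ x)⁻¹ * g ∈ Subgroup.normalizer (T : Set G) := by
        apply hTI _ (hg₀ x)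
        have : ((g₀ x)⁻¹ * g)⁻¹ * ((g₀ x)⁻¹ * x.1 * g₀ x) * ((g₀ x)⁻¹ * g) = y.1 := by
          show ((g₀ x)⁻¹ * g)⁻¹ * ((g₀ x)⁻¹ * (g * y.1 * g⁻¹) * g₀ x) * ((g₀ x)⁻¹ * g) = y.1
          group
        rw [this]
        exact hYT y.2
      refine ⟨(x, ⟨(g₀ x)⁻¹ * g, hn⟩), ?_⟩
      refine Prod.ext ?_ (Subtype.ext ?_)
      · show g₀ x * ((g₀ x)⁻¹ * g) = g
        group
      · show ((g₀ x)⁻¹ * g)⁻¹ * ((g₀ x)⁻¹ * (g * y.1 * g⁻¹) * g₀ x) * ((g₀ x)⁻¹ * g) = y.1
        group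
  have := Nat.card_congr (Equiv.ofBijective f hf)
  rw [Nat.card_prod, Nat.card_prod] at this
  exact this

/-- Counting pairs of an involution and a commuting element with a conjugation-invariant property. -/
theorem involution_pairs [Finite G] (t : G)
    (ht : ∀ z : G, orderOf z = 2 → ∃ k : G, k * t * k⁻¹ = z)
    (S : G → Prop) (hS : ∀ k u : G, S u → S (k * u * k⁻¹)) (c : ℕ)
    (hc : ∀ u, S u → Nat.card {z : G // orderOf z = 2 ∧ z * u = u * z} = c) :
    Nat.card {u : G // S u} * c =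
      Nat.card {z : G // orderOf z = 2} * Nat.card {u : G // S u ∧ t * u = u * t} := by
  rw [← card_pairs_snd S (fun z u => orderOf z = 2 ∧ z * u = u * z) c hc,
    ← card_pairs_fst (fun z : G => orderOf z = 2) (fun z u => S u ∧ z * u = u * z)
      (Nat.card {u : G // S u ∧ t * u = u * t})]
  · apply Nat.card_congr
    apply Equiv.subtypeEquivRight
    intro p
    tauto
  · intro z hz
    obtain ⟨k, rfl⟩ := ht z hz
    apply Nat.card_congr
    refine
      { toFun := fun u => ⟨k⁻¹ * u.1 * k, ?_, ?_⟩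
        invFun := fun u => ⟨k * u.1 * k⁻¹, hS k _ u.2.1, ?_⟩
        left_inv := ?_
        right_inv := ?_ }
    · have := hS k⁻¹ _ u.2.1
      rwa [inv_inv] at this
    · have h1 := u.2.2
      calc t * (k⁻¹ * u.1 * k) = k⁻¹ * ((k * t * k⁻¹) * u.1) * k := by group
        _ = k⁻¹ * (u.1 * (k * t * k⁻¹)) * k := by rw [h1]
        _ = k⁻¹ * u.1 * k * t := by group
    · have h1 := u.2.2
      calc k * t * k⁻¹ * (k * u.1 * k⁻¹) = k * (t * u.1) * k⁻¹ := by group
        _ = k * (u.1 * t) * k⁻¹ := by rw [h1]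
        _ = k * u.1 * k⁻¹ * (k * t * k⁻¹) := by group
    · intro u
      apply Subtype.ext
      show k * (k⁻¹ * u.1 * k) * k⁻¹ = u.1
      group
    · intro u
      apply Subtype.ext
      show k⁻¹ * (k * u.1 * k⁻¹) * k = u.1
      group

theorem gcd_two_mul_succ {i : ℕ} (hi : Odd i) : Nat.gcd (2 * i) (i + 1) = 2 := by
  obtain ⟨j, rfl⟩ := hi
  have e1 : 2 * (2 * j + 1) = 2 * (2 * j + 1) := rfl
  have e2 : 2 * j + 1 + 1 = 2 * (j + 1) := by ring
  rw [e2, Nat.gcd_mul_left]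
  have : Nat.gcd (2 * j + 1) (j + 1) = 1 := by
    have h1 : Nat.gcd (2 * j + 1) (j + 1) = Nat.gcd (j + 1) j := by
      rw [Nat.gcd_comm]
      have : 2 * j + 1 = j + (j + 1) := by ring
      rw [this, Nat.gcd_add_self_right, Nat.gcd_comm]
    rw [h1]
    have h2 : Nat.gcd (j + 1) j = Nat.gcd 1 j := by
      rw [add_comm, Nat.gcd_add_self_left]
    rw [h2, Nat.gcd_one_left]
  rw [this]

/-- The elements of order `2 i`, `i` odd, correspond to the pairs of an involution and a commuting element of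
order `i`. -/
theorem card_orderOf_two_mul [Finite G] {i : ℕ} (hi : Odd i) :
    Nat.card {g : G // orderOf g = 2 * i} =
      Nat.card {p : G × G // orderOf p.1 = 2 ∧ (orderOf p.2 = i ∧ p.1 * p.2 = p.2 * p.1)} := by
  have hi0 : 0 < i := hi.pos
  apply Nat.card_congr
  refine
    { toFun := fun g => ⟨(g.1 ^ i, g.1 ^ (i + 1)), ?_, ?_, ?_⟩
      invFun := fun p => ⟨p.1.1 * p.1.2, ?_⟩
      left_inv := ?_
      right_inv := ?_ }
  · show orderOf (g.1 ^ i) = 2
    rw [orderOf_pow' _ hi0.ne', g.2, Nat.gcd_eq_right (Dvd.intro_left 2 rfl),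
      Nat.mul_div_cancel _ hi0]
  · show orderOf (g.1 ^ (i + 1)) = i
    rw [orderOf_pow' _ (Nat.succ_ne_zero i), g.2, gcd_two_mul_succ hi, Nat.mul_div_cancel_left _ (by norm_num)]
  · show g.1 ^ i * g.1 ^ (i + 1) = g.1 ^ (i + 1) * g.1 ^ i
    rw [← pow_add, ← pow_add, add_comm]
  · obtain ⟨⟨z, u⟩, hz, hu, hc⟩ := p
    show orderOf (z * u) = 2 * i
    have hcop : Nat.Coprime (orderOf z) (orderOf u) := by
      rw [hz, hu]
      exact (Nat.coprime_two_left).mpr hi
    rw [Commute.orderOf_mul_eq_mul_orderOf_of_coprime hc hcop, hz, hu]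
  · intro g
    apply Subtype.ext
    show g.1 ^ i * g.1 ^ (i + 1) = g.1
    rw [← pow_add]
    have : i + (i + 1) = 2 * i + 1 := by ring
    have h2 : g.1 ^ (2 * i) = 1 := by
      have := pow_orderOf_eq_one g.1
      rwa [g.2] at this
    rw [this, pow_succ, h2, one_mul]
  · rintro ⟨⟨z, u⟩, hz, hu, hc⟩
    apply Subtype.ext
    have hc' : Commute z u := hc
    have hz2 : z ^ 2 = 1 := by rw [← hz]; exact pow_orderOf_eq_one z
    have hui : u ^ i = 1 := by rw [← hu]; exact pow_orderOf_eq_one u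
    obtain ⟨j, hj⟩ := hi
    have hzi : z ^ i = z := by
      rw [hj, pow_succ, pow_mul, hz2, one_pow, one_mul]
    have hzi1 : z ^ (i + 1) = 1 := by
      rw [pow_succ, hzi, ← pow_two, hz2]
    show ((z * u) ^ i, (z * u) ^ (i + 1)) = (z, u)
    rw [hc'.mul_pow, hc'.mul_pow, hzi, hui, hzi1, mul_one, one_mul, pow_succ, hui, one_mul]

/-- Counting the preimage of a subset under a homomorphism. -/
theorem card_preimage_hom {A : Type*} [Group A] [Finite A] [Finite G] (f : A →* G) (Q : G → Prop) :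
    Nat.card {a : A // Q (f a)} = Nat.card {g : G // g ∈ f.range ∧ Q g} * Nat.card f.ker := by
  let φ : {a : A // Q (f a)} → {g : G // g ∈ f.range ∧ Q g} := fun a => ⟨f a.1, ⟨a.1, rfl⟩, a.2⟩
  apply card_eq_mul_of_fibers φ
  rintro ⟨g, ⟨a₀, rfl⟩, hQ⟩
  apply Nat.card_congr
  refine
    { toFun := fun a => ⟨a₀⁻¹ * a.1.1, ?_⟩
      invFun := fun k => ⟨⟨a₀ * k.1, ?_⟩, ?_⟩
      left_inv := ?_
      right_inv := ?_ }
  · have h1 : f a.1.1 = f a₀ := congrArg Subtype.val a.2
    rw [MonoidHom.mem_ker, map_mul, map_inv, h1, inv_mul_cancel]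
  · have h1 : f k.1 = 1 := k.2
    rw [map_mul, h1, mul_one]
    exact hQ
  · apply Subtype.ext
    have h1 : f k.1 = 1 := k.2
    show f (a₀ * k.1) = f a₀
    rw [map_mul, h1, mul_one]
  · intro a
    apply Subtype.ext
    apply Subtype.ext
    show a₀ * (a₀⁻¹ * a.1.1) = a.1.1
    group
  · intro k
    apply Subtype.ext
    show a₀⁻¹ * (a₀ * k.1) = k.1
    group

/-- The number of conjugates of an element. -/
theorem card_conj_mul_card_centralizer [Finite G] (t : G) :
    Nat.card {z : G // ∃ k : G, k * t * k⁻¹ = z} * Nat.card (Subgroup.centralizer {t}) = Nat.card G := by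
  let φ : G → {z : G // ∃ k : G, k * t * k⁻¹ = z} := fun k => ⟨k * t * k⁻¹, k, rfl⟩
  symm
  apply card_eq_mul_of_fibers φ
  rintro ⟨z, k₀, rfl⟩
  apply Nat.card_congr
  refine
    { toFun := fun k => ⟨k₀⁻¹ * k.1, ?_⟩
      invFun := fun c => ⟨k₀ * c.1, ?_⟩
      left_inv := ?_
      right_inv := ?_ }
  · have h1 : k.1 * t * k.1⁻¹ = k₀ * t * k₀⁻¹ := congrArg Subtype.val k.2
    rw [Subgroup.mem_centralizer_singleton_iff]
    calc k₀⁻¹ * k.1 * t = k₀⁻¹ * (k.1 * t * k.1⁻¹) * k.1 := by group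
      _ = k₀⁻¹ * (k₀ * t * k₀⁻¹) * k.1 := by rw [h1]
      _ = t * (k₀⁻¹ * k.1) := by group
  · apply Subtype.ext
    have h1 : c.1 * t = t * c.1 := Subgroup.mem_centralizer_singleton_iff.mp c.2
    show k₀ * c.1 * t * (k₀ * c.1)⁻¹ = k₀ * t * k₀⁻¹
    calc k₀ * c.1 * t * (k₀ * c.1)⁻¹ = k₀ * (c.1 * t) * c.1⁻¹ * k₀⁻¹ := by group
      _ = k₀ * (t * c.1) * c.1⁻¹ * k₀⁻¹ := by rw [h1]
      _ = k₀ * t * k₀⁻¹ := by group
  · intro k
    apply Subtype.ext
    show k₀ * (k₀⁻¹ * k.1) = k.1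
    group
  · intro c
    apply Subtype.ext
    show k₀⁻¹ * (k₀ * c.1) = c.1
    group

end group

end Cfsg.Agent.Helper7.ReeCnt
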