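import Mathlib
import Cfsg.Prelude.Def_LieTwisted

set_option autoImplicit false

/-!
In characteristic `3` the short root vectors and `h_a` span a subspace of the Lie algebra of type `G₂` that is
invariant under all root elements: table facts and the invariance of the subspace.
-/

namespace Cfsg.Agent.Helper7.ReeSeven

open Cfsg Cfsg.Lie Matrix

/-- The indices of the short roots of `G₂`. -/
def shortN (n : ℕ) : Prop := n = 2 ∨ n = 3 ∨ n = 4 ∨ n = 7 ∨ n = 8 ∨ n = 9

instance : DecidablePred shortN := fun n => by unfold shortN; infer_instance

/-- The coordinates of the invariant subspace: `h_a` and the short root vectors. -/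
def inJ : chevG2.Idx → Prop
  | Sum.inl i => i.val = 0
  | Sum.inr s => shortN s.val

instance : DecidablePred inJ := fun k => by
  rcases k with i | s <;> unfold inJ <;> infer_instance

set_option maxRecDepth 100000 in
theorem tabA : ∀ r : Fin chevG2.nroots, ¬ shortN r.val →
    (3 : ℤ) ∣ (chevG2.cartanSR.getD 0 #[]).getD r.val 0 := by decide +kernel

set_option maxRecDepth 100000 in
theorem tabB : ∀ r : Fin chevG2.nroots, shortN r.val →
    (3 : ℤ) ∣ (chevG2.coroot.getD r.val #[]).getD 1 0 := by decide +kernel

set_option maxRecDepth 100000 in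
theorem tabC : ∀ r s u : Fin chevG2.nroots, shortN s.val → ¬ shortN u.val →
    ∀ km ∈ chevG2.chainCoeff r.val s.val u.val, (3 : ℤ) ∣ km.2 := by decide +kernel

set_option maxRecDepth 100000 in
theorem tabD : ∀ r s : Fin chevG2.nroots, s.val = chevG2.negIdx.getD r.val 0 →
    (shortN s.val ↔ shortN r.val) := by decide +kernel

variable {K : Type*} [Field K] [CharP K 3]

theorem cast_eq_zero_of_dvd {z : ℤ} (h : (3 : ℤ) ∣ z) : ((z : ℤ) : K) = 0 :=
  (CharP.intCast_eq_zero_iff K 3 z).mpr (by exact_mod_cast h)

/-- The entries of a root element from a coordinate of the subspace to a coordinate outside vanish. -/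
theorem xMat_Z (r : Fin chevG2.nroots) (t : K) (i j : chevG2.Idx) (hi : ¬ inJ i) (hj : inJ j) :
    chevG2.xMat K r t i j = 0 := by
  unfold ChevalleyDatum.xMat
  rw [Matrix.of_apply]
  rcases j with j | s
  · have hj0 : j.val = 0 := hj
    rcases i with i | u
    · have hi0 : ¬ i.val = 0 := hi
      change (if i = j then (1 : K) else 0) = 0
      rw [if_neg]
      intro h; rw [h] at hi0; exact hi0 hj0
    · have hu : ¬ shortN u.val := hi
      change (if u = r then - (((chevG2.cartanSR.getD j.val #[]).getD r.val 0 : ℤ) : K) * t else 0) = 0
      split_ifs with h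
      · rw [hj0, cast_eq_zero_of_dvd (tabA r (h ▸ hu)), neg_zero, zero_mul]
      · rfl
  · have hs : shortN s.val := hj
    change (if s = r then _ else if s.val = chevG2.negIdx.getD r.val 0 then _ else _) = (0 : K)
    split_ifs with h1 h2
    · rcases i with i | u
      · rfl
      · have hu : ¬ shortN u.val := hi
        change (if u = r then (1 : K) else 0) = 0
        rw [if_neg]
        intro h; rw [h, ← h1] at hu; exact hu hs
    · have hr : shortN r.val := (tabD r s h2).mp hs
      rcases i with i | u
      · have hi0 : ¬ i.val = 0 := hi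
        have hi1 : i.val = 1 := by
          have := i.2
          have h2 : chevG2.rank = 2 := rfl
          omega
        change (((chevG2.coroot.getD r.val #[]).getD i.val 0 : ℤ) : K) * t = 0
        rw [hi1, cast_eq_zero_of_dvd (tabB r hr), zero_mul]
      · have hu : ¬ shortN u.val := hi
        change (if u = s then (1 : K) else if u = r then -(t ^ 2) else 0) = 0
        rw [if_neg (fun h : u = s => hu (h ▸ hs)), if_neg (fun h : u = r => hu (h ▸ hr))]
    · rcases i with i | u
      · rfl
      · have hu : ¬ shortN u.val := hi
        change (if u = s then (1 : K) else 0) +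
          ((chevG2.chainCoeff r.val s.val u.val).map fun km => ((km.2 : ℤ) : K) * t ^ km.1).sum = 0
        rw [if_neg (fun h : u = s => hu (h ▸ hs)), zero_add]
        apply List.sum_eq_zero
        intro x hx
        rw [List.mem_map] at hx
        obtain ⟨km, hkm, rfl⟩ := hx
        rw [cast_eq_zero_of_dvd (tabC r s u hs hu km hkm), zero_mul]

end Cfsg.Agent.Helper7.ReeSeven
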