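import Mathlib
import Cfsg.Agent.Helper7.ReeSevenA

set_option autoImplicit false

/-!
The `7`-dimensional representation of the group `²G₂` (and of `G₂` in characteristic `3`) on the span of the
short root vectors and `h_a`.
-/

namespace Cfsg.Agent.Helper7.ReeSeven

open Cfsg Cfsg.Lie Matrix

/-- The matrices preserving the subspace. -/
def ZS (K : Type*) [Field K] : Submonoid (Matrix chevG2.Idx chevG2.Idx K) where
  carrier := {M | ∀ i j, ¬ inJ i → inJ j → M i j = 0}
  one_mem' := by
    intro i j hi hj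
    rw [Matrix.one_apply_ne]
    rintro rfl
    exact hi hj
  mul_mem' := by
    intro A B hA hB i j hi hj
    rw [Matrix.mul_apply]
    apply Finset.sum_eq_zero
    intro k _
    by_cases hk : inJ k
    · rw [hA i k hi hk, zero_mul]
    · rw [hB k j hk hj, mul_zero]

theorem mem_ZS {K : Type*} [Field K] {M : Matrix chevG2.Idx chevG2.Idx K} :
    M ∈ ZS K ↔ ∀ i j, ¬ inJ i → inJ j → M i j = 0 := Iff.rfl

/-- The index set of the subspace. -/
abbrev JIdx : Type := {k : chevG2.Idx // inJ k}

set_option maxRecDepth 100000 in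
theorem card_JIdx : Fintype.card JIdx = 7 := by decide +kernel

/-- The block of a matrix preserving the subspace. -/
def blockHom (K : Type*) [Field K] : ZS K →* Matrix JIdx JIdx K where
  toFun M := M.1.submatrix Subtype.val Subtype.val
  map_one' := by
    ext a b
    change (1 : Matrix chevG2.Idx chevG2.Idx K) a.1 b.1 = (1 : Matrix JIdx JIdx K) a b
    rw [Matrix.one_apply, Matrix.one_apply]
    simp only [Subtype.ext_iff]
  map_mul' := by
    intro A B
    ext a b
    change (A.1 * B.1) a.1 b.1 = ((A.1.submatrix Subtype.val Subtype.val : Matrix JIdx JIdx K) *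
      (B.1.submatrix Subtype.val Subtype.val : Matrix JIdx JIdx K)) a b
    rw [Matrix.mul_apply, Matrix.mul_apply]
    symm
    apply Fintype.sum_of_injective Subtype.val Subtype.val_injective
    · intro k hk
      have hk' : ¬ inJ k := fun h => hk ⟨⟨k, h⟩, rfl⟩
      rw [B.2 k b.1 hk' b.2, mul_zero]
    · intro c
      rfl

theorem blockHom_apply {K : Type*} [Field K] (M : ZS K) (a b : JIdx) :
    blockHom K M a b = M.1 a.1 b.1 := rfl

variable {K : Type*} [Field K] [CharP K 3]

theorem x_mem_ZS (r : ℕ) (t : K) : chevG2.x K r t ∈ ZS K := by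
  unfold ChevalleyDatum.x
  split_ifs with h
  · exact fun i j hi hj => xMat_Z ⟨r, h⟩ t i j hi hj
  · exact one_mem _

theorem wordMat_mem_ZS (w : List (ℕ × K)) : chevG2.wordMat K w ∈ ZS K := by
  unfold ChevalleyDatum.wordMat
  apply list_prod_mem
  intro x hx
  rw [List.mem_map] at hx
  obtain ⟨p, _, rfl⟩ := hx
  exact x_mem_ZS _ _

theorem coe_mem_ZS [Finite K] (e : ℕ) {g : GL chevG2.Idx K} (hg : g ∈ twistedG2 K e) :
    (g : Matrix chevG2.Idx chevG2.Idx K) ∈ ZS K := by
  have h1 : g ∈ (Subgroup.closure {g : GL chevG2.Idx K | ∃ w ∈ g2Words K e,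
      (g : Matrix chevG2.Idx chevG2.Idx K) = chevG2.wordMat K w}).toSubmonoid := hg
  rw [Subgroup.closure_toSubmonoid_of_finite] at h1
  clear hg
  induction h1 using Submonoid.closure_induction with
  | mem x hx =>
    obtain ⟨w, _, hw⟩ := hx
    rw [hw]
    exact wordMat_mem_ZS w
  | one => exact one_mem _
  | mul a b _ _ ha hb =>
    rw [Units.val_mul]
    exact mul_mem ha hb

/-- The `7`-dimensional representation. -/
noncomputable def rho7 (K : Type*) [Field K] [CharP K 3] [Finite K] (e : ℕ) :
    ↥(twistedG2 K e) →* GL JIdx K :=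
  MonoidHom.toHomUnits
    { toFun := fun g => blockHom K ⟨((g : GL chevG2.Idx K) : Matrix chevG2.Idx chevG2.Idx K),
        coe_mem_ZS e g.2⟩
      map_one' := by
        have : (⟨(((1 : ↥(twistedG2 K e)) : GL chevG2.Idx K) : Matrix chevG2.Idx chevG2.Idx K),
          coe_mem_ZS e (1 : ↥(twistedG2 K e)).2⟩ : ZS K) = 1 := Subtype.ext rfl
        rw [this, map_one]
      map_mul' := by
        intro a b
        rw [← map_mul]
        rfl }

theorem rho7_apply [Finite K] (e : ℕ) (g : ↥(twistedG2 K e)) (a b : JIdx) :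
    ((rho7 K e g : GL JIdx K) : Matrix JIdx JIdx K) a b =
      ((g : GL chevG2.Idx K) : Matrix chevG2.Idx chevG2.Idx K) a.1 b.1 := rfl

end Cfsg.Agent.Helper7.ReeSeven
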