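import Mathlib
import Cfsg.Agent.Helper7.ReeSevenB
import Cfsg.Agent.Helper7.ReeAutB
import Cfsg.Agent.Helper7.ChevRee26

set_option autoImplicit false

/-!
The `7`-dimensional representation of the Ree groups `²G₂(q)` is faithful.
-/

namespace Cfsg.Agent.Helper7.ReeSeven

open Cfsg Cfsg.Lie Matrix Cfsg.Agent.Helper7.Chev Cfsg.Agent.Helper7.ReeAut

section entry

variable {K : Type*} [Field K]

theorem x_zero7 (r : ℕ) : chevG2.x K r (0 : K) = 1 := by
  unfold ChevalleyDatum.x
  split_ifs with h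
  · exact Cfsg.Agent.Helper7.xMat_zero chevG2 ⟨r, h⟩
  · rfl

set_option maxRecDepth 100000 in
theorem keys11 : KeysNodup chevG2 11 := by
  unfold KeysNodup
  decide +kernel

set_option maxRecDepth 100000 in
theorem keys9 : KeysNodup chevG2 9 := by
  unfold KeysNodup
  decide +kernel

/-- The coefficient of `h_a` in `x_{2a+b}(1) x_{3a+2b}(1) e_{-2a-b}`. -/
theorem entry_x9_x11 :
    (chevG2.x K 9 1 * chevG2.x K 11 1) (Sum.inl ⟨0, by decide⟩) (Sum.inr ⟨2, by decide⟩) = 2 := by
  have h2 : (2 : ℕ) < chevG2.nroots := by decide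
  have e0 : (chevG2.x K 9 1 * chevG2.x K 11 1) (Sum.inl ⟨0, by decide⟩) (Sum.inr ⟨2, by decide⟩) =
      ((chevG2.x K 9 1 * chevG2.x K 11 1) *ᵥ eR chevG2 K 2) (Sum.inl ⟨0, by decide⟩) := by
    rw [eR_of_lt h2, Matrix.mulVec_single_one]
    rfl
  rw [e0, ← Matrix.mulVec_mulVec,
    x_mulVec_eR_other chevG2 K (by decide : 11 < chevG2.nroots) keys11 h2 (by decide) (by decide)]
  have ec : chainVec chevG2 K 11 2 (1 : K) = eR chevG2 K 8 := by
    unfold chainVec
    have : chevG2.chainEntry 11 2 = [(8, 1)] := by decide +kernel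
    rw [this]
    simp
  rw [ec, Matrix.mulVec_add]
  have hn : chevG2.neg 9 = 2 := by decide
  have e1 := x_mulVec_eR_neg chevG2 K (by decide : 9 < chevG2.nroots) (by rw [hn]; decide)
    (by rw [hn]; decide) (1 : K)
  rw [hn] at e1
  rw [e1, x_mulVec_eR_other chevG2 K (by decide : 9 < chevG2.nroots) keys9
    (by decide : 8 < chevG2.nroots) (by decide) (by rw [hn]; decide)]
  simp only [Pi.add_apply, Pi.smul_apply, eR_apply_inl, hR_apply_inl, chainVec_apply_inl, smul_eq_mul,
    mul_zero, add_zero, zero_add, one_mul]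
  have : cr chevG2 9 0 = 2 := by decide +kernel
  rw [this]
  norm_num

end entry

section inj

variable {K : Type*} [Field K] [Fintype K] [CharP K 3] {m : ℕ}

theorem wordMat_ree_001 :
    chevG2.wordMat K (reeWordU (3 ^ m) (0 : K) 0 1) = chevG2.x K 9 1 * chevG2.x K 11 1 := by
  unfold reeWordU g2a g2b g2ab g2aab g2aaab g2aaabb
  have h3 : (3 : ℕ) ^ m ≠ 0 := pow_ne_zero _ (by norm_num)
  simp only [wordMat_cons, wordMat_nil, mul_one]
  rw [zero_pow h3, zero_pow (Nat.succ_ne_zero _), zero_pow (Nat.succ_ne_zero _),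
    one_pow, add_zero, zero_add]
  simp only [x_zero7, one_mul]

/-- The `7`-dimensional representation of the Ree group is faithful. -/
theorem rho7_injective (hm : 1 ≤ m) (hK : Fintype.card K = 3 ^ (2 * m + 1)) :
    Function.Injective (rho7 K (3 ^ m)) := by
  haveI := (ree_S1073 hm hK).1
  rw [← MonoidHom.ker_eq_bot_iff]
  rcases IsSimpleGroup.eq_bot_or_eq_top_of_normal (rho7 K (3 ^ m)).ker inferInstance with h | h
  · exact h
  · exfalso
    have h1 : ruS m (0 : K) 0 1 ∈ (rho7 K (3 ^ m)).ker := by rw [h]; trivial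
    rw [MonoidHom.mem_ker] at h1
    have ha : inJ (Sum.inl ⟨0, by decide⟩ : chevG2.Idx) := by decide
    have hb : inJ (Sum.inr ⟨2, by decide⟩ : chevG2.Idx) := by decide
    have h2 := rho7_apply (3 ^ m) (ruS m (0 : K) 0 1) ⟨_, ha⟩ ⟨_, hb⟩
    rw [h1, ruS_coe, ru_coe, wordMat_ree_001, entry_x9_x11, Units.val_one, Matrix.one_apply_ne] at h2
    · exact Cfsg.Agent.Helper7.ReeAut.two_ne_zero' K h2.symm
    · intro h
      have := congrArg Subtype.val h
      exact Sum.inl_ne_inr this

end inj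

end Cfsg.Agent.Helper7.ReeSeven
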