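import Mathlib
import Cfsg.Agent.Helper7.ReeSevenC
import Cfsg.Agent.Helper7.GLCycA
import Cfsg.Agent.Helper7.ReeInvD

set_option autoImplicit false

/-!
The Sylow `p`-subgroups of the Ree groups `²G₂(q)` are cyclic for `p > 3`.
-/

namespace Cfsg.Agent.Helper7.ReeCyc

open Cfsg Cfsg.Lie Matrix Cfsg.Agent.Helper7.Chev Cfsg.Agent.Helper7.ReeAut Cfsg.Agent.Helper7.ReeSeven

section arith

/-- `q³ + 1 = (q + 1)(q(q - 1) + 1)`. -/
theorem cube_add_one (q : ℕ) (hq : 1 ≤ q) : q ^ 3 + 1 = (q + 1) * (q * (q - 1) + 1) := by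
  obtain ⟨r, rfl⟩ : ∃ r, q = r + 1 := ⟨q - 1, by omega⟩
  rw [Nat.add_sub_cancel]
  ring

theorem not_dvd_three_pow {p : ℕ} (hp : p.Prime) (hp3 : 3 < p) (n : ℕ) : ¬ p ∣ 3 ^ n := by
  intro h
  have := hp.dvd_of_dvd_pow h
  have := Nat.le_of_dvd (by norm_num) this
  omega

theorem not_dvd_two {p : ℕ} (hp3 : 3 < p) : ¬ p ∣ 2 := by
  intro h
  have := Nat.le_of_dvd (by norm_num) h
  omega

theorem not_dvd_three {p : ℕ} (hp3 : 3 < p) : ¬ p ∣ 3 := by
  intro h
  have := Nat.le_of_dvd (by norm_num) h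
  omega

/-- If `p > 3` divides `q - 1` then it does not divide `q³ + 1`. -/
theorem not_dvd_of_dvd_sub_one {p q : ℕ} (hp3 : 3 < p) (hq : 1 ≤ q) (h : p ∣ q - 1) :
    ¬ p ∣ q ^ 3 + 1 := by
  intro h2
  have h3 : p ∣ q ^ 3 - 1 := by
    have : q ^ 3 - 1 = (q - 1) * (q ^ 2 + q + 1) := by
      obtain ⟨r, rfl⟩ : ∃ r, q = r + 1 := ⟨q - 1, by omega⟩
      rw [Nat.add_sub_cancel]
      apply Nat.sub_eq_of_eq_add
      ring
    rw [this]
    exact Dvd.dvd.mul_right h _
  have h4 : q ^ 3 + 1 = (q ^ 3 - 1) + 2 := by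
    have : 1 ≤ q ^ 3 := Nat.one_le_pow _ _ hq
    omega
  rw [h4] at h2
  exact not_dvd_two hp3 ((Nat.dvd_add_right h3).mp h2)

/-- If `p > 3` divides `q + 1` then it does not divide `q - 1`. -/
theorem not_dvd_sub_of_dvd_add {p q : ℕ} (hp3 : 3 < p) (hq : 1 ≤ q) (h : p ∣ q + 1) : ¬ p ∣ q - 1 := by
  intro h2
  have h4 : q + 1 = (q - 1) + 2 := by omega
  rw [h4] at h
  exact not_dvd_two hp3 ((Nat.dvd_add_right h2).mp h)

/-- If `p > 3` divides `q + 1` then it does not divide `q(q - 1) + 1`. -/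
theorem not_dvd_of_dvd_add_one {p q : ℕ} (hp3 : 3 < p) (hq : 1 ≤ q) (h : p ∣ q + 1) :
    ¬ p ∣ q * (q - 1) + 1 := by
  intro h2
  -- `q (q - 1) + 1 + (q + 1)(2 - q) = 3`, in the form `q (q - 1) + 1 + 2 (q + 1) = (q + 1) q + 3`
  have e : q * (q - 1) + 1 + 2 * (q + 1) = (q + 1) * q + 3 := by
    obtain ⟨r, rfl⟩ : ∃ r, q = r + 1 := ⟨q - 1, by omega⟩
    rw [Nat.add_sub_cancel]
    ring
  have h3 : p ∣ (q + 1) * q + 3 := by
    rw [← e]
    exact dvd_add h2 (Dvd.dvd.mul_left h _)
  exact not_dvd_three hp3 ((Nat.dvd_add_right (Dvd.dvd.mul_right h _)).mp h3)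

end arith

section tori

variable {K : Type*} [Field K] [Fintype K] [CharP K 3] {m : ℕ} (hK : Fintype.card K = 3 ^ (2 * m + 1))

include hK in
/-- The order of the Ree group in terms of `q`. -/
theorem card_ree : Nat.card ↥(twistedG2 K (3 ^ m)) =
    Fintype.card K ^ 3 * (Fintype.card K - 1) * (Fintype.card K ^ 3 + 1) := by
  rw [ree_S1069 hK, hK]

/-- The torus `H¹` as a homomorphism. -/
noncomputable def ghHom : Kˣ →* ↥(twistedG2 K (3 ^ m)) where
  toFun := ghS hK
  map_one' := ghS_one hK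
  map_mul' a b := (ghS_mul hK a b).symm

theorem ghHom_injective : Function.Injective (ghHom hK) := fun _ _ h => ghS_injective hK h

instance isCyclic_ghHom : IsCyclic (ghHom hK).range :=
  isCyclic_of_surjective (ghHom hK).rangeRestrict (ghHom hK).rangeRestrict_surjective

theorem not_dvd_index_ghHom {p : ℕ} (hp : p.Prime) (hp3 : 3 < p) (h1 : p ∣ Fintype.card K - 1) :
    ¬ p ∣ (ghHom hK).range.index := by
  have hq1 : 1 < Fintype.card K := Fintype.one_lt_card
  have hc : Nat.card (ghHom hK).range = Fintype.card K - 1 := by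
    rw [Nat.card_congr (MonoidHom.ofInjective (ghHom_injective hK)).symm.toEquiv, Nat.card_units,
      Nat.card_eq_fintype_card]
  have h5 := Subgroup.card_mul_index (ghHom hK).range
  rw [hc, card_ree hK] at h5
  have h6 : (ghHom hK).range.index = Fintype.card K ^ 3 * (Fintype.card K ^ 3 + 1) := by
    apply Nat.eq_of_mul_eq_mul_left (by omega : 0 < Fintype.card K - 1)
    rw [h5]; ring
  rw [h6]
  intro hdvd
  rcases (Nat.Prime.dvd_mul hp).mp hdvd with h | h
  · rw [hK, ← pow_mul] at h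
    exact not_dvd_three_pow hp hp3 _ h
  · exact not_dvd_of_dvd_sub_one hp3 (by omega) h1 h

/-- The image of the non-split torus of `SL₂(K)`. -/
noncomputable def nsHom : (Cfsg.Agent.Helper7.SL2.normHom (F := K) 3).ker →* ↥(twistedG2 K (3 ^ m)) :=
  (rPhi K m).comp (Cfsg.Agent.Helper7.SL2.nonsplitHom (F := K) 3)

instance isCyclic_nsHom : IsCyclic (nsHom (K := K) (m := m)).range := by
  have : IsCyclic (Cfsg.Agent.Helper7.SL2.normHom (F := K) 3).ker := Subgroup.isCyclic _
  exact isCyclic_of_surjective (nsHom (K := K) (m := m)).rangeRestrict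
    (nsHom (K := K) (m := m)).rangeRestrict_surjective

include hK in
theorem card_ker_nsHom_le : Nat.card (nsHom (K := K) (m := m)).ker ≤ 2 := by
  classical
  have hinj := Cfsg.Agent.Helper7.SL2.nonsplitHom_injective (F := K) 3
  -- the kernel injects into `{1, -1}`
  let f : (nsHom (K := K) (m := m)).ker → Bool := fun x =>
    decide (Cfsg.Agent.Helper7.SL2.nonsplitHom (F := K) 3 x.1 = 1)
  have hf : Function.Injective f := by
    intro x y hxy
    have hx : rPhi K m (Cfsg.Agent.Helper7.SL2.nonsplitHom (F := K) 3 x.1) = 1 := x.2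
    have hy : rPhi K m (Cfsg.Agent.Helper7.SL2.nonsplitHom (F := K) 3 y.1) = 1 := y.2
    rw [rPhi_eq_one_iff hK] at hx hy
    apply Subtype.ext
    apply hinj
    by_cases h1 : Cfsg.Agent.Helper7.SL2.nonsplitHom (F := K) 3 x.1 = 1
    · have : f x = true := decide_eq_true h1
      rw [hxy] at this
      rw [h1, of_decide_eq_true this]
    · have : f x = false := decide_eq_false h1
      rw [hxy] at this
      have h2 := of_decide_eq_false this
      rw [hx.resolve_left h1, hy.resolve_left h2]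
  have := Nat.card_le_card_of_injective f hf
  simpa using this

include hK in
theorem not_dvd_index_nsHom {p : ℕ} (hp : p.Prime) (hp3 : 3 < p) (h1 : p ∣ Fintype.card K + 1) :
    ¬ p ∣ (nsHom (K := K) (m := m)).range.index := by
  have hq1 : 1 < Fintype.card K := Fintype.one_lt_card
  have hG := card_ree hK
  have hk := card_ker_nsHom_le (K := K) (m := m) hK
  have h3q : ¬ p ∣ Fintype.card K ^ 3 := by
    rw [hK, ← pow_mul]
    exact not_dvd_three_pow hp hp3 _
  clear hK
  set q := Fintype.card K with hq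
  -- cardinalities
  have e1 : Nat.card (nsHom (K := K) (m := m)).ker * Nat.card (nsHom (K := K) (m := m)).range =
      Nat.card (Cfsg.Agent.Helper7.SL2.normHom (F := K) 3).ker := by
    rw [← Subgroup.index_ker, Subgroup.card_mul_index]
  have e2 : Nat.card (Cfsg.Agent.Helper7.SL2.normHom (F := K) 3).ker *
      Nat.card (Cfsg.Agent.Helper7.SL2.normHom (F := K) 3).range = q ^ 2 - 1 := by
    rw [← Subgroup.index_ker, Subgroup.card_mul_index, Nat.card_units,
      FiniteField.natCard_extension, Nat.card_eq_fintype_card]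
  have e3 : Nat.card (Cfsg.Agent.Helper7.SL2.normHom (F := K) 3).range ∣ q - 1 := by
    have := Subgroup.card_subgroup_dvd_card (Cfsg.Agent.Helper7.SL2.normHom (F := K) 3).range
    rwa [Nat.card_units, Nat.card_eq_fintype_card (α := K)] at this
  have e4 := Subgroup.card_mul_index (nsHom (K := K) (m := m)).range
  rw [hG] at e4
  have hk0 : 0 < Nat.card (nsHom (K := K) (m := m)).ker := Nat.card_pos
  set k := Nat.card (nsHom (K := K) (m := m)).ker with hkdef
  set cC := Nat.card (nsHom (K := K) (m := m)).range with hcC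
  set a := Nat.card (Cfsg.Agent.Helper7.SL2.normHom (F := K) 3).ker with ha
  set b := Nat.card (Cfsg.Agent.Helper7.SL2.normHom (F := K) 3).range with hb
  set idx := (nsHom (K := K) (m := m)).range.index with hidx
  -- `idx * (q² - 1) = |G| * k * b`
  have e5 : idx * (q ^ 2 - 1) = q ^ 3 * (q - 1) * (q ^ 3 + 1) * k * b := by
    rw [← e2, ← e1, ← e4]; ring
  have e6 : q ^ 2 - 1 = (q - 1) * (q + 1) := by
    obtain ⟨r, hr⟩ : ∃ r, q = r + 1 := ⟨q - 1, by omega⟩
    rw [hr, Nat.add_sub_cancel]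
    apply Nat.sub_eq_of_eq_add
    ring
  rw [e6, cube_add_one q (by omega)] at e5
  have e7 : idx = q ^ 3 * (q * (q - 1) + 1) * k * b := by
    apply Nat.eq_of_mul_eq_mul_right (show 0 < (q - 1) * (q + 1) from
      Nat.mul_pos (by omega) (by omega))
    rw [e5]; ring
  rw [e7]
  intro hdvd
  rcases (Nat.Prime.dvd_mul hp).mp hdvd with h | h
  · rcases (Nat.Prime.dvd_mul hp).mp h with h | h
    · rcases (Nat.Prime.dvd_mul hp).mp h with h | h
      · exact h3q h
      · exact not_dvd_of_dvd_add_one hp3 (by omega) h1 h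
    · have := Nat.le_of_dvd hk0 h
      omega
  · exact not_dvd_sub_of_dvd_add hp3 (by omega) h1 (h.trans e3)

end tori

end Cfsg.Agent.Helper7.ReeCyc
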