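import Mathlib
import Cfsg.Agent.Helper7.ReeCycA

set_option autoImplicit false

/-!
The Sylow `p`-subgroups of the Ree groups `²G₂(q)` are cyclic for `p > 3`: the primes dividing `q² - q + 1` and
the assembly.
-/

namespace Cfsg.Agent.Helper7.ReeCyc

open Cfsg Cfsg.Lie Matrix Cfsg.Agent.Helper7.Chev Cfsg.Agent.Helper7.ReeAut Cfsg.Agent.Helper7.ReeSeven

theorem false_of_cast {p : ℕ} (hp3 : 3 < p) {n : ℕ} (hn : 0 < n) (hn3 : n ≤ 3)
    (h : ((n : ℕ) : ZMod p) = 0) : False := by
  rw [ZMod.natCast_eq_zero_iff] at h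
  have := Nat.le_of_dvd hn h
  omega

/-- If `p > 3` divides `q² - q + 1` then `q` has order `6` modulo `p`. -/
theorem not_dvd_pow_sub_one {p q : ℕ} [Fact p.Prime] (hp3 : 3 < p) (hq : 1 ≤ q)
    (h : p ∣ q * (q - 1) + 1) :
    ∀ i, 1 ≤ i → i ≤ 6 + 1 → i ≠ 6 → ¬ p ∣ q ^ i - 1 := by
  intro i hi1 hi7 hi6 hdvd
  have hx : ((q : ℕ) : ZMod p) * ((q : ZMod p) - 1) + 1 = 0 := by
    have := (ZMod.natCast_eq_zero_iff _ p).mpr h
    rw [Nat.cast_add, Nat.cast_mul, Nat.cast_sub hq, Nat.cast_one] at this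
    exact this
  have hxi : ((q : ℕ) : ZMod p) ^ i = 1 := by
    have := (ZMod.natCast_eq_zero_iff _ p).mpr hdvd
    rw [Nat.cast_sub (Nat.one_le_pow _ _ hq), Nat.cast_pow, Nat.cast_one, sub_eq_zero] at this
    exact this
  set x := ((q : ℕ) : ZMod p) with hxdef
  interval_cases i
  · -- `x = 1`
    apply false_of_cast hp3 (n := 1) (by norm_num) (by norm_num)
    rw [Nat.cast_one]
    linear_combination hx - x * hxi
  · apply false_of_cast hp3 (n := 3) (by norm_num) (by norm_num)
    have : ((3 : ℕ) : ZMod p) = 3 := by norm_num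
    rw [this]
    linear_combination (-x - 1) * hxi + (x + 2) * hx
  · apply false_of_cast hp3 (n := 2) (by norm_num) (by norm_num)
    have : ((2 : ℕ) : ZMod p) = 2 := by norm_num
    rw [this]
    linear_combination (x + 1) * hx - hxi
  · apply false_of_cast hp3 (n := 3) (by norm_num) (by norm_num)
    have : ((3 : ℕ) : ZMod p) = 3 := by norm_num
    rw [this]
    linear_combination (1 - (x - 2) * x * (x + 1)) * hx + (x - 2) * hxi
  · apply false_of_cast hp3 (n := 1) (by norm_num) (by norm_num)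
    rw [Nat.cast_one]
    linear_combination (1 - x * (x ^ 3 - 1) * (x + 1)) * hx + x * x * hxi
  · exact hi6 rfl
  · apply false_of_cast hp3 (n := 1) (by norm_num) (by norm_num)
    rw [Nat.cast_one]
    linear_combination (1 + x * x * (x ^ 3 - 1) * (x + 1)) * hx - x * hxi

/-- The Sylow `p`-subgroups of `²G₂(q)` are cyclic for `p > 3`. -/
theorem ree_S1156 {K : Type*} [Field K] [Fintype K] {m : ℕ} (hm : 1 ≤ m)
    (hK : Fintype.card K = 3 ^ (2 * m + 1)) {p : ℕ} [Fact p.Prime] (hp : 3 < p)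
    (P : Sylow p ↥(twistedG2 K (3 ^ m))) : IsCyclic (P : Subgroup ↥(twistedG2 K (3 ^ m))) := by
  haveI := charP_three_of_card (by omega) hK
  have hpp : p.Prime := Fact.out
  have hq1 : 1 < Fintype.card K := Fintype.one_lt_card
  by_cases h1 : p ∣ Fintype.card K - 1
  · exact Cfsg.Agent.Helper7.SL2.sylow_isCyclic_of_subgroup (ghHom hK).range
      (not_dvd_index_ghHom hK hpp hp h1) P
  by_cases h2 : p ∣ Fintype.card K + 1
  · exact Cfsg.Agent.Helper7.SL2.sylow_isCyclic_of_subgroup (nsHom (K := K) (m := m)).range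
      (not_dvd_index_nsHom hK hpp hp h2) P
  have h3q : ¬ p ∣ Fintype.card K := by
    rw [hK]
    exact not_dvd_three_pow hpp hp _
  by_cases h3 : p ∣ Fintype.card K * (Fintype.card K - 1) + 1
  · haveI : Fact (Nat.Prime 3) := ⟨Nat.prime_three⟩
    exact Cfsg.Agent.Helper7.GLCyc.isCyclic_of_isPGroup 3 6 1 (by norm_num) (ι := JIdx) card_JIdx h3q
      (not_dvd_pow_sub_one hp (by omega) h3) (rho7 K (3 ^ m)) (rho7_injective hm hK)
      (P : Subgroup ↥(twistedG2 K (3 ^ m))) P.isPGroup'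
  · -- `p` does not divide the order
    have hnd : ¬ p ∣ Nat.card ↥(twistedG2 K (3 ^ m)) := by
      rw [card_ree hK, cube_add_one _ (by omega)]
      intro hdvd
      rcases (Nat.Prime.dvd_mul hpp).mp hdvd with h | h
      · rcases (Nat.Prime.dvd_mul hpp).mp h with h | h
        · exact h3q (hpp.dvd_of_dvd_pow h)
        · exact h1 h
      · rcases (Nat.Prime.dvd_mul hpp).mp h with h | h
        · exact h2 h
        · exact h3 h
    have hc : Nat.card (P : Subgroup ↥(twistedG2 K (3 ^ m))) = 1 := by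
      rcases P.isPGroup'.card_eq_or_dvd with h | h
      · exact h
      · exact absurd (h.trans (Subgroup.card_subgroup_dvd_card _)) hnd
    haveI : Subsingleton (P : Subgroup ↥(twistedG2 K (3 ^ m))) :=
      (Nat.card_eq_one_iff_unique.mp hc).1
    exact isCyclic_of_subsingleton

end Cfsg.Agent.Helper7.ReeCyc
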