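import Mathlib
import Cfsg.Agent.Helper7.SzMulA
import Cfsg.Agent.Helper7.ScA

set_option autoImplicit false
set_option linter.unusedSectionVars false
set_option linter.unusedVariables false

/-!
More on commutators of lifts in a central extension, and the norm argument: a biadditive alternating
map on a finite field with more than four elements, with commuting values, equivariant for the scalars, has
its values killed by the norm; the invariant elements of the subgroup that the values generate are killed by
the number of scalars.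
-/

namespace Cfsg.Agent.Helper7.Sc.CExt

variable {E Γ : Type*} [Group E] [Group Γ] (C : CExt E Γ)

theorem cm_mul_left_of_comm {d d'' : Γ} (h : d * d'' = d'' * d) (d' : Γ) :
    C.cm (d' * d'') d = C.cm d' d * C.cm d'' d := by
  rw [← C.cm_inv d (d' * d''), C.cm_mul_right_of_comm h, mul_inv_rev, C.cm_inv, C.cm_inv]
  have hz : C.ψ (C.cm d'' d) = 1 := C.ψ_cm_of_comm h.symm
  exact C.ker_comm hz _

theorem cm_mul_right_of_LC {d d'' : Γ} (h : C.LC d d'') (d' : Γ) :
    C.cm d (d' * d'') = C.cm d d' := by
  rw [C.cm_mul_right, (C.LC_iff d d'').mp h, map_one, mul_one]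

theorem cm_mul_left_of_LC {d d'' : Γ} (h : C.LC d'' d) (d' : Γ) :
    C.cm (d' * d'') d = C.cm d' d := by
  rw [← C.cm_inv d (d' * d''), C.cm_mul_right_of_LC h.symm, C.cm_inv]

end Cfsg.Agent.Helper7.Sc.CExt

namespace Cfsg.Agent.Helper7.SzMul

open scoped IsMulCommutative in
/-- The norm argument. -/
theorem pow_eq_one_of_norm {E : Type*} [Group E] {K : Type*} [Field K] [Fintype K]
    (hK : 4 < Fintype.card K) (θ : Kˣ → MulAut E) (s : Kˣ → K)
    (hs_mul : ∀ t u, s (t * u) = s t * s u) (hs_surj : ∀ v : K, v ≠ 0 → ∃ t, s t = v)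
    (c : K → K → E) (hcomm : ∀ x y x' y', c x y * c x' y' = c x' y' * c x y)
    (hl : ∀ x x' y, c (x + x') y = c x y * c x' y) (hr : ∀ x y y', c x (y + y') = c x y * c x y')
    (hd : ∀ x, c x x = 1) (hθ : ∀ t x y, θ t (c x y) = c (s t * x) (s t * y))
    (z : E) (hz : z ∈ Subgroup.closure {e | ∃ x y, e = c x y}) (hzθ : ∀ t, θ t z = z) :
    z ^ (Fintype.card K - 1) = 1 := by
  classical
  obtain ⟨k, hk⟩ : ∃ k : Set E, k = {e | ∃ x y, e = c x y} := ⟨_, rfl⟩
  rw [← hk] at hz
  have hkc : ∀ a ∈ k, ∀ b ∈ k, a * b = b * a := by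
    intro a ha b hb
    rw [hk] at ha hb
    obtain ⟨x, y, rfl⟩ := ha
    obtain ⟨x', y', rfl⟩ := hb
    exact hcomm x y x' y'
  have hck : ∀ x y, c x y ∈ k := by
    intro x y
    rw [hk]
    exact ⟨x, y, rfl⟩
  haveI hmc : IsMulCommutative (Subgroup.closure k) := Subgroup.isMulCommutative_closure hkc
  have hmap : ∀ t, ∀ u ∈ Subgroup.closure k, θ t u ∈ Subgroup.closure k := by
    intro t u hu
    induction hu using Subgroup.closure_induction with
    | mem x hx =>
      rw [hk] at hx
      obtain ⟨x, y, rfl⟩ := hx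
      rw [hθ]
      exact Subgroup.subset_closure (hck _ _)
    | one => rw [map_one]; exact one_mem _
    | mul x y _ _ hx hy => rw [map_mul]; exact mul_mem hx hy
    | inv x _ hx => rw [map_inv]; exact inv_mem hx
  let φ : Kˣ → (Subgroup.closure k →* Subgroup.closure k) := fun t =>
    { toFun := fun u => ⟨θ t u, hmap t u u.2⟩
      map_one' := Subtype.ext (map_one _)
      map_mul' := fun u v => Subtype.ext (map_mul _ _ _) }
  have hφ : ∀ t (u : Subgroup.closure k), ((φ t u : Subgroup.closure k) : E) = θ t u := fun _ _ => rfl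
  let N : Subgroup.closure k →* Subgroup.closure k := ∏ t, φ t
  have hN : ∀ u, N u = ∏ t, φ t u := fun u => MonoidHom.finsetProd_apply _ _ _
  let cR : K → K → Subgroup.closure k := fun x y => ⟨c x y, Subgroup.subset_closure (hck x y)⟩
  have hD : ∀ x y, N (cR x y) = 1 := by
    apply biadd_eq_one_of_scale ⟨Finset.univ, by rw [Finset.card_univ]; exact hK⟩
    · intro x x' y
      have : cR (x + x') y = cR x y * cR x' y := Subtype.ext (hl x x' y)
      rw [this, map_mul]
    · intro x y y'
      have : cR x (y + y') = cR x y * cR x y' := Subtype.ext (hr x y y')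
      rw [this, map_mul]
    · intro x
      have : cR x x = 1 := Subtype.ext (hd x)
      rw [this, map_one]
    · intro v hv x y
      obtain ⟨t₀, ht₀⟩ := hs_surj v hv
      rw [hN, hN]
      refine Fintype.prod_equiv (Equiv.mulRight t₀) _ _ ?_
      intro t
      apply Subtype.ext
      rw [hφ, hφ]
      show θ t (c (v * x) (v * y)) = θ (t * t₀) (c x y)
      rw [hθ, hθ, hs_mul, ht₀, mul_assoc, mul_assoc]
  have hle : Subgroup.closure k ≤ (N.ker).map (Subgroup.closure k).subtype := by
    rw [Subgroup.closure_le]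
    intro e he
    rw [hk] at he
    obtain ⟨x, y, rfl⟩ := he
    exact ⟨cR x y, MonoidHom.mem_ker.mpr (hD x y), rfl⟩
  obtain ⟨u, hu, huz⟩ := hle hz
  have hu1 : N u = 1 := MonoidHom.mem_ker.mp hu
  have hu2 : ∀ t, φ t u = u := by
    intro t
    apply Subtype.ext
    rw [hφ]
    have : (u : E) = z := huz
    rw [this]
    exact hzθ t
  rw [hN] at hu1
  simp only [hu2, Finset.prod_const, Finset.card_univ, Fintype.card_units] at hu1
  have := congrArg Subtype.val hu1
  rw [← huz]
  simpa using this

end Cfsg.Agent.Helper7.SzMul
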