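import Mathlib
import Cfsg.Agent.Helper7.SzMulC

set_option autoImplicit false
set_option linter.unusedSectionVars false
set_option linter.unusedVariables false

/-!
General facts on biadditive maps on a field of characteristic `3` used in the computation of the Schur
multiplier of the Ree groups.
-/

namespace Cfsg.Agent.Helper7.ReeMul

variable {K : Type*} [Field K]

section biadd

variable {E : Type*} [Group E] (g : K → K → E) (hl : ∀ x x' y, g (x + x') y = g x y * g x' y)
  (hr : ∀ x y y', g x (y + y') = g x y * g x y')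

include hr in
theorem biadd_zero_right (x : K) : g x 0 = 1 := by
  have := hr x 0 0
  rw [add_zero] at this
  exact (mul_eq_left.mp this.symm)

include hl in
theorem biadd_zero_left (y : K) : g 0 y = 1 := by
  have := hl 0 0 y
  rw [add_zero] at this
  exact (mul_eq_left.mp this.symm)

include hr in
theorem biadd_neg_right (x y : K) : g x (-y) = (g x y)⁻¹ := by
  have := hr x y (-y)
  rw [add_neg_cancel, biadd_zero_right g hr] at this
  exact eq_inv_of_mul_eq_one_right this.symm

include hl in
theorem biadd_neg_left (x y : K) : g (-x) y = (g x y)⁻¹ := by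
  have := hl x (-x) y
  rw [add_neg_cancel, biadd_zero_left g hl] at this
  exact eq_inv_of_mul_eq_one_right this.symm

include hr in
/-- In characteristic `3`, a map additive in the second variable and invariant under the change of sign of this
variable is trivial. -/
theorem biadd_eq_one_of_neg_right [CharP K 3] (hneg : ∀ x y, g x (-y) = g x y) : ∀ x y, g x y = 1 := by
  intro x y
  have h2 : g x y * g x y = 1 := by
    have := biadd_neg_right g hr x y
    rw [hneg] at this
    nth_rewrite 1 [this]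
    exact inv_mul_cancel _
  have h3 : g x y * g x y * g x y = 1 := by
    rw [← hr, ← hr]
    have : y + y + y = 0 := by
      have h30 : (3 : K) = 0 := by
        have := CharP.cast_eq_zero K 3
        exact_mod_cast this
      have : y + y + y = 3 * y := by ring
      rw [this, h30, zero_mul]
    rw [this, biadd_zero_right g hr]
  rw [h2, one_mul] at h3
  exact h3

include hl in
theorem biadd_eq_one_of_neg_left [CharP K 3] (hneg : ∀ x y, g (-x) y = g x y) : ∀ x y, g x y = 1 := by
  intro x y
  exact biadd_eq_one_of_neg_right (fun y x => g x y) (fun y x x' => hl x x' y) (fun y x => hneg x y) y x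

include hl hr in
/-- A biadditive map such that `g b a = g (ρ a * b) 1` for `a ≠ 0` is trivial as soon as
`ρ (a₀ + 1) ≠ ρ a₀ + 1` for some `a₀ ≠ 0, -1`. -/
theorem biadd_eq_one_of_twist (ρ : K → K) (hρ : ∀ a, a ≠ 0 → ∀ b, g b a = g (ρ a * b) 1)
    (a₀ : K) (ha0 : a₀ ≠ 0) (ha1 : a₀ + 1 ≠ 0) (hc : ρ (a₀ + 1) - ρ a₀ - 1 ≠ 0) :
    ∀ b a, g b a = 1 := by
  have key : ∀ b, g ((ρ (a₀ + 1) - ρ a₀ - 1) * b) 1 = 1 := by
    intro b
    have e1 := hr b a₀ 1
    rw [hρ (a₀ + 1) ha1 b, hρ a₀ ha0 b] at e1
    have e2 : (ρ (a₀ + 1) - ρ a₀ - 1) * b = ρ (a₀ + 1) * b + (-b + -(ρ a₀ * b)) := by ring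
    rw [e2, hl, hl, biadd_neg_left g hl, biadd_neg_left g hl, e1]
    group
  have hone : ∀ x, g x 1 = 1 := by
    intro x
    have := key ((ρ (a₀ + 1) - ρ a₀ - 1)⁻¹ * x)
    rwa [← mul_assoc, mul_inv_cancel₀ hc, one_mul] at this
  intro b a
  by_cases ha : a = 0
  · rw [ha, biadd_zero_right g hr]
  · rw [hρ a ha, hone]

end biadd

section squares

variable [Fintype K] {m : ℕ}

theorem ringChar_ne_two_of_card (hK : Fintype.card K = 3 ^ (2 * m + 1)) : ringChar K ≠ 2 := by
  intro h
  have h2 : (2 : K) = 0 := by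
    have := ringChar.Nat.cast_ringChar (R := K)
    rw [h] at this
    exact_mod_cast this
  have hdvd : 2 ∣ Fintype.card K := by
    have := (CharP.charP_iff_prime_eq_zero (R := K) Nat.prime_two).mpr h2
    exact (FiniteField.card K 2).elim fun n hn => by
      rw [hn.2]
      exact dvd_pow_self 2 (PNat.ne_zero n)
  rw [hK] at hdvd
  have := (Nat.Prime.dvd_of_dvd_pow Nat.prime_two hdvd)
  omega

/-- In a field with `3 ^ (2 m + 1)` elements every nonzero element is a square or the negative of a square. -/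
theorem exists_sq_or_neg_sq (hK : Fintype.card K = 3 ^ (2 * m + 1)) (v : K) (hv : v ≠ 0) :
    ∃ w : K, w ≠ 0 ∧ (v = w ^ 2 ∨ v = -(w ^ 2)) := by
  have hF := ringChar_ne_two_of_card hK
  have hodd : Odd (Fintype.card K / 2) := by
    rw [hK]
    have h4 : 3 ^ (2 * m + 1) % 4 = 3 := by
      rw [pow_succ, pow_mul, Nat.mul_mod, Nat.pow_mod]
      norm_num
    rw [Nat.odd_iff]
    omega
  rcases FiniteField.pow_dichotomy hF hv with h | h
  · obtain ⟨w, hw⟩ := (FiniteField.isSquare_iff hF hv).mpr h
    refine ⟨w, ?_, Or.inl (by rw [hw, pow_two])⟩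
    rintro rfl
    rw [mul_zero] at hw
    exact hv hw
  · have hv' : -v ≠ 0 := neg_ne_zero.mpr hv
    have h' : (-v) ^ (Fintype.card K / 2) = 1 := by
      rw [neg_pow, h, hodd.neg_one_pow]
      ring
    obtain ⟨w, hw⟩ := (FiniteField.isSquare_iff hF hv').mpr h'
    refine ⟨w, ?_, Or.inr (by rw [pow_two, ← hw, neg_neg])⟩
    rintro rfl
    rw [mul_zero] at hw
    exact hv' hw

/-- A biadditive alternating map on a field with `3 ^ (2 m + 1)` elements, `m ≥ 1`, that is invariant under
the squares is trivial. -/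
theorem biadd_eq_one_of_sq_scale (hK : Fintype.card K = 3 ^ (2 * m + 1)) (hm : 1 ≤ m)
    {E : Type*} [Group E] (f : K → K → E) (hl : ∀ x x' y, f (x + x') y = f x y * f x' y)
    (hr : ∀ x y y', f x (y + y') = f x y * f x y') (hd : ∀ x, f x x = 1)
    (hs : ∀ w : K, w ≠ 0 → ∀ x y, f (w ^ 2 * x) (w ^ 2 * y) = f x y) : ∀ x y, f x y = 1 := by
  have hcard : ∃ s : Finset K, 4 < s.card := by
    refine ⟨Finset.univ, ?_⟩
    rw [Finset.card_univ, hK]
    calc 4 < 3 ^ 3 := by norm_num
      _ ≤ 3 ^ (2 * m + 1) := Nat.pow_le_pow_right (by norm_num) (by omega)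
  apply Cfsg.Agent.Helper7.SzMul.biadd_eq_one_of_scale hcard f hl hr hd
  intro v hv x y
  obtain ⟨w, hw0, hw | hw⟩ := exists_sq_or_neg_sq hK v hv
  · rw [hw, hs w hw0]
  · rw [hw, neg_mul, neg_mul, biadd_neg_left f hl, biadd_neg_right f hr, inv_inv, hs w hw0]

end squares

end Cfsg.Agent.Helper7.ReeMul
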