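import Mathlib
import Cfsg.Agent.Helper7.ReeAutC
import Cfsg.Agent.Helper7.ReeMulA

set_option autoImplicit false
set_option linter.unusedSectionVars false
set_option linter.unusedVariables false

/-!
The structure of the Sylow `3`-subgroup `U¹` of the Ree group, in the form needed for the computation of the
Schur multiplier.
-/

namespace Cfsg.Agent.Helper7.ReeMul

open Cfsg Cfsg.Lie Matrix Cfsg.Agent.Helper7.Chev Cfsg.Agent.Helper7.ReeAut

variable {K : Type*} [Field K] [Fintype K] [CharP K 3] {m : ℕ} (hK : Fintype.card K = 3 ^ (2 * m + 1))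

include hK in
/-- The elements `(0, 0, w)` are central in `U¹`. -/
theorem ruS_Z_comm (w t u v : K) : ruS m 0 0 w * ruS m t u v = ruS m t u v * ruS m 0 0 w := by
  rw [ruS_mul hK, ruS_mul hK]
  congr 1 <;> simp <;> ring

include hK in
theorem ruS_U1_comm (u v u' v' : K) : ruS m 0 u v * ruS m 0 u' v' = ruS m 0 u' v' * ruS m 0 u v := by
  rw [ruS_add hK, ruS_add hK, add_comm u, add_comm v]

include hK in
theorem ruS_Y_Z (u v : K) : ruS m 0 u v = ruS m 0 u 0 * ruS m 0 0 v := by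
  rw [ruS_add hK, add_zero, zero_add]

include hK in
theorem ruS_U1_mul (a b T u' v' : K) :
    ruS m 0 a b * ruS m T u' v' = ruS m T (a + u') (b + v' - T * a) := by
  rw [ruS_mul hK]
  congr 1 <;> simp

include hK in
/-- The commutator of `(t, 0, 0)` and `(0, u, v)`, in multiplicative form. -/
theorem ruS_X_U1 (t u v : K) :
    ruS m t 0 0 * ruS m 0 u v = ruS m 0 0 (t * u) * (ruS m 0 u v * ruS m t 0 0) := by
  rw [ruS_mul hK, ruS_mul hK, ruS_mul hK]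
  congr 1 <;> simp

include hK in
theorem comm_X_U1 (t u v : K) :
    ruS m t 0 0 * ruS m 0 u v * (ruS m t 0 0)⁻¹ * (ruS m 0 u v)⁻¹ = ruS m 0 0 (t * u) := by
  rw [ruS_X_U1 hK]
  group

include hK in
/-- `(t + t', 0, 0)` is the product of `(t, 0, 0)`, `(t', 0, 0)` and an element of `U₁`. -/
theorem ruS_X_add (t t' : K) :
    ∃ a b : K, ruS m (t + t') 0 0 = ruS m t 0 0 * ruS m t' 0 0 * ruS m 0 a b := by
  refine ⟨reeTh K (m + 1) t' * t, -(0 + 0 - reeTh K (m + 1) t' * t ^ 2 -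
    t' * (0 - reeTh K (m + 1) t' * t)), ?_⟩
  rw [ruS_mul hK, ruS_mul hK]
  congr 1 <;> simp

include hK in
/-- The commutator of `(t, 0, 0)` and `(t', 0, 0)` lies in `U₁`. -/
theorem comm_X_X (t t' : K) :
    ∃ a b : K, ruS m t 0 0 * ruS m t' 0 0 * (ruS m t 0 0)⁻¹ * (ruS m t' 0 0)⁻¹ = ruS m 0 a b := by
  have h1 := ruS_mul hK t 0 0 t' 0 0
  have h2 := ruS_mul hK t' 0 0 t 0 0
  obtain ⟨u₁, hu₁⟩ : ∃ u₁, u₁ = (0 : K) + 0 - reeTh K (m + 1) t' * t := ⟨_, rfl⟩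
  obtain ⟨v₁, hv₁⟩ : ∃ v₁, v₁ = (0 : K) + 0 - reeTh K (m + 1) t' * t ^ 2 -
    t' * (0 - reeTh K (m + 1) t' * t) := ⟨_, rfl⟩
  obtain ⟨u₂, hu₂⟩ : ∃ u₂, u₂ = (0 : K) + 0 - reeTh K (m + 1) t * t' := ⟨_, rfl⟩
  obtain ⟨v₂, hv₂⟩ : ∃ v₂, v₂ = (0 : K) + 0 - reeTh K (m + 1) t * t' ^ 2 -
    t * (0 - reeTh K (m + 1) t * t') := ⟨_, rfl⟩
  rw [← hu₁, ← hv₁] at h1
  rw [← hu₂, ← hv₂] at h2
  refine ⟨u₁ - u₂, v₁ - v₂ + (t' + t) * (u₁ - u₂), ?_⟩
  have h3 : ruS m 0 (u₁ - u₂) (v₁ - v₂ + (t' + t) * (u₁ - u₂)) * (ruS m t' 0 0 * ruS m t 0 0) =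
      ruS m t 0 0 * ruS m t' 0 0 := by
    rw [h1, h2, ruS_U1_mul hK]
    congr 1 <;> ring
  rw [← h3]
  group

/-- The conjugates of the `(t, 0, 0)` under the torus. -/
theorem ghS_conj_X (s : Kˣ) (t : K) :
    ghS hK s * ruS m t 0 0 * (ghS hK s)⁻¹ = ruS m ((ghChi K m s 6 : K) * t) 0 0 := by
  rw [ghS_conj_ruS, mul_zero, mul_zero]

theorem ghS_conj_U1 (s : Kˣ) (u v : K) :
    ghS hK s * ruS m 0 u v * (ghS hK s)⁻¹ = ruS m 0 ((ghChi K m s 10 : K) * u) ((s : K) * v) := by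
  rw [ghS_conj_ruS, mul_zero]

include hK in
theorem chi6_neg_one : ((ghChi K m (-1) 6 : Kˣ) : K) = -1 := by
  have h := chi6_mul (K := K) (m := m) (-1 : Kˣ)
  simp only [Units.val_neg, Units.val_one, map_neg, map_one, mul_neg, mul_one] at h
  have : ((-1 : K)) ^ 2 = 1 := by ring
  rw [this] at h
  rw [← h, neg_neg]

include hK in
/-- The squares are values of the character of the torus on `U₁ / U₂`. -/
theorem chi10_sq {w : K} (hw : w ≠ 0) :
    ∃ s : Kˣ, ((ghChi K m s 10 : Kˣ) : K) = w ^ 2 := by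
  have hm := pow_card_three hK
  have hs0 : reeTh K (m + 1) w * w ≠ 0 := mul_ne_zero ((map_ne_zero _).mpr hw) hw
  refine ⟨Units.mk0 _ hs0, ?_⟩
  have h := chi10_mul (K := K) (m := m) (Units.mk0 _ hs0)
  rw [Units.val_mk0, map_mul, reeTh_succ_twice hm] at h
  apply mul_right_cancel₀ hs0
  rw [h]
  ring

include hK in
/-- Every nonzero element is a value of the character of the torus on `U¹ / U₁`. -/
theorem chi6_surj {l : K} (hl : l ≠ 0) : ∃ s : Kˣ, ((ghChi K m s 6 : Kˣ) : K) = l :=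
  ⟨_, chi6_nrm (pow_card_three hK) hl⟩

end Cfsg.Agent.Helper7.ReeMul
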