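import Mathlib
import Cfsg.Agent.Helper7.ReeMulB

set_option autoImplicit false
set_option linter.unusedSectionVars false
set_option linter.unusedVariables false

/-!
Central extensions of the Ree group: lifts of the centre `U₂` of `U¹` commute with the lifts of `U¹`, and the
lifts of `U₁` commute with each other.
-/

namespace Cfsg.Agent.Helper7.ReeMul

open Cfsg Cfsg.Lie Matrix Cfsg.Agent.Helper7.Chev Cfsg.Agent.Helper7.ReeAut Cfsg.Agent.Helper7.Sc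

variable {K : Type*} [Field K] [Fintype K] [CharP K 3] {m : ℕ} (hK : Fintype.card K = 3 ^ (2 * m + 1))
  {Γ : Type*} [Group Γ] (C : CExt Γ ↥(twistedG2 K (3 ^ m)))

include hK in
theorem ruS_Z_add (v v' : K) : ruS m 0 0 (v + v') = ruS m 0 0 v * ruS m 0 0 v' := by
  rw [ruS_add hK, add_zero]

include hK in
theorem ruS_Y_add (u u' : K) : ruS m 0 (u + u') 0 = ruS m 0 u 0 * ruS m 0 u' 0 := by
  rw [ruS_add hK, add_zero]

include hK in
theorem card_gt_four (hm : 1 ≤ m) : ∃ s : Finset K, 4 < s.card := by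
  refine ⟨Finset.univ, ?_⟩
  rw [Finset.card_univ, hK]
  calc 4 < 3 ^ 3 := by norm_num
    _ ≤ 3 ^ (2 * m + 1) := Nat.pow_le_pow_right (by norm_num) (by omega)

variable (hm : 1 ≤ m)

include hK hm in
/-- Step 1: lifts of elements of `U₂` commute. -/
theorem LC_Z_Z (v v' : K) : C.LC (ruS m 0 0 v) (ruS m 0 0 v') := by
  rw [C.LC_iff]
  refine Cfsg.Agent.Helper7.SzMul.biadd_eq_one_of_scale (card_gt_four hK hm)
    (fun v v' => C.cm (ruS m 0 0 v) (ruS m 0 0 v')) ?_ ?_ ?_ ?_ v v'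
  · intro x x' y
    show C.cm (ruS m 0 0 (x + x')) (ruS m 0 0 y) = _
    rw [ruS_Z_add hK, C.cm_mul_left_of_comm (ruS_Z_comm hK y 0 0 x')]
  · intro x y y'
    show C.cm (ruS m 0 0 x) (ruS m 0 0 (y + y')) = _
    rw [ruS_Z_add hK, C.cm_mul_right_of_comm (ruS_Z_comm hK x 0 0 y')]
  · intro x
    exact C.cm_self _
  · intro s hs x y
    have e1 := C.kap_cm (ghS hK (Units.mk0 s hs)) (ruS m 0 0 x) (ruS m 0 0 y)
    rw [ghS_conj_U1, ghS_conj_U1, mul_zero, Units.val_mk0,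
      C.kap_ker (C.ψ_cm_of_comm (ruS_Z_comm hK x 0 0 y))] at e1
    exact e1.symm

include hK in
/-- Step 2: lifts of elements of `U₂` commute with lifts of the `(0, u, 0)`. -/
theorem LC_Y_Z (u v : K) : C.LC (ruS m 0 u 0) (ruS m 0 0 v) := by
  rw [C.LC_iff]
  refine biadd_eq_one_of_neg_right (fun u v => C.cm (ruS m 0 u 0) (ruS m 0 0 v)) ?_ ?_ u v
  · intro x y y'
    show C.cm (ruS m 0 x 0) (ruS m 0 0 (y + y')) = _
    rw [ruS_Z_add hK, C.cm_mul_right_of_comm (ruS_Z_comm hK y' 0 x 0).symm]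
  · intro x y
    have e1 := C.kap_cm (ghS hK (-1)) (ruS m 0 x 0) (ruS m 0 0 y)
    rw [ghS_conj_U1, ghS_conj_U1, mul_zero, mul_zero, chi10_neg_one (pow_card_three hK), one_mul,
      Units.val_neg, Units.val_one, neg_one_mul,
      C.kap_ker (C.ψ_cm_of_comm (ruS_Z_comm hK y 0 x 0).symm)] at e1
    exact e1.symm

include hK hm in
/-- Step 3: lifts of the `(0, u, 0)` commute. -/
theorem LC_Y_Y (u u' : K) : C.LC (ruS m 0 u 0) (ruS m 0 u' 0) := by
  rw [C.LC_iff]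
  refine biadd_eq_one_of_sq_scale hK hm (fun u u' => C.cm (ruS m 0 u 0) (ruS m 0 u' 0)) ?_ ?_ ?_ ?_ u u'
  · intro x x' y
    show C.cm (ruS m 0 (x + x') 0) (ruS m 0 y 0) = _
    rw [ruS_Y_add hK, C.cm_mul_left_of_comm (ruS_U1_comm hK y 0 x' 0)]
  · intro x y y'
    show C.cm (ruS m 0 x 0) (ruS m 0 (y + y') 0) = _
    rw [ruS_Y_add hK, C.cm_mul_right_of_comm (ruS_U1_comm hK x 0 y' 0)]
  · intro x
    exact C.cm_self _
  · intro w hw x y
    obtain ⟨s, hs⟩ := chi10_sq hK hw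
    have e1 := C.kap_cm (ghS hK s) (ruS m 0 x 0) (ruS m 0 y 0)
    rw [ghS_conj_U1, ghS_conj_U1, mul_zero, hs,
      C.kap_ker (C.ψ_cm_of_comm (ruS_U1_comm hK x 0 y 0))] at e1
    exact e1.symm

include hK hm in
/-- Lifts of elements of `U₁` commute. -/
theorem LC_U1_U1 (u v u' v' : K) : C.LC (ruS m 0 u v) (ruS m 0 u' v') := by
  have h1 : ruS m 0 u' 0 ∈ C.LCen (ruS m 0 u 0) := (LC_Y_Y hK C hm u u').symm
  have h2 : ruS m 0 0 v' ∈ C.LCen (ruS m 0 u 0) := (LC_Y_Z hK C u v').symm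
  have h3 := mul_mem h1 h2
  rw [← ruS_Y_Z hK] at h3
  have h4 : ruS m 0 u' 0 ∈ C.LCen (ruS m 0 0 v) := LC_Y_Z hK C u' v
  have h5 : ruS m 0 0 v' ∈ C.LCen (ruS m 0 0 v) := (LC_Z_Z hK C hm v v').symm
  have h6 := mul_mem h4 h5
  rw [← ruS_Y_Z hK] at h6
  have h7 : ruS m 0 u 0 ∈ C.LCen (ruS m 0 u' v') := (C.mem_LCen.mp h3).symm
  have h8 : ruS m 0 0 v ∈ C.LCen (ruS m 0 u' v') := (C.mem_LCen.mp h6).symm
  have h9 := mul_mem h7 h8
  rw [← ruS_Y_Z hK] at h9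
  exact h9

end Cfsg.Agent.Helper7.ReeMul
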