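import Mathlib
import Cfsg.Agent.Helper7.ReeMulC

set_option autoImplicit false
set_option linter.unusedSectionVars false
set_option linter.unusedVariables false

/-!
Central extensions of the Ree group: lifts of the centre `U₂` of `U¹` commute with all lifts of elements
of `U¹`.
-/

namespace Cfsg.Agent.Helper7.ReeMul

open Cfsg Cfsg.Lie Matrix Cfsg.Agent.Helper7.Chev Cfsg.Agent.Helper7.ReeAut Cfsg.Agent.Helper7.Sc

variable {K : Type*} [Field K] [Fintype K] [CharP K 3] {m : ℕ} (hK : Fintype.card K = 3 ^ (2 * m + 1))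
  {Γ : Type*} [Group Γ] (C : CExt Γ ↥(twistedG2 K (3 ^ m)))

theorem three_eq_zero' : (3 : K) = 0 := Cfsg.Agent.Helper7.ReeAut.three_eq_zero K

/-- Cubing is injective in characteristic `3`. -/
theorem cube_injective {x y : K} (h : x ^ 3 = y ^ 3) : x = y := by
  have h3 : (3 : K) = 0 := three_eq_zero'
  have : (x - y) ^ 3 = 0 := by
    have e : (x - y) ^ 3 = x ^ 3 - y ^ 3 - 3 * (x * y * (x - y)) := by ring
    rw [e, h, h3]
    ring
  exact sub_eq_zero.mp (pow_eq_zero_iff (by norm_num) |>.mp this)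

include hK in
/-- The obstruction for the commutator of `(t, 0, 0)` and `(0, 0, v)` does not vanish outside the prime field. -/
theorem twist_ne_zero {a : K} (ha0 : a ≠ 0) (ha2 : a ^ 2 ≠ 1) (ha1 : a + 1 ≠ 0) :
    reeTh K (m + 1) (a + 1) * ((a + 1) ^ 2)⁻¹ - reeTh K (m + 1) a * (a ^ 2)⁻¹ - 1 ≠ 0 := by
  have hm := pow_card_three hK
  have h3 : (3 : K) = 0 := three_eq_zero'
  obtain ⟨σ, hσ⟩ : ∃ σ, σ = reeTh K (m + 1) a := ⟨_, rfl⟩
  have hne : σ ≠ a ^ 3 := by
    intro h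
    have h1 : reeTh K (m + 1) σ = a ^ 3 := by rw [hσ, reeTh_succ_twice hm]
    rw [h, map_pow, ← hσ] at h1
    have h2 : σ = a := cube_injective h1
    rw [h2] at h
    apply ha2
    have : a * (a ^ 2 - 1) = 0 := by
      have e : a * (a ^ 2 - 1) = a ^ 3 - a := by ring
      rw [e, ← h, sub_self]
    rcases mul_eq_zero.mp this with h0 | h0
    · exact absurd h0 ha0
    · exact sub_eq_zero.mp h0
  have ha1' : a - 1 ≠ 0 := by
    intro h
    apply ha2
    rw [sub_eq_zero.mp h, one_pow]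
  intro hc
  have hq : (a ^ 2) * ((a + 1) ^ 2) ≠ 0 := mul_ne_zero (pow_ne_zero _ ha0) (pow_ne_zero _ ha1)
  have key : (a - 1) * (σ - a ^ 3) = 0 := by
    have e : (a - 1) * (σ - a ^ 3) =
        (reeTh K (m + 1) (a + 1) * ((a + 1) ^ 2)⁻¹ - reeTh K (m + 1) a * (a ^ 2)⁻¹ - 1) *
          ((a ^ 2) * ((a + 1) ^ 2)) := by
      rw [map_add, map_one, ← hσ]
      field_simp
      linear_combination (a * σ + a ^ 3) * h3
    rw [e, hc, zero_mul]
  rcases mul_eq_zero.mp key with h0 | h0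
  · exact ha1' h0
  · exact hne (sub_eq_zero.mp h0)

variable (hm : 1 ≤ m)

include hK hm in
/-- Step 4: lifts of elements of `U₂` commute with lifts of the `(t, 0, 0)`. -/
theorem LC_X_Z (t v : K) : C.LC (ruS m t 0 0) (ruS m 0 0 v) := by
  rw [C.LC_iff]
  obtain ⟨a₀, ha0, ha2⟩ := Cfsg.Agent.Helper7.Sc.exists_pow_ne_one (card_gt_four hK hm)
    (m := 2) (by norm_num) (by norm_num)
  have ha1 : a₀ + 1 ≠ 0 := by
    intro h
    apply ha2
    have : a₀ = -1 := eq_neg_of_add_eq_zero_left h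
    rw [this]
    ring
  refine biadd_eq_one_of_twist (fun t v => C.cm (ruS m t 0 0) (ruS m 0 0 v)) ?_ ?_
    (fun a => reeTh K (m + 1) a * (a ^ 2)⁻¹) ?_ a₀ ha0 ha1 (twist_ne_zero hK ha0 ha2 ha1) t v
  · intro x x' y
    show C.cm (ruS m (x + x') 0 0) (ruS m 0 0 y) = _
    obtain ⟨a, b, e⟩ := ruS_X_add hK x x'
    rw [e, C.cm_mul_left_of_LC (LC_U1_U1 hK C hm a b 0 y),
      C.cm_mul_left_of_comm (ruS_Z_comm hK y x' 0 0)]
  · intro x y y'
    show C.cm (ruS m x 0 0) (ruS m 0 0 (y + y')) = _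
    rw [ruS_Z_add hK, C.cm_mul_right_of_comm (ruS_Z_comm hK y' x 0 0).symm]
  · intro a ha b
    have ha' : a⁻¹ ≠ 0 := inv_ne_zero ha
    have e1 := C.kap_cm (ghS hK (Units.mk0 a⁻¹ ha')) (ruS m b 0 0) (ruS m 0 0 a)
    rw [ghS_conj_X, ghS_conj_U1, mul_zero, Units.val_mk0, inv_mul_cancel₀ ha,
      C.kap_ker (C.ψ_cm_of_comm (ruS_Z_comm hK a b 0 0).symm)] at e1
    have e2 : ((ghChi K m (Units.mk0 a⁻¹ ha') 6 : Kˣ) : K) = reeTh K (m + 1) a * (a ^ 2)⁻¹ := by
      have h := chi6_mul (K := K) (m := m) (Units.mk0 a⁻¹ ha')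
      rw [Units.val_mk0, map_inv₀] at h
      have hσ : reeTh K (m + 1) a ≠ 0 := (map_ne_zero _).mpr ha
      rw [← inv_pow, ← h]
      field_simp
    rw [e2] at e1
    exact e1

include hK hm in
/-- Lifts of elements of `U₂` commute with lifts of elements of `U¹`. -/
theorem LC_Z_all (w t u v : K) : C.LC (ruS m 0 0 w) (ruS m t u v) := by
  have h1 : ruS m t 0 0 ∈ C.LCen (ruS m 0 0 w) := LC_X_Z hK C hm t w
  have h2 : ruS m 0 u v ∈ C.LCen (ruS m 0 0 w) := (LC_U1_U1 hK C hm 0 w u v).symm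
  have h3 := mul_mem h1 h2
  rw [← ruS_split hK] at h3
  exact (C.mem_LCen.mp h3).symm

end Cfsg.Agent.Helper7.ReeMul
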