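import Mathlib
import Cfsg.Agent.Helper7.ReeMulA

set_option autoImplicit false
set_option linter.unusedSectionVars false
set_option linter.unusedVariables false

/-!
The norm argument for the Ree groups, in abstract form: a commutative group `A` with operators `φ s`
(`s` a unit of the field), biadditive `D` and "almost biadditive" alternating `E` with values in `A`,
equivariant for the operators.  The norm `∏ s, φ s` kills all values of `D` and `E`.
-/

namespace Cfsg.Agent.Helper7.ReeMul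

section cext

open Cfsg.Agent.Helper7.Sc

variable {E Γ : Type*} [Group E] [Group Γ] (C : CExt E Γ)

/-- The commutator of lifts, product in the first variable. -/
theorem _root_.Cfsg.Agent.Helper7.Sc.CExt.cm_mul_left (d' d'' d : Γ) :
    C.cm (d' * d'') d = C.kap d' (C.cm d'' d) * C.cm d' d := by
  rw [← C.cm_inv d (d' * d''), C.cm_mul_right, mul_inv_rev, ← map_inv, C.cm_inv, C.cm_inv]

end cext

variable {K : Type*} [Field K] [Fintype K] [DecidableEq K] [CharP K 3]

theorem norm_kills (hcard : ∃ s : Finset K, 4 < s.card)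
    {A : Type*} [CommGroup A] (φ : Kˣ → (A →* A)) (hφ : ∀ s s' a, φ (s * s') a = φ s (φ s' a))
    (a6 a10 : Kˣ → K) (h6neg : a6 (-1) = -1) (h10neg : a10 (-1) = 1)
    (h6surj : ∀ l : K, l ≠ 0 → ∃ s, a6 s = l)
    (D E : K → K → A)
    (hDl : ∀ t t' u, D (t + t') u = D t u * D t' u) (hDr : ∀ t u u', D t (u + u') = D t u * D t u')
    (hDφ : ∀ s t u, φ s (D t u) = D (a6 s * t) (a10 s * u))
    (hEd : ∀ t, E t t = 1) (hEi : ∀ t t', (E t t')⁻¹ = E t' t)
    (hEr : ∀ t t' t'', ∃ t₁ u₁ t₂ u₂, E t (t' + t'') = E t t' * D t₁ u₁ * E t t'' * D t₂ u₂)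
    (hEφ : ∀ s t t', φ s (E t t') = E (a6 s * t) (a6 s * t')) :
    (∀ t u, (∏ s, φ s) (D t u) = 1) ∧ (∀ t t', (∏ s, φ s) (E t t') = 1) := by
  obtain ⟨N, hNdef⟩ : ∃ N : A →* A, N = ∏ s, φ s := ⟨_, rfl⟩
  rw [← hNdef]
  have hN : ∀ a, N a = ∏ s, φ s a := by
    intro a
    rw [hNdef]
    exact MonoidHom.finsetProd_apply _ _ _
  have hNφ : ∀ s₀ a, N (φ s₀ a) = N a := by
    intro s₀ a
    rw [hN, hN]
    refine Fintype.prod_equiv (Equiv.mulRight s₀) _ _ ?_
    intro s
    rw [Equiv.coe_mulRight, hφ]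
  have hND : ∀ t u, N (D t u) = 1 := by
    apply biadd_eq_one_of_neg_left (fun t u => N (D t u))
    · intro x x' y
      show N (D (x + x') y) = _
      rw [hDl, map_mul]
    · intro x y
      show N (D (-x) y) = N (D x y)
      have := hDφ (-1) x y
      rw [h6neg, h10neg, neg_one_mul, one_mul] at this
      rw [← this, hNφ]
  refine ⟨hND, ?_⟩
  have hr : ∀ x y y', N (E x (y + y')) = N (E x y) * N (E x y') := by
    intro x y y'
    obtain ⟨t₁, u₁, t₂, u₂, e⟩ := hEr x y y'
    rw [e, map_mul, map_mul, map_mul, hND, hND, mul_one, mul_one]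
  apply Cfsg.Agent.Helper7.SzMul.biadd_eq_one_of_scale hcard (fun t t' => N (E t t'))
  · intro x x' y
    show N (E (x + x') y) = N (E x y) * N (E x' y)
    rw [← hEi y (x + x'), ← hEi y x, ← hEi y x', map_inv, map_inv, map_inv, hr, mul_inv]
  · exact hr
  · intro x
    show N (E x x) = 1
    rw [hEd, map_one]
  · intro v hv x y
    show N (E (v * x) (v * y)) = N (E x y)
    obtain ⟨s, hs⟩ := h6surj v hv
    rw [← hs, ← hEφ, hNφ]

end Cfsg.Agent.Helper7.ReeMul
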