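import Mathlib
import Cfsg.Agent.Helper7.ReeMulD
import Cfsg.Agent.Helper7.ReeMulE

set_option autoImplicit false
set_option linter.unusedSectionVars false
set_option linter.unusedVariables false

/-!
Central extensions of the Ree group: the commutators of lifts of elements of `U¹`.
-/

namespace Cfsg.Agent.Helper7.ReeMul

open Cfsg Cfsg.Lie Matrix Cfsg.Agent.Helper7.Chev Cfsg.Agent.Helper7.ReeAut Cfsg.Agent.Helper7.Sc

variable {K : Type*} [Field K] [Fintype K] [CharP K 3] {m : ℕ} (hK : Fintype.card K = 3 ^ (2 * m + 1))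
  {Γ : Type*} [Group Γ] (C : CExt Γ ↥(twistedG2 K (3 ^ m))) (hm : 1 ≤ m)

include hK hm in
theorem cm_X_U1 (t u v : K) :
    C.cm (ruS m t 0 0) (ruS m 0 u v) = C.cm (ruS m t 0 0) (ruS m 0 u 0) := by
  rw [ruS_Y_Z hK u v, C.cm_mul_right_of_LC (LC_X_Z hK C hm t v)]

include hK in
theorem ψ_cm_X_Y (t u : K) : C.ψ (C.cm (ruS m t 0 0) (ruS m 0 u 0)) = ruS m 0 0 (t * u) := by
  rw [C.ψ_cm, comm_X_U1 hK]

include hK hm in
theorem kap_cm_X_Y (t' u' v' t u : K) :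
    C.kap (ruS m t' u' v') (C.cm (ruS m t 0 0) (ruS m 0 u 0)) = C.cm (ruS m t 0 0) (ruS m 0 u 0) :=
  CExt.LC.kap_eq C (CExt.LC.symm C (LC_Z_all hK C hm (t * u) t' u' v')) (ψ_cm_X_Y hK C t u)

include hK hm in
theorem cm_X_Y_add_right (t u u' : K) :
    C.cm (ruS m t 0 0) (ruS m 0 (u + u') 0) =
      C.cm (ruS m t 0 0) (ruS m 0 u 0) * C.cm (ruS m t 0 0) (ruS m 0 u' 0) := by
  rw [ruS_Y_add hK, C.cm_mul_right, kap_cm_X_Y hK C hm]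

include hK hm in
theorem cm_X_Y_add_left (t t' u : K) :
    C.cm (ruS m (t + t') 0 0) (ruS m 0 u 0) =
      C.cm (ruS m t' 0 0) (ruS m 0 u 0) * C.cm (ruS m t 0 0) (ruS m 0 u 0) := by
  obtain ⟨a, b, e⟩ := ruS_X_add hK t t'
  rw [e, C.cm_mul_left_of_LC (LC_U1_U1 hK C hm a b u 0), C.cm_mul_left, kap_cm_X_Y hK C hm]

theorem kap_gh_cm_X_Y (s : Kˣ) (t u : K) :
    C.kap (ghS hK s) (C.cm (ruS m t 0 0) (ruS m 0 u 0)) =
      C.cm (ruS m ((ghChi K m s 6 : K) * t) 0 0) (ruS m 0 ((ghChi K m s 10 : K) * u) 0) := by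
  rw [C.kap_cm, ghS_conj_X, ghS_conj_U1, mul_zero]

theorem kap_gh_cm_X_X (s : Kˣ) (t t' : K) :
    C.kap (ghS hK s) (C.cm (ruS m t 0 0) (ruS m t' 0 0)) =
      C.cm (ruS m ((ghChi K m s 6 : K) * t) 0 0) (ruS m ((ghChi K m s 6 : K) * t') 0 0) := by
  rw [C.kap_cm, ghS_conj_X, ghS_conj_X]

include hK in
theorem ψ_cm_X_X (t t' : K) : ∃ a b : K, C.ψ (C.cm (ruS m t 0 0) (ruS m t' 0 0)) = ruS m 0 a b := by
  obtain ⟨a, b, e⟩ := comm_X_X hK t t'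
  exact ⟨a, b, by rw [C.ψ_cm, e]⟩

include hK hm in
/-- Additivity, up to commutators with `U₁`, of the commutator of the lifts of `(t, 0, 0)` and `(t', 0, 0)`. -/
theorem cm_X_X_add_right (t t' t'' : K) : ∃ a a₁ : K,
    C.cm (ruS m t 0 0) (ruS m (t' + t'') 0 0) =
      C.cm (ruS m t 0 0) (ruS m t' 0 0) * C.cm (ruS m t' 0 0) (ruS m 0 a 0) *
        C.cm (ruS m t 0 0) (ruS m t'' 0 0) * C.cm (ruS m t 0 0) (ruS m 0 a₁ 0) := by
  obtain ⟨a₁, b₁, e⟩ := ruS_X_add hK t' t''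
  obtain ⟨a, b, e2⟩ := ψ_cm_X_X hK C t t''
  refine ⟨a, a₁, ?_⟩
  rw [e, C.cm_mul_right, cm_X_U1 hK C hm, ruS_mul hK t' 0 0 t'' 0 0, kap_cm_X_Y hK C hm,
    ← ruS_mul hK t' 0 0 t'' 0 0, C.cm_mul_right]
  have h3 : C.kap (ruS m t' 0 0) (C.cm (ruS m t 0 0) (ruS m t'' 0 0)) =
      C.cm (ruS m t' 0 0) (ruS m 0 a 0) * C.cm (ruS m t 0 0) (ruS m t'' 0 0) := by
    rw [← cm_X_U1 hK C hm t' a b, C.cm_eq_kap e2, inv_mul_cancel_right]
  rw [h3]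
  simp only [mul_assoc]

include hK hm in
/-- The commutator of lifts of two elements of `U¹`. -/
theorem cm_U_U (t u v t' u' v' : K) :
    C.cm (ruS m t u v) (ruS m t' u' v') =
      (C.cm (ruS m t' 0 0) (ruS m 0 u 0))⁻¹ * C.cm (ruS m t 0 0) (ruS m t' 0 0) *
        C.cm (ruS m t 0 0) (ruS m 0 u' 0) := by
  have e1 : C.cm (ruS m t u v) (ruS m 0 u' v') = C.cm (ruS m t 0 0) (ruS m 0 u' 0) := by
    rw [ruS_split hK t u v, C.cm_mul_left_of_LC (LC_U1_U1 hK C hm u v u' v'), cm_X_U1 hK C hm]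
  have e2 : C.cm (ruS m t u v) (ruS m t' 0 0) =
      (C.cm (ruS m t' 0 0) (ruS m 0 u 0))⁻¹ * C.cm (ruS m t 0 0) (ruS m t' 0 0) := by
    rw [ruS_split hK t u v, C.cm_mul_left, ← C.cm_inv (ruS m t' 0 0) (ruS m 0 u v), map_inv,
      cm_X_U1 hK C hm, kap_cm_X_Y hK C hm]
  rw [ruS_split hK t' u' v', C.cm_mul_right, e1, kap_cm_X_Y hK C hm, e2]

end Cfsg.Agent.Helper7.ReeMul
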