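import Mathlib
import Cfsg.Agent.Helper7.ReeMulF

set_option autoImplicit false
set_option linter.unusedSectionVars false
set_option linter.unusedVariables false

/-!
Central extensions of the Ree group: the elements of the kernel that lie in the commutator subgroup of the
preimage of `U¹` are killed by `q - 1`.
-/

namespace Cfsg.Agent.Helper7.ReeMul

open Cfsg Cfsg.Lie Matrix Cfsg.Agent.Helper7.Chev Cfsg.Agent.Helper7.ReeAut Cfsg.Agent.Helper7.Sc
open scoped commutatorElement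

variable {K : Type*} [Field K] [Fintype K] [CharP K 3] {m : ℕ} (hK : Fintype.card K = 3 ^ (2 * m + 1))
  {Γ : Type*} [Group Γ] (C : CExt Γ ↥(twistedG2 K (3 ^ m))) (hm : 1 ≤ m)

/-- The subgroup `U₁` of the elements `(0, u, v)`. -/
def U1sub : Subgroup ↥(twistedG2 K (3 ^ m)) where
  carrier := {g | ∃ u v : K, g = ruS m 0 u v}
  mul_mem' := by
    rintro _ _ ⟨u, v, rfl⟩ ⟨u', v', rfl⟩
    exact ⟨_, _, ruS_add hK u v u' v'⟩
  one_mem' := ⟨0, 0, ruS_zero.symm⟩
  inv_mem' := by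
    rintro _ ⟨u, v, rfl⟩
    exact ⟨_, _, ruS_inv_center hK u v⟩

theorem mem_U1sub {g : ↥(twistedG2 K (3 ^ m))} : g ∈ U1sub hK ↔ ∃ u v : K, g = ruS m 0 u v := Iff.rfl

include hm in
/-- The preimage of `U₁` is commutative. -/
theorem comap_U1_comm : ∀ a ∈ (U1sub hK).comap C.ψ, ∀ b ∈ (U1sub hK).comap C.ψ, a * b = b * a := by
  intro a ha b hb
  obtain ⟨u, v, e⟩ := ha
  obtain ⟨u', v', e'⟩ := hb
  exact LC_U1_U1 hK C hm u v u' v' a b e e'

theorem kap_gh_mem (s : Kˣ) {x : Γ} (hx : x ∈ (U1sub hK).comap C.ψ) :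
    C.kap (ghS hK s) x ∈ (U1sub hK).comap C.ψ := by
  obtain ⟨u, v, e⟩ := hx
  show C.ψ (C.kap (ghS hK s) x) ∈ U1sub hK
  rw [C.ψ_kap, e, ghS_conj_U1]
  exact ⟨_, _, rfl⟩

theorem cm_X_Y_mem (t u : K) : C.cm (ruS m t 0 0) (ruS m 0 u 0) ∈ (U1sub hK).comap C.ψ :=
  ⟨0, t * u, ψ_cm_X_Y hK C t u⟩

theorem cm_X_X_mem (t t' : K) : C.cm (ruS m t 0 0) (ruS m t' 0 0) ∈ (U1sub hK).comap C.ψ := by
  obtain ⟨a, b, e⟩ := ψ_cm_X_X hK C t t'
  exact ⟨a, b, e⟩

open scoped IsMulCommutative in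
include hK hm in
/-- The elements of the kernel that lie in the commutator subgroup of the preimage of `U¹` are killed by
`q - 1`. -/
theorem pow_eq_one_of_mem_commutator (z : Γ) (hz : C.ψ z = 1)
    (hz' : z ∈ ⁅(rU' K m).comap C.ψ, (rU' K m).comap C.ψ⁆) : z ^ (Fintype.card K - 1) = 1 := by
  classical
  obtain ⟨A, hAdef⟩ : ∃ A : Subgroup Γ, A = (U1sub hK).comap C.ψ := ⟨_, rfl⟩
  have hAc : ∀ a ∈ A, ∀ b ∈ A, a * b = b * a := by
    rw [hAdef]; exact comap_U1_comm hK C hm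
  haveI hmc : IsMulCommutative A := ⟨⟨fun a b => Subtype.ext (hAc a a.2 b b.2)⟩⟩
  have hmap : ∀ (s : Kˣ) (x : Γ), x ∈ A → C.kap (ghS hK s) x ∈ A := by
    intro s x hx
    rw [hAdef] at hx ⊢
    exact kap_gh_mem hK C s hx
  let φ : Kˣ → (A →* A) := fun s =>
    { toFun := fun x => ⟨C.kap (ghS hK s) x, hmap s x x.2⟩
      map_one' := Subtype.ext (map_one _)
      map_mul' := fun x y => Subtype.ext (map_mul _ _ _) }
  have hφ : ∀ s (x : A), ((φ s x : A) : Γ) = C.kap (ghS hK s) x := fun _ _ => rfl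
  have hDm : ∀ t u : K, C.cm (ruS m t 0 0) (ruS m 0 u 0) ∈ A := by
    intro t u; rw [hAdef]; exact cm_X_Y_mem hK C t u
  have hEm : ∀ t t' : K, C.cm (ruS m t 0 0) (ruS m t' 0 0) ∈ A := by
    intro t t'; rw [hAdef]; exact cm_X_X_mem hK C t t'
  let D : K → K → A := fun t u => ⟨C.cm (ruS m t 0 0) (ruS m 0 u 0), hDm t u⟩
  let E : K → K → A := fun t t' => ⟨C.cm (ruS m t 0 0) (ruS m t' 0 0), hEm t t'⟩
  have hD : ∀ t u, ((D t u : A) : Γ) = C.cm (ruS m t 0 0) (ruS m 0 u 0) := fun _ _ => rfl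
  have hE : ∀ t t', ((E t t' : A) : Γ) = C.cm (ruS m t 0 0) (ruS m t' 0 0) := fun _ _ => rfl
  have hkill := norm_kills (card_gt_four hK hm) φ
    (by
      intro s s' a
      apply Subtype.ext
      rw [hφ, hφ, hφ, ← ghS_mul, C.kap_mul])
    (fun s => ((ghChi K m s 6 : Kˣ) : K)) (fun s => ((ghChi K m s 10 : Kˣ) : K))
    (chi6_neg_one hK) (chi10_neg_one (pow_card_three hK)) (fun l hl => chi6_surj hK hl) D E
    (by
      intro t t' u
      rw [mul_comm]
      apply Subtype.ext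
      rw [Subgroup.coe_mul, hD, hD, hD]
      exact cm_X_Y_add_left hK C hm t t' u)
    (by
      intro t u u'
      apply Subtype.ext
      rw [Subgroup.coe_mul, hD, hD, hD]
      exact cm_X_Y_add_right hK C hm t u u')
    (by
      intro s t u
      apply Subtype.ext
      rw [hφ, hD, hD]
      exact kap_gh_cm_X_Y hK C s t u)
    (by
      intro t
      apply Subtype.ext
      rw [hE]
      exact C.cm_self _)
    (by
      intro t t'
      apply Subtype.ext
      rw [Subgroup.coe_inv, hE, hE]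
      exact C.cm_inv _ _)
    (by
      intro t t' t''
      obtain ⟨a, a₁, e⟩ := cm_X_X_add_right hK C hm t t' t''
      refine ⟨t', a, t, a₁, ?_⟩
      apply Subtype.ext
      rw [Subgroup.coe_mul, Subgroup.coe_mul, Subgroup.coe_mul, hE, hE, hE, hD, hD]
      exact e)
    (by
      intro s t t'
      apply Subtype.ext
      rw [hφ, hE, hE]
      exact kap_gh_cm_X_X hK C s t t')
  obtain ⟨hkD, hkE⟩ := hkill
  obtain ⟨N, hNdef⟩ : ∃ N : A →* A, N = ∏ s, φ s := ⟨_, rfl⟩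
  rw [← hNdef] at hkD hkE
  have hN : ∀ a, N a = ∏ s, φ s a := by
    intro a
    rw [hNdef]
    exact MonoidHom.finsetProd_apply _ _ _
  -- the commutator subgroup lies in the kernel of the norm
  have hle : ⁅(rU' K m).comap C.ψ, (rU' K m).comap C.ψ⁆ ≤ (N.ker).map A.subtype := by
    rw [Subgroup.commutator_le]
    intro g₁ hg₁ g₂ hg₂
    obtain ⟨t, u, v, e₁⟩ := (mem_pos_iff hK _).mp ((mem_rU' _).mp hg₁)
    obtain ⟨t', u', v', e₂⟩ := (mem_pos_iff hK _).mp ((mem_rU' _).mp hg₂)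
    have e3 : ⁅g₁, g₂⁆ = (((D t' u)⁻¹ * E t t' * D t u' : A) : Γ) := by
      rw [commutatorElement_def, ← C.cm_eq e₁ e₂, cm_U_U hK C hm, Subgroup.coe_mul, Subgroup.coe_mul,
        Subgroup.coe_inv, hD, hD, hE]
    rw [e3]
    refine ⟨(D t' u)⁻¹ * E t t' * D t u', ?_, rfl⟩
    rw [SetLike.mem_coe, MonoidHom.mem_ker, map_mul, map_mul, map_inv, hkD, hkD, hkE, inv_one, one_mul, one_mul]
  obtain ⟨x, hx, hxz⟩ := hle hz'
  have hx1 : N x = 1 := MonoidHom.mem_ker.mp hx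
  have hx2 : ∀ s, φ s x = x := by
    intro s
    apply Subtype.ext
    rw [hφ]
    have : (x : Γ) = z := hxz
    rw [this]
    exact C.kap_ker hz _
  rw [hN] at hx1
  simp only [hx2, Finset.prod_const, Finset.card_univ, Fintype.card_units] at hx1
  have := congrArg Subtype.val hx1
  rw [← hxz]
  simpa using this

end Cfsg.Agent.Helper7.ReeMul
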