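import Mathlib
import Cfsg.Agent.Helper5.SchurAbs

set_option autoImplicit false
set_option linter.unusedSectionVars false
set_option linter.unusedVariables false

/-!
The preimage, in a central extension, of an elementary abelian subgroup of order `8` normalised but not
centralised by an element of order `7` is commutative.
-/

namespace Cfsg.Agent.Helper7.ReeMul

open scoped commutatorElement

section seven

variable {G : Type*} [Group G] (S : Subgroup G) (hS2 : ∀ s ∈ S, s * s = 1)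
  (g : G) (hg7 : g ^ 7 = 1) (hgS : ∀ s ∈ S, g * s * g⁻¹ ∈ S) (t₀ : G) (ht₀ : t₀ ∈ S)
  (hgt : g * t₀ * g⁻¹ ≠ t₀)

/-- The conjugates of `t₀` under the powers of `g`. -/
def tau (g t₀ : G) (i : ℕ) : G := g ^ i * t₀ * (g ^ i)⁻¹

theorem tau_zero : tau g t₀ 0 = t₀ := by
  unfold tau
  rw [pow_zero, one_mul, inv_one, mul_one]

theorem tau_conj (n i : ℕ) : g ^ n * tau g t₀ i * (g ^ n)⁻¹ = tau g t₀ (n + i) := by
  unfold tau
  rw [pow_add]
  group

include hg7 in
theorem tau_add_seven (i : ℕ) : tau g t₀ (i + 7) = tau g t₀ i := by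
  unfold tau
  rw [pow_add, hg7, mul_one]

include hgS ht₀ in
theorem tau_mem (i : ℕ) : tau g t₀ i ∈ S := by
  induction i with
  | zero => rw [tau_zero]; exact ht₀
  | succ n ih =>
    have := tau_conj g t₀ 1 n
    rw [pow_one, add_comm] at this
    rw [← this]
    exact hgS _ ih

include hS2 in
theorem S_comm (a b : G) (ha : a ∈ S) (hb : b ∈ S) : a * b = b * a := by
  have h1 := hS2 (a * b) (mul_mem ha hb)
  have h2 := hS2 a ha
  have h3 := hS2 b hb
  calc a * b = b * b * (a * b) * (a * a) := by rw [h2, h3, one_mul, mul_one]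
    _ = b * (b * a * b * a) * a := by group
    _ = b * (b * (a * b * (a * b)) * b⁻¹) * a := by group
    _ = b * a := by rw [h1]; group

include hS2 hgS ht₀ in
theorem tau_sq (i : ℕ) : tau g t₀ i * tau g t₀ i = 1 := hS2 _ (tau_mem S g hgS t₀ ht₀ i)

include hgt in
theorem t₀_ne_one : t₀ ≠ 1 := by
  rintro rfl
  apply hgt
  group

include hgt in
theorem tau_ne_one (i : ℕ) : tau g t₀ i ≠ 1 := by
  intro h
  unfold tau at h
  apply t₀_ne_one g t₀ hgt
  have : t₀ = (g ^ i)⁻¹ * (g ^ i * t₀ * (g ^ i)⁻¹) * g ^ i := by group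
  rw [this, h]
  group

include hg7 hgt in
/-- A nontrivial power of `g` does not centralise `t₀`. -/
theorem pow_not_comm (d : ℕ) (hd1 : 1 ≤ d) (hd : d < 7) : g ^ d * t₀ ≠ t₀ * g ^ d := by
  intro h
  have hc : Commute (g ^ d) t₀ := h
  apply hgt
  obtain ⟨e, k, he⟩ : ∃ e k : ℕ, d * e = 7 * k + 1 := by
    interval_cases d
    · exact ⟨1, 0, rfl⟩
    · exact ⟨4, 1, rfl⟩
    · exact ⟨5, 2, rfl⟩
    · exact ⟨2, 1, rfl⟩
    · exact ⟨3, 2, rfl⟩
    · exact ⟨6, 5, rfl⟩
  have hge : (g ^ d) ^ e = g := by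
    rw [← pow_mul, he, pow_succ, pow_mul, hg7, one_pow, one_mul]
  have hc2 : Commute g t₀ := by
    rw [← hge]
    exact hc.pow_left e
  rw [hc2.eq, mul_inv_cancel_right]

include hg7 hgt in
theorem tau_injective {i j : ℕ} (hi : i < 7) (hj : j < 7) (h : tau g t₀ i = tau g t₀ j) : i = j := by
  by_contra hne
  wlog hij : i < j generalizing i j
  · exact this hj hi h.symm (Ne.symm hne) (by omega)
  apply pow_not_comm g hg7 t₀ hgt (j - i) (by omega) (by omega)
  have e1 : g ^ j = g ^ i * g ^ (j - i) := by rw [← pow_add]; congr 1; omega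
  unfold tau at h
  rw [e1] at h
  have : g ^ (j - i) * t₀ * (g ^ (j - i))⁻¹ = t₀ := by
    have h2 : g ^ (j - i) * t₀ * (g ^ (j - i))⁻¹ =
        (g ^ i)⁻¹ * (g ^ i * g ^ (j - i) * t₀ * (g ^ i * g ^ (j - i))⁻¹) * g ^ i := by group
    rw [h2, ← h]
    group
  calc g ^ (j - i) * t₀ = (g ^ (j - i) * t₀ * (g ^ (j - i))⁻¹) * g ^ (j - i) := by group
    _ = t₀ * g ^ (j - i) := by rw [this]

include hS2 hg7 hgS ht₀ hgt in
/-- Every nontrivial element of `S` is a conjugate of `t₀` under a power of `g`. -/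
theorem exists_tau (hS8 : Nat.card S = 8) (s : G) (hs : s ∈ S) (hs1 : s ≠ 1) :
    ∃ i < 7, s = tau g t₀ i := by
  classical
  haveI : Finite S := Nat.finite_of_card_ne_zero (by rw [hS8]; norm_num)
  haveI : Fintype S := Fintype.ofFinite S
  let f : ℕ → S := fun i => ⟨tau g t₀ i, tau_mem S g hgS t₀ ht₀ i⟩
  have hf : Set.InjOn f (Finset.range 7 : Set ℕ) := by
    intro i hi j hj hij
    rw [Finset.coe_range, Set.mem_Iio] at hi hj
    exact tau_injective g hg7 t₀ hgt hi hj (congrArg Subtype.val hij)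
  let F : Finset S := insert 1 ((Finset.range 7).image f)
  have hF : F.card = 8 := by
    rw [Finset.card_insert_of_notMem, Finset.card_image_of_injOn hf, Finset.card_range]
    intro h1
    rw [Finset.mem_image] at h1
    obtain ⟨i, _, hi⟩ := h1
    exact tau_ne_one g t₀ hgt i (congrArg Subtype.val hi)
  have hFu : F = Finset.univ := by
    apply Finset.eq_univ_of_card
    rw [hF, ← Nat.card_eq_fintype_card, hS8]
  have hsF : (⟨s, hs⟩ : S) ∈ F := by rw [hFu]; exact Finset.mem_univ _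
  rw [Finset.mem_insert, Finset.mem_image] at hsF
  rcases hsF with h | ⟨i, hi, h⟩
  · exact absurd (congrArg Subtype.val h) hs1
  · exact ⟨i, Finset.mem_range.mp hi, (congrArg Subtype.val h).symm⟩

theorem tau_shift {i j k : ℕ} (h : tau g t₀ i * tau g t₀ j = tau g t₀ k) (n : ℕ) :
    tau g t₀ (n + i) * tau g t₀ (n + j) = tau g t₀ (n + k) := by
  rw [← tau_conj, ← tau_conj g t₀ n j, ← tau_conj g t₀ n k, ← h]
  group

end seven

end Cfsg.Agent.Helper7.ReeMul
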