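import Mathlib
import Cfsg.Agent.Helper7.ReeMulH

set_option autoImplicit false
set_option linter.unusedSectionVars false
set_option linter.unusedVariables false

/-!
The preimage, in a central extension, of an elementary abelian subgroup of order `8` normalised but not
centralised by an element of order `7` is commutative (continued).
-/

namespace Cfsg.Agent.Helper7.ReeMul

open scoped commutatorElement
open Cfsg.Agent.Helper5.SchurAbs

variable {G : Type*} [Group G] {Γ : Type*} [Group Γ] (ψ : Γ →* G) (hψ : Function.Surjective ψ)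
  (hker : ψ.ker ≤ Subgroup.center Γ)

include hψ hker in
/-- The case where `t₀ · t₀^g = t₀^(g⁵)`. -/
theorem comap_comm_of_five (S : Subgroup G) (hS2 : ∀ s ∈ S, s * s = 1) (hS8 : Nat.card S = 8)
    (g : G) (hg7 : g ^ 7 = 1) (hgS : ∀ s ∈ S, g * s * g⁻¹ ∈ S) (t₀ : G) (ht₀ : t₀ ∈ S)
    (hgt : g * t₀ * g⁻¹ ≠ t₀) (h5 : tau g t₀ 0 * tau g t₀ 1 = tau g t₀ 5) :
    ∀ a ∈ S.comap ψ, ∀ b ∈ S.comap ψ, a * b = b * a := by
  obtain ⟨x, hx⟩ := hψ g
  obtain ⟨t, ht⟩ := hψ t₀
  have hT : ∀ i, ψ (T x t i) = tau g t₀ i := by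
    intro i
    unfold T tau
    rw [map_mul, map_mul, map_inv, map_pow, hx, ht]
  have hcen : ∀ c : Γ, ψ c = 1 → c ∈ Subgroup.center Γ := fun c hc => hker (MonoidHom.mem_ker.mpr hc)
  have h7 : x ^ 7 ∈ Subgroup.center Γ := by
    apply hcen
    rw [map_pow, hx, hg7]
  have hc : ∀ i j : ℕ, ⁅T x t i, T x t j⁆ ∈ Subgroup.center Γ := by
    intro i j
    apply hcen
    rw [map_commutatorElement, hT, hT, commutatorElement_eq_one_iff_mul_comm]
    exact S_comm S hS2 _ _ (tau_mem S g hgS t₀ ht₀ i) (tau_mem S g hgS t₀ ht₀ j)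
  have hr : ∃ k ∈ Subgroup.center Γ, T x t 0 * T x t 1 = T x t 5 * k := by
    refine ⟨(T x t 5)⁻¹ * (T x t 0 * T x t 1), ?_, by group⟩
    apply hcen
    rw [map_mul, map_inv, map_mul, hT, hT, hT, h5, inv_mul_cancel]
  have key := commute_T x t h7 hc hr
  have hform : ∀ a ∈ S.comap ψ, a ∈ Subgroup.center Γ ∨
      ∃ i < 7, ∃ c ∈ Subgroup.center Γ, a = T x t i * c := by
    intro a ha
    by_cases h1 : ψ a = 1
    · exact Or.inl (hcen a h1)
    · right
      obtain ⟨i, hi, e⟩ := exists_tau S hS2 g hg7 hgS t₀ ht₀ hgt hS8 (ψ a) ha h1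
      refine ⟨i, hi, (T x t i)⁻¹ * a, ?_, by group⟩
      apply hcen
      rw [map_mul, map_inv, hT, e, inv_mul_cancel]
  intro a ha b hb
  rcases hform a ha with h1 | ⟨i, hi, c, hc1, rfl⟩
  · exact (Subgroup.mem_center_iff.mp h1 b).symm
  · rcases hform b hb with h2 | ⟨j, hj, c', hc2, rfl⟩
    · exact Subgroup.mem_center_iff.mp h2 _
    · have c1 : ∀ y : Γ, c * y = y * c := fun y => (Subgroup.mem_center_iff.mp hc1 y).symm
      have c2 : ∀ y : Γ, c' * y = y * c' := fun y => (Subgroup.mem_center_iff.mp hc2 y).symm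
      calc T x t i * c * (T x t j * c') = T x t i * (c * (T x t j * c')) := by rw [mul_assoc]
        _ = T x t i * (T x t j * c' * c) := by rw [c1]
        _ = T x t i * T x t j * (c' * c) := by simp only [mul_assoc]
        _ = T x t j * T x t i * (c' * c) := by rw [key i j hi hj]
        _ = T x t j * (T x t i * c * c') := by rw [c2 c]; simp only [mul_assoc]
        _ = T x t j * (c' * (T x t i * c)) := by rw [c2 (T x t i * c)]
        _ = T x t j * c' * (T x t i * c) := by rw [mul_assoc]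

include hψ hker in
/-- The preimage of an elementary abelian subgroup of order `8` normalised but not centralised by an element
of order `7` is commutative. -/
theorem comap_comm_of_seven (S : Subgroup G) (hS2 : ∀ s ∈ S, s * s = 1) (hS8 : Nat.card S = 8)
    (g : G) (hg7 : g ^ 7 = 1) (hgS : ∀ s ∈ S, g * s * g⁻¹ ∈ S) (t₀ : G) (ht₀ : t₀ ∈ S)
    (hgt : g * t₀ * g⁻¹ ≠ t₀) :
    ∀ a ∈ S.comap ψ, ∀ b ∈ S.comap ψ, a * b = b * a := by
  have hmem := tau_mem S g hgS t₀ ht₀
  have hsq := tau_sq S hS2 g hgS t₀ ht₀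
  have hcomm : ∀ i j, tau g t₀ i * tau g t₀ j = tau g t₀ j * tau g t₀ i :=
    fun i j => S_comm S hS2 _ _ (hmem i) (hmem j)
  have hne := tau_ne_one g t₀ hgt
  have hinj : ∀ {i j : ℕ}, i < 7 → j < 7 → tau g t₀ i = tau g t₀ j → i = j :=
    fun hi hj h => tau_injective g hg7 t₀ hgt hi hj h
  have h01 : tau g t₀ 0 * tau g t₀ 1 ≠ 1 := by
    intro h
    have : tau g t₀ 0 = tau g t₀ 1 := by
      calc tau g t₀ 0 = tau g t₀ 0 * (tau g t₀ 1 * tau g t₀ 1) := by rw [hsq, mul_one]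
        _ = (tau g t₀ 0 * tau g t₀ 1) * tau g t₀ 1 := by rw [mul_assoc]
        _ = tau g t₀ 1 := by rw [h, one_mul]
    have := hinj (by norm_num) (by norm_num) this
    omega
  obtain ⟨k, hk, e⟩ := exists_tau S hS2 g hg7 hgS t₀ ht₀ hgt hS8 _ (mul_mem (hmem 0) (hmem 1)) h01
  have h77 : ∀ i, tau g t₀ (i + 7) = tau g t₀ i := tau_add_seven g hg7 t₀
  interval_cases k
  · -- `k = 0`
    exfalso
    apply hne 1
    calc tau g t₀ 1 = tau g t₀ 0 * (tau g t₀ 0 * tau g t₀ 1) := by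
          rw [← mul_assoc, hsq, one_mul]
      _ = 1 := by rw [e, hsq]
  · -- `k = 1`
    exfalso
    apply hne 0
    calc tau g t₀ 0 = (tau g t₀ 0 * tau g t₀ 1) * tau g t₀ 1 := by rw [mul_assoc, hsq, mul_one]
      _ = 1 := by rw [e, hsq]
  · -- `k = 2`
    exfalso
    have s1 := tau_shift g t₀ e 1
    norm_num at s1
    have : tau g t₀ 0 = tau g t₀ 3 := by
      rw [← s1, ← e, hcomm 0 1, ← mul_assoc, hsq, one_mul]
    have := hinj (by norm_num) (by norm_num) this
    omega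
  · -- `k = 3`: use `g⁻¹`
    have hg7' : g⁻¹ ^ 7 = 1 := by rw [inv_pow, hg7, inv_one]
    have hgS' : ∀ s ∈ S, g⁻¹ * s * g⁻¹⁻¹ ∈ S := by
      intro s hs
      -- `g⁻¹ = g ^ 6`
      have e6 : g⁻¹ = g ^ 6 := by
        rw [eq_comm, ← mul_eq_one_iff_eq_inv, ← pow_succ, hg7]
      have hpow : ∀ n : ℕ, g ^ n * s * (g ^ n)⁻¹ ∈ S := by
        intro n
        induction n with
        | zero => simpa using hs
        | succ n ih =>
          have := hgS _ ih
          have e2 : g ^ (n + 1) * s * (g ^ (n + 1))⁻¹ = g * (g ^ n * s * (g ^ n)⁻¹) * g⁻¹ := by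
            rw [pow_succ']; group
          rw [e2]; exact this
      rw [e6]
      exact hpow 6
    have hgt' : g⁻¹ * t₀ * g⁻¹⁻¹ ≠ t₀ := by
      intro h
      apply hgt
      have : t₀ = g * (g⁻¹ * t₀ * g⁻¹⁻¹) * g⁻¹ := by group
      rw [h] at this
      exact this.symm
    have htau' : ∀ i, tau g⁻¹ t₀ i = tau g t₀ (6 * i) := by
      intro i
      unfold tau
      have e6 : g⁻¹ = g ^ 6 := by
        rw [eq_comm, ← mul_eq_one_iff_eq_inv, ← pow_succ, hg7]
      rw [e6, ← pow_mul]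
    apply comap_comm_of_five ψ hψ hker S hS2 hS8 g⁻¹ hg7' hgS' t₀ ht₀ hgt'
    rw [htau', htau', htau']
    norm_num
    -- `τ 0 * τ 6 = τ 30 = τ 2`
    have s6 := tau_shift g t₀ e 6
    norm_num at s6
    have e30 : tau g t₀ 30 = tau g t₀ 2 := by
      rw [show 30 = 2 + 7 + 7 + 7 + 7 by norm_num, h77, h77, h77, h77]
    have e7 : tau g t₀ 7 = tau g t₀ 0 := by
      have := h77 0
      rwa [zero_add] at this
    have e9 : tau g t₀ 9 = tau g t₀ 2 := h77 2
    rw [e30, hcomm 0 6, ← e7, s6, e9]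
  · -- `k = 4`
    exfalso
    have s3 := tau_shift g t₀ e 3
    norm_num at s3
    have e7 : tau g t₀ 7 = tau g t₀ 0 := by
      have := h77 0
      rwa [zero_add] at this
    rw [e7, ← e] at s3
    -- `τ 3 * (τ 0 * τ 1) = τ 0`
    have : tau g t₀ 3 = tau g t₀ 1 := by
      calc tau g t₀ 3 = tau g t₀ 3 * (tau g t₀ 0 * tau g t₀ 1) * (tau g t₀ 1 * tau g t₀ 0) := by
            rw [mul_assoc, mul_assoc (tau g t₀ 0), ← mul_assoc (tau g t₀ 1), hsq, one_mul, hsq, mul_one]
        _ = tau g t₀ 0 * (tau g t₀ 1 * tau g t₀ 0) := by rw [s3]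
        _ = tau g t₀ 1 := by rw [hcomm 1 0, ← mul_assoc, hsq, one_mul]
    have := hinj (by norm_num) (by norm_num) this
    omega
  · -- `k = 5`
    exact comap_comm_of_five ψ hψ hker S hS2 hS8 g hg7 hgS t₀ ht₀ hgt e
  · -- `k = 6`
    exfalso
    have s6 := tau_shift g t₀ e 6
    norm_num at s6
    have e7 : tau g t₀ 7 = tau g t₀ 0 := by
      have := h77 0
      rwa [zero_add] at this
    have e12 : tau g t₀ 12 = tau g t₀ 5 := h77 5
    rw [e7, e12, ← e] at s6
    -- `(τ 0 * τ 1) * τ 0 = τ 5`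
    have : tau g t₀ 1 = tau g t₀ 5 := by
      rw [← s6, hcomm 0 1, mul_assoc, hsq, mul_one]
    have := hinj (by norm_num) (by norm_num) this
    omega

end Cfsg.Agent.Helper7.ReeMul
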