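import Mathlib
import Cfsg.Agent.Helper7.ReeMulG
import Cfsg.Agent.Helper7.ReeMulI
import Cfsg.Agent.Helper7.ReeCycB
import Cfsg.Agent.Helper7.ReeSylE
import Cfsg.Agent.Helper7.SzMulA
import Cfsg.Agent.Helper3.Schur

set_option autoImplicit false
set_option linter.unusedSectionVars false
set_option linter.unusedVariables false

/-!
The Schur multiplier of the Ree group over a field with `3 ^ (2 m + 1)` elements, `m ≥ 1`, is trivial.
-/

namespace Cfsg.Agent.Helper7.ReeMul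

open Cfsg Cfsg.Lie Matrix Cfsg.Agent.Helper7.Chev Cfsg.Agent.Helper7.ReeAut Cfsg.Agent.Helper7.Sc
open scoped commutatorElement

variable {K : Type*} [Field K] [Fintype K] {m : ℕ}

/-- A Sylow `2`-subgroup is normalised but not centralised by an element of order `7`. -/
theorem exists_seven (hm : 1 ≤ m) (hK : Fintype.card K = 3 ^ (2 * m + 1))
    (S : Sylow 2 ↥(twistedG2 K (3 ^ m))) :
    ∃ g : ↥(twistedG2 K (3 ^ m)), g ^ 7 = 1 ∧
      (∀ s ∈ (S : Subgroup ↥(twistedG2 K (3 ^ m))), g * s * g⁻¹ ∈ (S : Subgroup ↥(twistedG2 K (3 ^ m)))) ∧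
      ∃ t₀ ∈ (S : Subgroup ↥(twistedG2 K (3 ^ m))), g * t₀ * g⁻¹ ≠ t₀ := by
  haveI := charP_three_of_card (by omega) hK
  obtain ⟨hcen, hnorm⟩ := ree_S1157 hm hK S
  obtain ⟨h8, h2⟩ := sylow_two_card hK S
  haveI : Fact (Nat.Prime 7) := ⟨by norm_num⟩
  obtain ⟨x, hx⟩ := exists_prime_orderOf_dvd_card' (G := ↥(Subgroup.normalizer
    ((S : Subgroup ↥(twistedG2 K (3 ^ m))) : Set ↥(twistedG2 K (3 ^ m))))) 7
    (by rw [hnorm]; norm_num)
  have hx7 : x ^ 7 = 1 := by rw [← hx]; exact pow_orderOf_eq_one x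
  have hx1 : x ≠ 1 := by
    intro h
    rw [h, orderOf_one] at hx
    norm_num at hx
  refine ⟨(x : ↥(twistedG2 K (3 ^ m))), ?_, ?_, ?_⟩
  · have := congrArg Subtype.val hx7
    simpa using this
  · intro s hs
    exact (Subgroup.mem_normalizer_iff.mp x.2 s).mp hs
  · by_contra hcon
    push_neg at hcon
    have hxc : (x : ↥(twistedG2 K (3 ^ m))) ∈
        Subgroup.centralizer ((S : Subgroup ↥(twistedG2 K (3 ^ m))) : Set ↥(twistedG2 K (3 ^ m))) := by
      rw [Subgroup.mem_centralizer_iff]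
      intro s hs
      have := hcon s hs
      calc s * (x : ↥(twistedG2 K (3 ^ m))) = ((x : ↥(twistedG2 K (3 ^ m))) * s *
            (x : ↥(twistedG2 K (3 ^ m)))⁻¹) * x := by rw [this]
        _ = x * s := by group
    rw [hcen] at hxc
    have hsq := h2 _ hxc
    apply hx1
    apply Subtype.ext
    obtain ⟨y, hy⟩ : ∃ y : ↥(twistedG2 K (3 ^ m)), y = (x : ↥(twistedG2 K (3 ^ m))) := ⟨_, rfl⟩
    have h7 : y ^ 7 = 1 := by
      have := congrArg Subtype.val hx7
      rw [hy]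
      simpa using this
    have h2' : y ^ 2 = 1 := by rw [pow_two, hy]; exact hsq
    rw [← hy]
    calc y = y ^ 7 * ((y ^ 2) ^ 3)⁻¹ := by group
      _ = 1 := by rw [h7, h2', one_pow, inv_one, mul_one]

theorem not_three_dvd (hK : Fintype.card K = 3 ^ (2 * m + 1)) :
    ¬ 3 ∣ (3 ^ (2 * m + 1) - 1) * ((3 ^ (2 * m + 1)) ^ 3 + 1) * (Fintype.card K - 1) := by
  have hq : 3 ^ (2 * m + 1) = 3 * 3 ^ (2 * m) := by rw [pow_succ, mul_comm]
  have hpos : 0 < 3 ^ (2 * m) := by positivity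
  rw [hK]
  intro h
  have h1 : ¬ 3 ∣ 3 ^ (2 * m + 1) - 1 := by
    rw [hq]; omega
  have h2 : ¬ 3 ∣ (3 ^ (2 * m + 1)) ^ 3 + 1 := by
    have h3 : 3 ∣ (3 ^ (2 * m + 1)) ^ 3 := by
      rw [hq, mul_pow]
      exact Dvd.dvd.mul_right (by norm_num) _
    omega
  rcases (Nat.Prime.dvd_mul Nat.prime_three).mp h with h | h
  · rcases (Nat.Prime.dvd_mul Nat.prime_three).mp h with h | h
    · exact h1 h
    · exact h2 h
  · exact h1 h

/-- Every finite stem extension of the Ree group is an isomorphism. -/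
theorem stem_ker_eq_bot (hm : 1 ≤ m) (hK : Fintype.card K = 3 ^ (2 * m + 1)) {Γ : Type*} [Group Γ]
    [Finite Γ] (σ : Γ →* ↥(twistedG2 K (3 ^ m))) (hσ : Cfsg.IsStemExtension σ) : σ.ker = ⊥ := by
  haveI := charP_three_of_card (by omega) hK
  obtain ⟨hs, hKer, hKer'⟩ := hσ
  rw [eq_bot_iff]
  intro z hz
  rw [Subgroup.mem_bot]
  have hzc := hKer hz
  have hzd := hKer' hz
  let C : CExt Γ ↥(twistedG2 K (3 ^ m)) := ⟨σ, hs, hKer, ree_perfect_twisted hK hm⟩
  have hz1 : σ z = 1 := MonoidHom.mem_ker.mp hz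
  -- the `3`-part
  have h1 := Cfsg.Agent.Helper7.SzMul.pow_index_mem_commutator ((rU' K m).comap σ) z hzc hzd
  have h2 := pow_eq_one_of_mem_commutator hK C hm (z ^ ((rU' K m).comap σ).index)
    (by show σ _ = 1; rw [map_pow, hz1, one_pow]) h1
  rw [Subgroup.index_comap_of_surjective _ hs, index_rU' hK, ← pow_mul] at h2
  have hd3 := orderOf_dvd_of_pow_eq_one h2
  by_contra hne
  have hne' : orderOf z ≠ 1 := fun e => hne (orderOf_eq_one_iff.mp e)
  obtain ⟨p, hp, hpd⟩ := Nat.exists_prime_and_dvd hne'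
  have hp3 : p ≠ 3 := by
    rintro rfl
    exact not_three_dvd hK (hpd.trans hd3)
  haveI : Fact p.Prime := ⟨hp⟩
  by_cases hp2 : p = 2
  · -- the `2`-part
    subst hp2
    obtain ⟨S⟩ : Nonempty (Sylow 2 ↥(twistedG2 K (3 ^ m))) := inferInstance
    obtain ⟨h8, hS2⟩ := sylow_two_card hK S
    obtain ⟨g, hg7, hgS, t₀, ht₀, hgt⟩ := exists_seven hm hK S
    have hcomm := comap_comm_of_seven σ hs hKer (S : Subgroup ↥(twistedG2 K (3 ^ m))) hS2 h8 g hg7 hgS
      t₀ ht₀ hgt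
    have h3 := Cfsg.Agent.Helper5.SchurAbs.pow_index_eq_one_of_comm
      ((S : Subgroup ↥(twistedG2 K (3 ^ m))).comap σ) hcomm z hzc hzd
    rw [Subgroup.index_comap_of_surjective _ hs] at h3
    exact S.not_dvd_index (hpd.trans (orderOf_dvd_of_pow_eq_one h3))
  · have hp5 : 3 < p := by
      have := hp.two_le
      omega
    obtain ⟨P⟩ : Nonempty (Sylow p ↥(twistedG2 K (3 ^ m))) := inferInstance
    have hcyc : IsCyclic P := Cfsg.Agent.Helper7.ReeCyc.ree_S1156 hm hK hp5 P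
    obtain ⟨g, hg⟩ := IsCyclic.exists_generator (α := P)
    have hP : (P : Subgroup ↥(twistedG2 K (3 ^ m))) =
        Subgroup.zpowers (g : ↥(twistedG2 K (3 ^ m))) := by
      ext x
      constructor
      · intro hx
        obtain ⟨n, hn⟩ := Subgroup.mem_zpowers_iff.mp (hg ⟨x, hx⟩)
        rw [Subgroup.mem_zpowers_iff]
        refine ⟨n, ?_⟩
        have := congrArg Subtype.val hn
        simpa using this
      · intro hx
        obtain ⟨n, hn⟩ := Subgroup.mem_zpowers_iff.mp hx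
        rw [← hn]
        exact zpow_mem g.2 n
    have h3 := Cfsg.Agent.Helper5.SchurAbs.pow_index_eq_one_of_comm
      ((Subgroup.zpowers (g : ↥(twistedG2 K (3 ^ m)))).comap σ)
      (Cfsg.Agent.Helper5.SchurAbs.comm_comap_zpowers σ hs hKer _) z hzc hzd
    rw [Subgroup.index_comap_of_surjective _ hs, ← hP] at h3
    exact P.not_dvd_index (hpd.trans (orderOf_dvd_of_pow_eq_one h3))

/-- The Schur multiplier of the Ree group is trivial. -/
theorem ree_S2113 {K : Type*} [Field K] [Fintype K] {m : ℕ} (hm : 1 ≤ m)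
    (hK : Fintype.card K = 3 ^ (2 * m + 1)) :
    Cfsg.HasCyclicSchurMultiplier ↥(Cfsg.Lie.twistedG2 K (3 ^ m)) 1 := by
  apply Cfsg.Agent.Helper3.hasCyclicSchurMultiplier_one_of
  intro Γ _ _ σ hσ
  exact stem_ker_eq_bot hm hK σ hσ

end Cfsg.Agent.Helper7.ReeMul
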