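import Mathlib
import Cfsg.Agent.Helper7.ReeSylA

set_option autoImplicit false
set_option linter.unusedSectionVars false
set_option linter.unusedVariables false

/-!
Centralisers of anisotropic elements of `SL₂` of a finite field: the count of the points of an
anisotropic conic, the linear form of the centraliser, its order `q + 1`.
-/

namespace Cfsg.Agent.Helper7.ReeTor

open Cfsg Matrix Cfsg.Agent.Helper7.Chev Cfsg.Agent.Helper7.ReeAut

section conic

variable {K : Type*} [Field K]

/-- The quadratic form `α² + t α β + β²`. -/
def qf (t : K) (p : K × K) : K := p.1 ^ 2 + t * p.1 * p.2 + p.2 ^ 2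

/-- The parameter of the point of the conic on the line of slope `u` through `(1, 0)`. -/
noncomputable def conicS (t u : K) : K := -(2 * u + t) / (u ^ 2 + t * u + 1)

theorem conicS_mul (t : K) (ha : ∀ u : K, u ^ 2 + t * u + 1 ≠ 0) (u : K) :
    conicS t u * (u ^ 2 + t * u + 1) = -(2 * u + t) := by
  unfold conicS
  rw [div_mul_cancel₀ _ (ha u)]

theorem qf_conic (t : K) (ha : ∀ u : K, u ^ 2 + t * u + 1 ≠ 0) (u : K) :
    qf t (1 + conicS t u * u, conicS t u) = 1 := by
  have h := conicS_mul t ha u
  unfold qf
  simp only
  linear_combination conicS t u * h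

theorem qf_neg_one (t : K) : qf t (-1, 0) = 1 := by
  unfold qf
  ring

theorem conicS_eq_zero_iff (t : K) (h2 : (2 : K) ≠ 0) (ha : ∀ u : K, u ^ 2 + t * u + 1 ≠ 0) (u : K) :
    conicS t u = 0 ↔ u = -t / 2 := by
  have h := conicS_mul t ha u
  constructor
  · intro hs
    rw [hs, zero_mul] at h
    rw [eq_div_iff h2]
    linear_combination h
  · intro hu
    have h3 : 2 * u + t = 0 := by
      rw [hu]
      field_simp
      ring
    rw [h3, neg_zero] at h
    exact (mul_eq_zero.mp h).resolve_right (ha u)

open Classical in
/-- The inverse of the rational parametrisation. -/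
noncomputable def conicInv (t : K) (p : K × K) : Option K :=
  if p.2 = 0 then (if p.1 = 1 then some (-t / 2) else none) else some ((p.1 - 1) / p.2)

theorem conicInv_one (t : K) : conicInv t (1, 0) = some (-t / 2) := by
  unfold conicInv
  simp

theorem conicInv_neg_one (t : K) (h2 : (2 : K) ≠ 0) : conicInv t (-1, 0) = none := by
  unfold conicInv
  have : (-1 : K) ≠ 1 := by
    intro h
    apply h2
    linear_combination -h
  simp [this]

theorem conicInv_of_ne (t : K) {α β : K} (hβ : β ≠ 0) : conicInv t (α, β) = some ((α - 1) / β) := by
  unfold conicInv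
  simp [hβ]

/-- The rational parametrisation of an anisotropic conic. -/
noncomputable def conicEquiv (t : K) (h2 : (2 : K) ≠ 0) (ha : ∀ u : K, u ^ 2 + t * u + 1 ≠ 0) :
    Option K ≃ {p : K × K // qf t p = 1} where
  toFun o := match o with
    | none => ⟨(-1, 0), qf_neg_one t⟩
    | some u => ⟨(1 + conicS t u * u, conicS t u), qf_conic t ha u⟩
  invFun p := conicInv t p.1
  left_inv o := by
    rcases o with _ | u
    · exact conicInv_neg_one t h2
    · change conicInv t (1 + conicS t u * u, conicS t u) = some u
      by_cases hs : conicS t u = 0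
      · have hu := (conicS_eq_zero_iff t h2 ha u).mp hs
        rw [hs, zero_mul, add_zero, conicInv_one, hu]
      · rw [conicInv_of_ne t hs]
        congr 1
        rw [add_sub_cancel_left, mul_div_cancel_left₀ _ hs]
  right_inv p := by
    obtain ⟨⟨α, β⟩, hp⟩ := p
    apply Subtype.ext
    by_cases hβ : β = 0
    · subst hβ
      have hα : α ^ 2 = 1 := by
        unfold qf at hp
        simpa using hp
      rcases sq_eq_one_iff.mp hα with h | h
      · subst h
        have h0 : conicS t (-t / 2) = 0 := (conicS_eq_zero_iff t h2 ha _).mpr rfl
        change (match conicInv t (1, 0) with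
          | none => (⟨(-1, 0), qf_neg_one t⟩ : {p : K × K // qf t p = 1})
          | some u => ⟨(1 + conicS t u * u, conicS t u), qf_conic t ha u⟩).1 = (1, 0)
        rw [conicInv_one]
        simp only
        rw [h0, zero_mul, add_zero]
      · subst h
        change (match conicInv t (-1, 0) with
          | none => (⟨(-1, 0), qf_neg_one t⟩ : {p : K × K // qf t p = 1})
          | some u => ⟨(1 + conicS t u * u, conicS t u), qf_conic t ha u⟩).1 = (-1, 0)
        rw [conicInv_neg_one t h2]
    · change (match conicInv t (α, β) with
          | none => (⟨(-1, 0), qf_neg_one t⟩ : {p : K × K // qf t p = 1})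
          | some u => ⟨(1 + conicS t u * u, conicS t u), qf_conic t ha u⟩).1 = (α, β)
      rw [conicInv_of_ne t hβ]
      simp only
      have hden := ha ((α - 1) / β)
      have hu : (α - 1) / β * β = α - 1 := div_mul_cancel₀ _ hβ
      set u := (α - 1) / β with hudef
      have hs : conicS t u = β := by
        have h := conicS_mul t ha u
        have h3 : (conicS t u - β) * (u ^ 2 + t * u + 1) = 0 := by
          unfold qf at hp
          simp only at hp
          have e : α = 1 + u * β := by linear_combination -hu
          rw [e] at hp
          have h4 : β * (β * (u ^ 2 + t * u + 1) + (2 * u + t)) = 0 := by linear_combination hp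
          have h5 := (mul_eq_zero.mp h4).resolve_left hβ
          linear_combination h - h5
        exact sub_eq_zero.mp ((mul_eq_zero.mp h3).resolve_right hden)
      rw [hs]
      congr 1
      linear_combination hu

theorem card_conic [Fintype K] (t : K) (h2 : (2 : K) ≠ 0) (ha : ∀ u : K, u ^ 2 + t * u + 1 ≠ 0) :
    Nat.card {p : K × K // qf t p = 1} = Fintype.card K + 1 := by
  rw [← Nat.card_congr (conicEquiv t h2 ha), Nat.card_eq_fintype_card, Fintype.card_option]

end conic

end Cfsg.Agent.Helper7.ReeTor
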