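import Mathlib
import Cfsg.Agent.Helper7.ReeTorA

set_option autoImplicit false
set_option linter.unusedSectionVars false
set_option linter.unusedVariables false

/-!
Centralisers of anisotropic elements of `SL₂` of a finite field: the linear form of the
centraliser, its order `q + 1`, and the anisotropy of the elements of order prime to `q (q - 1)`.
-/

namespace Cfsg.Agent.Helper7.ReeTor

open Cfsg Matrix Cfsg.Agent.Helper7.Chev Cfsg.Agent.Helper7.ReeAut

section cent

variable {K : Type*} [Field K]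

/-- The trace of an element of `SL₂`. -/
def tr2 (z : Matrix.SpecialLinearGroup (Fin 2) K) : K := z.val 0 0 + z.val 1 1

/-- The characteristic polynomial of `z` has no root in `K`. -/
def Aniso (z : Matrix.SpecialLinearGroup (Fin 2) K) : Prop := ∀ u : K, u ^ 2 + tr2 z * u + 1 ≠ 0

theorem Aniso.b_ne {z : Matrix.SpecialLinearGroup (Fin 2) K} (hz : Aniso z) : z.val 0 1 ≠ 0 := by
  intro hb
  apply hz (-(z.val 0 0))
  have := det_two_eq z
  unfold tr2
  rw [hb] at this
  linear_combination -this

/-- The element `α + β z` of `SL₂`, for `(α, β)` on the conic. -/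
def linSL (z : Matrix.SpecialLinearGroup (Fin 2) K) (p : K × K) (hp : qf (tr2 z) p = 1) :
    Matrix.SpecialLinearGroup (Fin 2) K :=
  ⟨!![p.1 + p.2 * z.val 0 0, p.2 * z.val 0 1; p.2 * z.val 1 0, p.1 + p.2 * z.val 1 1], by
    rw [Matrix.det_fin_two]
    simp only [Matrix.of_apply, Matrix.cons_val', Matrix.cons_val_zero, Matrix.cons_val_one,
      Matrix.cons_val_fin_one]
    unfold qf tr2 at hp
    linear_combination hp + p.2 ^ 2 * det_two_eq z⟩

theorem linSL_val (z : Matrix.SpecialLinearGroup (Fin 2) K) (p : K × K) (hp : qf (tr2 z) p = 1) :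
    (linSL z p hp).val =
      !![p.1 + p.2 * z.val 0 0, p.2 * z.val 0 1; p.2 * z.val 1 0, p.1 + p.2 * z.val 1 1] := rfl

theorem linSL_comm (z : Matrix.SpecialLinearGroup (Fin 2) K) (p : K × K) (hp : qf (tr2 z) p = 1) :
    linSL z p hp * z = z * linSL z p hp := by
  apply Subtype.ext
  rw [Matrix.SpecialLinearGroup.coe_mul, Matrix.SpecialLinearGroup.coe_mul, linSL_val]
  conv_lhs => rw [sl2_val_eq z]
  conv_rhs => rw [sl2_val_eq z]
  ext i j
  fin_cases i <;> fin_cases j <;> simp [Matrix.mul_apply, Fin.sum_univ_two] <;> ring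

/-- The form of the elements commuting with `z`. -/
theorem cent_form {z : Matrix.SpecialLinearGroup (Fin 2) K} (hb : z.val 0 1 ≠ 0)
    (y : Matrix.SpecialLinearGroup (Fin 2) K) (hy : y * z = z * y) :
    y.val = !![(y.val 0 0 - y.val 0 1 / z.val 0 1 * z.val 0 0) + y.val 0 1 / z.val 0 1 * z.val 0 0,
      y.val 0 1 / z.val 0 1 * z.val 0 1; y.val 0 1 / z.val 0 1 * z.val 1 0,
      (y.val 0 0 - y.val 0 1 / z.val 0 1 * z.val 0 0) + y.val 0 1 / z.val 0 1 * z.val 1 1] := by
  have h := congrArg Subtype.val hy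
  rw [Matrix.SpecialLinearGroup.coe_mul, Matrix.SpecialLinearGroup.coe_mul] at h
  have h00 := congrFun (congrFun h 0) 0
  have h01 := congrFun (congrFun h 0) 1
  simp only [Matrix.mul_apply, Fin.sum_univ_two] at h00 h01
  conv_lhs => rw [sl2_val_eq y]
  rw [mat2_eq_iff]
  refine ⟨by ring, ?_, ?_, ?_⟩
  · rw [div_mul_cancel₀ _ hb]
  · rw [div_mul_eq_mul_div, eq_div_iff hb]
    linear_combination -h00
  · have e : y.val 0 1 / z.val 0 1 * z.val 0 1 = y.val 0 1 := div_mul_cancel₀ _ hb
    have h3 : z.val 0 1 * (y.val 1 1 - (y.val 0 0 - y.val 0 1 / z.val 0 1 * z.val 0 0 +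
        y.val 0 1 / z.val 0 1 * z.val 1 1)) = 0 := by
      linear_combination -h01 + (z.val 0 0 - z.val 1 1) * e
    exact sub_eq_zero.mp ((mul_eq_zero.mp h3).resolve_left hb)

/-- The parameters of an element commuting with `z`. -/
noncomputable def centParam (z y : Matrix.SpecialLinearGroup (Fin 2) K) : K × K :=
  (y.val 0 0 - y.val 0 1 / z.val 0 1 * z.val 0 0, y.val 0 1 / z.val 0 1)

theorem qf_centParam {z : Matrix.SpecialLinearGroup (Fin 2) K} (hb : z.val 0 1 ≠ 0)
    (y : Matrix.SpecialLinearGroup (Fin 2) K) (hy : y * z = z * y) :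
    qf (tr2 z) (centParam z y) = 1 := by
  have h := cent_form hb y hy
  have hd := y.2
  rw [h, Matrix.det_fin_two] at hd
  simp only [Matrix.of_apply, Matrix.cons_val', Matrix.cons_val_zero, Matrix.cons_val_one,
    Matrix.cons_val_fin_one] at hd
  unfold qf tr2 centParam
  simp only
  linear_combination hd - (y.val 0 1 / z.val 0 1) ^ 2 * det_two_eq z

theorem linSL_centParam {z : Matrix.SpecialLinearGroup (Fin 2) K} (hb : z.val 0 1 ≠ 0)
    (y : Matrix.SpecialLinearGroup (Fin 2) K) (hy : y * z = z * y) :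
    linSL z (centParam z y) (qf_centParam hb y hy) = y := by
  apply Subtype.ext
  rw [linSL_val, cent_form hb y hy]
  rfl

theorem centParam_linSL {z : Matrix.SpecialLinearGroup (Fin 2) K} (hb : z.val 0 1 ≠ 0)
    (p : K × K) (hp : qf (tr2 z) p = 1) : centParam z (linSL z p hp) = p := by
  unfold centParam
  rw [linSL_val]
  simp only [Matrix.of_apply, Matrix.cons_val', Matrix.cons_val_zero, Matrix.cons_val_one,
    Matrix.cons_val_fin_one]
  have e : p.2 * z.val 0 1 / z.val 0 1 = p.2 := mul_div_cancel_right₀ _ hb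
  rw [e]
  ext
  · simp
  · rfl

/-- The centraliser of `z` is the conic. -/
noncomputable def centEquiv {z : Matrix.SpecialLinearGroup (Fin 2) K} (hb : z.val 0 1 ≠ 0) :
    ↥(Subgroup.centralizer {z}) ≃ {p : K × K // qf (tr2 z) p = 1} where
  toFun y := ⟨centParam z y.1, qf_centParam hb y.1 (Subgroup.mem_centralizer_singleton_iff.mp y.2)⟩
  invFun p := ⟨linSL z p.1 p.2, Subgroup.mem_centralizer_singleton_iff.mpr (linSL_comm z p.1 p.2)⟩
  left_inv y := Subtype.ext (linSL_centParam hb y.1 (Subgroup.mem_centralizer_singleton_iff.mp y.2))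
  right_inv p := Subtype.ext (centParam_linSL hb p.1 p.2)

theorem card_centralizer [Fintype K] (h2 : (2 : K) ≠ 0) {z : Matrix.SpecialLinearGroup (Fin 2) K}
    (hz : Aniso z) : Nat.card ↥(Subgroup.centralizer {z}) = Fintype.card K + 1 := by
  rw [Nat.card_congr (centEquiv hz.b_ne), card_conic _ h2 hz]

/-- The centraliser of a non-triangular element is commutative. -/
theorem centralizer_comm {z : Matrix.SpecialLinearGroup (Fin 2) K} (hb : z.val 0 1 ≠ 0)
    (y y' : Matrix.SpecialLinearGroup (Fin 2) K) (hy : y * z = z * y) (hy' : y' * z = z * y') :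
    y * y' = y' * y := by
  apply Subtype.ext
  rw [Matrix.SpecialLinearGroup.coe_mul, Matrix.SpecialLinearGroup.coe_mul, cent_form hb y hy,
    cent_form hb y' hy']
  ext i j
  fin_cases i <;> fin_cases j <;> simp [Matrix.mul_apply, Fin.sum_univ_two] <;> ring

end cent

end Cfsg.Agent.Helper7.ReeTor
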