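import Mathlib
import Cfsg.Agent.Helper7.ReeTorB

set_option autoImplicit false
set_option linter.unusedSectionVars false
set_option linter.unusedVariables false

/-!
The elements of `SL₂(q)` of order prime to `q (q - 1)` are anisotropic.
-/

namespace Cfsg.Agent.Helper7.ReeTor

open Cfsg Matrix Cfsg.Agent.Helper7.Chev Cfsg.Agent.Helper7.ReeAut

section order

variable {K : Type*} [Field K]

/-- The matrix `z - μ`. -/
def subScalar (z : Matrix.SpecialLinearGroup (Fin 2) K) (μ : K) : Matrix (Fin 2) (Fin 2) K :=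
  !![z.val 0 0 - μ, z.val 0 1; z.val 1 0, z.val 1 1 - μ]

theorem mul_subScalar (z : Matrix.SpecialLinearGroup (Fin 2) K) {l μ : K} (hlμ : l * μ = 1)
    (htr : tr2 z = l + μ) : z.val * subScalar z μ = l • subScalar z μ := by
  have hdet := det_two_eq z
  unfold tr2 at htr
  unfold subScalar
  conv_lhs => rw [sl2_val_eq z]
  ext i j
  fin_cases i <;> fin_cases j <;> simp [Matrix.mul_apply, Fin.sum_univ_two]
  · linear_combination z.val 0 0 * htr + hlμ - hdet
  · linear_combination z.val 0 1 * htr
  · linear_combination z.val 1 0 * htr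
  · linear_combination z.val 1 1 * htr + hlμ - hdet

theorem pow_mul_subScalar (z : Matrix.SpecialLinearGroup (Fin 2) K) {l μ : K} (hlμ : l * μ = 1)
    (htr : tr2 z = l + μ) (k : ℕ) : z.val ^ k * subScalar z μ = l ^ k • subScalar z μ := by
  induction k with
  | zero => rw [pow_zero, pow_zero, Matrix.one_mul, one_smul]
  | succ k ih =>
    rw [pow_succ, Matrix.mul_assoc, mul_subScalar z hlμ htr, Matrix.mul_smul, ih, smul_smul, pow_succ,
      mul_comm]

theorem val_eq_of_subScalar_eq_zero (z : Matrix.SpecialLinearGroup (Fin 2) K) {μ : K}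
    (h : subScalar z μ = 0) : z.val = μ • (1 : Matrix (Fin 2) (Fin 2) K) := by
  unfold subScalar at h
  have h00 := congrFun (congrFun h 0) 0
  have h01 := congrFun (congrFun h 0) 1
  have h10 := congrFun (congrFun h 1) 0
  have h11 := congrFun (congrFun h 1) 1
  simp at h00 h01 h10 h11
  conv_lhs => rw [sl2_val_eq z]
  ext i j
  fin_cases i <;> fin_cases j <;> simp
  · exact sub_eq_zero.mp h00
  · exact h01
  · exact h10
  · exact sub_eq_zero.mp h11

/-- An eigenvalue in `K` of an element `z` with `z ^ n = 1` is an `n`-th root of unity. -/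
theorem eigen_pow_eq_one (z : Matrix.SpecialLinearGroup (Fin 2) K) {l μ : K} (hlμ : l * μ = 1)
    (htr : tr2 z = l + μ) {n : ℕ} (hzn : z ^ n = 1) : l ^ n = 1 := by
  have hZn : z.val ^ n = 1 := by
    have := congrArg Subtype.val hzn
    rwa [Matrix.SpecialLinearGroup.coe_pow, Matrix.SpecialLinearGroup.coe_one] at this
  have h1 := pow_mul_subScalar z hlμ htr n
  rw [hZn, Matrix.one_mul] at h1
  by_cases hM : subScalar z μ = 0
  · have hz := val_eq_of_subScalar_eq_zero z hM
    rw [hz, smul_pow, one_pow] at hZn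
    have h00 := congrFun (congrFun hZn 0) 0
    simp at h00
    have : (l * μ) ^ n = 1 := by rw [hlμ, one_pow]
    rw [mul_pow, h00, mul_one] at this
    exact this
  · have h2 : (1 - l ^ n) • subScalar z μ = 0 := by
      rw [sub_smul, one_smul, ← h1, sub_self]
    rcases smul_eq_zero.mp h2 with h | h
    · exact (sub_eq_zero.mp h).symm
    · exact absurd h hM

theorem sub_one_sq (z : Matrix.SpecialLinearGroup (Fin 2) K) (htr : tr2 z = 2) :
    subScalar z 1 * subScalar z 1 = 0 := by
  have hdet := det_two_eq z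
  unfold tr2 at htr
  unfold subScalar
  ext i j
  fin_cases i <;> fin_cases j <;> simp [Matrix.mul_apply, Fin.sum_univ_two]
  · linear_combination z.val 0 0 * htr - hdet
  · linear_combination z.val 0 1 * htr
  · linear_combination z.val 1 0 * htr
  · linear_combination z.val 1 1 * htr - hdet

theorem val_eq_one_add (z : Matrix.SpecialLinearGroup (Fin 2) K) : z.val = 1 + subScalar z 1 := by
  unfold subScalar
  conv_lhs => rw [sl2_val_eq z]
  ext i j
  fin_cases i <;> fin_cases j <;> simp

theorem pow_eq_one_add (z : Matrix.SpecialLinearGroup (Fin 2) K) (htr : tr2 z = 2) (k : ℕ) :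
    z.val ^ k = 1 + (k : K) • subScalar z 1 := by
  induction k with
  | zero => rw [pow_zero, Nat.cast_zero, zero_smul, add_zero]
  | succ k ih =>
    rw [pow_succ, ih]
    conv_lhs => rw [val_eq_one_add z]
    rw [Matrix.mul_add, Matrix.mul_one, Matrix.add_mul, Matrix.one_mul, Matrix.smul_mul, sub_one_sq z htr,
      smul_zero, add_zero, Nat.cast_succ]
    module

/-- An element of `SL₂(q)` other than the identity, of order prime to `q (q - 1)`, is anisotropic. -/
theorem aniso_of_pow [Fintype K] (z : Matrix.SpecialLinearGroup (Fin 2) K) {n : ℕ} (hn : (n : K) ≠ 0)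
    (hcop : Nat.Coprime n (Fintype.card K - 1)) (hzn : z ^ n = 1) (hz1 : z ≠ 1) : Aniso z := by
  intro u hu
  have hl0 : -u ≠ 0 := by
    intro h
    have hu0 : u = 0 := neg_eq_zero.mp h
    rw [hu0] at hu
    simp at hu
  have hlμ : (-u) * (-u)⁻¹ = 1 := mul_inv_cancel₀ hl0
  have htr : tr2 z = -u + (-u)⁻¹ := by
    have : tr2 z * (-u) = (-u + (-u)⁻¹) * (-u) := by
      rw [add_mul, inv_mul_cancel₀ hl0]
      linear_combination -hu
    exact mul_right_cancel₀ hl0 this
  have h1 := eigen_pow_eq_one z hlμ htr hzn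
  have h2 : (-u) ^ (Fintype.card K - 1) = 1 := FiniteField.pow_card_sub_one_eq_one _ hl0
  have h3 := pow_gcd_eq_one.mpr ⟨h1, h2⟩
  rw [Nat.Coprime.gcd_eq_one hcop, pow_one] at h3
  rw [h3, inv_one] at htr
  have htr2 : tr2 z = 2 := by rw [htr]; norm_num
  have h4 := pow_eq_one_add z htr2 n
  have hZn : z.val ^ n = 1 := by
    have := congrArg Subtype.val hzn
    rwa [Matrix.SpecialLinearGroup.coe_pow, Matrix.SpecialLinearGroup.coe_one] at this
  rw [hZn] at h4
  have h5 : (n : K) • subScalar z 1 = 0 := by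
    have := h4.symm
    rwa [add_eq_left] at this
  have h6 : subScalar z 1 = 0 := (smul_eq_zero.mp h5).resolve_left hn
  apply hz1
  apply Subtype.ext
  rw [val_eq_one_add z, h6, add_zero]
  rfl

end order

end Cfsg.Agent.Helper7.ReeTor
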