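import Mathlib
import Cfsg.Agent.Helper7.ReeTorC
import Cfsg.Agent.Helper7.ReeSylE

set_option autoImplicit false
set_option linter.unusedSectionVars false
set_option linter.unusedVariables false

/-!
The centraliser of an involution of the Ree group as the image of `Z₂ × SL₂(q)`, and the centraliser
in it of the image of an anisotropic element.
-/

namespace Cfsg.Agent.Helper7.ReeTor

open Cfsg Cfsg.Lie Matrix Cfsg.Agent.Helper7.Chev Cfsg.Agent.Helper7.ReeAut

/-- The order of the image of a subgroup containing the kernel. -/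
theorem card_map_mul_card_ker {G H : Type*} [Group G] [Group H] [Finite G] (f : G →* H)
    (W : Subgroup G) (hker : f.ker ≤ W) :
    Nat.card ↥(W.map f) * Nat.card ↥f.ker = Nat.card ↥W := by
  have hr : (f.comp W.subtype).range = W.map f := by
    rw [MonoidHom.range_comp, Subgroup.range_subtype]
  have hk : (f.comp W.subtype).ker = f.ker.subgroupOf W := by
    rw [← MonoidHom.comap_ker]
    rfl
  have h1 := Subgroup.card_mul_index (f.comp W.subtype).ker
  rw [Subgroup.index_ker, hr, hk,
    Nat.card_congr (Subgroup.subgroupOfEquivOfLe hker).toEquiv] at h1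
  rw [← h1, mul_comm]

variable {K : Type*} [Field K] [Fintype K] [CharP K 3] {m : ℕ}
  (hK : Fintype.card K = 3 ^ (2 * m + 1))

/-- The homomorphism of `Z₂ × SL₂(q)` onto the centraliser of the involution. -/
noncomputable def cHom :
    Multiplicative (ZMod 2) × Matrix.SpecialLinearGroup (Fin 2) K →* ↥(twistedG2 K (3 ^ m)) :=
  (invHom (aS hK) (aS_mul_aS hK)).noncommCoprod (rPhi K m) (by
    intro z x
    rcases invHom_cases (aS hK) (aS_mul_aS hK) z with ⟨_, h⟩ | ⟨_, h⟩
    · rw [h]
      exact Commute.one_left _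
    · rw [h]
      exact aS_comm_rPhi hK x)

theorem cHom_apply (p : Multiplicative (ZMod 2) × Matrix.SpecialLinearGroup (Fin 2) K) :
    cHom hK p = invHom (aS hK) (aS_mul_aS hK) p.1 * rPhi K m p.2 :=
  MonoidHom.noncommCoprod_apply _ _ _ _

theorem cHom_one_left (y : Matrix.SpecialLinearGroup (Fin 2) K) : cHom hK (1, y) = rPhi K m y := by
  rw [cHom_apply, map_one, one_mul]

theorem cHom_gen (y : Matrix.SpecialLinearGroup (Fin 2) K) :
    cHom hK (Multiplicative.ofAdd 1, y) = aS hK * rPhi K m y := by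
  rw [cHom_apply, invHom_gen]

theorem cHom_comm_aS (p : Multiplicative (ZMod 2) × Matrix.SpecialLinearGroup (Fin 2) K) :
    cHom hK p * aS hK = aS hK * cHom hK p := by
  rw [cHom_apply]
  rcases invHom_cases (aS hK) (aS_mul_aS hK) p.1 with ⟨_, h⟩ | ⟨_, h⟩
  · rw [h, one_mul]
    exact (aS_comm_rPhi hK p.2).symm
  · rw [h, mul_assoc, ← aS_comm_rPhi hK p.2]

theorem mem_range_cHom (g : ↥(twistedG2 K (3 ^ m))) :
    g ∈ (cHom hK).range ↔ g * aS hK = aS hK * g := by
  constructor
  · rintro ⟨p, rfl⟩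
    exact cHom_comm_aS hK p
  · intro hg
    have hg' : aS hK * g * (aS hK)⁻¹ = g := by rw [← hg, mul_assoc, mul_inv_cancel, mul_one]
    obtain ⟨x, h | h⟩ := centralizer_aS hK g hg'
    · exact ⟨(1, x), by rw [cHom_one_left, h]⟩
    · exact ⟨(Multiplicative.ofAdd 1, x), by rw [cHom_gen, h]⟩

theorem cHom_eq_one_iff (p : Multiplicative (ZMod 2) × Matrix.SpecialLinearGroup (Fin 2) K) :
    cHom hK p = 1 ↔ p.1 = 1 ∧ (p.2 = 1 ∨ p.2 = -1) := by
  rw [cHom_apply]
  rcases invHom_cases (aS hK) (aS_mul_aS hK) p.1 with ⟨hz, h⟩ | ⟨hz, h⟩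
  · rw [h, one_mul, hz, rPhi_eq_one_iff hK]
    simp
  · rw [h, hz]
    constructor
    · intro h1
      exfalso
      have h2 : rPhi K m p.2 = aS hK := by
        rw [eq_inv_of_mul_eq_one_right h1, aS_inv]
      exact rPhi_ne_aS hK _ h2
    · rintro ⟨h1, _⟩
      exact absurd h1 ofAdd_one_ne_one

end Cfsg.Agent.Helper7.ReeTor
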