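import Mathlib
import Cfsg.Agent.Helper7.ReeTorD

set_option autoImplicit false
set_option linter.unusedSectionVars false
set_option linter.unusedVariables false

/-!
The centraliser in the centraliser of the involution of the image of an anisotropic element of `SL₂`
is commutative of order `q + 1`.
-/

namespace Cfsg.Agent.Helper7.ReeTor

open Cfsg Cfsg.Lie Matrix Cfsg.Agent.Helper7.Chev Cfsg.Agent.Helper7.ReeAut

variable {K : Type*} [Field K] [Fintype K] [CharP K 3] {m : ℕ}
  (hK : Fintype.card K = 3 ^ (2 * m + 1))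

omit [Fintype K] in
theorem sl2_one_ne_neg_one : (1 : Matrix.SpecialLinearGroup (Fin 2) K) ≠ -1 := by
  intro h
  have h1 := congrArg (fun g : Matrix.SpecialLinearGroup (Fin 2) K => g.val 0 0) h
  simp at h1
  apply two_ne_zero' K
  linear_combination h1

theorem card_ker_cHom : Nat.card ↥(cHom hK).ker = 2 := by
  rw [Nat.card_eq_two_iff]
  refine ⟨⟨(1, 1), ?_⟩, ⟨(1, -1), ?_⟩, ?_, ?_⟩
  · rw [MonoidHom.mem_ker, cHom_eq_one_iff]
    exact ⟨rfl, Or.inl rfl⟩
  · rw [MonoidHom.mem_ker, cHom_eq_one_iff]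
    exact ⟨rfl, Or.inr rfl⟩
  · intro h
    have h1 := congrArg (fun p : ↥(cHom hK).ker => (p : Multiplicative (ZMod 2) ×
      Matrix.SpecialLinearGroup (Fin 2) K).2) h
    exact sl2_one_ne_neg_one h1
  · ext ⟨p, hp⟩
    simp only [Set.mem_insert_iff, Set.mem_singleton_iff, Set.mem_univ, iff_true]
    rw [MonoidHom.mem_ker, cHom_eq_one_iff] at hp
    obtain ⟨h1, h2 | h2⟩ := hp
    · left
      apply Subtype.ext
      exact Prod.ext h1 h2
    · right
      apply Subtype.ext
      exact Prod.ext h1 h2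

theorem centralizer_inf_eq_map (z : Matrix.SpecialLinearGroup (Fin 2) K)
    (hneg : ∀ y : Matrix.SpecialLinearGroup (Fin 2) K, y * z ≠ -(z * y)) :
    Subgroup.centralizer {rPhi K m z} ⊓ Subgroup.centralizer {aS hK} =
      ((⊤ : Subgroup (Multiplicative (ZMod 2))).prod (Subgroup.centralizer {z})).map (cHom hK) := by
  ext g
  rw [Subgroup.mem_inf, Subgroup.mem_centralizer_singleton_iff, Subgroup.mem_centralizer_singleton_iff,
    Subgroup.mem_map]
  constructor
  · rintro ⟨h1, h2⟩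
    obtain ⟨p, rfl⟩ := (mem_range_cHom hK g).mpr h2
    refine ⟨p, ?_, rfl⟩
    rw [Subgroup.mem_prod]
    refine ⟨Subgroup.mem_top _, ?_⟩
    rw [Subgroup.mem_centralizer_singleton_iff]
    rw [← cHom_one_left hK z, ← map_mul, ← map_mul, cHom_apply, cHom_apply] at h1
    simp only [Prod.fst_mul, Prod.snd_mul, mul_one, one_mul] at h1
    have h3 := mul_left_cancel h1
    rcases (rPhi_eq_iff hK _ _).mp h3 with h | h
    · exact h
    · exact absurd h (hneg p.2)
  · rintro ⟨p, hp, rfl⟩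
    rw [Subgroup.mem_prod, Subgroup.mem_centralizer_singleton_iff] at hp
    refine ⟨?_, cHom_comm_aS hK p⟩
    rw [← cHom_one_left hK z, ← map_mul, ← map_mul]
    congr 1
    refine Prod.ext ?_ ?_
    · simp
    · simp only [Prod.snd_mul]
      rw [hp.2]

theorem card_centralizer_inf {z : Matrix.SpecialLinearGroup (Fin 2) K} (hz : Aniso z)
    (hneg : ∀ y : Matrix.SpecialLinearGroup (Fin 2) K, y * z ≠ -(z * y)) :
    Nat.card ↥(Subgroup.centralizer {rPhi K m z} ⊓ Subgroup.centralizer {aS hK}) =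
      Fintype.card K + 1 := by
  rw [centralizer_inf_eq_map hK z hneg]
  have hker : (cHom hK).ker ≤
      (⊤ : Subgroup (Multiplicative (ZMod 2))).prod (Subgroup.centralizer {z}) := by
    intro p hp
    rw [MonoidHom.mem_ker, cHom_eq_one_iff] at hp
    rw [Subgroup.mem_prod, Subgroup.mem_centralizer_singleton_iff]
    refine ⟨Subgroup.mem_top _, ?_⟩
    rcases hp.2 with h | h
    · rw [h, one_mul, mul_one]
    · rw [h, neg_one_mul, mul_neg_one]
  have h1 := card_map_mul_card_ker (cHom hK) _ hker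
  rw [card_ker_cHom,
    Nat.card_congr (Subgroup.prodEquiv (⊤ : Subgroup (Multiplicative (ZMod 2)))
      (Subgroup.centralizer {z})).toEquiv, Nat.card_prod, Subgroup.card_top,
    card_centralizer (two_ne_zero' K) hz] at h1
  have h2 : Nat.card (Multiplicative (ZMod 2)) = 2 := by
    rw [Nat.card_eq_fintype_card, Fintype.card_multiplicative, ZMod.card]
  rw [h2] at h1
  omega

theorem comm_centralizer_inf {z : Matrix.SpecialLinearGroup (Fin 2) K} (hz : Aniso z)
    (hneg : ∀ y : Matrix.SpecialLinearGroup (Fin 2) K, y * z ≠ -(z * y))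
    (g₁ g₂ : ↥(twistedG2 K (3 ^ m)))
    (h₁ : g₁ ∈ Subgroup.centralizer {rPhi K m z} ⊓ Subgroup.centralizer {aS hK})
    (h₂ : g₂ ∈ Subgroup.centralizer {rPhi K m z} ⊓ Subgroup.centralizer {aS hK}) :
    g₁ * g₂ = g₂ * g₁ := by
  rw [centralizer_inf_eq_map hK z hneg, Subgroup.mem_map] at h₁ h₂
  obtain ⟨p₁, hp₁, rfl⟩ := h₁
  obtain ⟨p₂, hp₂, rfl⟩ := h₂
  rw [Subgroup.mem_prod, Subgroup.mem_centralizer_singleton_iff] at hp₁ hp₂
  rw [← map_mul, ← map_mul]
  congr 1
  refine Prod.ext ?_ ?_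
  · simp only [Prod.fst_mul]
    exact mul_comm p₁.1 p₂.1
  · simp only [Prod.snd_mul]
    exact centralizer_comm hz.b_ne p₁.2 p₂.2 hp₁.2 hp₂.2

end Cfsg.Agent.Helper7.ReeTor
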