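import Mathlib
import Cfsg.Agent.Helper7.ReeTorE
import Cfsg.Agent.Helper7.ReeMulJ

set_option autoImplicit false
set_option linter.unusedSectionVars false
set_option linter.unusedVariables false

/-!
The involutions of the Ree group are conjugate; the centraliser, in the centraliser of an
involution, of an element of prime order prime to `6 (q - 1)` is commutative of order `q + 1`.
-/

namespace Cfsg.Agent.Helper7.ReeTor

open Cfsg Cfsg.Lie Matrix Cfsg.Agent.Helper7.Chev Cfsg.Agent.Helper7.ReeAut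
  Cfsg.Agent.Helper7.ReeMul

variable {K : Type*} [Field K] [Fintype K] [CharP K 3] {m : ℕ}
  (hK : Fintype.card K = 3 ^ (2 * m + 1))

theorem isPGroup_zpowers_of_sq {G : Type*} [Group G] {a : G} (ha : a * a = 1) :
    IsPGroup 2 (Subgroup.zpowers a) := by
  rintro ⟨y, hy⟩
  refine ⟨1, ?_⟩
  obtain ⟨n, rfl⟩ := Subgroup.mem_zpowers_iff.mp hy
  apply Subtype.ext
  have h : (a ^ n) ^ 2 = 1 := by
    rw [← zpow_natCast, ← _root_.zpow_mul, mul_comm, _root_.zpow_mul, zpow_natCast, pow_two, ha, _root_.one_zpow]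
  simpa using h

theorem mem_smul_sylow {G : Type*} [Group G] {p : ℕ} (k : G) (S : Sylow p G) (x : G) :
    x ∈ ((k • S : Sylow p G) : Subgroup G) ↔ k⁻¹ * x * k ∈ (S : Subgroup G) := by
  rw [Sylow.coe_subgroup_smul, Subgroup.mem_pointwise_smul_iff_inv_smul_mem]
  simp [MulAut.smul_def]

/-- The involutions of the Ree group are conjugate. -/
theorem involution_conj (hm : 1 ≤ m) {e : ↥(twistedG2 K (3 ^ m))} (he1 : e ≠ 1) (he2 : e * e = 1) :
    ∃ k : ↥(twistedG2 K (3 ^ m)), k * aS hK * k⁻¹ = e := by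
  have : Fact (Nat.Prime 2) := ⟨Nat.prime_two⟩
  obtain ⟨S, hS⟩ := (isPGroup_zpowers_of_sq he2).exists_le_sylow
  obtain ⟨S₀, hS₀⟩ := (isPGroup_zpowers_of_sq (aS_mul_aS hK)).exists_le_sylow
  obtain ⟨k₀, hk₀⟩ := MulAction.exists_smul_eq ↥(twistedG2 K (3 ^ m)) S₀ S
  have heS : e ∈ (S : Subgroup ↥(twistedG2 K (3 ^ m))) := hS (Subgroup.mem_zpowers e)
  have haS : k₀ * aS hK * k₀⁻¹ ∈ (S : Subgroup ↥(twistedG2 K (3 ^ m))) := by
    rw [← hk₀, mem_smul_sylow]
    have : k₀⁻¹ * (k₀ * aS hK * k₀⁻¹) * k₀ = aS hK := by group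
    rw [this]
    exact hS₀ (Subgroup.mem_zpowers _)
  have ha1 : k₀ * aS hK * k₀⁻¹ ≠ 1 := by
    intro h
    apply aS_ne_one hK
    have : aS hK = k₀⁻¹ * (k₀ * aS hK * k₀⁻¹) * k₀ := by group
    rw [this, h]
    group
  obtain ⟨g, hg7, hgS, t₀, ht₀, hgt⟩ := exists_seven hm hK S
  obtain ⟨h8, h2⟩ := sylow_two_card hK S
  obtain ⟨i, _, hi⟩ := exists_tau (S : Subgroup ↥(twistedG2 K (3 ^ m))) h2 g hg7 hgS t₀ ht₀ hgt h8 e
    heS he1
  obtain ⟨j, _, hj⟩ := exists_tau (S : Subgroup ↥(twistedG2 K (3 ^ m))) h2 g hg7 hgS t₀ ht₀ hgt h8 _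
    haS ha1
  refine ⟨g ^ i * (g ^ j)⁻¹ * k₀, ?_⟩
  unfold tau at hi hj
  have h1 : t₀ = (g ^ j)⁻¹ * (k₀ * aS hK * k₀⁻¹) * g ^ j := by
    rw [hj]
    group
  rw [hi, h1]
  group

omit [Fintype K] [CharP K 3] in
theorem neg_ne_of_pow {p : ℕ} (hp : Odd p) (h2 : (2 : K) ≠ 0) {z : Matrix.SpecialLinearGroup (Fin 2) K}
    (hzp : z ^ p = 1) (y : Matrix.SpecialLinearGroup (Fin 2) K) : y * z ≠ -(z * y) := by
  intro h
  have h1 : y * z * y⁻¹ = -z := by
    rw [h, neg_mul, mul_inv_cancel_right]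
  have h3 : (y * z * y⁻¹) ^ p = 1 := by
    rw [conj_pow, hzp, mul_one, mul_inv_cancel]
  rw [h1, Odd.neg_pow hp, hzp] at h3
  have h4 := congrArg (fun g : Matrix.SpecialLinearGroup (Fin 2) K => g.val 0 0) h3
  simp at h4
  apply h2
  linear_combination -h4

theorem zmod2_mul_self (ε : Multiplicative (ZMod 2)) : ε * ε = 1 := by
  revert ε
  decide

/-- An element of odd order of the centraliser of the involution is the image of an element of `SL₂` of
the same order. -/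
theorem exists_rPhi_eq {p : ℕ} (hp : Odd p) {x : ↥(twistedG2 K (3 ^ m))}
    (hxa : x * aS hK = aS hK * x) (hxp : x ^ p = 1) :
    ∃ z : Matrix.SpecialLinearGroup (Fin 2) K, rPhi K m z = x ∧ z ^ p = 1 := by
  obtain ⟨q, rfl⟩ := (mem_range_cHom hK x).mpr hxa
  obtain ⟨k, rfl⟩ := hp
  have h1 : cHom hK q ^ 2 = rPhi K m (q.2 ^ 2) := by
    rw [← map_pow, ← cHom_one_left hK]
    congr 1
    refine Prod.ext ?_ ?_
    · simp only [Prod.pow_fst]
      rw [pow_two, zmod2_mul_self]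
    · simp
  have h2 : cHom hK q = rPhi K m ((q.2 ^ 2) ^ (k + 1)) := by
    rw [map_pow, ← h1, ← pow_mul]
    have : 2 * (k + 1) = (2 * k + 1) + 1 := by ring
    rw [this, pow_succ, hxp, one_mul]
  set z₁ := (q.2 ^ 2) ^ (k + 1) with hz₁
  have h3 : rPhi K m (z₁ ^ (2 * k + 1)) = 1 := by
    rw [map_pow, ← h2, hxp]
  rcases (rPhi_eq_one_iff hK _).mp h3 with h | h
  · exact ⟨z₁, h2.symm, h⟩
  · refine ⟨-z₁, ?_, ?_⟩
    · rw [rPhi_neg hK, h2]
    · rw [Odd.neg_pow ⟨k, rfl⟩, h, neg_neg]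

include hK in
/-- The centraliser, in the centraliser of an involution, of an element of prime order prime to
`6 (q - 1)`. -/
theorem quarter_inf (hm : 1 ≤ m) {p : ℕ} (hp : p.Prime) (hp2 : p ≠ 2) (hp3 : p ≠ 3)
    (hpq : ¬ p ∣ Fintype.card K - 1) {e x : ↥(twistedG2 K (3 ^ m))} (he1 : e ≠ 1) (he2 : e * e = 1)
    (hxe : x * e = e * x) (hx1 : x ≠ 1) (hxp : x ^ p = 1) :
    (∀ g₁ ∈ Subgroup.centralizer {x} ⊓ Subgroup.centralizer {e},
      ∀ g₂ ∈ Subgroup.centralizer {x} ⊓ Subgroup.centralizer {e}, g₁ * g₂ = g₂ * g₁) ∧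
    Nat.card ↥(Subgroup.centralizer {x} ⊓ Subgroup.centralizer {e}) = Fintype.card K + 1 := by
  obtain ⟨k, rfl⟩ := involution_conj hK hm he1 he2
  have hodd : Odd p := hp.odd_of_ne_two hp2
  have hx'a : k⁻¹ * x * k * aS hK = aS hK * (k⁻¹ * x * k) := by
    have : k⁻¹ * x * k * aS hK = k⁻¹ * (x * (k * aS hK * k⁻¹)) * k := by group
    rw [this, hxe]
    group
  have hx'p : (k⁻¹ * x * k) ^ p = 1 := by
    have := conj_pow (a := k⁻¹) (b := x) (i := p)
    rw [inv_inv] at this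
    rw [this, hxp, mul_one, inv_mul_cancel]
  obtain ⟨z, hz, hzp⟩ := exists_rPhi_eq hK hodd hx'a hx'p
  have hz1 : z ≠ 1 := by
    rintro rfl
    rw [map_one] at hz
    apply hx1
    have : x = k * (k⁻¹ * x * k) * k⁻¹ := by group
    rw [this, ← hz]
    group
  have hpK : ((p : ℕ) : K) ≠ 0 := by
    rw [Ne, CharP.cast_eq_zero_iff K 3 p]
    intro h
    exact hp3 ((Nat.prime_dvd_prime_iff_eq Nat.prime_three hp).mp h).symm
  have hani : Aniso z := aniso_of_pow z hpK ((Nat.Prime.coprime_iff_not_dvd hp).mpr hpq) hzp hz1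
  have hneg := neg_ne_of_pow hodd (two_ne_zero' K) hzp
  have memD : ∀ g : ↥(twistedG2 K (3 ^ m)),
      g ∈ Subgroup.centralizer {x} ⊓ Subgroup.centralizer {k * aS hK * k⁻¹} ↔
      k⁻¹ * g * k ∈ Subgroup.centralizer {rPhi K m z} ⊓ Subgroup.centralizer {aS hK} := by
    intro g
    rw [Subgroup.mem_inf, Subgroup.mem_inf, Subgroup.mem_centralizer_singleton_iff,
      Subgroup.mem_centralizer_singleton_iff, Subgroup.mem_centralizer_singleton_iff,
      Subgroup.mem_centralizer_singleton_iff, hz]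
    constructor
    · rintro ⟨h1, h2⟩
      constructor
      · have : k⁻¹ * g * k * (k⁻¹ * x * k) = k⁻¹ * (g * x) * k := by group
        rw [this, h1]
        group
      · have : k⁻¹ * g * k * aS hK = k⁻¹ * (g * (k * aS hK * k⁻¹)) * k := by group
        rw [this, h2]
        group
    · rintro ⟨h1, h2⟩
      constructor
      · have : g * x = k * (k⁻¹ * g * k * (k⁻¹ * x * k)) * k⁻¹ := by group
        rw [this, h1]
        group
      · have : g * (k * aS hK * k⁻¹) = k * (k⁻¹ * g * k * aS hK) * k⁻¹ := by group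
        rw [this, h2]
        group
  constructor
  · intro g₁ h₁ g₂ h₂
    have h := comm_centralizer_inf hK hani hneg _ _ ((memD g₁).mp h₁) ((memD g₂).mp h₂)
    have e1 : g₁ * g₂ = k * (k⁻¹ * g₁ * k * (k⁻¹ * g₂ * k)) * k⁻¹ := by group
    rw [e1, h]
    group
  · rw [← card_centralizer_inf hK hani hneg]
    apply Nat.card_congr
    refine Equiv.subtypeEquiv (MulAut.conj k⁻¹).toEquiv ?_
    intro g
    rw [memD g]
    simp

end Cfsg.Agent.Helper7.ReeTor
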