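import Mathlib
import Cfsg.Agent.S0084
import Cfsg.Agent.S0058

set_option autoImplicit false
set_option linter.unusedSectionVars false
set_option linter.unusedVariables false

/-!
A finite group of order prime to `3`, whose `2`-elements are involutions, and in which the centraliser
of each involution is commutative of order `4 n'` with `n'` odd, is itself commutative of order `4 n'`.
-/

namespace Cfsg.Agent.Helper7.ReeTor

open Cfsg

theorem isPGroup_zpowers_of_sq' {G : Type*} [Group G] {a : G} (ha : a * a = 1) :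
    IsPGroup 2 (Subgroup.zpowers a) := by
  rintro ⟨y, hy⟩
  refine ⟨1, ?_⟩
  obtain ⟨n, rfl⟩ := Subgroup.mem_zpowers_iff.mp hy
  apply Subtype.ext
  have h : (a ^ n) ^ 2 = 1 := by
    rw [← zpow_natCast, ← _root_.zpow_mul, mul_comm, _root_.zpow_mul, zpow_natCast, pow_two, ha,
      _root_.one_zpow]
  simpa using h

/-- A group of exponent `2` is commutative. -/
theorem comm_of_sq {G : Type*} [Group G] (S : Subgroup G) (hS2 : ∀ s ∈ S, s * s = 1)
    (a b : G) (ha : a ∈ S) (hb : b ∈ S) : a * b = b * a := by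
  have h1 := hS2 (a * b) (mul_mem ha hb)
  have h2 := hS2 a ha
  have h3 := hS2 b hb
  calc a * b = b * b * (a * b) * (a * a) := by rw [h2, h3, one_mul, mul_one]
    _ = b * (b * a * b * a) * a := by group
    _ = b * (b * (a * b * (a * b)) * b⁻¹) * a := by group
    _ = b * a := by rw [h1]; group

section abstract

variable {Γ : Type*} [Group Γ] [Finite Γ]

theorem sylow_two_props {n' : ℕ} (hn' : Odd n')
    (h2el : ∀ g : Γ, (∃ k : ℕ, g ^ 2 ^ k = 1) → g * g = 1)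
    (hdiv : 4 * n' ∣ Nat.card Γ)
    (T : Sylow 2 Γ) (a₀ : Γ) (ha₀ : a₀ ∈ (T : Subgroup Γ))
    (hcard : Nat.card ↥(Subgroup.centralizer {a₀}) = 4 * n') :
    (∀ t ∈ (T : Subgroup Γ), t * t = 1) ∧ Nat.card ↥(T : Subgroup Γ) = 4 := by
  haveI : Fact (Nat.Prime 2) := ⟨Nat.prime_two⟩
  have hT2 : ∀ t ∈ (T : Subgroup Γ), t * t = 1 := by
    intro t ht
    obtain ⟨k, hk⟩ := T.2 ⟨t, ht⟩
    apply h2el t
    refine ⟨k, ?_⟩
    have := congrArg Subtype.val hk
    simpa using this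
  refine ⟨hT2, ?_⟩
  have hTle : (T : Subgroup Γ) ≤ Subgroup.centralizer {a₀} := by
    intro t ht
    rw [Subgroup.mem_centralizer_singleton_iff]
    exact comm_of_sq _ hT2 t a₀ ht ha₀
  have h1 : Nat.card ↥(T : Subgroup Γ) ∣ 4 * n' := by
    rw [← hcard]
    exact Subgroup.card_dvd_of_le hTle
  have h2 := Sylow.card_eq_multiplicity T
  have hpos : Nat.card Γ ≠ 0 := Nat.card_pos.ne'
  have h3 : 2 ≤ (Nat.card Γ).factorization 2 := by
    rw [← Nat.Prime.pow_dvd_iff_le_factorization Nat.prime_two hpos]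
    exact Dvd.dvd.trans ⟨n', by ring⟩ hdiv
  have h4 : 4 ∣ Nat.card ↥(T : Subgroup Γ) := by
    rw [h2]
    exact pow_dvd_pow 2 h3
  have h5 : Nat.card ↥(T : Subgroup Γ) ∣ 4 := by
    rw [h2] at h1 ⊢
    have hc : Nat.Coprime (2 ^ (Nat.card Γ).factorization 2) n' :=
      Nat.Coprime.pow_left _ (Nat.coprime_two_left.mpr hn')
    exact hc.dvd_of_dvd_mul_right h1
  exact Nat.dvd_antisymm h5 h4

theorem isKleinFour_of {S : Subgroup Γ} (hS2 : ∀ s ∈ S, s * s = 1) (hS4 : Nat.card ↥S = 4) :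
    IsKleinFour ↥S := by
  refine ⟨hS4, ?_⟩
  have h1 : Monoid.exponent ↥S ∣ 2 := by
    apply Monoid.exponent_dvd_of_forall_pow_eq_one
    rintro ⟨s, hs⟩
    apply Subtype.ext
    have := hS2 s hs
    simpa [pow_two] using this
  rcases (Nat.dvd_prime Nat.prime_two).mp h1 with h | h
  · exfalso
    rw [Monoid.exp_eq_one_iff] at h
    have := Nat.card_unique (α := ↥S)
    omega
  · exact h

theorem not_isCyclic_of {S : Subgroup Γ} (hS2 : ∀ s ∈ S, s * s = 1) (hS4 : Nat.card ↥S = 4) :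
    ¬ IsCyclic ↥S := by
  intro hc
  have h1 := IsCyclic.exponent_eq_card (α := ↥S)
  have h2 := (isKleinFour_of hS2 hS4).exponent_two
  rw [h2, hS4] at h1
  omega

/-- The abstract form of the determination of the centraliser. -/
theorem comm_of_involution_centralizers {n' : ℕ} (hn' : Odd n')
    (h2el : ∀ g : Γ, (∃ k : ℕ, g ^ 2 ^ k = 1) → g * g = 1)
    (e₀ : Γ) (he₀1 : e₀ ≠ 1) (he₀2 : e₀ * e₀ = 1)
    (hcent : ∀ a : Γ, a ≠ 1 → a * a = 1 →
      (∀ g₁ ∈ Subgroup.centralizer {a}, ∀ g₂ ∈ Subgroup.centralizer {a}, g₁ * g₂ = g₂ * g₁) ∧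
      Nat.card ↥(Subgroup.centralizer {a}) = 4 * n')
    (h3 : ¬ 3 ∣ Nat.card Γ) :
    (∀ g₁ g₂ : Γ, g₁ * g₂ = g₂ * g₁) ∧ Nat.card Γ = 4 * n' := by
  haveI : Fact (Nat.Prime 2) := ⟨Nat.prime_two⟩
  have hdiv : 4 * n' ∣ Nat.card Γ := by
    rw [← (hcent e₀ he₀1 he₀2).2]
    exact Subgroup.card_subgroup_dvd_card _
  obtain ⟨T, hT⟩ := (isPGroup_zpowers_of_sq' he₀2).exists_le_sylow
  have he₀T : e₀ ∈ (T : Subgroup Γ) := hT (Subgroup.mem_zpowers e₀)
  obtain ⟨hT2, hT4⟩ := sylow_two_props hn' h2el hdiv T e₀ he₀T (hcent e₀ he₀1 he₀2).2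
  haveI hK4 : IsKleinFour ↥(T : Subgroup Γ) := isKleinFour_of hT2 hT4
  obtain ⟨P, N, hN, hNP⟩ := Cfsg.Agent.S0084.result T hK4 h3
  -- the Sylow subgroup `P`
  have hP4 : Nat.card ↥(P : Subgroup Γ) = 4 := by
    rw [Sylow.card_eq_multiplicity P, ← Sylow.card_eq_multiplicity T, hT4]
  have hP2 : ∀ t ∈ (P : Subgroup Γ), t * t = 1 := by
    intro t ht
    obtain ⟨k, hk⟩ := P.2 ⟨t, ht⟩
    apply h2el t
    refine ⟨k, ?_⟩
    have := congrArg Subtype.val hk
    simpa using this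
  haveI hPc : IsMulCommutative ↥(P : Subgroup Γ) := by
    refine ⟨⟨?_⟩⟩
    rintro ⟨a, ha⟩ ⟨b, hb⟩
    exact Subtype.ext (comm_of_sq _ hP2 a b ha hb)
  have hPnc : ¬ IsCyclic ↥(P : Subgroup Γ) := not_isCyclic_of hP2 hP4
  have hPN : (P : Subgroup Γ) ≤ Subgroup.normalizer (N : Set Γ) := by
    rw [Subgroup.normalizer_eq_top]
    exact le_top
  have hNodd : ¬ 2 ∣ Nat.card ↥N := by
    rw [← hNP.index_eq_card]
    exact P.not_dvd_index
  have hcop : (Nat.card ↥(P : Subgroup Γ)).Coprime (Nat.card ↥N) := by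
    rw [hP4]
    have : Nat.Coprime 2 (Nat.card ↥N) := (Nat.Prime.coprime_iff_not_dvd Nat.prime_two).mpr hNodd
    exact Nat.Coprime.pow_left 2 this
  have hgen := Cfsg.Agent.S0058.result (P : Subgroup Γ) N hPnc hPN hcop
  -- a nontrivial element of `P`
  obtain ⟨a₀, ha₀P, ha₀1⟩ : ∃ a₀ ∈ (P : Subgroup Γ), a₀ ≠ 1 := by
    by_contra hcon
    push_neg at hcon
    have : (P : Subgroup Γ) = ⊥ := by
      rw [eq_bot_iff]
      intro x hx
      exact Subgroup.mem_bot.mpr (hcon x hx)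
    rw [this, Subgroup.card_bot] at hP4
    omega
  have ha₀2 := hP2 a₀ ha₀P
  obtain ⟨hD, hDcard⟩ := hcent a₀ ha₀1 ha₀2
  have hle : ∀ a ∈ (P : Subgroup Γ), a ≠ 1 →
      Subgroup.centralizer {a} ≤ Subgroup.centralizer {a₀} := by
    intro a haP ha1 g hg
    have ha₀a : a₀ ∈ Subgroup.centralizer {a} := by
      rw [Subgroup.mem_centralizer_singleton_iff]
      exact comm_of_sq _ hP2 a₀ a ha₀P haP
    rw [Subgroup.mem_centralizer_singleton_iff]
    exact (hcent a ha1 (hP2 a haP)).1 g hg a₀ ha₀a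
  have hNle : N ≤ Subgroup.centralizer {a₀} := by
    rw [← hgen]
    apply iSup₂_le
    rintro a ⟨haP, ha1⟩
    exact inf_le_right.trans (hle a haP ha1)
  have hPle : (P : Subgroup Γ) ≤ Subgroup.centralizer {a₀} := by
    intro t ht
    rw [Subgroup.mem_centralizer_singleton_iff]
    exact comm_of_sq _ hP2 t a₀ ht ha₀P
  have htop : Subgroup.centralizer {a₀} = ⊤ := by
    rw [eq_top_iff, ← hNP.sup_eq_top]
    exact sup_le hNle hPle
  constructor
  · intro g₁ g₂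
    exact hD g₁ (htop ▸ Subgroup.mem_top _) g₂ (htop ▸ Subgroup.mem_top _)
  · rw [← hDcard, htop, Subgroup.card_top]

end abstract

end Cfsg.Agent.Helper7.ReeTor
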