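import Mathlib
import Cfsg.Agent.Helper7.ReeTorF
import Cfsg.Agent.Helper7.ReeTorG
import Cfsg.Agent.Helper7.ReeCycB

set_option autoImplicit false
set_option linter.unusedSectionVars false
set_option linter.unusedVariables false

/-!
The centraliser in the Ree group of an element of prime order `p > 3` dividing `q + 1` is commutative
of order `q + 1`.
-/

namespace Cfsg.Agent.Helper7.ReeTor

open Cfsg Cfsg.Lie Matrix Cfsg.Agent.Helper7.Chev Cfsg.Agent.Helper7.ReeAut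
  Cfsg.Agent.Helper7.ReeMul Cfsg.Agent.Helper7.ReeCyc

/-- An element of prime order `p` is conjugate into each subgroup of index prime to `p`. -/
theorem exists_conj_mem {G : Type*} [Group G] {p : ℕ} [Fact p.Prime] (H : Subgroup G)
    (h : ¬ p ∣ H.index) (x : G) (hx : x ^ p = 1) : ∃ g : G, g⁻¹ * x * g ∈ H := by
  have hP : IsPGroup p ↥(Subgroup.zpowers x) := by
    rintro ⟨y, hy⟩
    refine ⟨1, ?_⟩
    obtain ⟨n, rfl⟩ := Subgroup.mem_zpowers_iff.mp hy
    apply Subtype.ext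
    have h1 : (x ^ n) ^ p = 1 := by
      rw [← zpow_natCast, ← _root_.zpow_mul, mul_comm, _root_.zpow_mul, zpow_natCast, hx,
        _root_.one_zpow]
    simpa using h1
  obtain ⟨q, hq⟩ := hP.nonempty_fixed_point_of_prime_not_dvd_card (G ⧸ H) h
  obtain ⟨g, rfl⟩ := QuotientGroup.mk_surjective q
  refine ⟨g, ?_⟩
  have h1 := hq ⟨x, Subgroup.mem_zpowers x⟩
  have h2 : (QuotientGroup.mk (x * g) : G ⧸ H) = QuotientGroup.mk g := h1
  rw [QuotientGroup.eq] at h2
  have h3 := inv_mem h2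
  have e : ((x * g)⁻¹ * g)⁻¹ = g⁻¹ * x * g := by group
  rwa [e] at h3

variable {K : Type*} [Field K] [Fintype K] [CharP K 3] {m : ℕ}
  (hK : Fintype.card K = 3 ^ (2 * m + 1))

omit [CharP K 3] in
theorem ree_card_mod_eight (hK : Fintype.card K = 3 ^ (2 * m + 1)) : Fintype.card K % 8 = 3 := by
  rw [hK, pow_succ, pow_mul]
  have : 9 ^ m % 8 = 1 := by
    rw [Nat.pow_mod]
    norm_num
  norm_num
  omega

include hK in
/-- The `2`-elements of the Ree group are involutions. -/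
theorem sq_eq_one_of_two_pow (g : ↥(twistedG2 K (3 ^ m))) (hg : ∃ k : ℕ, g ^ 2 ^ k = 1) : g * g = 1 := by
  haveI : Fact (Nat.Prime 2) := ⟨Nat.prime_two⟩
  obtain ⟨k, hk⟩ := hg
  have hP : IsPGroup 2 ↥(Subgroup.zpowers g) := by
    rintro ⟨y, hy⟩
    refine ⟨k, ?_⟩
    obtain ⟨n, rfl⟩ := Subgroup.mem_zpowers_iff.mp hy
    apply Subtype.ext
    have h1 : (g ^ n) ^ 2 ^ k = 1 := by
      rw [← zpow_natCast, ← _root_.zpow_mul, mul_comm, _root_.zpow_mul, zpow_natCast, hk,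
        _root_.one_zpow]
    simpa using h1
  obtain ⟨S, hS⟩ := hP.exists_le_sylow
  exact (sylow_two_card hK S).2 g (hS (Subgroup.mem_zpowers g))

/-- The powers of an element of the Borel subgroup. -/
theorem borel_pow (t u v : K) (s : Kˣ) (k : ℕ) :
    ∃ t' u' v' : K, (ruS m t u v * ghS hK s) ^ k = ruS m t' u' v' * ghS hK (s ^ k) := by
  induction k with
  | zero => exact ⟨0, 0, 0, by rw [pow_zero, pow_zero, ruS_zero, ghS_one, one_mul]⟩
  | succ k ih =>
    obtain ⟨t', u', v', e⟩ := ih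
    have h1 := ghS_conj_ruS hK (s ^ k) t u v
    obtain ⟨a, b, c, habc⟩ : ∃ a b c : K, ruS m t' u' v' * ruS m ((ghChi K m (s ^ k) 6 : K) * t)
        ((ghChi K m (s ^ k) 10 : K) * u) (((s ^ k : Kˣ) : K) * v) = ruS m a b c :=
      ⟨_, _, _, ruS_mul hK _ _ _ _ _ _⟩
    refine ⟨a, b, c, ?_⟩
    rw [pow_succ, e, pow_succ, ← ghS_mul]
    have e2 : ruS m t' u' v' * ghS hK (s ^ k) * (ruS m t u v * ghS hK s) =
        ruS m t' u' v' * (ghS hK (s ^ k) * ruS m t u v * (ghS hK (s ^ k))⁻¹) *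
          (ghS hK (s ^ k) * ghS hK s) := by group
    rw [e2, h1, habc]

include hK in
theorem ruS_pow_nine (t u v : K) : ruS m t u v ^ 9 = 1 := by
  have h3 : (3 : K) = 0 := three_eq_zero K
  have : ruS m t u v ^ 9 = (ruS m t u v ^ 3) ^ 3 := by rw [← pow_mul]
  rw [this, ruS_cube hK, pow_succ, pow_two, ruS_add hK, ruS_add hK, ← ruS_zero (m := m)]
  congr 1
  · ring
  · linear_combination -(reeTh K (m + 1) t * t ^ 2) * h3

include hK in
/-- An element of the Borel subgroup of order prime to `3 (q - 1)` is the identity. -/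
theorem borel_eq_one_of_pow {p : ℕ} (hp3 : Nat.Coprime p 3) (hpq : Nat.Coprime p (Fintype.card K - 1))
    {x : ↥(twistedG2 K (3 ^ m))} (hxB : (x : GL chevG2.Idx K) ∈ chevG2.borelSubgroup K)
    (hxp : x ^ p = 1) : x = 1 := by
  obtain ⟨t, u, v, s, rfl⟩ := (mem_borel_iff hK x).mp hxB
  obtain ⟨t', u', v', e⟩ := borel_pow hK t u v s p
  rw [hxp] at e
  have e2 : ruS m (0 : K) 0 0 * ghS hK 1 = ruS m t' u' v' * ghS hK (s ^ p) := by
    rw [ruS_zero, ghS_one, one_mul]
    exact e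
  obtain ⟨_, hs⟩ := ruS_mul_ghS_injective hK e2
  have hs2 : s ^ (Fintype.card K - 1) = 1 := by
    have := pow_card_eq_one' (G := Kˣ) (x := s)
    rwa [Nat.card_units, Nat.card_eq_fintype_card] at this
  have hs1 : s = 1 := by
    have h3 := pow_gcd_eq_one.mpr ⟨hs.symm, hs2⟩
    rwa [Nat.Coprime.gcd_eq_one hpq, pow_one] at h3
  rw [hs1, ghS_one, mul_one] at hxp ⊢
  have h9 := ruS_pow_nine hK t u v
  have hc : Nat.Coprime p 9 := Nat.Coprime.pow_right 2 hp3
  have h3 := pow_gcd_eq_one.mpr ⟨hxp, h9⟩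
  rwa [Nat.Coprime.gcd_eq_one hc, pow_one] at h3

include hK in
/-- The centraliser of an element of order prime to `3 (q - 1)` has order prime to `3`. -/
theorem not_three_dvd_card_centralizer {p : ℕ} (hp3 : Nat.Coprime p 3)
    (hpq : Nat.Coprime p (Fintype.card K - 1)) {x : ↥(twistedG2 K (3 ^ m))} (hx1 : x ≠ 1)
    (hxp : x ^ p = 1) : ¬ 3 ∣ Nat.card ↥(Subgroup.centralizer {x}) := by
  haveI : Fact (Nat.Prime 3) := ⟨Nat.prime_three⟩
  have hm := pow_card_three hK
  intro h3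
  obtain ⟨⟨y, hyC⟩, hy⟩ := exists_prime_orderOf_dvd_card' (G := ↥(Subgroup.centralizer {x})) 3 h3
  rw [Subgroup.mem_centralizer_singleton_iff] at hyC
  have hy3 : y ^ 3 = 1 := by
    have := pow_orderOf_eq_one (⟨y, Subgroup.mem_centralizer_singleton_iff.mpr hyC⟩ :
      ↥(Subgroup.centralizer {x}))
    rw [hy] at this
    have := congrArg Subtype.val this
    simpa using this
  have hy1 : y ≠ 1 := by
    rintro rfl
    have : (⟨1, Subgroup.mem_centralizer_singleton_iff.mpr hyC⟩ : ↥(Subgroup.centralizer {x})) = 1 := rfl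
    rw [this, orderOf_one] at hy
    norm_num at hy
  have hP : IsPGroup 3 ↥(Subgroup.zpowers y) := by
    rintro ⟨w, hw⟩
    refine ⟨1, ?_⟩
    obtain ⟨n, rfl⟩ := Subgroup.mem_zpowers_iff.mp hw
    apply Subtype.ext
    have h1 : (y ^ n) ^ 3 = 1 := by
      rw [← zpow_natCast, ← _root_.zpow_mul, mul_comm, _root_.zpow_mul, zpow_natCast, hy3,
        _root_.one_zpow]
    simpa using h1
  obtain ⟨P, hPle⟩ := hP.exists_le_sylow
  obtain ⟨g, hg⟩ := sylow_three_eq hK P
  have hyU := (hg y).mp (hPle (Subgroup.mem_zpowers y))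
  rw [mem_rU'] at hyU
  -- the conjugate of `x` normalises `U`
  have hcomm : (g⁻¹ * x * g)⁻¹ * (g⁻¹ * y * g) * (g⁻¹ * x * g) = g⁻¹ * y * g := by
    have : (g⁻¹ * x * g)⁻¹ * (g⁻¹ * y * g) * (g⁻¹ * x * g) = g⁻¹ * (x⁻¹ * (y * x)) * g := by group
    rw [this, hyC]
    group
  have hxB : ((g⁻¹ * x * g : ↥(twistedG2 K (3 ^ m))) : GL chevG2.Idx K) ∈ chevG2.borelSubgroup K := by
    by_contra hxB
    have h1 : ((g⁻¹ * x * g : ↥(twistedG2 K (3 ^ m))) : GL chevG2.Idx K)⁻¹ *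
        ((g⁻¹ * y * g : ↥(twistedG2 K (3 ^ m))) : GL chevG2.Idx K) *
        ((g⁻¹ * x * g : ↥(twistedG2 K (3 ^ m))) : GL chevG2.Idx K) ∈ chevG2.posUnipotent K := by
      have := congrArg Subtype.val hcomm
      simp only [Subgroup.coe_mul, Subgroup.coe_inv] at this ⊢
      rw [this]
      simpa using hyU
    have h2 := ree_TI hm (g⁻¹ * x * g).2 hxB hyU h1
    apply hy1
    have h3 : g⁻¹ * y * g = 1 := Subtype.ext h2
    have : y = g * (g⁻¹ * y * g) * g⁻¹ := by group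
    rw [this, h3]
    group
  have hx'p : (g⁻¹ * x * g) ^ p = 1 := by
    have := conj_pow (a := g⁻¹) (b := x) (i := p)
    rw [inv_inv] at this
    rw [this, hxp, mul_one, inv_mul_cancel]
  have h4 := borel_eq_one_of_pow hK hp3 hpq hxB hx'p
  apply hx1
  have : x = g * (g⁻¹ * x * g) * g⁻¹ := by group
  rw [this, h4]
  group

end Cfsg.Agent.Helper7.ReeTor
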