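import Mathlib
import Cfsg.Agent.Helper7.ReeTorH

set_option autoImplicit false
set_option linter.unusedSectionVars false
set_option linter.unusedVariables false

/-!
The centraliser in the Ree group of an element of prime order `p > 3` dividing `q + 1` is commutative
of order `q + 1`.
-/

namespace Cfsg.Agent.Helper7.ReeTor

open Cfsg Cfsg.Lie Matrix Cfsg.Agent.Helper7.Chev Cfsg.Agent.Helper7.ReeAut
  Cfsg.Agent.Helper7.ReeMul Cfsg.Agent.Helper7.ReeCyc

/-- The centraliser of an element of a subgroup, in the subgroup. -/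
theorem card_centralizer_subtype {G : Type*} [Group G] (C : Subgroup G) (a : ↥C) :
    Nat.card ↥(Subgroup.centralizer {a} : Subgroup ↥C) =
      Nat.card ↥(C ⊓ Subgroup.centralizer {(a : G)}) := by
  have h : (Subgroup.centralizer {a} : Subgroup ↥C).map C.subtype =
      C ⊓ Subgroup.centralizer {(a : G)} := by
    ext g
    rw [Subgroup.mem_map, Subgroup.mem_inf, Subgroup.mem_centralizer_singleton_iff]
    constructor
    · rintro ⟨⟨y, hy⟩, hya, rfl⟩
      rw [Subgroup.mem_centralizer_singleton_iff] at hya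
      exact ⟨hy, congrArg Subtype.val hya⟩
    · rintro ⟨hg, hga⟩
      refine ⟨⟨g, hg⟩, ?_, rfl⟩
      rw [Subgroup.mem_centralizer_singleton_iff]
      exact Subtype.ext hga
  rw [← h, Subgroup.card_map_of_injective C.subtype_injective]

variable {K : Type*} [Field K] [Fintype K] [CharP K 3] {m : ℕ}
  (hK : Fintype.card K = 3 ^ (2 * m + 1))

include hK in
/-- The centraliser of an element of prime order `p > 3` dividing `q + 1`. -/
theorem quarter_centralizer (hm : 1 ≤ m) {p : ℕ} (hp : p.Prime) (hp3 : 3 < p)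
    (hpq : p ∣ Fintype.card K + 1) {x : ↥(twistedG2 K (3 ^ m))} (hx1 : x ≠ 1) (hxp : x ^ p = 1) :
    (∀ g₁ ∈ Subgroup.centralizer {x}, ∀ g₂ ∈ Subgroup.centralizer {x}, g₁ * g₂ = g₂ * g₁) ∧
      Nat.card ↥(Subgroup.centralizer {x}) = Fintype.card K + 1 := by
  haveI : Fact p.Prime := ⟨hp⟩
  have hq1 : 1 ≤ Fintype.card K := Fintype.card_pos
  have hpq1 : ¬ p ∣ Fintype.card K - 1 := not_dvd_sub_of_dvd_add hp3 hq1 hpq
  have hp2 : p ≠ 2 := by omega
  have hp3' : p ≠ 3 := by omega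
  have hc3 : Nat.Coprime p 3 := (Nat.coprime_primes hp Nat.prime_three).mpr hp3'
  have hcq : Nat.Coprime p (Fintype.card K - 1) := (Nat.Prime.coprime_iff_not_dvd hp).mpr hpq1
  -- an involution commuting with `x`
  obtain ⟨g, hg⟩ := exists_conj_mem _ (not_dvd_index_nsHom hK hp hp3 hpq) x hxp
  obtain ⟨w, hw⟩ := hg
  have hw' : rPhi K m (Cfsg.Agent.Helper7.SL2.nonsplitHom (F := K) 3 w) = g⁻¹ * x * g := hw
  have hcomm : g⁻¹ * x * g * aS hK = aS hK * (g⁻¹ * x * g) := by
    rw [← hw']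
    exact (aS_comm_rPhi hK _).symm
  set e₀ := g * aS hK * g⁻¹ with he₀
  have he₀1 : e₀ ≠ 1 := by
    intro h
    apply aS_ne_one hK
    have : aS hK = g⁻¹ * e₀ * g := by rw [he₀]; group
    rw [this, h]
    group
  have he₀2 : e₀ * e₀ = 1 := by
    have : e₀ * e₀ = g * (aS hK * aS hK) * g⁻¹ := by rw [he₀]; group
    rw [this, aS_mul_aS]
    group
  have hxe₀ : x * e₀ = e₀ * x := by
    have : x * e₀ = g * (g⁻¹ * x * g * aS hK) * g⁻¹ := by rw [he₀]; group
    rw [this, hcomm, he₀]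
    group
  -- the abstract lemma in the centraliser
  have h8 := ree_card_mod_eight hK
  set n' := (Fintype.card K + 1) / 4 with hn'
  have hn'odd : Odd n' := by
    rw [Nat.odd_iff]
    omega
  have h4n' : 4 * n' = Fintype.card K + 1 := by omega
  have h2el : ∀ y : ↥(Subgroup.centralizer {x}), (∃ k : ℕ, y ^ 2 ^ k = 1) → y * y = 1 := by
    rintro ⟨y, hy⟩ ⟨k, hk⟩
    apply Subtype.ext
    apply sq_eq_one_of_two_pow hK y
    refine ⟨k, ?_⟩
    have := congrArg Subtype.val hk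
    simpa using this
  have hcent : ∀ a : ↥(Subgroup.centralizer {x}), a ≠ 1 → a * a = 1 →
      (∀ g₁ ∈ Subgroup.centralizer {a}, ∀ g₂ ∈ Subgroup.centralizer {a}, g₁ * g₂ = g₂ * g₁) ∧
      Nat.card ↥(Subgroup.centralizer {a}) = 4 * n' := by
    rintro ⟨a, haC⟩ ha1 ha2
    have ha1' : a ≠ 1 := fun h => ha1 (Subtype.ext h)
    have ha2' : a * a = 1 := congrArg Subtype.val ha2
    have hxa : x * a = a * x := (Subgroup.mem_centralizer_singleton_iff.mp haC).symm
    obtain ⟨hD, hDc⟩ := quarter_inf hK hm hp hp2 hp3' hpq1 ha1' ha2' hxa hx1 hxp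
    constructor
    · rintro ⟨g₁, hg₁⟩ h₁ ⟨g₂, hg₂⟩ h₂
      rw [Subgroup.mem_centralizer_singleton_iff] at h₁ h₂
      apply Subtype.ext
      apply hD
      · exact Subgroup.mem_inf.mpr ⟨hg₁, Subgroup.mem_centralizer_singleton_iff.mpr
          (congrArg Subtype.val h₁)⟩
      · exact Subgroup.mem_inf.mpr ⟨hg₂, Subgroup.mem_centralizer_singleton_iff.mpr
          (congrArg Subtype.val h₂)⟩
    · rw [card_centralizer_subtype, hDc, h4n']
  have h3 := not_three_dvd_card_centralizer hK hc3 hcq hx1 hxp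
  have he₀C : e₀ ∈ Subgroup.centralizer {x} := Subgroup.mem_centralizer_singleton_iff.mpr hxe₀.symm
  obtain ⟨hcomm', hcard⟩ := comm_of_involution_centralizers hn'odd h2el ⟨e₀, he₀C⟩
    (fun h => he₀1 (congrArg Subtype.val h)) (Subtype.ext he₀2) hcent h3
  refine ⟨?_, by rw [hcard, h4n']⟩
  intro g₁ h₁ g₂ h₂
  exact congrArg Subtype.val (hcomm' ⟨g₁, h₁⟩ ⟨g₂, h₂⟩)

end Cfsg.Agent.Helper7.ReeTor
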