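import Mathlib
import Cfsg.Agent.Helper7.ReeTorI

set_option autoImplicit false
set_option linter.unusedSectionVars false
set_option linter.unusedVariables false

/-!
The centraliser in the Ree group of an element `h(s)` of the torus with `s² ≠ 1` is the torus.
-/

namespace Cfsg.Agent.Helper7.ReeTor

open Cfsg Cfsg.Lie Matrix Cfsg.Agent.Helper7.Chev Cfsg.Agent.Helper7.ReeAut
  Cfsg.Agent.Helper7.ReeMul Cfsg.Agent.Helper7.ReeCyc

variable {K : Type*} [Field K] [Fintype K] [CharP K 3] {m : ℕ}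
  (hK : Fintype.card K = 3 ^ (2 * m + 1))

/-- An element of the torus is in `⟨a⟩` times the image of the diagonal subgroup of `SL₂`. -/
theorem ghS_mem_prod_diag (s : Kˣ) : ∃ d : Kˣ,
    ghS hK s = rPhi K m (diagSL (d : K) d.ne_zero) ∨
      ghS hK s = aS hK * rPhi K m (diagSL (d : K) d.ne_zero) := by
  have hm := pow_card_three hK
  obtain ⟨y, h⟩ := ree_sq_or_neg_sq hK s
  set d : Kˣ := Units.map (reeTh K (m + 1) : K →* K) y * y⁻¹ with hd
  have hd2 : Units.map (reeTh K (m + 1) : K →* K) d * d = y ^ 2 := by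
    apply Units.ext
    have hy : (y : K) ≠ 0 := y.ne_zero
    have h1 : ((Units.map (reeTh K (m + 1) : K →* K) d : Kˣ) : K) = reeTh K (m + 1) (d : K) := rfl
    have h2 : (d : K) = reeTh K (m + 1) (y : K) * (y : K)⁻¹ := by
      rw [hd, Units.val_mul, Units.val_inv_eq_inv_val]
      rfl
    rw [Units.val_mul, h1, h2, map_mul, reeTh_succ_twice hm, map_inv₀, Units.val_pow_eq_pow_val]
    have hθ : reeTh K (m + 1) (y : K) ≠ 0 := (_root_.map_ne_zero _).mpr hy
    field_simp
  have e := rPhi_diag (m := m) hK d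
  rw [hd2] at e
  refine ⟨d, ?_⟩
  rcases h with h | h
  · left
    rw [e, h]
  · right
    rw [e, h]
    unfold aS
    rw [ghS_mul]

/-- An element of `N¹` normalises the torus. -/
theorem conj_ghS_of_monomial {n₀ : ↥(twistedG2 K (3 ^ m))}
    (hn₀ : (n₀ : GL chevG2.Idx K) ∈ chevG2.monomialSubgroup K) (s : Kˣ) :
    ∃ s' : Kˣ, n₀ * ghS hK s * n₀⁻¹ = ghS hK s' := by
  have h1 : gh K m s ∈ rH K m := mem_rH.mpr ⟨gh_mem_diagonal _, gh_mem_twisted hK _⟩
  have h2 := rN_conj_rH (mem_rN.mpr ⟨hn₀, n₀.2⟩) h1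
  obtain ⟨s', hs'⟩ := (mem_rH_iff hK).mp h2
  exact ⟨s', Subtype.ext hs'⟩

theorem neg_one_not_sq (hK : Fintype.card K = 3 ^ (2 * m + 1)) (d : K) : d ^ 2 ≠ -1 := by
  intro h
  have h1 : IsSquare (-1 : K) := ⟨d, by rw [← h, pow_two]⟩
  rw [FiniteField.isSquare_neg_one_iff] at h1
  exact h1 (ree_card_mod_four hK)

/-- An element of `N¹` outside the torus does not centralise `h(s)` for `s² ≠ 1`. -/
theorem not_comm_of_monomial {x₀ : Matrix.SpecialLinearGroup (Fin 2) K}
    (hx₀ : ((rPhi K m x₀ : ↥(twistedG2 K (3 ^ m))) : GL chevG2.Idx K) ∈ chevG2.monomialSubgroup K)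
    (hx₀H : ((rPhi K m x₀ : ↥(twistedG2 K (3 ^ m))) : GL chevG2.Idx K) ∉ chevG2.diagonalSubgroup K)
    {s : Kˣ} (hs2 : (s : K) ^ 2 ≠ 1) : rPhi K m x₀ * ghS hK s ≠ ghS hK s * rPhi K m x₀ := by
  have hm := pow_card_three hK
  intro hc
  have hx10 : x₀.val 1 0 ≠ 0 := by
    intro h0
    obtain ⟨d, e, _⟩ := rPhi_borel_form hK x₀ h0
    apply rN_not_mem_borel hm (mem_rN.mpr ⟨hx₀, (rPhi K m x₀).2⟩) hx₀H
    exact (mem_borel_iff hK _).mpr ⟨_, _, _, _, e⟩
  obtain ⟨d, hd⟩ := ghS_mem_prod_diag hK s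
  -- `x₀` commutes with the diagonal element up to sign
  have hcomm : rPhi K m (x₀ * diagSL (d : K) d.ne_zero) = rPhi K m (diagSL (d : K) d.ne_zero * x₀) := by
    rw [map_mul, map_mul]
    rcases hd with h | h
    · rw [← h, hc]
    · have h1 : rPhi K m (diagSL (d : K) d.ne_zero) = aS hK * ghS hK s := by
        rw [h, ← mul_assoc, aS_mul_aS, one_mul]
      rw [h1, ← mul_assoc, ← aS_comm_rPhi hK x₀, mul_assoc, hc, mul_assoc]
  have hd2 : (d : K) ^ 2 = 1 := by
    have hdne : (d : K) ≠ 0 := d.ne_zero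
    have hdv : (diagSL (d : K) d.ne_zero).val = !![(d : K), 0; 0, (d : K)⁻¹] := rfl
    rcases (rPhi_eq_iff hK _ _).mp hcomm with h | h
    · have h1 := congrArg (fun g : Matrix.SpecialLinearGroup (Fin 2) K => g.val 1 0) h
      simp only [Matrix.SpecialLinearGroup.coe_mul, Matrix.mul_apply, Fin.sum_univ_two] at h1
      rw [hdv] at h1
      simp at h1
      field_simp at h1
      exact h1
    · exfalso
      have h1 := congrArg (fun g : Matrix.SpecialLinearGroup (Fin 2) K => g.val 1 0) h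
      simp only [Matrix.SpecialLinearGroup.coe_neg, Matrix.SpecialLinearGroup.coe_mul, Matrix.neg_apply,
        Matrix.mul_apply, Fin.sum_univ_two] at h1
      rw [hdv] at h1
      simp at h1
      field_simp at h1
      exact neg_one_not_sq hK (d : K) h1
  -- the diagonal element is `±1`
  have hdiag : rPhi K m (diagSL (d : K) d.ne_zero) = 1 := by
    rw [rPhi_eq_one_iff hK]
    rcases sq_eq_one_iff.mp hd2 with h | h
    · left
      apply Subtype.ext
      simp only [diagSL, h]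
      ext i j
      fin_cases i <;> fin_cases j <;> simp
    · right
      apply Subtype.ext
      simp only [diagSL, h]
      ext i j
      fin_cases i <;> fin_cases j <;> simp
  apply hs2
  rcases hd with h | h
  · rw [hdiag, ← ghS_one hK] at h
    rw [ghS_injective hK h]
    simp
  · rw [hdiag, mul_one] at h
    unfold aS at h
    rw [ghS_injective hK h]
    simp

/-- The centraliser of `h(s)`, `s² ≠ 1`, is the torus. -/
theorem split_centralizer {s : Kˣ} (hs2 : (s : K) ^ 2 ≠ 1) :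
    Subgroup.centralizer {ghS hK s} = (ghHom hK).range := by
  have hm := pow_card_three hK
  ext g
  rw [Subgroup.mem_centralizer_singleton_iff]
  constructor
  · intro hg
    have hg' : ghS hK s * g * (ghS hK s)⁻¹ = g := by rw [← hg, mul_assoc, mul_inv_cancel, mul_one]
    obtain ⟨x₀, hx₀, hx₀H⟩ := exists_n0 (m := m) hK
    have hcommH : ∀ s₁ : Kˣ, ghS hK s * ghS hK s₁ * (ghS hK s)⁻¹ = ghS hK s₁ := by
      intro s₁
      rw [ghS_inv, ghS_mul, ghS_mul]
      congr 1
      rw [mul_comm, ← mul_assoc, inv_mul_cancel, one_mul]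
    rcases cover_S hK hx₀ hx₀H g with ⟨t, u, v, s₁, rfl⟩ | ⟨t, u, v, s₁, t', u', v', rfl⟩
    · have e1 : ghS hK s * (ruS m t u v * ghS hK s₁) * (ghS hK s)⁻¹ =
          (ghS hK s * ruS m t u v * (ghS hK s)⁻¹) * (ghS hK s * ghS hK s₁ * (ghS hK s)⁻¹) := by group
      rw [e1, hcommH, ghS_conj_ruS] at hg'
      obtain ⟨h1, _⟩ := ruS_mul_ghS_injective hK hg'
      rw [← ghS_conj_ruS hK] at h1
      rw [ruS_eq_one_of_comm hK hs2 h1, one_mul]
      exact ⟨s₁, rfl⟩
    · exfalso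
      obtain ⟨s₂, hs₂⟩ := conj_ghS_of_monomial hK hx₀ s⁻¹
      have e1 : ghS hK s * (ruS m t u v * ghS hK s₁ * rPhi K m x₀ * ruS m t' u' v') * (ghS hK s)⁻¹ =
          (ghS hK s * ruS m t u v * (ghS hK s)⁻¹) * (ghS hK s * ghS hK s₁ * (ghS hK s)⁻¹) *
            (ghS hK s * (rPhi K m x₀ * ghS hK s⁻¹ * (rPhi K m x₀)⁻¹)) * rPhi K m x₀ *
            (ghS hK s * ruS m t' u' v' * (ghS hK s)⁻¹) := by
        rw [← ghS_inv]
        group
      rw [e1, hcommH, hs₂, ghS_conj_ruS, ghS_conj_ruS, mul_assoc (ruS m _ _ _) (ghS hK s₁), ghS_mul,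
        ghS_mul] at hg'
      obtain ⟨_, h2, _⟩ := cell_unique_S hK hx₀ hx₀H hg'
      have h3 : s₂ = s⁻¹ := by
        have : s * s₂ = 1 := by
          have := mul_left_cancel (a := s₁) (b := s * s₂) (c := 1) (by rw [h2, mul_one])
          exact this
        exact eq_inv_of_mul_eq_one_right this
      rw [h3] at hs₂
      apply not_comm_of_monomial hK hx₀ hx₀H hs2
      have h4 : rPhi K m x₀ * (ghS hK s)⁻¹ = (ghS hK s)⁻¹ * rPhi K m x₀ := by
        rw [ghS_inv]
        exact mul_inv_eq_iff_eq_mul.mp hs₂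
      have : rPhi K m x₀ * ghS hK s = ghS hK s * (rPhi K m x₀ * (ghS hK s)⁻¹) * ghS hK s := by
        rw [h4]
        group
      rw [this]
      group
  · rintro ⟨s₁, rfl⟩
    change ghS hK s₁ * ghS hK s = ghS hK s * ghS hK s₁
    rw [ghS_mul, ghS_mul, mul_comm]

end Cfsg.Agent.Helper7.ReeTor
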