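import Mathlib
import Cfsg.Agent.Helper7.ReeTorJ

set_option autoImplicit false
set_option linter.unusedSectionVars false
set_option linter.unusedVariables false

/-!
The centralisers of the subgroups of the split and quarter tori of the Ree group.
-/

namespace Cfsg.Agent.Helper7.ReeTor

open Cfsg Cfsg.Lie Matrix Cfsg.Agent.Helper7.Chev Cfsg.Agent.Helper7.ReeAut
  Cfsg.Agent.Helper7.ReeMul Cfsg.Agent.Helper7.ReeCyc

/-- The centraliser of a subgroup containing `x` and inside the commutative centraliser of `x`. -/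
theorem centralizer_eq_of_mem {G : Type*} [Group G] {A : Subgroup G} {x : G} (hxA : x ∈ A)
    (hA : ∀ a ∈ A, a * x = x * a)
    (hC : ∀ g₁ ∈ Subgroup.centralizer {x}, ∀ g₂ ∈ Subgroup.centralizer {x}, g₁ * g₂ = g₂ * g₁) :
    Subgroup.centralizer (A : Set G) = Subgroup.centralizer {x} := by
  ext g
  rw [Subgroup.mem_centralizer_iff, Subgroup.mem_centralizer_singleton_iff]
  constructor
  · intro h
    exact (h x hxA).symm
  · intro h a ha
    have h1 : g ∈ Subgroup.centralizer {x} := Subgroup.mem_centralizer_singleton_iff.mpr h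
    have h2 : a ∈ Subgroup.centralizer {x} := Subgroup.mem_centralizer_singleton_iff.mpr (hA a ha)
    exact hC a h2 g h1

/-- A nontrivial finite subgroup has an element of prime order. -/
theorem exists_prime_order_mem {G : Type*} [Group G] [Finite G] {A : Subgroup G} (hA : A ≠ ⊥) :
    ∃ p : ℕ, p.Prime ∧ p ∣ Nat.card ↥A ∧ ∃ x ∈ A, x ≠ 1 ∧ x ^ p = 1 := by
  have h1 : Nat.card ↥A ≠ 1 := by
    intro h
    exact hA (Subgroup.card_eq_one.mp h)
  obtain ⟨p, hp, hpd⟩ := Nat.exists_prime_and_dvd h1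
  haveI : Fact p.Prime := ⟨hp⟩
  obtain ⟨⟨x, hx⟩, hxo⟩ := exists_prime_orderOf_dvd_card' (G := ↥A) p hpd
  refine ⟨p, hp, hpd, x, hx, ?_, ?_⟩
  · rintro rfl
    have : (⟨1, hx⟩ : ↥A) = 1 := rfl
    rw [this, orderOf_one] at hxo
    exact hp.one_lt.ne hxo
  · have := pow_orderOf_eq_one (⟨x, hx⟩ : ↥A)
    rw [hxo] at this
    have := congrArg Subtype.val this
    simpa using this

variable {K : Type*} [Field K] [Fintype K] [CharP K 3] {m : ℕ}
  (hK : Fintype.card K = 3 ^ (2 * m + 1))

theorem card_range_ghHom : Nat.card ↥(ghHom hK).range = Fintype.card K - 1 := by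
  rw [Nat.card_congr (MonoidHom.ofInjective (ghHom_injective hK)).symm.toEquiv, Nat.card_units,
    Nat.card_eq_fintype_card]

/-- The centraliser of an element of prime order `p > 3` dividing `q - 1` is a conjugate of the
torus. -/
theorem split_centralizer_conj {p : ℕ} (hp : p.Prime) (hp3 : 3 < p) (hpq : p ∣ Fintype.card K - 1)
    {x : ↥(twistedG2 K (3 ^ m))} (hx1 : x ≠ 1) (hxp : x ^ p = 1) :
    ∃ g : ↥(twistedG2 K (3 ^ m)),
      Subgroup.centralizer {x} = (ghHom hK).range.map (MulAut.conj g).toMonoidHom := by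
  haveI : Fact p.Prime := ⟨hp⟩
  obtain ⟨g, s, hs⟩ := exists_conj_mem _ (not_dvd_index_ghHom hK hp hp3 hpq) x hxp
  have hs' : ghS hK s = g⁻¹ * x * g := hs
  have hs1 : s ≠ 1 := by
    rintro rfl
    rw [ghS_one] at hs'
    apply hx1
    have : x = g * (g⁻¹ * x * g) * g⁻¹ := by group
    rw [this, ← hs']
    group
  have hsp : s ^ p = 1 := by
    apply ghS_injective hK
    rw [← ghS_pow, hs', ghS_one]
    have := conj_pow (a := g⁻¹) (b := x) (i := p)
    rw [inv_inv] at this
    rw [this, hxp, mul_one, inv_mul_cancel]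
  have hs2 : (s : K) ^ 2 ≠ 1 := by
    intro h
    have h2 : s ^ 2 = 1 := by
      apply Units.ext
      rw [Units.val_pow_eq_pow_val, h, Units.val_one]
    have h3 := pow_gcd_eq_one.mpr ⟨h2, hsp⟩
    have hc : Nat.Coprime 2 p := by
      rw [Nat.coprime_primes Nat.prime_two hp]
      omega
    rw [Nat.Coprime.gcd_eq_one hc, pow_one] at h3
    exact hs1 h3
  have hC := split_centralizer hK hs2
  refine ⟨g, ?_⟩
  ext y
  rw [Subgroup.mem_map_equiv, ← hC, Subgroup.mem_centralizer_singleton_iff,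
    Subgroup.mem_centralizer_singleton_iff, hs']
  simp only [MulEquiv.coe_toMonoidHom, MulAut.conj_symm_apply]
  constructor
  · intro h
    have : g⁻¹ * y * g * (g⁻¹ * x * g) = g⁻¹ * (y * x) * g := by group
    rw [this, h]
    group
  · intro h
    have : y * x = g * (g⁻¹ * y * g * (g⁻¹ * x * g)) * g⁻¹ := by group
    rw [this, h]
    group

end Cfsg.Agent.Helper7.ReeTor
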