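import Mathlib
import Cfsg.Agent.Helper7.ReeTorK

set_option autoImplicit false
set_option linter.unusedSectionVars false
set_option linter.unusedVariables false

/-!
Elements of `SL₂(K)` of given trace, `K` a finite field of characteristic `3` in which `-1` is not a square: their
number for the traces `0`, `1`, `-1`, and the characterisation of the elements of order dividing `3`, `9`, `36`.
-/

namespace Cfsg.Agent.Helper7.ReeCnt

open Cfsg Matrix Cfsg.Agent.Helper7.Chev Cfsg.Agent.Helper7.ReeAut Cfsg.Agent.Helper7.ReeTor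

section count

variable {K : Type*} [Field K] [Fintype K]

theorem card_mul_eq_of_ne {e : K} (he : e ≠ 0) :
    Nat.card {p : K × K // p.1 * p.2 = e} = Fintype.card K - 1 := by
  rw [← Nat.card_eq_fintype_card, ← Nat.card_units]
  apply Nat.card_congr
  refine
    { toFun := fun p => Units.mk0 p.1.1 (by
        intro h
        apply he
        rw [← p.2, h, zero_mul])
      invFun := fun u => ⟨((u : K), e / (u : K)), mul_div_cancel₀ _ u.ne_zero⟩
      left_inv := ?_
      right_inv := ?_ }
  · rintro ⟨⟨b, c⟩, h⟩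
    have hb : b ≠ 0 := by
      intro hb
      apply he
      rw [← h]
      show b * c = 0
      rw [hb, zero_mul]
    apply Subtype.ext
    show (b, e / b) = (b, c)
    rw [← h]
    show (b, b * c / b) = (b, c)
    rw [mul_div_cancel_left₀ _ hb]
  · intro u
    apply Units.ext
    rfl

theorem card_mul_eq_zero :
    Nat.card {p : K × K // p.1 * p.2 = 0} = 2 * Fintype.card K - 1 := by
  classical
  have h1 : Nat.card (K ⊕ Kˣ) = 2 * Fintype.card K - 1 := by
    rw [Nat.card_sum, Nat.card_units, Nat.card_eq_fintype_card]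
    have := Fintype.card_pos (α := K)
    omega
  rw [← h1]
  apply Nat.card_congr
  refine
    { toFun := fun p => if h : p.1.1 = 0 then Sum.inl p.1.2 else Sum.inr (Units.mk0 p.1.1 h)
      invFun := fun s => match s with
        | Sum.inl c => ⟨(0, c), zero_mul c⟩
        | Sum.inr u => ⟨((u : K), 0), mul_zero _⟩
      left_inv := ?_
      right_inv := ?_ }
  · rintro ⟨⟨b, c⟩, h⟩
    by_cases hb : b = 0
    · subst hb
      simp
    · have hc : c = 0 := by
        rcases mul_eq_zero.mp h with h | h
        · exact absurd h hb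
        · exact h
      subst hc
      simp [hb]
  · rintro (c | u)
    · simp
    · simp [u.ne_zero]

theorem card_triples (e : K → K) :
    Nat.card {p : K × K × K // p.2.1 * p.2.2 = e p.1} =
      ∑ a : K, Nat.card {p : K × K // p.1 * p.2 = e a} := by
  rw [← Nat.card_sigma]
  apply Nat.card_congr
  exact
    { toFun := fun p => ⟨p.1.1, ⟨p.1.2, p.2⟩⟩
      invFun := fun s => ⟨(s.1, s.2.1), s.2.2⟩
      left_inv := fun p => rfl
      right_inv := fun s => rfl }

theorem card_triples_of_ne (e : K → K) (he : ∀ a, e a ≠ 0) :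
    Nat.card {p : K × K × K // p.2.1 * p.2.2 = e p.1} = Fintype.card K * (Fintype.card K - 1) := by
  rw [card_triples]
  simp [card_mul_eq_of_ne (he _)]

theorem card_triples_of_one (e : K → K) (a₀ : K) (he : ∀ a, e a = 0 ↔ a = a₀) :
    Nat.card {p : K × K × K // p.2.1 * p.2.2 = e p.1} = Fintype.card K ^ 2 := by
  classical
  rw [card_triples]
  have h1 : ∀ a : K, Nat.card {p : K × K // p.1 * p.2 = e a} =
      if a = a₀ then 2 * Fintype.card K - 1 else Fintype.card K - 1 := by
    intro a
    by_cases h : a = a₀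
    · rw [if_pos h, (he a).mpr h, card_mul_eq_zero]
    · rw [if_neg h, card_mul_eq_of_ne (fun h' => h ((he a).mp h'))]
  simp only [h1]
  rw [Finset.sum_ite, Finset.filter_eq' Finset.univ a₀, if_pos (Finset.mem_univ _),
    Finset.sum_const, Finset.sum_const, Finset.card_singleton, Finset.filter_ne' Finset.univ a₀,
    Finset.card_erase_of_mem (Finset.mem_univ _), Finset.card_univ, smul_eq_mul, smul_eq_mul]
  have := Fintype.card_pos (α := K)
  obtain ⟨n, hn⟩ : ∃ n, Fintype.card K = n + 1 := ⟨Fintype.card K - 1, by omega⟩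
  rw [hn]
  simp only [Nat.add_sub_cancel]
  have e1 : 2 * (n + 1) - 1 = 2 * n + 1 := by omega
  rw [e1]
  ring

/-- The elements of `SL₂` of trace `τ` correspond to the solutions of `b c = a (τ - a) - 1`. -/
theorem card_tr2_eq (τ : K) :
    Nat.card {y : Matrix.SpecialLinearGroup (Fin 2) K // tr2 y = τ} =
      Nat.card {p : K × K × K // p.2.1 * p.2.2 = p.1 * (τ - p.1) - 1} := by
  apply Nat.card_congr
  refine
    { toFun := fun y => ⟨(y.1.val 0 0, y.1.val 0 1, y.1.val 1 0), ?_⟩
      invFun := fun p => ⟨⟨!![p.1.1, p.1.2.1; p.1.2.2, τ - p.1.1], ?_⟩, ?_⟩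
      left_inv := ?_
      right_inv := ?_ }
  · have h1 := det_two_eq y.1
    have h2 : y.1.val 0 0 + y.1.val 1 1 = τ := y.2
    show y.1.val 0 1 * y.1.val 1 0 = y.1.val 0 0 * (τ - y.1.val 0 0) - 1
    linear_combination -h1 + y.1.val 0 0 * h2
  · rw [Matrix.det_fin_two]
    simp only [Matrix.of_apply, Matrix.cons_val', Matrix.cons_val_zero, Matrix.cons_val_one,
      Matrix.cons_val_fin_one]
    have := p.2
    linear_combination -this
  · show (!![p.1.1, p.1.2.1; p.1.2.2, τ - p.1.1] : Matrix (Fin 2) (Fin 2) K) 0 0 +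
      (!![p.1.1, p.1.2.1; p.1.2.2, τ - p.1.1] : Matrix (Fin 2) (Fin 2) K) 1 1 = τ
    simp
  · rintro ⟨y, hy⟩
    apply Subtype.ext
    apply Subtype.ext
    have h2 : y.val 0 0 + y.val 1 1 = τ := hy
    show (!![y.val 0 0, y.val 0 1; y.val 1 0, τ - y.val 0 0] : Matrix (Fin 2) (Fin 2) K) = y.val
    conv_rhs => rw [sl2_val_eq y]
    rw [mat2_eq_iff]
    refine ⟨rfl, rfl, rfl, ?_⟩
    rw [← h2]
    ring
  · rintro ⟨⟨a, b, c⟩, h⟩
    apply Subtype.ext
    show ((!![a, b; c, τ - a] : Matrix (Fin 2) (Fin 2) K) 0 0,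
      (!![a, b; c, τ - a] : Matrix (Fin 2) (Fin 2) K) 0 1,
      (!![a, b; c, τ - a] : Matrix (Fin 2) (Fin 2) K) 1 0) = (a, b, c)
    simp

variable [CharP K 3] {m : ℕ}

theorem card_tr2_zero (hK : Fintype.card K = 3 ^ (2 * m + 1)) :
    Nat.card {y : Matrix.SpecialLinearGroup (Fin 2) K // tr2 y = 0} =
      Fintype.card K * (Fintype.card K - 1) := by
  rw [card_tr2_eq]
  apply card_triples_of_ne (fun a => a * (0 - a) - 1)
  intro a h
  apply neg_one_not_sq hK a
  linear_combination -h

theorem card_tr2_one :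
    Nat.card {y : Matrix.SpecialLinearGroup (Fin 2) K // tr2 y = 1} = Fintype.card K ^ 2 := by
  rw [card_tr2_eq]
  apply card_triples_of_one (fun a => a * (1 - a) - 1) (-1)
  intro a
  have h3 : (3 : K) = 0 := three_eq_zero K
  constructor
  · intro h
    have h1 : (a + 1) ^ 2 = 0 := by linear_combination -h + a * h3
    have := pow_eq_zero_iff (two_ne_zero) |>.mp h1
    linear_combination this
  · rintro rfl
    linear_combination -h3

theorem card_tr2_neg_one :
    Nat.card {y : Matrix.SpecialLinearGroup (Fin 2) K // tr2 y = -1} = Fintype.card K ^ 2 := by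
  rw [card_tr2_eq]
  apply card_triples_of_one (fun a => a * (-1 - a) - 1) 1
  intro a
  have h3 : (3 : K) = 0 := three_eq_zero K
  constructor
  · intro h
    have h1 : (a - 1) ^ 2 = 0 := by linear_combination -h - a * h3
    have := pow_eq_zero_iff (two_ne_zero) |>.mp h1
    linear_combination this
  · rintro rfl
    linear_combination -h3

end count

end Cfsg.Agent.Helper7.ReeCnt
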