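import Mathlib
import Cfsg.Agent.Helper7.ReeCntB

set_option autoImplicit false
set_option linter.unusedSectionVars false
set_option linter.unusedVariables false

/-!
Powers of elements of `SL₂(K)` in characteristic `3` in terms of the trace.
-/

namespace Cfsg.Agent.Helper7.ReeCnt

open Cfsg Matrix Cfsg.Agent.Helper7.Chev Cfsg.Agent.Helper7.ReeAut Cfsg.Agent.Helper7.ReeTor

section powers

variable {K : Type*} [Field K]

theorem tr2_eq_trace (y : Matrix.SpecialLinearGroup (Fin 2) K) : tr2 y = Matrix.trace y.val := by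
  rw [Matrix.trace_fin_two]
  rfl

theorem sl2_mul_self (y : Matrix.SpecialLinearGroup (Fin 2) K) :
    y.val * y.val = tr2 y • y.val - 1 := by
  have h := det_two_eq y
  unfold tr2
  ext i j
  fin_cases i <;> fin_cases j <;>
    simp [Matrix.mul_apply, Fin.sum_univ_two] <;> first | ring1 | linear_combination -h

theorem sl2_cube (y : Matrix.SpecialLinearGroup (Fin 2) K) :
    y.val ^ 3 = (tr2 y ^ 2 - 1) • y.val - tr2 y • (1 : Matrix (Fin 2) (Fin 2) K) := by
  have h := sl2_mul_self y
  have e : y.val ^ 3 = (y.val * y.val) * y.val := by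
    rw [pow_succ, pow_two]
  rw [e, h, sub_mul, smul_mul_assoc, h, one_mul]
  module

theorem tr2_one : tr2 (1 : Matrix.SpecialLinearGroup (Fin 2) K) = 2 := by
  unfold tr2
  simp
  norm_num

theorem tr2_neg (y : Matrix.SpecialLinearGroup (Fin 2) K) : tr2 (-y) = -tr2 y := by
  unfold tr2
  simp
  ring

theorem tr2_mul_self (y : Matrix.SpecialLinearGroup (Fin 2) K) : tr2 (y * y) = tr2 y ^ 2 - 2 := by
  rw [tr2_eq_trace, Matrix.SpecialLinearGroup.coe_mul, sl2_mul_self, Matrix.trace_sub,
    Matrix.trace_smul, Matrix.trace_one, ← tr2_eq_trace]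
  simp
  ring

theorem tr2_cube' (y : Matrix.SpecialLinearGroup (Fin 2) K) :
    tr2 (y ^ 3) = tr2 y ^ 3 - 3 * tr2 y := by
  rw [tr2_eq_trace, Matrix.SpecialLinearGroup.coe_pow, sl2_cube, Matrix.trace_sub,
    Matrix.trace_smul, Matrix.trace_smul, Matrix.trace_one, ← tr2_eq_trace]
  simp
  ring

theorem sq_eq_neg_one_iff (y : Matrix.SpecialLinearGroup (Fin 2) K) :
    y * y = -1 ↔ tr2 y = 0 := by
  have key : y * y = -1 ↔ tr2 y • y.val - 1 = -(1 : Matrix (Fin 2) (Fin 2) K) := by
    rw [← sl2_mul_self]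
    constructor
    · intro h
      have := congrArg Subtype.val h
      rwa [Matrix.SpecialLinearGroup.coe_mul, Matrix.SpecialLinearGroup.coe_neg,
        Matrix.SpecialLinearGroup.coe_one] at this
    · intro h
      apply Subtype.ext
      rwa [Matrix.SpecialLinearGroup.coe_mul, Matrix.SpecialLinearGroup.coe_neg,
        Matrix.SpecialLinearGroup.coe_one]
  rw [key]
  constructor
  · intro h
    have h1 : tr2 y • y.val = 0 := by
      have : tr2 y • y.val = (tr2 y • y.val - 1) + 1 := by abel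
      rw [this, h]
      abel
    by_contra hτ
    have h2 : y.val = 0 := by
      have := congrArg (fun M => (tr2 y)⁻¹ • M) h1
      simpa [smul_smul, inv_mul_cancel₀ hτ] using this
    have h3 := y.2
    rw [h2, Matrix.det_zero] at h3
    exact zero_ne_one h3
  · intro h
    rw [h, zero_smul, zero_sub]

variable [CharP K 3]

theorem tr2_cube (y : Matrix.SpecialLinearGroup (Fin 2) K) : tr2 (y ^ 3) = tr2 y ^ 3 := by
  rw [tr2_cube', three_eq_zero K, zero_mul, sub_zero]

theorem cube_eq_one_iff (y : Matrix.SpecialLinearGroup (Fin 2) K) : y ^ 3 = 1 ↔ tr2 y = -1 := by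
  have h3 : (3 : K) = 0 := three_eq_zero K
  constructor
  · intro h
    have h1 : tr2 y ^ 3 = 2 := by rw [← tr2_cube, h, tr2_one]
    have h2 : (tr2 y + 1) ^ 3 = 0 := by
      linear_combination h1 + (tr2 y ^ 2 + tr2 y + 1) * h3
    have := pow_eq_zero_iff (three_ne_zero) |>.mp h2
    linear_combination this
  · intro h
    apply Subtype.ext
    rw [Matrix.SpecialLinearGroup.coe_pow, sl2_cube, h, Matrix.SpecialLinearGroup.coe_one]
    have e : ((-1 : K) ^ 2 - 1) = 0 := by ring
    rw [e, zero_smul, zero_sub, neg_smul, neg_neg, one_smul]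

theorem cube_eq_neg_one_iff (y : Matrix.SpecialLinearGroup (Fin 2) K) : y ^ 3 = -1 ↔ tr2 y = 1 := by
  have e : y ^ 3 = -1 ↔ (-y) ^ 3 = 1 := by
    rw [Odd.neg_pow (by decide : Odd 3), neg_eq_iff_eq_neg]
  rw [e, cube_eq_one_iff, tr2_neg, neg_inj]

theorem pow_nine_eq_one_iff (y : Matrix.SpecialLinearGroup (Fin 2) K) : y ^ 9 = 1 ↔ tr2 y = -1 := by
  have h3 : (3 : K) = 0 := three_eq_zero K
  have e : y ^ 9 = (y ^ 3) ^ 3 := by rw [← pow_mul]
  rw [e, cube_eq_one_iff, tr2_cube]
  constructor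
  · intro h1
    have h2 : (tr2 y + 1) ^ 3 = 0 := by
      linear_combination h1 + (tr2 y ^ 2 + tr2 y) * h3
    have := pow_eq_zero_iff (three_ne_zero) |>.mp h2
    linear_combination this
  · intro h
    rw [h]
    norm_num

theorem pow_nine_eq_neg_one_iff (y : Matrix.SpecialLinearGroup (Fin 2) K) :
    y ^ 9 = -1 ↔ tr2 y = 1 := by
  have e : y ^ 9 = -1 ↔ (-y) ^ 9 = 1 := by
    rw [Odd.neg_pow (by decide : Odd 9), neg_eq_iff_eq_neg]
  rw [e, pow_nine_eq_one_iff, tr2_neg, neg_inj]

theorem pow_18_iff (y : Matrix.SpecialLinearGroup (Fin 2) K) :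
    (y ^ 18 = 1 ∨ y ^ 18 = -1) ↔ (tr2 y = 0 ∨ tr2 y = 1 ∨ tr2 y = -1) := by
  have h3 : (3 : K) = 0 := three_eq_zero K
  constructor
  · intro h
    have h36 : y ^ 36 = 1 := by
      have e : y ^ 36 = y ^ 18 * y ^ 18 := by rw [← pow_add]
      rcases h with h | h
      · rw [e, h, one_mul]
      · rw [e, h, neg_mul_neg, one_mul]
    have e : y ^ 36 = ((y * y) * (y * y)) ^ 9 := by
      rw [← pow_two, ← pow_two, ← pow_mul, ← pow_mul]
    rw [e, pow_nine_eq_one_iff, tr2_mul_self, tr2_mul_self] at h36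
    have h4 : tr2 y ^ 2 * (tr2 y - 1) * (tr2 y + 1) = 0 := by
      linear_combination h36 + (tr2 y ^ 2 - 1) * h3
    rcases mul_eq_zero.mp h4 with h5 | h5
    · rcases mul_eq_zero.mp h5 with h6 | h6
      · left
        exact pow_eq_zero_iff (two_ne_zero) |>.mp h6
      · right; left
        linear_combination h6
    · right; right
      linear_combination h5
  · rintro (h | h | h)
    · right
      have h1 := (sq_eq_neg_one_iff y).mpr h
      have e : y ^ 18 = (y * y) ^ 9 := by rw [← pow_two, ← pow_mul]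
      rw [e, h1, Odd.neg_pow (by decide : Odd 9), one_pow]
    · left
      have h1 := (cube_eq_neg_one_iff y).mpr h
      have e : y ^ 18 = (y ^ 3) ^ 6 := by rw [← pow_mul]
      rw [e, h1, Even.neg_pow (by decide : Even 6), one_pow]
    · left
      have h1 := (cube_eq_one_iff y).mpr h
      have e : y ^ 18 = (y ^ 3) ^ 6 := by rw [← pow_mul]
      rw [e, h1, one_pow]

end powers

end Cfsg.Agent.Helper7.ReeCnt
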