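import Mathlib
import Cfsg.Agent.Helper7.ReeCntA
import Cfsg.Agent.Helper7.ReeCntC
import Cfsg.Agent.Helper7.SL2Sylow

set_option autoImplicit false
set_option linter.unusedSectionVars false
set_option linter.unusedVariables false

/-!
Counting in the centraliser of an involution of the Ree group: its order, and the number of its elements with
`g ^ 3 = 1`, `g ^ 9 = 1`, `g ^ 18 = 1`.
-/

namespace Cfsg.Agent.Helper7.ReeCnt

open Cfsg Cfsg.Lie Matrix Cfsg.Agent.Helper7.Chev Cfsg.Agent.Helper7.ReeAut Cfsg.Agent.Helper7.ReeTor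

theorem card_or {α : Type*} [Finite α] (p q : α → Prop) (h : ∀ a, p a → q a → False) :
    Nat.card {a // p a ∨ q a} = Nat.card {a // p a} + Nat.card {a // q a} := by
  classical
  have hd : Disjoint p q := fun r hrp hrq a hra => h a (hrp a hra) (hrq a hra)
  rw [Nat.card_congr (subtypeOrEquiv p q hd), Nat.card_sum]

theorem card_snd_subtype {Z Y : Type*} [Finite Z] [Finite Y] (P : Y → Prop) :
    Nat.card {a : Z × Y // P a.2} = Nat.card Z * Nat.card {y // P y} := by
  rw [← Nat.card_prod]
  apply Nat.card_congr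
  exact
    { toFun := fun a => (a.1.1, ⟨a.1.2, a.2⟩)
      invFun := fun b => ⟨(b.1, b.2.1), b.2.2⟩
      left_inv := fun a => rfl
      right_inv := fun b => rfl }

theorem card_fst_eq_subtype {Z Y : Type*} [Finite Z] [Finite Y] (z₀ : Z) (P : Y → Prop) :
    Nat.card {a : Z × Y // a.1 = z₀ ∧ P a.2} = Nat.card {y // P y} := by
  apply Nat.card_congr
  refine
    { toFun := fun a => ⟨a.1.2, a.2.2⟩
      invFun := fun b => ⟨(z₀, b.1), rfl, b.2⟩
      left_inv := ?_
      right_inv := fun b => rfl }
  rintro ⟨⟨z, y⟩, h1, h2⟩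
  have : z = z₀ := h1
  subst this
  rfl

section ree

variable {K : Type*} [Field K] [Fintype K] [CharP K 3] {m : ℕ}
  (hK : Fintype.card K = 3 ^ (2 * m + 1))

/-- Counting in the centraliser of the involution through `Z₂ × SL₂`. -/
theorem card_cent_aS (Q : ↥(twistedG2 K (3 ^ m)) → Prop) :
    Nat.card {a : Multiplicative (ZMod 2) × Matrix.SpecialLinearGroup (Fin 2) K // Q (cHom hK a)} =
      Nat.card {u : ↥(twistedG2 K (3 ^ m)) // Q u ∧ aS hK * u = u * aS hK} * 2 := by
  rw [card_preimage_hom (cHom hK) Q, card_ker_cHom]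
  congr 1
  apply Nat.card_congr
  apply Equiv.subtypeEquivRight
  intro g
  rw [mem_range_cHom]
  constructor
  · rintro ⟨h1, h2⟩
    exact ⟨h2, h1.symm⟩
  · rintro ⟨h1, h2⟩
    exact ⟨h2.symm, h1⟩

theorem cHom_pow_eq_one_iff (a : Multiplicative (ZMod 2) × Matrix.SpecialLinearGroup (Fin 2) K) (n : ℕ) :
    cHom hK a ^ n = 1 ↔ a.1 ^ n = 1 ∧ (a.2 ^ n = 1 ∨ a.2 ^ n = -1) := by
  rw [← map_pow, cHom_eq_one_iff]
  rfl

theorem zmod2_pow_three : ∀ z : Multiplicative (ZMod 2), z ^ 3 = 1 ↔ z = 1 := by decide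

theorem zmod2_pow_nine : ∀ z : Multiplicative (ZMod 2), z ^ 9 = 1 ↔ z = 1 := by decide

theorem zmod2_pow_18 : ∀ z : Multiplicative (ZMod 2), z ^ 18 = 1 := by decide

theorem card_mult_zmod2 : Nat.card (Multiplicative (ZMod 2)) = 2 := by
  rw [Nat.card_eq_fintype_card]
  rfl

omit [Fintype K] in
theorem one_ne_neg_one' : (1 : K) ≠ -1 := by
  intro h
  apply two_ne_zero' K
  linear_combination h

include hK in
theorem card_tr2_pm :
    Nat.card {y : Matrix.SpecialLinearGroup (Fin 2) K // tr2 y = -1 ∨ tr2 y = 1} =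
      2 * Fintype.card K ^ 2 := by
  rw [card_or, card_tr2_one, card_tr2_neg_one]
  · ring
  · intro y h1 h2
    rw [h1] at h2
    exact one_ne_neg_one' h2.symm

/-- The number of elements with `g ^ 3 = 1` in the centraliser of the involution. -/
theorem card_cent_cube :
    Nat.card {u : ↥(twistedG2 K (3 ^ m)) // u ^ 3 = 1 ∧ aS hK * u = u * aS hK} = Fintype.card K ^ 2 := by
  have h := card_cent_aS hK (fun u => u ^ 3 = 1)
  have e : Nat.card {a : Multiplicative (ZMod 2) × Matrix.SpecialLinearGroup (Fin 2) K //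
      cHom hK a ^ 3 = 1} = 2 * Fintype.card K ^ 2 := by
    rw [← card_tr2_pm hK, ← card_fst_eq_subtype (Z := Multiplicative (ZMod 2)) 1
      (fun y : Matrix.SpecialLinearGroup (Fin 2) K => tr2 y = -1 ∨ tr2 y = 1)]
    apply Nat.card_congr
    apply Equiv.subtypeEquivRight
    intro a
    rw [cHom_pow_eq_one_iff, zmod2_pow_three, cube_eq_one_iff, cube_eq_neg_one_iff]
  rw [e] at h
  omega

/-- The number of elements with `g ^ 9 = 1` in the centraliser of the involution. -/
theorem card_cent_nine :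
    Nat.card {u : ↥(twistedG2 K (3 ^ m)) // u ^ 9 = 1 ∧ aS hK * u = u * aS hK} = Fintype.card K ^ 2 := by
  have h := card_cent_aS hK (fun u => u ^ 9 = 1)
  have e : Nat.card {a : Multiplicative (ZMod 2) × Matrix.SpecialLinearGroup (Fin 2) K //
      cHom hK a ^ 9 = 1} = 2 * Fintype.card K ^ 2 := by
    rw [← card_tr2_pm hK, ← card_fst_eq_subtype (Z := Multiplicative (ZMod 2)) 1
      (fun y : Matrix.SpecialLinearGroup (Fin 2) K => tr2 y = -1 ∨ tr2 y = 1)]
    apply Nat.card_congr
    apply Equiv.subtypeEquivRight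
    intro a
    rw [cHom_pow_eq_one_iff, zmod2_pow_nine, pow_nine_eq_one_iff, pow_nine_eq_neg_one_iff]
  rw [e] at h
  omega

/-- The number of elements with `g ^ 18 = 1` in the centraliser of the involution. -/
theorem card_cent_18 :
    Nat.card {u : ↥(twistedG2 K (3 ^ m)) // u ^ 18 = 1 ∧ aS hK * u = u * aS hK} =
      3 * Fintype.card K ^ 2 - Fintype.card K := by
  have h := card_cent_aS hK (fun u => u ^ 18 = 1)
  have e : Nat.card {a : Multiplicative (ZMod 2) × Matrix.SpecialLinearGroup (Fin 2) K //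
      cHom hK a ^ 18 = 1} =
      2 * (Fintype.card K * (Fintype.card K - 1) + 2 * Fintype.card K ^ 2) := by
    have e1 : Nat.card {y : Matrix.SpecialLinearGroup (Fin 2) K //
        tr2 y = 0 ∨ (tr2 y = 1 ∨ tr2 y = -1)} =
        Fintype.card K * (Fintype.card K - 1) + 2 * Fintype.card K ^ 2 := by
      rw [card_or, card_tr2_zero hK, card_or, card_tr2_one, card_tr2_neg_one]
      · ring
      · intro y h1 h2
        rw [h1] at h2
        exact one_ne_neg_one' h2
      · intro y h1 h2
        rw [h1] at h2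
        rcases h2 with h2 | h2
        · exact zero_ne_one h2
        · have : (1 : K) = 0 := by
            have h5 := congrArg (fun x : K => -x) h2
            simpa using h5.symm
          exact one_ne_zero this
    rw [← e1]
    have e0 := card_snd_subtype (Z := Multiplicative (ZMod 2))
      (fun y : Matrix.SpecialLinearGroup (Fin 2) K => tr2 y = 0 ∨ (tr2 y = 1 ∨ tr2 y = -1))
    rw [card_mult_zmod2] at e0
    rw [← e0]
    apply Nat.card_congr
    apply Equiv.subtypeEquivRight
    intro a
    rw [cHom_pow_eq_one_iff, pow_18_iff]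
    constructor
    · rintro ⟨_, h⟩
      exact h
    · intro h
      exact ⟨zmod2_pow_18 _, h⟩
  rw [e] at h
  have hq := Fintype.card_pos (α := K)
  have h2 : Fintype.card K * (Fintype.card K - 1) + Fintype.card K = Fintype.card K ^ 2 := by
    obtain ⟨n, hn⟩ : ∃ n, Fintype.card K = n + 1 := ⟨Fintype.card K - 1, by omega⟩
    rw [hn]
    simp only [Nat.add_sub_cancel]
    ring
  have h3 : Fintype.card K ≤ Fintype.card K ^ 2 := by
    rw [pow_two]
    exact Nat.le_mul_of_pos_left _ hq
  omega

/-- The order of the centraliser of the involution. -/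
theorem card_cent_all :
    Nat.card {u : ↥(twistedG2 K (3 ^ m)) // aS hK * u = u * aS hK} =
      Fintype.card K * (Fintype.card K ^ 2 - 1) := by
  have h := card_cent_aS hK (fun u => True)
  have e : Nat.card {a : Multiplicative (ZMod 2) × Matrix.SpecialLinearGroup (Fin 2) K // True} =
      2 * (Fintype.card K * (Fintype.card K ^ 2 - 1)) := by
    rw [Nat.card_congr (Equiv.subtypeUnivEquiv (fun _ => trivial)), Nat.card_prod, card_mult_zmod2,
      Cfsg.Agent.Helper7.SL2.card_SL2]
  rw [e] at h
  have e2 : Nat.card {u : ↥(twistedG2 K (3 ^ m)) // True ∧ aS hK * u = u * aS hK} =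
      Nat.card {u : ↥(twistedG2 K (3 ^ m)) // aS hK * u = u * aS hK} := by
    apply Nat.card_congr
    apply Equiv.subtypeEquivRight
    intro u
    simp
  rw [e2] at h
  omega

end ree

end Cfsg.Agent.Helper7.ReeCnt
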