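import Mathlib
import Cfsg.Agent.Helper7.ReeCntD

set_option autoImplicit false
set_option linter.unusedSectionVars false
set_option linter.unusedVariables false

/-!
The normaliser of the Sylow `3`-subgroup `U¹` of the Ree group, and the number of elements of order `3` and `9`.
-/

namespace Cfsg.Agent.Helper7.ReeCnt

open Cfsg Cfsg.Lie Matrix Cfsg.Agent.Helper7.Chev Cfsg.Agent.Helper7.ReeAut Cfsg.Agent.Helper7.ReeTor

theorem card_and_ne {α : Type*} [Finite α] (P : α → Prop) (a₀ : α) (h : P a₀) :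
    Nat.card {a // P a ∧ a ≠ a₀} + 1 = Nat.card {a // P a} := by
  classical
  have e : Nat.card {a // P a} = Nat.card {a // (P a ∧ a ≠ a₀) ∨ a = a₀} := by
    apply Nat.card_congr
    apply Equiv.subtypeEquivRight
    intro a
    constructor
    · intro ha
      by_cases h' : a = a₀
      · exact Or.inr h'
      · exact Or.inl ⟨ha, h'⟩
    · rintro (⟨ha, _⟩ | rfl)
      · exact ha
      · exact h
  rw [e, card_or]
  · congr 1
    symm
    rw [Nat.card_eq_one_iff_unique]
    exact ⟨⟨fun a b => Subtype.ext (a.2.trans b.2.symm)⟩, ⟨⟨a₀, rfl⟩⟩⟩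
  · rintro a ⟨_, h1⟩ h2
    exact h1 h2

theorem card_and_not {α : Type*} [Finite α] (P Q : α → Prop) (h : ∀ a, Q a → P a) :
    Nat.card {a // P a ∧ ¬ Q a} + Nat.card {a // Q a} = Nat.card {a // P a} := by
  classical
  have e : Nat.card {a // P a} = Nat.card {a // (P a ∧ ¬ Q a) ∨ Q a} := by
    apply Nat.card_congr
    apply Equiv.subtypeEquivRight
    intro a
    constructor
    · intro ha
      by_cases h' : Q a
      · exact Or.inr h'
      · exact Or.inl ⟨ha, h'⟩
    · rintro (⟨ha, _⟩ | ha)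
      · exact ha
      · exact h a ha
  rw [e, card_or]
  rintro a ⟨_, h1⟩ h2
  exact h1 h2

section ree

variable {K : Type*} [Field K] [Fintype K] [CharP K 3] {m : ℕ}
  (hK : Fintype.card K = 3 ^ (2 * m + 1))

/-- The Borel subgroup of the Ree group. -/
def borelS (K : Type*) [Field K] (m : ℕ) : Subgroup ↥(twistedG2 K (3 ^ m)) :=
  (chevG2.borelSubgroup K).subgroupOf (twistedG2 K (3 ^ m))

omit [Fintype K] [CharP K 3] in
theorem mem_borelS (x : ↥(twistedG2 K (3 ^ m))) :
    x ∈ borelS K m ↔ (x : GL chevG2.Idx K) ∈ chevG2.borelSubgroup K := Subgroup.mem_subgroupOf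

include hK

theorem card_borelS : Nat.card ↥(borelS K m) = Fintype.card K ^ 3 * (Fintype.card K - 1) := by
  have e : Nat.card (K × K × K × Kˣ) = Fintype.card K ^ 3 * (Fintype.card K - 1) := by
    rw [Nat.card_prod, Nat.card_prod, Nat.card_prod, Nat.card_units, Nat.card_eq_fintype_card]
    ring
  rw [← e]
  symm
  apply Nat.card_congr
  apply Equiv.ofBijective
    (fun p : K × K × K × Kˣ => (⟨ruS m p.1 p.2.1 p.2.2.1 * ghS hK p.2.2.2,
      (mem_borelS _).mpr ((mem_borel_iff hK _).mpr ⟨_, _, _, _, rfl⟩)⟩ : ↥(borelS K m)))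
  constructor
  · rintro ⟨t, u, v, s⟩ ⟨t', u', v', s'⟩ h
    have h1 : ruS m t u v * ghS hK s = ruS m t' u' v' * ghS hK s' := congrArg Subtype.val h
    obtain ⟨h2, h3⟩ := ruS_mul_ghS_injective hK h1
    obtain ⟨h4, h5, h6⟩ := ruS_injective h2
    rw [h3, h4, h5, h6]
  · rintro ⟨x, hx⟩
    obtain ⟨t, u, v, s, rfl⟩ := (mem_borel_iff hK x).mp ((mem_borelS x).mp hx)
    exact ⟨(t, u, v, s), rfl⟩

/-- The normaliser of `U¹` is the Borel subgroup. -/
theorem normalizer_rU' : Subgroup.normalizer (rU' K m : Set ↥(twistedG2 K (3 ^ m))) = borelS K m := by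
  ext x
  constructor
  · intro hx
    rw [mem_borelS]
    apply mem_borel_of_normalizes hK
    intro u hu
    have := (Subgroup.mem_normalizer_iff''.mp hx u).mp ((mem_rU' u).mpr hu)
    exact (mem_rU' _).mp this
  · intro hx
    apply Subgroup.mem_normalizer_fintype
    intro n hn
    have hn' : n ∈ rU' K m := hn
    have h1 := borel_le_normalizer_pos (F := K) good3_G2.toGood2 ((mem_borelS x).mp hx)
    have h2 := (Subgroup.mem_set_normalizer_iff.mp h1 _).mp ((mem_rU' n).mp hn')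
    show x * n * x⁻¹ ∈ rU' K m
    rw [mem_rU']
    exact h2

theorem card_normalizer_rU' :
    Nat.card ↥(Subgroup.normalizer (rU' K m : Set ↥(twistedG2 K (3 ^ m)))) =
      Fintype.card K ^ 3 * (Fintype.card K - 1) := by
  rw [normalizer_rU' hK, card_borelS hK]

/-- An element conjugating a non-trivial element of `U¹` into `U¹` normalises `U¹`. -/
theorem mem_normalizer_rU'_of_conj {y g : ↥(twistedG2 K (3 ^ m))} (hy : y ∈ rU' K m) (hy1 : y ≠ 1)
    (hg : g⁻¹ * y * g ∈ rU' K m) :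
    g ∈ Subgroup.normalizer (rU' K m : Set ↥(twistedG2 K (3 ^ m))) := by
  rw [normalizer_rU' hK, mem_borelS]
  by_contra hgB
  apply hy1
  apply Subtype.ext
  have := ree_TI (pow_card_three hK) g.2 hgB ((mem_rU' y).mp hy) ((mem_rU' _).mp hg)
  exact this

theorem mem_rU'_iff (y : ↥(twistedG2 K (3 ^ m))) : y ∈ rU' K m ↔ ∃ t u v : K, y = ruS m t u v := by
  rw [mem_rU', mem_pos_iff hK]

/-- The elements of `U¹` with trivial cube. -/
theorem card_rU'_cube :
    Nat.card {y : ↥(twistedG2 K (3 ^ m)) // y ∈ rU' K m ∧ y ^ 3 = 1} = Fintype.card K ^ 2 := by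
  have e : Nat.card (K × K) = Fintype.card K ^ 2 := by
    rw [Nat.card_prod, Nat.card_eq_fintype_card]
    ring
  rw [← e]
  symm
  apply Nat.card_congr
  apply Equiv.ofBijective
    (fun p : K × K => (⟨ruS m 0 p.1 p.2, (mem_rU'_iff hK _).mpr ⟨_, _, _, rfl⟩, by
      rw [ruS_cube hK]
      simp [ruS_zero]⟩ : {y : ↥(twistedG2 K (3 ^ m)) // y ∈ rU' K m ∧ y ^ 3 = 1}))
  constructor
  · rintro ⟨u, v⟩ ⟨u', v'⟩ h
    have h1 : ruS m 0 u v = ruS m 0 u' v' := congrArg Subtype.val h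
    obtain ⟨_, h5, h6⟩ := ruS_injective h1
    rw [h5, h6]
  · rintro ⟨y, hy, hy3⟩
    obtain ⟨t, u, v, rfl⟩ := (mem_rU'_iff hK y).mp hy
    have ht := ruS_cube_eq_one hK hy3
    subst ht
    exact ⟨(u, v), rfl⟩

theorem pow_nine_of_mem_rU' {y : ↥(twistedG2 K (3 ^ m))} (hy : y ∈ rU' K m) : y ^ 9 = 1 := by
  obtain ⟨t, u, v, rfl⟩ := (mem_rU'_iff hK y).mp hy
  exact ruS_pow_nine hK t u v

omit hK in
theorem orderOf_eq_three_iff {G : Type*} [Group G] (y : G) : orderOf y = 3 ↔ y ^ 3 = 1 ∧ y ≠ 1 := by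
  have : Fact (Nat.Prime 3) := ⟨Nat.prime_three⟩
  exact orderOf_eq_prime_iff

omit hK in
theorem orderOf_eq_nine_iff {G : Type*} [Group G] (y : G) : orderOf y = 9 ↔ y ^ 9 = 1 ∧ ¬ y ^ 3 = 1 := by
  have : Fact (Nat.Prime 3) := ⟨Nat.prime_three⟩
  constructor
  · intro h
    refine ⟨by rw [← h]; exact pow_orderOf_eq_one y, ?_⟩
    intro h3
    have := orderOf_dvd_of_pow_eq_one h3
    rw [h] at this
    omega
  · rintro ⟨h9, h3⟩
    have := orderOf_eq_prime_pow (p := 3) (n := 1) (x := y) (by simpa using h3) (by simpa using h9)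
    simpa using this

/-- The number of elements of order `3` of `U¹`. -/
theorem card_rU'_order_three :
    Nat.card {y : ↥(twistedG2 K (3 ^ m)) // y ∈ rU' K m ∧ orderOf y = 3} + 1 = Fintype.card K ^ 2 := by
  rw [← card_rU'_cube hK, ← card_and_ne (fun y => y ∈ rU' K m ∧ y ^ 3 = 1) 1 ⟨one_mem _, one_pow 3⟩]
  congr 1
  apply Nat.card_congr
  apply Equiv.subtypeEquivRight
  intro y
  rw [orderOf_eq_three_iff]
  tauto

/-- The number of elements of order `9` of `U¹`. -/
theorem card_rU'_order_nine :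
    Nat.card {y : ↥(twistedG2 K (3 ^ m)) // y ∈ rU' K m ∧ orderOf y = 9} + Fintype.card K ^ 2 =
      Fintype.card K ^ 3 := by
  have h1 : Nat.card {y : ↥(twistedG2 K (3 ^ m)) // y ∈ rU' K m} = Fintype.card K ^ 3 := by
    have := card_rU' (K := K) (m := m) hK
    rw [← hK] at this
    exact this
  rw [← card_rU'_cube hK, ← h1,
    ← card_and_not (fun y : ↥(twistedG2 K (3 ^ m)) => y ∈ rU' K m) (fun y => y ∈ rU' K m ∧ y ^ 3 = 1)
      (fun y hy => hy.1)]
  congr 1
  apply Nat.card_congr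
  apply Equiv.subtypeEquivRight
  intro y
  rw [orderOf_eq_nine_iff]
  constructor
  · rintro ⟨h1, _, h3⟩
    exact ⟨h1, fun h => h3 h.2⟩
  · rintro ⟨h1, h2⟩
    exact ⟨h1, pow_nine_of_mem_rU' hK h1, fun h => h2 ⟨h1, h⟩⟩

end ree

end Cfsg.Agent.Helper7.ReeCnt
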