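import Mathlib
import Cfsg.Agent.Helper7.ReeCntE

set_option autoImplicit false
set_option linter.unusedSectionVars false
set_option linter.unusedVariables false

/-!
The normaliser of the split torus `H¹` of the Ree group has order `2 (q - 1)`.
-/

namespace Cfsg.Agent.Helper7.ReeCnt

open Cfsg Cfsg.Lie Matrix Cfsg.Agent.Helper7.Chev Cfsg.Agent.Helper7.ReeAut Cfsg.Agent.Helper7.ReeTor
  Cfsg.Agent.Helper7.ReeCyc

section ree

variable {K : Type*} [Field K] [Fintype K] [CharP K 3] {m : ℕ}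
  (hK : Fintype.card K = 3 ^ (2 * m + 1))

include hK

theorem ree_card_ge (hm : 1 ≤ m) : 27 ≤ Fintype.card K := by
  rw [hK]
  calc 27 = 3 ^ 3 := by norm_num
    _ ≤ 3 ^ (2 * m + 1) := Nat.pow_le_pow_right (by norm_num) (by omega)

theorem exists_unit_sq_ne_one (hm : 1 ≤ m) : ∃ s : Kˣ, (s : K) ^ 2 ≠ 1 := by
  obtain ⟨g, hg⟩ := IsCyclic.exists_generator (α := Kˣ)
  refine ⟨g, fun h => ?_⟩
  have h1 : g ^ 2 = 1 := by
    apply Units.ext
    rw [Units.val_pow_eq_pow_val, h, Units.val_one]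
  have h2 := orderOf_dvd_of_pow_eq_one h1
  rw [orderOf_eq_card_of_forall_mem_zpowers hg, Nat.card_units, Nat.card_eq_fintype_card] at h2
  have h3 := Nat.le_of_dvd (by norm_num) h2
  have := ree_card_ge hK hm
  omega

theorem mem_split (g : ↥(twistedG2 K (3 ^ m))) : g ∈ (ghHom hK).range ↔ ∃ s : Kˣ, g = ghS hK s := by
  constructor
  · rintro ⟨s, rfl⟩
    exact ⟨s, rfl⟩
  · rintro ⟨s, rfl⟩
    exact ⟨s, rfl⟩

theorem unit_sq_ne_one_inv {s : Kˣ} (hs : (s : K) ^ 2 ≠ 1) : ((s⁻¹ : Kˣ) : K) ^ 2 ≠ 1 := by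
  intro h
  apply hs
  have h1 : (s⁻¹ : Kˣ) ^ 2 = 1 := by
    apply Units.ext
    rw [Units.val_pow_eq_pow_val, h, Units.val_one]
  have h2 : s ^ 2 = 1 := by
    rw [inv_pow, inv_eq_one] at h1
    exact h1
  have := congrArg Units.val h2
  rwa [Units.val_pow_eq_pow_val, Units.val_one] at this

/-- The elements normalising the split torus. -/
theorem mem_normalizer_split (hm : 1 ≤ m) {n₀ : ↥(twistedG2 K (3 ^ m))}
    (hn₀ : (n₀ : GL chevG2.Idx K) ∈ chevG2.monomialSubgroup K)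
    (hn₀H : (n₀ : GL chevG2.Idx K) ∉ chevG2.diagonalSubgroup K)
    (g : ↥(twistedG2 K (3 ^ m)))
    (hg : g ∈ Subgroup.normalizer ((ghHom hK).range : Set ↥(twistedG2 K (3 ^ m)))) :
    g ∈ (ghHom hK).range ∨ n₀⁻¹ * g ∈ (ghHom hK).range := by
  obtain ⟨s₀, hs₀⟩ := exists_unit_sq_ne_one hK hm
  have h1 : g * ghS hK s₀ * g⁻¹ ∈ (ghHom hK).range :=
    (Subgroup.mem_normalizer_iff.mp hg _).mp ⟨s₀, rfl⟩
  obtain ⟨s₁, hs₁⟩ := (mem_split hK _).mp h1
  have hs₁2 : (s₁ : K) ^ 2 ≠ 1 := by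
    intro h
    apply hs₀
    have e1 : s₁ ^ 2 = 1 := by
      apply Units.ext
      rw [Units.val_pow_eq_pow_val, h, Units.val_one]
    have e2 : (g * ghS hK s₀ * g⁻¹) ^ 2 = 1 := by
      rw [hs₁, ghS_pow, e1, ghS_one]
    rw [conj_pow, ghS_pow] at e2
    have e3 : ghS hK (s₀ ^ 2) = 1 := by
      have : ghS hK (s₀ ^ 2) = g⁻¹ * (g * ghS hK (s₀ ^ 2) * g⁻¹) * g := by group
      rw [this, e2]
      group
    rw [← ghS_one hK] at e3
    have := congrArg Units.val (ghS_injective hK e3)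
    rwa [Units.val_pow_eq_pow_val, Units.val_one] at this
  have hcomm : g * ghS hK s₀ = ghS hK s₁ * g := by
    rw [← hs₁]
    group
  rcases cover_S hK hn₀ hn₀H g with ⟨t, u, v, s, rfl⟩ | ⟨t, u, v, s, t', u', v', rfl⟩
  · left
    have e1 : ruS m t u v * ghS hK (s * s₀) =
        ruS m ((ghChi K m s₁ 6 : K) * t) ((ghChi K m s₁ 10 : K) * u) ((s₁ : K) * v) *
          ghS hK (s₁ * s) := by
      rw [← ghS_conj_ruS hK, ← ghS_mul hK, ← ghS_mul hK]
      calc ruS m t u v * (ghS hK s * ghS hK s₀) = ruS m t u v * ghS hK s * ghS hK s₀ := by group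
        _ = ghS hK s₁ * (ruS m t u v * ghS hK s) := hcomm
        _ = ghS hK s₁ * ruS m t u v * (ghS hK s₁)⁻¹ * (ghS hK s₁ * ghS hK s) := by group
    obtain ⟨e2, _⟩ := ruS_mul_ghS_injective hK e1
    have e3 : ruS m t u v = 1 := by
      apply ruS_eq_one_of_comm hK hs₁2
      rw [ghS_conj_ruS hK]
      exact e2.symm
    rw [e3, one_mul]
    exact ⟨s, rfl⟩
  · right
    obtain ⟨s₀', hs₀'⟩ := conj_ghS_of_monomial hK hn₀ s₀
    have e1 : ruS m t u v * ghS hK (s * s₀') * n₀ *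
        ruS m ((ghChi K m s₀⁻¹ 6 : K) * t') ((ghChi K m s₀⁻¹ 10 : K) * u') (((s₀⁻¹ : Kˣ) : K) * v') =
        ruS m ((ghChi K m s₁ 6 : K) * t) ((ghChi K m s₁ 10 : K) * u) ((s₁ : K) * v) *
          ghS hK (s₁ * s) * n₀ * ruS m t' u' v' := by
      rw [← ghS_conj_ruS hK, ← ghS_conj_ruS hK, ← ghS_mul hK, ← ghS_mul hK, ← hs₀', ← ghS_inv hK]
      calc ruS m t u v * (ghS hK s * (n₀ * ghS hK s₀ * n₀⁻¹)) * n₀ *
            ((ghS hK s₀)⁻¹ * ruS m t' u' v' * (ghS hK s₀)⁻¹⁻¹)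
          = ruS m t u v * ghS hK s * n₀ * ruS m t' u' v' * ghS hK s₀ := by group
        _ = ghS hK s₁ * (ruS m t u v * ghS hK s * n₀ * ruS m t' u' v') := hcomm
        _ = ghS hK s₁ * ruS m t u v * (ghS hK s₁)⁻¹ * (ghS hK s₁ * ghS hK s) * n₀ *
            ruS m t' u' v' := by group
    obtain ⟨e2, _, e4⟩ := cell_unique_S hK hn₀ hn₀H e1
    have e5 : ruS m t u v = 1 := by
      apply ruS_eq_one_of_comm hK hs₁2
      rw [ghS_conj_ruS hK]
      exact e2.symm
    have e6 : ruS m t' u' v' = 1 := by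
      apply ruS_eq_one_of_comm hK (unit_sq_ne_one_inv hK hs₀)
      rw [ghS_conj_ruS hK]
      exact e4
    rw [e5, e6, one_mul, mul_one]
    have hn₀' : ((n₀⁻¹ : ↥(twistedG2 K (3 ^ m))) : GL chevG2.Idx K) ∈ chevG2.monomialSubgroup K := by
      rw [Subgroup.coe_inv]
      exact inv_mem hn₀
    obtain ⟨s', hs'⟩ := conj_ghS_of_monomial hK hn₀' s
    rw [inv_inv] at hs'
    refine ⟨s', ?_⟩
    show ghS hK s' = n₀⁻¹ * (ghS hK s * n₀)
    rw [← hs']
    group

/-- The order of the normaliser of the split torus. -/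
theorem card_normalizer_split (hm : 1 ≤ m) :
    Nat.card ↥(Subgroup.normalizer ((ghHom hK).range : Set ↥(twistedG2 K (3 ^ m)))) =
      2 * (Fintype.card K - 1) := by
  obtain ⟨x₀, hn₀, hn₀H⟩ := exists_n0 (m := m) hK
  set n₀ := rPhi K m x₀ with hn₀def
  set N := Subgroup.normalizer ((ghHom hK).range : Set ↥(twistedG2 K (3 ^ m))) with hN
  have hn₀N : n₀ ∈ N := by
    apply Subgroup.mem_normalizer_fintype
    rintro _ ⟨s, rfl⟩
    obtain ⟨s', hs'⟩ := conj_ghS_of_monomial hK hn₀ s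
    exact ⟨s', hs'.symm⟩
  have hn₀notH : n₀ ∉ (ghHom hK).range := by
    rintro ⟨s, hs⟩
    apply hn₀H
    rw [← hs]
    exact gh_mem_diagonal s
  have hset : (N : Set ↥(twistedG2 K (3 ^ m))) =
      ((ghHom hK).range : Set ↥(twistedG2 K (3 ^ m))) ∪
        (fun h => n₀ * h) '' ((ghHom hK).range : Set ↥(twistedG2 K (3 ^ m))) := by
    ext g
    constructor
    · intro hg
      rcases mem_normalizer_split hK hm hn₀ hn₀H g hg with h | h
      · exact Or.inl h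
      · refine Or.inr ⟨n₀⁻¹ * g, h, ?_⟩
        show n₀ * (n₀⁻¹ * g) = g
        group
    · rintro (h | ⟨h, hh, rfl⟩)
      · exact Subgroup.le_normalizer h
      · exact N.mul_mem hn₀N (Subgroup.le_normalizer hh)
  have hdisj : Disjoint ((ghHom hK).range : Set ↥(twistedG2 K (3 ^ m)))
      ((fun h => n₀ * h) '' ((ghHom hK).range : Set ↥(twistedG2 K (3 ^ m)))) := by
    rw [Set.disjoint_left]
    rintro g hg ⟨h, hh, rfl⟩
    apply hn₀notH
    have : n₀ = (n₀ * h) * h⁻¹ := by group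
    rw [this]
    exact (ghHom hK).range.mul_mem hg ((ghHom hK).range.inv_mem hh)
  have hcard : Nat.card ↥N = (N : Set ↥(twistedG2 K (3 ^ m))).ncard :=
    Nat.card_coe_set_eq (N : Set ↥(twistedG2 K (3 ^ m)))
  rw [hcard, hset, Set.ncard_union_eq hdisj (Set.toFinite _) (Set.toFinite _),
    Set.ncard_image_of_injective _ (mul_right_injective n₀)]
  have hH : ((ghHom hK).range : Set ↥(twistedG2 K (3 ^ m))).ncard = Fintype.card K - 1 := by
    rw [← card_range_ghHom hK]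
    exact (Nat.card_coe_set_eq _).symm
  rw [hH]
  ring

end ree

end Cfsg.Agent.Helper7.ReeCnt
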