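import Mathlib

set_option autoImplicit false
set_option linter.unusedSectionVars false
set_option linter.unusedVariables false

/-!
Linear algebra of the regular representation of a commutative algebra generated by one element:
the matrices commuting with the matrix of a generator are the matrices of the algebra, and a matrix
conjugating the matrix of `a` into the matrix of `a'` transports the polynomial relations of `a` to `a'`.
-/

namespace Cfsg.Agent.Helper7.ReeLin

open Matrix Polynomial

section general

variable {K A : Type*} [Field K] [CommRing A] [Algebra K A]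

/-- An endomorphism commuting with the multiplication by a generator is a multiplication. -/
theorem end_eq_lmul {a : A} (ha : Algebra.adjoin K {a} = ⊤) (φ : A →ₗ[K] A)
    (hφ : φ * Algebra.lmul K A a = Algebra.lmul K A a * φ) : φ = Algebra.lmul K A (φ 1) := by
  have hle : Algebra.adjoin K {a} ≤ (Subalgebra.centralizer K {φ}).comap (Algebra.lmul K A) := by
    apply Algebra.adjoin_le
    intro b hb
    rw [Set.mem_singleton_iff] at hb
    subst hb
    rw [SetLike.mem_coe, Subalgebra.mem_comap, Subalgebra.mem_centralizer_iff]
    intro g hg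
    rw [Set.mem_singleton_iff] at hg
    subst hg
    exact hφ
  rw [ha] at hle
  ext b
  have hb : b ∈ (Subalgebra.centralizer K {φ}).comap (Algebra.lmul K A) := hle Algebra.mem_top
  rw [Subalgebra.mem_comap, Subalgebra.mem_centralizer_iff] at hb
  have h1 := hb φ rfl
  have h2 := LinearMap.congr_fun h1 1
  simp only [Module.End.mul_apply, Algebra.lmul_algebraMap, Algebra.coe_lmul_eq_mul,
    LinearMap.mul_apply', mul_one] at h2
  rw [h2, Algebra.coe_lmul_eq_mul, LinearMap.mul_apply', mul_comm]

variable {ι : Type*} [Fintype ι] [DecidableEq ι] (bas : Module.Basis ι K A)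

/-- A matrix commuting with the matrix of a generator is the matrix of an element of the algebra. -/
theorem comm_leftMulMatrix {a : A} (ha : Algebra.adjoin K {a} = ⊤) (Y : Matrix ι ι K)
    (hY : Y * Algebra.leftMulMatrix bas a = Algebra.leftMulMatrix bas a * Y) :
    ∃ b : A, Y = Algebra.leftMulMatrix bas b := by
  set φ : A →ₗ[K] A := Matrix.toLin bas bas Y with hφ
  have h1 : φ * Algebra.lmul K A a = Algebra.lmul K A a * φ := by
    apply (LinearMap.toMatrix bas bas).injective
    rw [Module.End.mul_eq_comp, Module.End.mul_eq_comp, LinearMap.toMatrix_comp bas bas bas,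
      LinearMap.toMatrix_comp bas bas bas, hφ, LinearMap.toMatrix_toLin,
      ← Algebra.leftMulMatrix_apply]
    exact hY
  refine ⟨φ 1, ?_⟩
  have h2 := end_eq_lmul ha φ h1
  rw [Algebra.leftMulMatrix_apply, ← h2, hφ, LinearMap.toMatrix_toLin]

/-- A matrix conjugating the matrix of `a` into the matrix of `a'` transports the polynomial
relations. -/
theorem aeval_eq_zero_of_conj {a a' : A} (Y : (Matrix ι ι K)ˣ)
    (hY : (Y : Matrix ι ι K) * Algebra.leftMulMatrix bas a * ((Y⁻¹ : (Matrix ι ι K)ˣ) : Matrix ι ι K) =
      Algebra.leftMulMatrix bas a') (P : K[X]) (hP : aeval a P = 0) : aeval a' P = 0 := by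
  have hpow : ∀ k : ℕ, (Y : Matrix ι ι K) * Algebra.leftMulMatrix bas (a ^ k) *
      ((Y⁻¹ : (Matrix ι ι K)ˣ) : Matrix ι ι K) = Algebra.leftMulMatrix bas (a' ^ k) := by
    intro k
    induction k with
    | zero => simp
    | succ k ih =>
      rw [pow_succ, pow_succ, map_mul, map_mul, ← ih, ← hY]
      simp only [Matrix.mul_assoc]
      congr 2
      rw [← Matrix.mul_assoc ((Y⁻¹ : (Matrix ι ι K)ˣ) : Matrix ι ι K), ← Units.val_mul,
        inv_mul_cancel, Units.val_one, Matrix.one_mul]
  have h1 : (Y : Matrix ι ι K) * Algebra.leftMulMatrix bas (aeval a P) *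
      ((Y⁻¹ : (Matrix ι ι K)ˣ) : Matrix ι ι K) = Algebra.leftMulMatrix bas (aeval a' P) := by
    rw [aeval_eq_sum_range, aeval_eq_sum_range, map_sum, map_sum, Finset.mul_sum, Finset.sum_mul]
    apply Finset.sum_congr rfl
    intro k _
    rw [map_smul, map_smul, Matrix.mul_smul, Matrix.smul_mul, hpow]
  rw [hP, map_zero, Matrix.mul_zero, Matrix.zero_mul] at h1
  exact Algebra.leftMulMatrix_injective bas (by rw [← h1, map_zero])

end general

end Cfsg.Agent.Helper7.ReeLin
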