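import Mathlib
import Cfsg.Agent.Helper7.GLCycA

set_option autoImplicit false
set_option linter.unusedSectionVars false
set_option linter.unusedVariables false

/-!
Generators of the algebra `L × K`, `L` a finite extension of the finite field `K`: an element `μ` of `L`
of prime order `p`, `p` not dividing `q ^ i - 1` for `i < [L : K]`, generates `L`, and `(μ, 1)` generates
`L × K`.
-/

namespace Cfsg.Agent.Helper7.ReeLin

open Matrix Polynomial Cfsg.Agent.Helper7.GLCyc

section field

variable (K : Type*) [Field K] [Fintype K] (p₀ : ℕ) [Fact p₀.Prime] [CharP K p₀] (d : ℕ) [NeZero d]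

/-- An element of prime order `p`, `p` not dividing `q ^ i - 1` for `i < d`, generates the extension of
degree `d`. -/
theorem adjoin_eq_top {p : ℕ} (hp : p.Prime) {μ : (FiniteField.Extension K p₀ d)ˣ}
    (hμ : orderOf μ = p) (h : ∀ i, 1 ≤ i → i < d → ¬ p ∣ Fintype.card K ^ i - 1) :
    Algebra.adjoin K {((μ : (FiniteField.Extension K p₀ d)ˣ) : FiniteField.Extension K p₀ d)} = ⊤ := by
  set L := FiniteField.Extension K p₀ d with hL
  set E := IntermediateField.adjoin K {((μ : Lˣ) : L)} with hE
  have hmem : ((μ : Lˣ) : L) ∈ E := IntermediateField.mem_adjoin_simple_self K _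
  have hcard : Nat.card E = Nat.card K ^ Module.finrank K E := Module.natCard_eq_pow_finrank
  have hle : Module.finrank K E ≤ d := by
    have := Submodule.finrank_le E.toSubalgebra.toSubmodule
    rw [FiniteField.finrank_extension] at this
    exact this
  have hpos : 1 ≤ Module.finrank K E := Module.finrank_pos
  -- `μ` as a unit of `E`
  have hne : (⟨(μ : L), hmem⟩ : E) ≠ 0 := by
    intro h0
    have := congrArg Subtype.val h0
    exact μ.ne_zero this
  set μE : Eˣ := Units.mk0 ⟨(μ : L), hmem⟩ hne with hμE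
  have hord : orderOf μE = p := by
    rw [← hμ]
    have hinj : Function.Injective (Units.map (E.val : E →* L)) :=
      Units.map_injective (f := (E.val : E →* L)) Subtype.val_injective
    rw [← orderOf_injective (Units.map (E.val : E →* L)) hinj μE]
    congr 1
    exact Units.ext rfl
  have hdvd : p ∣ Nat.card K ^ Module.finrank K E - 1 := by
    have := orderOf_dvd_natCard μE
    rwa [hord, Nat.card_units, hcard] at this
  have hd : Module.finrank K E = d := by
    by_contra hne'
    have hlt : Module.finrank K E < d := lt_of_le_of_ne hle hne'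
    have := h _ hpos hlt
    rw [Nat.card_eq_fintype_card] at hdvd
    exact this hdvd
  have htop : E.toSubalgebra.toSubmodule = ⊤ := by
    apply Submodule.eq_top_of_finrank_eq
    rw [FiniteField.finrank_extension]
    exact hd
  have halg : IsAlgebraic K ((μ : Lˣ) : L) := Algebra.IsAlgebraic.isAlgebraic _
  rw [← IntermediateField.adjoin_simple_toSubalgebra_of_isAlgebraic halg]
  apply Subalgebra.toSubmodule_injective
  rw [htop]
  rfl

/-- The element `(μ, 1)` generates the algebra `L × K`. -/
theorem adjoin_pair_eq_top {p : ℕ} (hp : p.Prime) (hpK : ((p : ℕ) : K) ≠ 0)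
    {μ : (FiniteField.Extension K p₀ d)ˣ}
    (hμ : orderOf μ = p) (h : ∀ i, 1 ≤ i → i < d → ¬ p ∣ Fintype.card K ^ i - 1) :
    Algebra.adjoin K {((((μ : (FiniteField.Extension K p₀ d)ˣ) : FiniteField.Extension K p₀ d),
      (1 : Fin 1 → K)) : Alg K p₀ d 1)} = ⊤ := by
  set L := FiniteField.Extension K p₀ d with hL
  set a : Alg K p₀ d 1 := (((μ : Lˣ) : L), (1 : Fin 1 → K)) with ha
  set S := Algebra.adjoin K {a} with hS
  have haS : a ∈ S := Algebra.self_mem_adjoin_singleton K a
  have hμp : ((μ : Lˣ) : L) ^ p = 1 := by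
    rw [← Units.val_pow_eq_pow_val, ← hμ, pow_orderOf_eq_one, Units.val_one]
  have hμ1 : ((μ : Lˣ) : L) ≠ 1 := by
    intro h1
    have : μ = 1 := Units.ext h1
    rw [this, orderOf_one] at hμ
    exact hp.one_lt.ne hμ
  -- the idempotent `(0, 1)`
  have he₀ : (∑ i ∈ Finset.range p, a ^ i) = ((0 : L), fun _ => ((p : ℕ) : K)) := by
    refine Prod.ext ?_ ?_
    · rw [Prod.fst_sum]
      simp only [Prod.pow_fst, ha]
      have hg := geom_sum_mul ((μ : Lˣ) : L) p
      rw [hμp, sub_self] at hg
      exact (mul_eq_zero.mp hg).resolve_right (sub_ne_zero.mpr hμ1)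
    · rw [Prod.snd_sum]
      simp only [Prod.pow_snd, ha, one_pow]
      funext j
      simp
  have h01 : ((0 : L), (1 : Fin 1 → K)) ∈ S := by
    have h1 : (∑ i ∈ Finset.range p, a ^ i) ∈ S :=
      Subalgebra.sum_mem _ (fun i _ => Subalgebra.pow_mem _ haS i)
    rw [he₀] at h1
    have h2 := Subalgebra.smul_mem S h1 (((p : ℕ) : K)⁻¹)
    have e : (((p : ℕ) : K)⁻¹) • (((0 : L), fun _ => ((p : ℕ) : K)) : Alg K p₀ d 1) =
        ((0 : L), (1 : Fin 1 → K)) := by
      refine Prod.ext ?_ ?_
      · simp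
      · funext j
        simp [hpK]
    rwa [e] at h2
  have h10 : ((1 : L), (0 : Fin 1 → K)) ∈ S := by
    have h1 : (1 : Alg K p₀ d 1) - ((0 : L), (1 : Fin 1 → K)) ∈ S := Subalgebra.sub_mem _ (one_mem _) h01
    have e : (1 : Alg K p₀ d 1) - ((0 : L), (1 : Fin 1 → K)) = ((1 : L), (0 : Fin 1 → K)) := by
      refine Prod.ext ?_ ?_ <;> simp
    rwa [e] at h1
  have hμtop := adjoin_eq_top K p₀ d hp hμ h
  rw [eq_top_iff]
  rintro ⟨l, k⟩ -
  have hl : l ∈ Algebra.adjoin K {((μ : Lˣ) : L)} := by
    rw [hμtop]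
    exact Algebra.mem_top
  rw [Algebra.adjoin_singleton_eq_range_aeval] at hl
  obtain ⟨Q, hQ⟩ := hl
  have h1 : aeval a Q ∈ S := aeval_mem_adjoin_singleton K a
  have h2 : (aeval a Q).1 = l := by
    have := aeval_algHom_apply (AlgHom.fst K L (Fin 1 → K)) a Q
    rw [AlgHom.fst_apply, AlgHom.fst_apply] at this
    rw [← this]
    exact hQ
  have h3 : (aeval a Q * ((1 : L), (0 : Fin 1 → K)) : Alg K p₀ d 1) = (l, 0) := by
    refine Prod.ext ?_ ?_
    · simp [h2]
    · simp
  have h4 : ((l, 0) : Alg K p₀ d 1) ∈ S := by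
    rw [← h3]
    exact Subalgebra.mul_mem _ h1 h10
  have h5 : (((0 : L), k) : Alg K p₀ d 1) ∈ S := by
    have := Subalgebra.smul_mem S h01 (k 0)
    have e : (k 0) • (((0 : L), (1 : Fin 1 → K)) : Alg K p₀ d 1) = ((0 : L), k) := by
      refine Prod.ext ?_ ?_
      · simp
      · funext j
        have : j = 0 := Subsingleton.elim _ _
        subst this
        simp
    rwa [e] at this
  have e : ((l, k) : Alg K p₀ d 1) = (l, 0) + (0, k) := by
    refine Prod.ext ?_ ?_ <;> simp
  rw [e]
  exact Subalgebra.add_mem _ h4 h5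

end field

end Cfsg.Agent.Helper7.ReeLin
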