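import Mathlib
import Cfsg.Agent.Helper7.ReeLinA
import Cfsg.Agent.Helper7.ReeLinB
import Cfsg.Agent.Helper7.ReeTorH

set_option autoImplicit false
set_option linter.unusedSectionVars false
set_option linter.unusedVariables false

/-!
Centralisers of elements of prime order `p` in a group embedded in `GL_{d+1}(q)`, `p` a primitive prime
divisor of `q ^ d - 1` not dividing `q ^ (d + 1) - 1`: they are commutative.
-/

namespace Cfsg.Agent.Helper7.ReeLin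

open Matrix Polynomial Cfsg.Agent.Helper7.GLCyc Cfsg.Agent.Helper7.ReeTor

section group

variable (K : Type*) [Field K] [Fintype K] (p₀ : ℕ) [Fact p₀.Prime] [CharP K p₀] (d : ℕ) [NeZero d]

theorem singerHom_val (μ : (FiniteField.Extension K p₀ d)ˣ) :
    ((singerHom K p₀ d 1 μ : GL (Fin (d + 1)) K) : Matrix (Fin (d + 1)) (Fin (d + 1)) K) =
      Algebra.leftMulMatrix (basisAlg K p₀ d 1)
        ((((μ : (FiniteField.Extension K p₀ d)ˣ) : FiniteField.Extension K p₀ d),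
          (1 : Fin 1 → K)) : Alg K p₀ d 1) := rfl

variable {G : Type*} [Group G] (ψ : G →* GL (Fin (d + 1)) K) (hψ : Function.Injective ψ)

include hψ in
/-- An element of prime order `p` is conjugate under `GL_{d+1}(K)` to an element of the Singer
subgroup. -/
theorem exists_singer_conj {p : ℕ} (hp : p.Prime) (hpq : ¬ p ∣ Fintype.card K)
    (h : ∀ i, 1 ≤ i → i ≤ d + 1 → i ≠ d → ¬ p ∣ Fintype.card K ^ i - 1)
    {x : G} (hx1 : x ≠ 1) (hxp : x ^ p = 1) :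
    ∃ (Y : GL (Fin (d + 1)) K) (μ : (FiniteField.Extension K p₀ d)ˣ),
      singerHom K p₀ d 1 μ = Y⁻¹ * ψ x * Y ∧ orderOf μ = p := by
  haveI : Fact p.Prime := ⟨hp⟩
  obtain ⟨Y, μ, hμ⟩ := exists_conj_mem (singerHom K p₀ d 1).range
    (not_dvd_index_singer K p₀ d 1 hp hpq h) (ψ x) (by rw [← map_pow, hxp, map_one])
  refine ⟨Y, μ, hμ, ?_⟩
  apply orderOf_eq_prime
  · apply singerHom_injective K p₀ d 1
    rw [map_pow, hμ, map_one]
    have := conj_pow (a := Y⁻¹) (b := ψ x) (i := p)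
    rw [inv_inv] at this
    rw [this, ← map_pow, hxp, map_one, mul_one, inv_mul_cancel]
  · rintro rfl
    rw [map_one] at hμ
    apply hx1
    apply hψ
    rw [map_one]
    have : ψ x = Y * (Y⁻¹ * ψ x * Y) * Y⁻¹ := by group
    rw [this, ← hμ]
    group

include p₀ hψ in
/-- The centraliser of an element of prime order `p` is commutative. -/
theorem centralizer_comm {p : ℕ} (hp : p.Prime) (hpq : ¬ p ∣ Fintype.card K)
    (h : ∀ i, 1 ≤ i → i ≤ d + 1 → i ≠ d → ¬ p ∣ Fintype.card K ^ i - 1)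
    {x : G} (hx1 : x ≠ 1) (hxp : x ^ p = 1) (g₁ g₂ : G) (h₁ : g₁ * x = x * g₁)
    (h₂ : g₂ * x = x * g₂) : g₁ * g₂ = g₂ * g₁ := by
  obtain ⟨Y, μ, hμ, hord⟩ := exists_singer_conj K p₀ d ψ hψ hp hpq h hx1 hxp
  have hpK : ((p : ℕ) : K) ≠ 0 := by
    rw [Ne, CharP.cast_eq_zero_iff K p₀ p]
    intro hdvd
    have hp₀ : p₀.Prime := Fact.out
    have := (Nat.prime_dvd_prime_iff_eq hp₀ hp).mp hdvd
    apply hpq
    rw [← this]
    obtain ⟨n, hn⟩ := FiniteField.card K p₀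
    rw [hn.2]
    exact dvd_pow_self _ n.ne_zero
  have htop := adjoin_pair_eq_top K p₀ d hp hpK hord
    (fun i hi1 hid => h i hi1 (by omega) (by omega))
  have key : ∀ g : G, g * x = x * g → ∃ b : Alg K p₀ d 1,
      ((Y⁻¹ * ψ g * Y : GL (Fin (d + 1)) K) : Matrix (Fin (d + 1)) (Fin (d + 1)) K) =
        Algebra.leftMulMatrix (basisAlg K p₀ d 1) b := by
    intro g hg
    apply comm_leftMulMatrix (basisAlg K p₀ d 1) htop
    rw [← singerHom_val, hμ, ← Units.val_mul, ← Units.val_mul]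
    congr 1
    have e1 : Y⁻¹ * ψ g * Y * (Y⁻¹ * ψ x * Y) = Y⁻¹ * ψ (g * x) * Y := by
      rw [map_mul]; group
    have e2 : Y⁻¹ * ψ x * Y * (Y⁻¹ * ψ g * Y) = Y⁻¹ * ψ (x * g) * Y := by
      rw [map_mul]; group
    rw [e1, e2, hg]
  obtain ⟨b₁, hb₁⟩ := key g₁ h₁
  obtain ⟨b₂, hb₂⟩ := key g₂ h₂
  apply hψ
  have e : (Y⁻¹ * ψ g₁ * Y) * (Y⁻¹ * ψ g₂ * Y) = (Y⁻¹ * ψ g₂ * Y) * (Y⁻¹ * ψ g₁ * Y) := by
    generalize Y⁻¹ * ψ g₁ * Y = A₁ at hb₁ ⊢
    generalize Y⁻¹ * ψ g₂ * Y = A₂ at hb₂ ⊢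
    apply Units.ext
    rw [Units.val_mul, Units.val_mul, hb₁, hb₂, ← map_mul, ← map_mul, mul_comm]
  have e1 : ψ (g₁ * g₂) = Y * ((Y⁻¹ * ψ g₁ * Y) * (Y⁻¹ * ψ g₂ * Y)) * Y⁻¹ := by
    rw [map_mul]; group
  have e2 : ψ (g₂ * g₁) = Y * ((Y⁻¹ * ψ g₂ * Y) * (Y⁻¹ * ψ g₁ * Y)) * Y⁻¹ := by
    rw [map_mul]; group
  rw [e1, e2, e]

end group

end Cfsg.Agent.Helper7.ReeLin
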