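import Mathlib
import Cfsg.Agent.Helper7.ReeLinC
import Cfsg.Agent.Helper7.ReeTorK

set_option autoImplicit false
set_option linter.unusedSectionVars false
set_option linter.unusedVariables false

/-!
Uniqueness of subgroups of given order in commutative subgroups of groups with cyclic Sylow subgroups,
and the commutativity of the centralisers of elements of prime order `p > 3` in the Ree groups.
-/

namespace Cfsg.Agent.Helper7.ReeLin

open Cfsg Cfsg.Lie Matrix Cfsg.Agent.Helper7.Chev Cfsg.Agent.Helper7.ReeAut Cfsg.Agent.Helper7.ReeSeven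
  Cfsg.Agent.Helper7.ReeCyc Cfsg.Agent.Helper7.ReeTor

section abstract

variable {G : Type*} [Group G]

/-- The elements of a commutative subgroup killed by `d`. -/
def torsionIn (C : Subgroup G) (hC : ∀ a ∈ C, ∀ b ∈ C, a * b = b * a) (d : ℕ) : Subgroup G where
  carrier := {c | c ∈ C ∧ c ^ d = 1}
  one_mem' := ⟨C.one_mem, one_pow d⟩
  mul_mem' := by
    rintro a b ⟨ha, had⟩ ⟨hb, hbd⟩
    refine ⟨C.mul_mem ha hb, ?_⟩
    have : Commute a b := hC a ha b hb
    rw [this.mul_pow, had, hbd, mul_one]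
  inv_mem' := by
    rintro a ⟨ha, had⟩
    exact ⟨C.inv_mem ha, by rw [inv_pow, had, inv_one]⟩

theorem mem_torsionIn {C : Subgroup G} {hC : ∀ a ∈ C, ∀ b ∈ C, a * b = b * a} {d : ℕ} {c : G} :
    c ∈ torsionIn C hC d ↔ c ∈ C ∧ c ^ d = 1 := Iff.rfl

theorem card_torsionIn_dvd [Finite G] (C : Subgroup G) (hC : ∀ a ∈ C, ∀ b ∈ C, a * b = b * a) (d : ℕ)
    (hd0 : d ≠ 0)
    (hd : ∀ p : ℕ, p.Prime → p ∣ d → ∀ P : Sylow p G, IsCyclic P) :
    Nat.card (torsionIn C hC d) ∣ d := by
  haveI : IsZGroup (torsionIn C hC d) := by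
    refine ⟨fun p hp P => ?_⟩
    haveI : Fact p.Prime := ⟨hp⟩
    by_cases hpd : p ∣ d
    · have h1 : IsPGroup p ((P : Subgroup (torsionIn C hC d)).map (torsionIn C hC d).subtype) :=
        P.isPGroup'.map _
      obtain ⟨Q, hQ⟩ := h1.exists_le_sylow
      haveI : IsCyclic (Q : Subgroup G) := hd p hp hpd Q
      haveI : IsCyclic ((P : Subgroup (torsionIn C hC d)).map (torsionIn C hC d).subtype) :=
        Subgroup.isCyclic_of_le hQ
      let e2 := (P : Subgroup (torsionIn C hC d)).equivMapOfInjective (torsionIn C hC d).subtype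
        (torsionIn C hC d).subtype_injective
      exact isCyclic_of_surjective e2.symm e2.symm.surjective
    · haveI : Subsingleton (P : Subgroup (torsionIn C hC d)) := by
        refine ⟨fun a b => ?_⟩
        have key : ∀ c : (P : Subgroup (torsionIn C hC d)), c = 1 := by
          intro c
          obtain ⟨k, hk⟩ := P.isPGroup' c
          have h1 : c ^ d = 1 := by
            apply Subtype.ext
            apply Subtype.ext
            push_cast
            exact c.1.2.2
          have h2 : orderOf c ∣ Nat.gcd (p ^ k) d :=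
            Nat.dvd_gcd (orderOf_dvd_of_pow_eq_one hk) (orderOf_dvd_of_pow_eq_one h1)
          have h3 : Nat.gcd (p ^ k) d = 1 :=
            Nat.Coprime.pow_left k ((Nat.Prime.coprime_iff_not_dvd hp).mpr hpd)
          rw [h3, Nat.dvd_one, orderOf_eq_one_iff] at h2
          exact h2
        rw [key a, key b]
      exact isCyclic_of_subsingleton
  rw [← IsZGroup.exponent_eq_card (torsionIn C hC d)]
  apply Monoid.exponent_dvd_of_forall_pow_eq_one
  intro c
  apply Subtype.ext
  push_cast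
  exact c.2.2

/-- In a commutative subgroup of a finite group whose Sylow `p`-subgroups are cyclic for the primes `p` dividing
`d`, there is at most one subgroup of order `d`. -/
theorem subgroup_unique_of_comm [Finite G] (C : Subgroup G) (hC : ∀ a ∈ C, ∀ b ∈ C, a * b = b * a) (d : ℕ)
    (hd : ∀ p : ℕ, p.Prime → p ∣ d → ∀ P : Sylow p G, IsCyclic P)
    (A B : Subgroup G) (hA : A ≤ C) (hB : B ≤ C) (hAd : Nat.card A = d) (hBd : Nat.card B = d) : A = B := by
  have hd0 : d ≠ 0 := by
    rw [← hAd]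
    exact Nat.card_pos.ne'
  have hT := Nat.le_of_dvd (Nat.pos_of_ne_zero hd0) (card_torsionIn_dvd C hC d hd0 hd)
  have key : ∀ A' : Subgroup G, A' ≤ C → Nat.card A' = d → A' = torsionIn C hC d := by
    intro A' hA' hA'd
    apply Subgroup.eq_of_le_of_card_ge
    · intro a ha
      refine ⟨hA' ha, ?_⟩
      have : (⟨a, ha⟩ : A') ^ Nat.card A' = 1 := pow_card_eq_one'
      rw [hA'd] at this
      exact congrArg Subtype.val this
    · rw [hA'd]
      exact hT
  rw [key A hA hAd, key B hB hBd]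

end abstract

section ree

variable {K : Type*} [Field K] [Fintype K] {m : ℕ}

/-- The centraliser of an element of prime order `p > 3` dividing `q² - q + 1` is commutative. -/
theorem ree_centralizer_comm_six (hm : 1 ≤ m) (hK : Fintype.card K = 3 ^ (2 * m + 1)) {p : ℕ}
    (hp : p.Prime) (hp3 : 3 < p) (h : p ∣ Fintype.card K * (Fintype.card K - 1) + 1)
    {x : ↥(twistedG2 K (3 ^ m))} (hx1 : x ≠ 1) (hxp : x ^ p = 1) (g₁ g₂ : ↥(twistedG2 K (3 ^ m)))
    (h₁ : g₁ * x = x * g₁) (h₂ : g₂ * x = x * g₂) : g₁ * g₂ = g₂ * g₁ := by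
  haveI := charP_three_of_card (by omega) hK
  haveI : Fact p.Prime := ⟨hp⟩
  haveI : Fact (Nat.Prime 3) := ⟨Nat.prime_three⟩
  have h3q : ¬ p ∣ Fintype.card K := by
    rw [hK]
    exact not_dvd_three_pow hp hp3 _
  let e : JIdx ≃ Fin (6 + 1) := Fintype.equivFinOfCardEq card_JIdx
  let φ : GL JIdx K ≃* GL (Fin (6 + 1)) K := Units.mapEquiv (Matrix.reindexRingEquiv K e).toMulEquiv
  let ψ : ↥(twistedG2 K (3 ^ m)) →* GL (Fin (6 + 1)) K := φ.toMonoidHom.comp (rho7 K (3 ^ m))
  have hψ : Function.Injective ψ := φ.injective.comp (rho7_injective hm hK)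
  exact centralizer_comm K 3 6 ψ hψ hp h3q
    (not_dvd_pow_sub_one hp3 (by have := Fintype.card_pos (α := K); omega) h) hx1 hxp g₁ g₂ h₁ h₂

/-- The centraliser of an element of prime order `p > 3` is commutative. -/
theorem ree_centralizer_comm (hm : 1 ≤ m) (hK : Fintype.card K = 3 ^ (2 * m + 1)) {p : ℕ}
    (hp : p.Prime) (hp3 : 3 < p)
    {x : ↥(twistedG2 K (3 ^ m))} (hx1 : x ≠ 1) (hxp : x ^ p = 1) :
    ∀ g₁ ∈ Subgroup.centralizer {x}, ∀ g₂ ∈ Subgroup.centralizer {x}, g₁ * g₂ = g₂ * g₁ := by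
  haveI := charP_three_of_card (by omega) hK
  haveI : Fact p.Prime := ⟨hp⟩
  have hq1 : 1 < Fintype.card K := Fintype.one_lt_card
  by_cases h1 : p ∣ Fintype.card K - 1
  · obtain ⟨g, hg⟩ := split_centralizer_conj hK hp hp3 h1 hx1 hxp
    rw [hg]
    rintro _ ⟨_, ⟨s₁, rfl⟩, rfl⟩ _ ⟨_, ⟨s₂, rfl⟩, rfl⟩
    rw [← map_mul, ← map_mul, ← map_mul, ← map_mul, mul_comm]
  by_cases h2 : p ∣ Fintype.card K + 1
  · exact (quarter_centralizer hK hm hp hp3 h2 hx1 hxp).1
  by_cases h3 : p ∣ Fintype.card K * (Fintype.card K - 1) + 1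
  · intro g₁ hg₁ g₂ hg₂
    rw [Subgroup.mem_centralizer_singleton_iff] at hg₁ hg₂
    exact ree_centralizer_comm_six hm hK hp hp3 h3 hx1 hxp g₁ g₂ hg₁ hg₂
  · exfalso
    have h3q : ¬ p ∣ Fintype.card K := by
      rw [hK]
      exact not_dvd_three_pow hp hp3 _
    have hnd : ¬ p ∣ Nat.card ↥(twistedG2 K (3 ^ m)) := by
      rw [card_ree hK, cube_add_one _ (by omega)]
      intro hdvd
      rcases (Nat.Prime.dvd_mul hp).mp hdvd with h | h
      · rcases (Nat.Prime.dvd_mul hp).mp h with h | h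
        · exact h3q (hp.dvd_of_dvd_pow h)
        · exact h1 h
      · rcases (Nat.Prime.dvd_mul hp).mp h with h | h
        · exact h2 h
        · exact h3 h
    apply hnd
    have ho : orderOf x = p := orderOf_eq_prime hxp hx1
    rw [← ho]
    exact orderOf_dvd_natCard x

end ree

end Cfsg.Agent.Helper7.ReeLin
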