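import Mathlib
import Cfsg.Agent.Helper7.ReeLinD

set_option autoImplicit false
set_option linter.unusedSectionVars false
set_option linter.unusedVariables false

/-!
Conjugacy of the subgroups of prime order in groups with cyclic Sylow subgroups, and some arithmetic of the toral
orders of the Ree groups.
-/

namespace Cfsg.Agent.Helper7.ReeLin

open Cfsg Cfsg.Lie Matrix Cfsg.Agent.Helper7.ReeTor

theorem three_pow_mod_six (n : ℕ) : 3 ^ (n + 1) % 6 = 3 := by
  induction n with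
  | zero => norm_num
  | succ n ih => rw [pow_succ]; omega

theorem ree_q_mod_24 (m : ℕ) : 3 ^ (2 * m + 1) % 24 = 3 := by
  have h : 9 ^ m % 8 = 1 := by
    rw [Nat.pow_mod]
    norm_num
  have e : 3 ^ (2 * m + 1) = 3 * 9 ^ m := by
    rw [pow_succ, pow_mul]
    norm_num [mul_comm]
  rw [e]
  omega

theorem ree_r_le_q (m : ℕ) (hm : 1 ≤ m) : 3 ^ (m + 1) ≤ 3 ^ (2 * m + 1) :=
  Nat.pow_le_pow_right (by norm_num) (by omega)

/-- The four toral orders are congruent to `1` modulo `6`. -/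
theorem toral_mod_six {m : ℕ} (hm : 1 ≤ m) {N : ℕ}
    (hN : N = (3 ^ (2 * m + 1) - 1) / 2 ∨ N = (3 ^ (2 * m + 1) + 1) / 4 ∨
      N = 3 ^ (2 * m + 1) - 3 ^ (m + 1) + 1 ∨ N = 3 ^ (2 * m + 1) + 3 ^ (m + 1) + 1) : N % 6 = 1 := by
  have h24 := ree_q_mod_24 m
  have hr := three_pow_mod_six m
  have hle := ree_r_le_q m hm
  generalize 3 ^ (2 * m + 1) = q at *
  generalize 3 ^ (m + 1) = r at *
  rcases hN with rfl | rfl | rfl | rfl <;> omega

theorem toral_prime_gt_three {m d p : ℕ} (hm : 1 ≤ m)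
    (hd : d ∣ (3 ^ (2 * m + 1) - 1) / 2 ∨ d ∣ (3 ^ (2 * m + 1) + 1) / 4 ∨
      d ∣ 3 ^ (2 * m + 1) - 3 ^ (m + 1) + 1 ∨ d ∣ 3 ^ (2 * m + 1) + 3 ^ (m + 1) + 1)
    (hp : p.Prime) (hpd : p ∣ d) : 3 < p := by
  have key : ∀ N : ℕ, N % 6 = 1 → p ∣ N → 3 < p := by
    intro N hN hpN
    have h2 := hp.two_le
    by_contra hcon
    have : p = 2 ∨ p = 3 := by omega
    rcases this with rfl | rfl <;> omega
  rcases hd with h | h | h | h
  · exact key _ (toral_mod_six hm (Or.inl rfl)) (hpd.trans h)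
  · exact key _ (toral_mod_six hm (Or.inr (Or.inl rfl))) (hpd.trans h)
  · exact key _ (toral_mod_six hm (Or.inr (Or.inr (Or.inl rfl)))) (hpd.trans h)
  · exact key _ (toral_mod_six hm (Or.inr (Or.inr (Or.inr rfl)))) (hpd.trans h)

/-- In a finite group with cyclic Sylow `p`-subgroups, two elements of order `p` generate conjugate subgroups. -/
theorem zpowers_conj_of_cyclic_sylow {G : Type*} [Group G] [Finite G] {p : ℕ} (hp : p.Prime)
    (hsyl : ∀ P : Sylow p G, IsCyclic P) {x y : G} (hx1 : x ≠ 1) (hxp : x ^ p = 1) (hy1 : y ≠ 1)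
    (hyp : y ^ p = 1) : ∃ g : G, Subgroup.zpowers (g⁻¹ * x * g) = Subgroup.zpowers y := by
  have : Fact p.Prime := ⟨hp⟩
  have hoy : orderOf y = p := orderOf_eq_prime hyp hy1
  have hP : IsPGroup p ↥(Subgroup.zpowers y) := by
    apply IsPGroup.of_card (n := 1)
    rw [Nat.card_zpowers, hoy, pow_one]
  obtain ⟨Q, hQ⟩ := hP.exists_le_sylow
  obtain ⟨g, hg⟩ := exists_conj_mem (Q : Subgroup G) Q.not_dvd_index x hxp
  refine ⟨g, ?_⟩
  have : IsCyclic (Q : Subgroup G) := hsyl Q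
  have hC : ∀ a ∈ (Q : Subgroup G), ∀ b ∈ (Q : Subgroup G), a * b = b * a := by
    intro a ha b hb
    let _ := IsCyclic.commGroup (α := ↥(Q : Subgroup G))
    exact congrArg Subtype.val (mul_comm (⟨a, ha⟩ : ↥(Q : Subgroup G)) ⟨b, hb⟩)
  have hx' : (g⁻¹ * x * g) ^ p = 1 := by
    have := conj_pow (a := g⁻¹) (b := x) (i := p)
    rw [inv_inv] at this
    rw [this, hxp, mul_one, inv_mul_cancel]
  have hx'1 : g⁻¹ * x * g ≠ 1 := by
    intro h
    apply hx1
    have : x = g * (g⁻¹ * x * g) * g⁻¹ := by group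
    rw [this, h]
    group
  apply subgroup_unique_of_comm (Q : Subgroup G) hC p
    (fun p' hp' hpp' P => by
      have := (Nat.prime_dvd_prime_iff_eq hp' hp).mp hpp'
      subst this
      exact hsyl P) _ _
    (by rw [Subgroup.zpowers_le]; exact hg) hQ
  · rw [Nat.card_zpowers]
    exact orderOf_eq_prime hx' hx'1
  · rw [Nat.card_zpowers]
    exact hoy

end Cfsg.Agent.Helper7.ReeLin
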