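import Mathlib
import Cfsg.Agent.Helper7.ReeCntF
import Cfsg.Agent.Helper7.ReeLinE

set_option autoImplicit false
set_option linter.unusedSectionVars false
set_option linter.unusedVariables false

/-!
The centralisers of the elements of prime order `p > 3` of the Ree groups ("tori"): conjugacy, the trivial
intersection property, and the count of the conjugates of their elements.
-/

namespace Cfsg.Agent.Helper7.ReeCnt

open Cfsg Cfsg.Lie Matrix Cfsg.Agent.Helper7.Chev Cfsg.Agent.Helper7.ReeAut Cfsg.Agent.Helper7.ReeTor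
  Cfsg.Agent.Helper7.ReeCyc Cfsg.Agent.Helper7.ReeLin

section abstract

variable {G : Type*} [Group G]

theorem conj_pow' (g x : G) (n : ℕ) : (g⁻¹ * x * g) ^ n = g⁻¹ * x ^ n * g := by
  have := conj_pow (a := g⁻¹) (b := x) (i := n)
  rwa [inv_inv] at this

theorem conj_ne_one {g x : G} (hx : x ≠ 1) : g⁻¹ * x * g ≠ 1 := by
  intro h
  apply hx
  have : x = g * (g⁻¹ * x * g) * g⁻¹ := by group
  rw [this, h]
  group

theorem orderOf_conj' (g x : G) : orderOf (g⁻¹ * x * g) = orderOf x := by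
  have h := (MulAut.conj g⁻¹).orderOf_eq x
  rw [MulAut.conj_apply, inv_inv] at h
  exact h

/-- An element whose order is divisible by `p` has a power of order `p`. -/
theorem exists_pow_prime_order [Finite G] {p : ℕ} (hp : p.Prime) {g : G} (hpg : p ∣ orderOf g) :
    ∃ k : ℕ, g ^ k ≠ 1 ∧ (g ^ k) ^ p = 1 := by
  obtain ⟨k, hk⟩ := hpg
  have hpos : 0 < orderOf g := orderOf_pos g
  refine ⟨k, ?_, ?_⟩
  · intro h
    have h1 := orderOf_dvd_of_pow_eq_one h
    have hk0 : 0 < k := by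
      rcases Nat.eq_zero_or_pos k with h2 | h2
      · rw [h2, mul_zero] at hk
        omega
      · exact h2
    have h2 := Nat.le_of_dvd hk0 h1
    have h3 : k * 2 ≤ k * p := Nat.mul_le_mul_left k hp.two_le
    rw [hk, mul_comm p k] at h2
    omega
  · rw [← pow_mul, mul_comm, ← hk, pow_orderOf_eq_one]

end abstract

section ree

variable {K : Type*} [Field K] [Fintype K] [CharP K 3] {m : ℕ}
  (hK : Fintype.card K = 3 ^ (2 * m + 1))

include hK

/-- If `x'` of prime order `p' > 3` centralises `x` of prime order `p > 3`, they have the same centraliser. -/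
theorem centralizer_eq_of_comm (hm : 1 ≤ m) {p p' : ℕ} (hp : p.Prime) (hp3 : 3 < p) (hp' : p'.Prime)
    (hp3' : 3 < p') {x x' : ↥(twistedG2 K (3 ^ m))} (hx1 : x ≠ 1) (hxp : x ^ p = 1)
    (hx1' : x' ≠ 1) (hxp' : x' ^ p' = 1) (hc : x' * x = x * x') :
    Subgroup.centralizer {x'} = Subgroup.centralizer {x} := by
  have hC := ree_centralizer_comm hm hK hp hp3 hx1 hxp
  have hC' := ree_centralizer_comm hm hK hp' hp3' hx1' hxp'
  have hxx' : x' ∈ Subgroup.centralizer {x} := Subgroup.mem_centralizer_singleton_iff.mpr hc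
  have hx'x : x ∈ Subgroup.centralizer {x'} := Subgroup.mem_centralizer_singleton_iff.mpr hc.symm
  have hxx : x ∈ Subgroup.centralizer {x} := Subgroup.mem_centralizer_singleton_iff.mpr rfl
  have hx'x' : x' ∈ Subgroup.centralizer {x'} := Subgroup.mem_centralizer_singleton_iff.mpr rfl
  apply le_antisymm
  · intro g hg
    rw [Subgroup.mem_centralizer_singleton_iff]
    exact hC' g hg x hx'x
  · intro g hg
    rw [Subgroup.mem_centralizer_singleton_iff]
    exact hC g hg x' hxx'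

omit hK [Fintype K] [CharP K 3] in
theorem mem_centralizer_conj {g x u : ↥(twistedG2 K (3 ^ m))} :
    u ∈ Subgroup.centralizer {g⁻¹ * x * g} ↔ g * u * g⁻¹ ∈ Subgroup.centralizer {x} := by
  rw [Subgroup.mem_centralizer_singleton_iff, Subgroup.mem_centralizer_singleton_iff]
  constructor
  · intro h
    calc g * u * g⁻¹ * x = g * (u * (g⁻¹ * x * g)) * g⁻¹ := by group
      _ = g * ((g⁻¹ * x * g) * u) * g⁻¹ := by rw [h]
      _ = x * (g * u * g⁻¹) := by group
  · intro h
    calc u * (g⁻¹ * x * g) = g⁻¹ * (g * u * g⁻¹ * x) * g := by group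
      _ = g⁻¹ * (x * (g * u * g⁻¹)) * g := by rw [h]
      _ = g⁻¹ * x * g * u := by group

/-- The trivial intersection property of the tori. -/
theorem torus_TI (hm : 1 ≤ m) {p p' : ℕ} (hp : p.Prime) (hp3 : 3 < p) (hp' : p'.Prime)
    (hp3' : 3 < p') {x y g : ↥(twistedG2 K (3 ^ m))} (hx1 : x ≠ 1) (hxp : x ^ p = 1)
    (hy : y ∈ Subgroup.centralizer {x}) (hpy : p' ∣ orderOf y)
    (hg : g⁻¹ * y * g ∈ Subgroup.centralizer {x}) :
    g ∈ Subgroup.normalizer (Subgroup.centralizer {x} : Set ↥(twistedG2 K (3 ^ m))) := by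
  obtain ⟨k, hk1, hkp⟩ := exists_pow_prime_order hp' hpy
  have h1 : y ^ k ∈ Subgroup.centralizer {x} := Subgroup.pow_mem _ hy k
  have h2 : g⁻¹ * y ^ k * g ∈ Subgroup.centralizer {x} := by
    rw [← conj_pow']
    exact Subgroup.pow_mem _ hg k
  have e1 := centralizer_eq_of_comm hK hm hp hp3 hp' hp3' hx1 hxp hk1 hkp
    (Subgroup.mem_centralizer_singleton_iff.mp h1)
  have e2 := centralizer_eq_of_comm hK hm hp hp3 hp' hp3' hx1 hxp (conj_ne_one hk1)
    (by rw [conj_pow', hkp, mul_one, inv_mul_cancel]) (Subgroup.mem_centralizer_singleton_iff.mp h2)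
  apply Subgroup.mem_normalizer_fintype
  intro n hn
  have hn' : n ∈ Subgroup.centralizer {g⁻¹ * y ^ k * g} := by
    rw [e2]
    exact hn
  rw [mem_centralizer_conj, e1] at hn'
  exact hn'

/-- An element whose order is divisible by a prime `p' > 3` dividing the order of a torus is conjugate into
the torus. -/
theorem conj_mem_torus (hm : 1 ≤ m) {p p' : ℕ} (hp : p.Prime) (hp3 : 3 < p) (hp' : p'.Prime)
    (hp3' : 3 < p') {x g : ↥(twistedG2 K (3 ^ m))} (hx1 : x ≠ 1) (hxp : x ^ p = 1)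
    (hpT : p' ∣ Nat.card ↥(Subgroup.centralizer {x})) (hpg : p' ∣ orderOf g) :
    ∃ k : ↥(twistedG2 K (3 ^ m)), k⁻¹ * g * k ∈ Subgroup.centralizer {x} := by
  have : Fact p'.Prime := ⟨hp'⟩
  obtain ⟨⟨x', hx'T⟩, hx'o⟩ := exists_prime_orderOf_dvd_card' (G := ↥(Subgroup.centralizer {x})) p' hpT
  have hx'o' : orderOf x' = p' := by
    rw [← hx'o]
    exact (Subgroup.orderOf_mk x' hx'T).symm
  have hx'1 : x' ≠ 1 := by
    rintro rfl
    rw [orderOf_one] at hx'o'
    exact hp'.one_lt.ne hx'o'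
  have hx'p : x' ^ p' = 1 := by rw [← hx'o']; exact pow_orderOf_eq_one x'
  obtain ⟨j, hj1, hjp⟩ := exists_pow_prime_order hp' hpg
  obtain ⟨k, hk⟩ := zpowers_conj_of_cyclic_sylow hp' (fun P => ree_S1156 hm hK hp3' P) hj1 hjp hx'1 hx'p
  refine ⟨k, ?_⟩
  have h1 : k⁻¹ * g ^ j * k ∈ Subgroup.centralizer {x} := by
    have : k⁻¹ * g ^ j * k ∈ Subgroup.zpowers x' := by
      rw [← hk]
      exact Subgroup.mem_zpowers _
    exact (Subgroup.zpowers_le.mpr hx'T) this
  have e2 := centralizer_eq_of_comm hK hm hp hp3 hp' hp3' hx1 hxp (conj_ne_one hj1)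
    (by rw [conj_pow', hjp, mul_one, inv_mul_cancel]) (Subgroup.mem_centralizer_singleton_iff.mp h1)
  rw [← e2, Subgroup.mem_centralizer_singleton_iff, ← conj_pow', ← pow_succ, ← pow_succ']

/-- Counting the conjugates of the elements of a torus. -/
theorem torus_count (hm : 1 ≤ m) {p : ℕ} (hp : p.Prime) (hp3 : 3 < p)
    {x : ↥(twistedG2 K (3 ^ m))} (hx1 : x ≠ 1) (hxp : x ^ p = 1)
    (S : ↥(twistedG2 K (3 ^ m)) → Prop)
    (hS : ∀ k u : ↥(twistedG2 K (3 ^ m)), S u → S (k⁻¹ * u * k))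
    (hSp : ∀ u, S u → ∃ p' : ℕ, p'.Prime ∧ 3 < p' ∧ p' ∣ orderOf u ∧
      p' ∣ Nat.card ↥(Subgroup.centralizer {x})) :
    Nat.card {g : ↥(twistedG2 K (3 ^ m)) // S g} *
        Nat.card ↥(Subgroup.normalizer (Subgroup.centralizer {x} : Set ↥(twistedG2 K (3 ^ m)))) =
      Nat.card ↥(twistedG2 K (3 ^ m)) *
        Nat.card {y : ↥(twistedG2 K (3 ^ m)) // y ∈ Subgroup.centralizer {x} ∧ S y} := by
  have h := card_conj_mul_card_normalizer (Subgroup.centralizer {x})
    {y | y ∈ Subgroup.centralizer {x} ∧ S y} (fun y hy => hy.1)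
    (by
      rintro n hn y ⟨hy, hyS⟩
      exact ⟨(Subgroup.mem_normalizer_iff''.mp hn y).mp hy, hS n y hyS⟩)
    (by
      rintro y ⟨hy, hyS⟩ g hg
      obtain ⟨p', hp', hp3', hpy, _⟩ := hSp y hyS
      exact torus_TI hK hm hp hp3 hp' hp3' hx1 hxp hy hpy hg)
  have e : Nat.card {g : ↥(twistedG2 K (3 ^ m)) // S g} =
      Nat.card {x' : ↥(twistedG2 K (3 ^ m)) // ∃ g : ↥(twistedG2 K (3 ^ m)),
        g⁻¹ * x' * g ∈ {y | y ∈ Subgroup.centralizer {x} ∧ S y}} := by
    apply Nat.card_congr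
    apply Equiv.subtypeEquivRight
    intro g
    constructor
    · intro hg
      obtain ⟨p', hp', hp3', hpg, hpT⟩ := hSp g hg
      obtain ⟨k, hk⟩ := conj_mem_torus hK hm hp hp3 hp' hp3' hx1 hxp hpT hpg
      exact ⟨k, hk, hS k g hg⟩
    · rintro ⟨k, _, hk⟩
      have := hS k⁻¹ _ hk
      rw [inv_inv] at this
      have e : k * (k⁻¹ * g * k) * k⁻¹ = g := by group
      rwa [e] at this
  rw [e]
  exact h

end ree

end Cfsg.Agent.Helper7.ReeCnt
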