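import Mathlib
import Cfsg.Agent.Helper7.ReeCntG

set_option autoImplicit false
set_option linter.unusedSectionVars false
set_option linter.unusedVariables false

/-!
The orders of the elements of the Ree groups: either `g ^ 18 = 1` or a prime `p > 3` divides the order; arithmetic of
the prime divisors of the order of the group.
-/

namespace Cfsg.Agent.Helper7.ReeCnt

open Cfsg Cfsg.Lie Matrix Cfsg.Agent.Helper7.Chev Cfsg.Agent.Helper7.ReeAut Cfsg.Agent.Helper7.ReeTor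
  Cfsg.Agent.Helper7.ReeCyc Cfsg.Agent.Helper7.ReeLin

section arith

theorem not_dvd_of_dvd_sub_one' {p q : ℕ} (hp : p.Prime) (hq : 1 ≤ q) (h : p ∣ q - 1) :
    ¬ p ∣ q * (q - 1) + 1 := by
  intro h2
  have h3 : p ∣ 1 := (Nat.dvd_add_right (Dvd.dvd.mul_left h q)).mp h2
  exact hp.one_lt.ne' (Nat.dvd_one.mp h3)

theorem not_dvd_self_of_dvd {p q : ℕ} (hp : p.Prime) (h : p ∣ q * (q - 1) + 1) : ¬ p ∣ q := by
  intro h2
  have h3 : p ∣ 1 := (Nat.dvd_add_right (Dvd.dvd.mul_right h2 (q - 1))).mp h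
  exact hp.one_lt.ne' (Nat.dvd_one.mp h3)

/-- A natural number without prime divisors `> 3` is of the form `2 ^ a * 3 ^ c`. -/
theorem eq_two_pow_mul_three_pow {n : ℕ} (hn : n ≠ 0) (h : ∀ p : ℕ, p.Prime → 3 < p → ¬ p ∣ n) :
    ∃ a c : ℕ, n = 2 ^ a * 3 ^ c := by
  obtain ⟨a, b, hb, rfl⟩ := Nat.exists_eq_two_pow_mul_odd hn
  have hb0 : b ≠ 0 := by
    rintro rfl
    simp at hn
  obtain ⟨c, d, hd, rfl⟩ := Nat.exists_eq_pow_mul_and_not_dvd hb0 3 (by norm_num)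
  refine ⟨a, c, ?_⟩
  have hd1 : d = 1 := by
    by_contra hd1
    obtain ⟨p, hp, hpd⟩ := Nat.exists_prime_and_dvd hd1
    have hp2 : p ≠ 2 := by
      rintro rfl
      have : ¬ 2 ∣ 3 ^ c * d :=
        fun h => (Nat.not_even_iff_odd.mpr hb) (even_iff_two_dvd.mpr h)
      exact this (Dvd.dvd.mul_left hpd _)
    have hp3 : p ≠ 3 := by
      rintro rfl
      exact hd hpd
    have hp3' : 3 < p := by
      have := hp.two_le
      omega
    exact h p hp hp3' (Dvd.dvd.mul_left (Dvd.dvd.mul_left hpd _) _)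
  rw [hd1, mul_one]

end arith

section ree

variable {K : Type*} [Field K] [Fintype K] [CharP K 3] {m : ℕ}
  (hK : Fintype.card K = 3 ^ (2 * m + 1))

include hK

/-- The `3`-elements have order dividing `9`. -/
theorem pow_nine_of_three_pow (g : ↥(twistedG2 K (3 ^ m))) {c : ℕ} (hg : g ^ 3 ^ c = 1) : g ^ 9 = 1 := by
  have : Fact (Nat.Prime 3) := ⟨Nat.prime_three⟩
  have hP : IsPGroup 3 ↥(Subgroup.zpowers g) := by
    obtain ⟨j, _, hj⟩ := (Nat.dvd_prime_pow Nat.prime_three).mp (orderOf_dvd_of_pow_eq_one hg)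
    apply IsPGroup.of_card (n := j)
    rw [Nat.card_zpowers, hj]
  obtain ⟨P, hP⟩ := hP.exists_le_sylow
  obtain ⟨k, hk⟩ := sylow_three_eq hK P
  have h1 := (hk g).mp (hP (Subgroup.mem_zpowers g))
  have h2 := pow_nine_of_mem_rU' hK h1
  rw [conj_pow'] at h2
  have : g ^ 9 = k * (k⁻¹ * g ^ 9 * k) * k⁻¹ := by group
  rw [this, h2]
  group

/-- Either `g ^ 18 = 1` or a prime `p > 3` divides the order of `g`. -/
theorem order_cases (g : ↥(twistedG2 K (3 ^ m))) :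
    g ^ 18 = 1 ∨ ∃ p : ℕ, p.Prime ∧ 3 < p ∧ p ∣ orderOf g := by
  by_cases h : ∃ p : ℕ, p.Prime ∧ 3 < p ∧ p ∣ orderOf g
  · exact Or.inr h
  left
  have h' : ∀ p : ℕ, p.Prime → 3 < p → ¬ p ∣ orderOf g := fun p hp hp3 hpd => h ⟨p, hp, hp3, hpd⟩
  obtain ⟨a, c, hac⟩ := eq_two_pow_mul_three_pow (orderOf_pos g).ne' h'
  have h1 : (g ^ 3 ^ c) ^ 2 ^ a = 1 := by
    rw [← pow_mul, mul_comm, ← hac, pow_orderOf_eq_one]
  have h2 := sq_eq_one_of_two_pow hK (g ^ 3 ^ c) ⟨a, h1⟩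
  have h3 : (g ^ 2) ^ 3 ^ c = 1 := by
    rw [← pow_mul, mul_comm, pow_mul, pow_two]
    exact h2
  have h4 := pow_nine_of_three_pow hK (g ^ 2) h3
  rw [← pow_mul] at h4
  exact h4

/-- If `g ^ 18 = 1` then no prime `p > 3` divides the order of `g`. -/
theorem not_dvd_of_pow_18 {g : ↥(twistedG2 K (3 ^ m))} (hg : g ^ 18 = 1) {p : ℕ} (hp3 : 3 < p)
    (hp : p.Prime) : ¬ p ∣ orderOf g := by
  intro h
  have h1 := h.trans (orderOf_dvd_of_pow_eq_one hg)
  have h2 : p ∣ 2 * 3 ^ 2 := by norm_num; exact h1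
  rcases (Nat.Prime.dvd_mul hp).mp h2 with h3 | h3
  · exact not_dvd_two hp3 h3
  · exact not_dvd_three hp3 (hp.dvd_of_dvd_pow h3)

/-- The prime divisors `p > 3` of the order of the group. -/
theorem prime_dvd_cases {p : ℕ} (hp : p.Prime) (hp3 : 3 < p)
    (h : p ∣ Nat.card ↥(twistedG2 K (3 ^ m))) :
    p ∣ Fintype.card K - 1 ∨ p ∣ Fintype.card K + 1 ∨ p ∣ Fintype.card K * (Fintype.card K - 1) + 1 := by
  have hq1 : 1 ≤ Fintype.card K := Fintype.card_pos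
  rw [card_ree hK, cube_add_one _ hq1] at h
  rcases (Nat.Prime.dvd_mul hp).mp h with h | h
  · rcases (Nat.Prime.dvd_mul hp).mp h with h | h
    · exfalso
      have := hp.dvd_of_dvd_pow h
      rw [hK] at this
      exact not_dvd_three_pow hp hp3 _ this
    · exact Or.inl h
  · rcases (Nat.Prime.dvd_mul hp).mp h with h | h
    · exact Or.inr (Or.inl h)
    · exact Or.inr (Or.inr h)

theorem prime_dvd_orderOf_cases {p : ℕ} (hp : p.Prime) (hp3 : 3 < p) {g : ↥(twistedG2 K (3 ^ m))}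
    (h : p ∣ orderOf g) :
    p ∣ Fintype.card K - 1 ∨ p ∣ Fintype.card K + 1 ∨ p ∣ Fintype.card K * (Fintype.card K - 1) + 1 :=
  prime_dvd_cases hK hp hp3 (h.trans (orderOf_dvd_natCard g))

end ree

end Cfsg.Agent.Helper7.ReeCnt
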