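import Mathlib
import Cfsg.Agent.Helper7.ReeCntH

set_option autoImplicit false
set_option linter.unusedSectionVars false
set_option linter.unusedVariables false

/-!
Orders of the tori of the Ree groups and the number of their elements of square `1`.
-/

namespace Cfsg.Agent.Helper7.ReeCnt

open Cfsg Cfsg.Lie Matrix Cfsg.Agent.Helper7.Chev Cfsg.Agent.Helper7.ReeAut Cfsg.Agent.Helper7.ReeTor
  Cfsg.Agent.Helper7.ReeCyc Cfsg.Agent.Helper7.ReeLin

section abstract

variable {G : Type*} [Group G]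

theorem card_centralizer_conj (k t : G) :
    Nat.card ↥(Subgroup.centralizer {k * t * k⁻¹}) = Nat.card ↥(Subgroup.centralizer {t}) := by
  apply Nat.card_congr
  refine
    { toFun := fun u => ⟨k⁻¹ * u.1 * k, ?_⟩
      invFun := fun u => ⟨k * u.1 * k⁻¹, ?_⟩
      left_inv := ?_
      right_inv := ?_ }
  · have h := Subgroup.mem_centralizer_singleton_iff.mp u.2
    rw [Subgroup.mem_centralizer_singleton_iff]
    calc k⁻¹ * u.1 * k * t = k⁻¹ * (u.1 * (k * t * k⁻¹)) * k := by group
      _ = k⁻¹ * ((k * t * k⁻¹) * u.1) * k := by rw [h]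
      _ = t * (k⁻¹ * u.1 * k) := by group
  · have h := Subgroup.mem_centralizer_singleton_iff.mp u.2
    rw [Subgroup.mem_centralizer_singleton_iff]
    calc k * u.1 * k⁻¹ * (k * t * k⁻¹) = k * (u.1 * t) * k⁻¹ := by group
      _ = k * (t * u.1) * k⁻¹ := by rw [h]
      _ = k * t * k⁻¹ * (k * u.1 * k⁻¹) := by group
  · intro u
    apply Subtype.ext
    show k * (k⁻¹ * u.1 * k) * k⁻¹ = u.1
    group
  · intro u
    apply Subtype.ext
    show k⁻¹ * (k * u.1 * k⁻¹) * k = u.1
    group

theorem orderOf_eq_two_iff' (z : G) : orderOf z = 2 ↔ z * z = 1 ∧ z ≠ 1 := by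
  have : Fact (Nat.Prime 2) := ⟨Nat.prime_two⟩
  rw [← pow_two]
  exact orderOf_eq_prime_iff

end abstract

section ree

variable {K : Type*} [Field K] [Fintype K] [CharP K 3] {m : ℕ}
  (hK : Fintype.card K = 3 ^ (2 * m + 1))

include hK

/-- The order of the centraliser of an involution. -/
theorem card_centralizer_involution (hm : 1 ≤ m) {z : ↥(twistedG2 K (3 ^ m))} (hz : orderOf z = 2) :
    Nat.card ↥(Subgroup.centralizer {z}) = Fintype.card K * (Fintype.card K ^ 2 - 1) := by
  obtain ⟨hz2, hz1⟩ := (orderOf_eq_two_iff' z).mp hz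
  obtain ⟨k, rfl⟩ := involution_conj hK hm hz1 hz2
  rw [card_centralizer_conj, ← card_cent_all hK]
  apply Nat.card_congr
  apply Equiv.subtypeEquivRight
  intro u
  rw [Subgroup.mem_centralizer_singleton_iff]
  exact eq_comm

theorem ree_sq_sub_one : Fintype.card K ^ 2 - 1 = (Fintype.card K - 1) * (Fintype.card K + 1) := by
  have hq : 1 ≤ Fintype.card K := Fintype.card_pos
  obtain ⟨n, hn⟩ : ∃ n, Fintype.card K = n + 1 := ⟨Fintype.card K - 1, by omega⟩
  rw [hn]
  simp only [Nat.add_sub_cancel]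
  have : (n + 1) ^ 2 = n * (n + 1 + 1) + 1 := by ring
  rw [this, Nat.add_sub_cancel]

/-- The order of the centraliser of an element of prime order dividing `q² - q + 1` divides `q² - q + 1`. -/
theorem card_centralizer_dvd_six (hm : 1 ≤ m) {p : ℕ} (hp : p.Prime) (hp3 : 3 < p)
    (h : p ∣ Fintype.card K * (Fintype.card K - 1) + 1) {x : ↥(twistedG2 K (3 ^ m))} (hx1 : x ≠ 1)
    (hxp : x ^ p = 1) :
    Nat.card ↥(Subgroup.centralizer {x}) ∣ Fintype.card K * (Fintype.card K - 1) + 1 := by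
  have hq1 : 1 ≤ Fintype.card K := Fintype.card_pos
  have : Fact p.Prime := ⟨hp⟩
  have hox : orderOf x = p := orderOf_eq_prime hxp hx1
  have hpq : ¬ p ∣ Fintype.card K := not_dvd_self_of_dvd hp h
  have hpq1 : ¬ p ∣ Fintype.card K - 1 := fun h' => not_dvd_of_dvd_sub_one' hp hq1 h' h
  have hpq2 : ¬ p ∣ Fintype.card K + 1 := fun h' => not_dvd_of_dvd_add_one hp3 hq1 h' h
  -- the prime divisors of the order of the centraliser
  have key : ∀ p' : ℕ, p'.Prime → p' ∣ Nat.card ↥(Subgroup.centralizer {x}) →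
      3 < p' ∧ p' ∣ Fintype.card K * (Fintype.card K - 1) + 1 := by
    intro p' hp' hdvd
    have : Fact p'.Prime := ⟨hp'⟩
    obtain ⟨⟨y, hyC⟩, hyo⟩ := exists_prime_orderOf_dvd_card' (G := ↥(Subgroup.centralizer {x})) p' hdvd
    have hyo' : orderOf y = p' := by
      rw [← hyo]
      exact (Subgroup.orderOf_mk y hyC).symm
    have hy1 : y ≠ 1 := by
      rintro rfl
      rw [orderOf_one] at hyo'
      exact hp'.one_lt.ne hyo'
    have hyp : y ^ p' = 1 := by rw [← hyo']; exact pow_orderOf_eq_one y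
    have hxy : x ∈ Subgroup.centralizer {y} := by
      rw [Subgroup.mem_centralizer_singleton_iff]
      exact (Subgroup.mem_centralizer_singleton_iff.mp hyC).symm
    have hdvdC : p ∣ Nat.card ↥(Subgroup.centralizer {y}) := by
      rw [← hox]
      exact Subgroup.orderOf_dvd_natCard _ hxy
    have hp'2 : p' ≠ 2 := by
      rintro rfl
      rw [card_centralizer_involution hK hm hyo', ree_sq_sub_one hK] at hdvdC
      rcases (Nat.Prime.dvd_mul hp).mp hdvdC with h1 | h1
      · exact hpq h1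
      · rcases (Nat.Prime.dvd_mul hp).mp h1 with h1 | h1
        · exact hpq1 h1
        · exact hpq2 h1
    have hp'3 : p' ≠ 3 := by
      rintro rfl
      exact not_three_dvd_card_centralizer hK
        ((Nat.coprime_primes hp Nat.prime_three).mpr (by omega))
        ((Nat.Prime.coprime_iff_not_dvd hp).mpr hpq1) hx1 hxp hdvd
    have hp'3' : 3 < p' := by
      have := hp'.two_le
      omega
    refine ⟨hp'3', ?_⟩
    rcases prime_dvd_cases hK hp' hp'3' (hdvd.trans (Subgroup.card_subgroup_dvd_card _)) with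
      h1 | h1 | h1
    · exfalso
      obtain ⟨g, hg⟩ := split_centralizer_conj hK hp' hp'3' h1 hy1 hyp
      rw [hg, Subgroup.card_map_of_injective (MulAut.conj g).injective, card_range_ghHom hK] at hdvdC
      exact hpq1 hdvdC
    · exfalso
      rw [(quarter_centralizer hK hm hp' hp'3' h1 hy1 hyp).2] at hdvdC
      exact hpq2 hdvdC
    · exact h1
  have hcop : Nat.Coprime (Nat.card ↥(Subgroup.centralizer {x}))
      (Fintype.card K ^ 3 * (Fintype.card K - 1) * (Fintype.card K + 1)) := by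
    apply Nat.coprime_of_dvd
    intro p' hp' hdvd hdvd2
    obtain ⟨hp'3, hp'M⟩ := key p' hp' hdvd
    rcases (Nat.Prime.dvd_mul hp').mp hdvd2 with h1 | h1
    · rcases (Nat.Prime.dvd_mul hp').mp h1 with h1 | h1
      · exact not_dvd_self_of_dvd hp' hp'M (hp'.dvd_of_dvd_pow h1)
      · exact not_dvd_of_dvd_sub_one' hp' hq1 h1 hp'M
    · exact not_dvd_of_dvd_add_one hp'3 hq1 h1 hp'M
  have hdvdG : Nat.card ↥(Subgroup.centralizer {x}) ∣
      Fintype.card K ^ 3 * (Fintype.card K - 1) * (Fintype.card K + 1) *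
        (Fintype.card K * (Fintype.card K - 1) + 1) := by
    have := Subgroup.card_subgroup_dvd_card (Subgroup.centralizer {x})
    rw [card_ree hK, cube_add_one _ hq1] at this
    rw [mul_assoc]
    exact this
  exact hcop.dvd_of_dvd_mul_left hdvdG

/-- The elements of square `1` of the centraliser of an element of prime order dividing `q - 1`. -/
theorem card_sq_split {p : ℕ} (hp : p.Prime) (hp3 : 3 < p) (h : p ∣ Fintype.card K - 1)
    {x : ↥(twistedG2 K (3 ^ m))} (hx1 : x ≠ 1) (hxp : x ^ p = 1) :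
    Nat.card {y : ↥(twistedG2 K (3 ^ m)) // y ∈ Subgroup.centralizer {x} ∧ y * y = 1} = 2 := by
  obtain ⟨g, hg⟩ := split_centralizer_conj hK hp hp3 h hx1 hxp
  rw [hg, Nat.card_eq_two_iff]
  refine ⟨⟨1, one_mem _, one_mul 1⟩, ⟨g * aS hK * g⁻¹, ⟨aS hK, ⟨-1, rfl⟩, rfl⟩, ?_⟩, ?_, ?_⟩
  · calc g * aS hK * g⁻¹ * (g * aS hK * g⁻¹) = g * (aS hK * aS hK) * g⁻¹ := by group
      _ = 1 := by rw [aS_mul_aS]; group
  · intro h1
    have h2 : (1 : ↥(twistedG2 K (3 ^ m))) = g * aS hK * g⁻¹ := congrArg Subtype.val h1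
    apply aS_ne_one hK
    have : aS hK = g⁻¹ * (g * aS hK * g⁻¹) * g := by group
    rw [this, ← h2]
    group
  · ext ⟨y, hy, hy2⟩
    simp only [Set.mem_insert_iff, Set.mem_singleton_iff, Set.mem_univ, iff_true, Subtype.mk.injEq]
    obtain ⟨_, ⟨s, rfl⟩, rfl⟩ := hy
    have e1 : (ghHom hK) s = ghS hK s := rfl
    simp only [MulEquiv.coe_toMonoidHom, MulAut.conj_apply, e1] at hy2 ⊢
    have h3 : ghS hK s * ghS hK s = 1 := by
      have : ghS hK s * ghS hK s = g⁻¹ * (g * ghS hK s * g⁻¹ * (g * ghS hK s * g⁻¹)) * g := by group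
      rw [this, hy2]
      group
    rw [ghS_mul, ← ghS_one hK] at h3
    have h4 : s * s = 1 := ghS_injective hK h3
    have h5 : (s : K) * s = 1 := by
      have := congrArg Units.val h4
      rwa [Units.val_mul, Units.val_one] at this
    have h6 : ((s : K) - 1) * ((s : K) + 1) = 0 := by linear_combination h5
    rcases mul_eq_zero.mp h6 with h7 | h7
    · left
      have : s = 1 := Units.ext (by rw [Units.val_one]; linear_combination h7)
      rw [this, ghS_one]
      group
    · right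
      have : s = -1 := Units.ext (by rw [Units.val_neg, Units.val_one]; linear_combination h7)
      rw [this]
      rfl

/-- The elements of square `1` of the centraliser of an element of prime order dividing `q + 1`. -/
theorem card_sq_quarter (hm : 1 ≤ m) {p : ℕ} (hp : p.Prime) (hp3 : 3 < p) (h : p ∣ Fintype.card K + 1)
    {x : ↥(twistedG2 K (3 ^ m))} (hx1 : x ≠ 1) (hxp : x ^ p = 1) :
    Nat.card {y : ↥(twistedG2 K (3 ^ m)) // y ∈ Subgroup.centralizer {x} ∧ y * y = 1} = 4 := by
  have : Fact (Nat.Prime 2) := ⟨Nat.prime_two⟩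
  obtain ⟨hC, hcard⟩ := quarter_centralizer hK hm hp hp3 h hx1 hxp
  have h8 := ree_card_mod_eight hK
  set V := torsionIn (Subgroup.centralizer {x}) hC 2 with hV
  have e : Nat.card {y : ↥(twistedG2 K (3 ^ m)) // y ∈ Subgroup.centralizer {x} ∧ y * y = 1} =
      Nat.card ↥V := by
    apply Nat.card_congr
    apply Equiv.subtypeEquivRight
    intro y
    rw [hV, mem_torsionIn, pow_two]
  rw [e]
  have hVle : V ≤ Subgroup.centralizer {x} := fun y hy => hy.1
  have h1 : Nat.card ↥V ∣ Fintype.card K + 1 := by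
    rw [← hcard]
    exact Subgroup.card_dvd_of_le hVle
  have hVp : IsPGroup 2 ↥V := by
    rintro ⟨y, hy⟩
    refine ⟨1, ?_⟩
    apply Subtype.ext
    rw [pow_one]
    exact hy.2
  obtain ⟨n, hn⟩ := (IsPGroup.iff_card).mp hVp
  -- a subgroup of order `4`
  have h4 : 2 ^ 2 ∣ Nat.card ↥(Subgroup.centralizer {x}) := by
    rw [hcard]
    omega
  obtain ⟨P, hP⟩ := Sylow.exists_subgroup_card_pow_prime 2 h4
  have hPV : P.map (Subgroup.centralizer {x}).subtype ≤ V := by
    rintro _ ⟨y, hy, rfl⟩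
    refine ⟨y.2, ?_⟩
    have h5 : (⟨y, hy⟩ : ↥P) ^ Nat.card ↥P = 1 := pow_card_eq_one'
    rw [hP] at h5
    have h6 : (y : ↥(twistedG2 K (3 ^ m))) ^ 2 ^ 2 = 1 := by
      have := congrArg (fun z : ↥P => ((z : ↥(Subgroup.centralizer {x})) : ↥(twistedG2 K (3 ^ m)))) h5
      simpa using this
    rw [pow_two]
    exact sq_eq_one_of_two_pow hK _ ⟨2, h6⟩
  have h7 : 4 ∣ Nat.card ↥V := by
    have := Subgroup.card_dvd_of_le hPV
    rwa [Subgroup.card_map_of_injective (Subgroup.subtype_injective _), hP] at this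
  rw [hn] at h1 h7 ⊢
  have hn2 : n ≤ 2 := by
    by_contra hcon
    have : 2 ^ 3 ∣ 2 ^ n := pow_dvd_pow 2 (by omega)
    have := this.trans h1
    omega
  have hn2' : 2 ≤ n := by
    by_contra hcon
    have : n = 0 ∨ n = 1 := by omega
    rcases this with rfl | rfl <;> omega
  have : n = 2 := le_antisymm hn2 hn2'
  rw [this]
  norm_num

/-- The elements of square `1` of the centraliser of an element of prime order dividing `q² - q + 1`. -/
theorem card_sq_six (hm : 1 ≤ m) {p : ℕ} (hp : p.Prime) (hp3 : 3 < p)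
    (h : p ∣ Fintype.card K * (Fintype.card K - 1) + 1) {x : ↥(twistedG2 K (3 ^ m))} (hx1 : x ≠ 1)
    (hxp : x ^ p = 1) :
    Nat.card {y : ↥(twistedG2 K (3 ^ m)) // y ∈ Subgroup.centralizer {x} ∧ y * y = 1} = 1 := by
  rw [Nat.card_eq_one_iff_unique]
  have hdvd := card_centralizer_dvd_six hK hm hp hp3 h hx1 hxp
  have hodd : ¬ 2 ∣ Fintype.card K * (Fintype.card K - 1) + 1 := by
    have := Nat.even_mul_pred_self (Fintype.card K)
    rw [even_iff_two_dvd] at this
    intro h2
    have := (Nat.dvd_add_right this).mp h2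
    omega
  constructor
  · refine ⟨fun a b => ?_⟩
    have key : ∀ c : {y : ↥(twistedG2 K (3 ^ m)) // y ∈ Subgroup.centralizer {x} ∧ y * y = 1},
        c.1 = 1 := by
      rintro ⟨y, hy, hy2⟩
      by_contra hy1
      have ho : orderOf y = 2 := (orderOf_eq_two_iff' y).mpr ⟨hy2, hy1⟩
      apply hodd
      rw [← ho]
      exact (Subgroup.orderOf_dvd_natCard _ hy).trans hdvd
    exact Subtype.ext ((key a).trans (key b).symm)
  · exact ⟨⟨1, one_mem _, one_mul 1⟩⟩

end ree

end Cfsg.Agent.Helper7.ReeCnt
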