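import Mathlib
import Cfsg.Agent.Helper7.ReeCntI

set_option autoImplicit false
set_option linter.unusedSectionVars false
set_option linter.unusedVariables false

/-!
Counting the involutions, the elements of order `3`, `6`, `9`, `18` of the Ree groups, and the involutions commuting
with an element whose order is divisible by a prime `p > 3`.
-/

namespace Cfsg.Agent.Helper7.ReeCnt

open Cfsg Cfsg.Lie Matrix Cfsg.Agent.Helper7.Chev Cfsg.Agent.Helper7.ReeAut Cfsg.Agent.Helper7.ReeTor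
  Cfsg.Agent.Helper7.ReeCyc Cfsg.Agent.Helper7.ReeLin

/-- The order of `g` is divisible by a prime `p > 3` dividing `n`. -/
def HasP {G : Type*} [Group G] (n : ℕ) (g : G) : Prop :=
  ∃ p : ℕ, p.Prime ∧ 3 < p ∧ p ∣ orderOf g ∧ p ∣ n

theorem HasP.conj {G : Type*} [Group G] {n : ℕ} {g : G} (h : HasP n g) (k : G) :
    HasP n (k⁻¹ * g * k) := by
  obtain ⟨p, hp, hp3, hpg, hpn⟩ := h
  exact ⟨p, hp, hp3, by rw [orderOf_conj']; exact hpg, hpn⟩

theorem HasP.conj' {G : Type*} [Group G] {n : ℕ} {g : G} (h : HasP n g) (k : G) :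
    HasP n (k * g * k⁻¹) := by
  have := h.conj k⁻¹
  rwa [inv_inv] at this

/-- Counting pairs of an involution and a commuting element with a conjugation-invariant property, by
the involution. -/
theorem involution_pairs_fst {G : Type*} [Group G] [Finite G] (t : G)
    (ht : ∀ z : G, orderOf z = 2 → ∃ k : G, k * t * k⁻¹ = z)
    (S : G → Prop) (hS : ∀ k u : G, S u → S (k * u * k⁻¹)) :
    Nat.card {p : G × G // orderOf p.1 = 2 ∧ (S p.2 ∧ p.1 * p.2 = p.2 * p.1)} =
      Nat.card {z : G // orderOf z = 2} * Nat.card {u : G // S u ∧ t * u = u * t} := by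
  apply card_pairs_fst (fun z : G => orderOf z = 2) (fun z u => S u ∧ z * u = u * z)
  intro z hz
  obtain ⟨k, rfl⟩ := ht z hz
  apply Nat.card_congr
  refine
    { toFun := fun u => ⟨k⁻¹ * u.1 * k, ?_, ?_⟩
      invFun := fun u => ⟨k * u.1 * k⁻¹, hS k _ u.2.1, ?_⟩
      left_inv := ?_
      right_inv := ?_ }
  · have := hS k⁻¹ _ u.2.1
    rwa [inv_inv] at this
  · have h1 := u.2.2
    calc t * (k⁻¹ * u.1 * k) = k⁻¹ * ((k * t * k⁻¹) * u.1) * k := by group
      _ = k⁻¹ * (u.1 * (k * t * k⁻¹)) * k := by rw [h1]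
      _ = k⁻¹ * u.1 * k * t := by group
  · have h1 := u.2.2
    calc k * t * k⁻¹ * (k * u.1 * k⁻¹) = k * (t * u.1) * k⁻¹ := by group
      _ = k * (u.1 * t) * k⁻¹ := by rw [h1]
      _ = k * u.1 * k⁻¹ * (k * t * k⁻¹) := by group
  · intro u
    apply Subtype.ext
    show k * (k⁻¹ * u.1 * k) * k⁻¹ = u.1
    group
  · intro u
    apply Subtype.ext
    show k⁻¹ * (k * u.1 * k⁻¹) * k = u.1
    group

section ree

variable {K : Type*} [Field K] [Fintype K] [CharP K 3] {m : ℕ}
  (hK : Fintype.card K = 3 ^ (2 * m + 1))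

include hK

theorem involution_conj' (hm : 1 ≤ m) (z : ↥(twistedG2 K (3 ^ m))) (hz : orderOf z = 2) :
    ∃ k : ↥(twistedG2 K (3 ^ m)), k * aS hK * k⁻¹ = z := by
  obtain ⟨hz2, hz1⟩ := (orderOf_eq_two_iff' z).mp hz
  exact involution_conj hK hm hz1 hz2

theorem orderOf_aS : orderOf (aS hK) = 2 :=
  (orderOf_eq_two_iff' _).mpr ⟨aS_mul_aS hK, aS_ne_one hK⟩

/-- The number of involutions. -/
theorem card_involutions_mul (hm : 1 ≤ m) :
    Nat.card {z : ↥(twistedG2 K (3 ^ m)) // orderOf z = 2} *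
        (Fintype.card K * (Fintype.card K ^ 2 - 1)) =
      Nat.card ↥(twistedG2 K (3 ^ m)) := by
  rw [← card_conj_mul_card_centralizer (aS hK), card_centralizer_involution hK hm (orderOf_aS hK)]
  congr 1
  apply Nat.card_congr
  apply Equiv.subtypeEquivRight
  intro z
  constructor
  · intro hz
    exact involution_conj' hK hm z hz
  · rintro ⟨k, rfl⟩
    have := (MulAut.conj k).orderOf_eq (aS hK)
    rw [MulAut.conj_apply] at this
    rw [this, orderOf_aS]

/-- The involutions commuting with an element whose order is divisible by a prime `p > 3`: they are the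
involutions of the torus. -/
theorem card_involutions_comm (hm : 1 ≤ m) {p : ℕ} (hp : p.Prime) (hp3 : 3 < p)
    {g : ↥(twistedG2 K (3 ^ m))} (hpg : p ∣ orderOf g) :
    ∃ x : ↥(twistedG2 K (3 ^ m)), x ≠ 1 ∧ x ^ p = 1 ∧ g ∈ Subgroup.centralizer {x} ∧
      Nat.card {z : ↥(twistedG2 K (3 ^ m)) // orderOf z = 2 ∧ z * g = g * z} + 1 =
        Nat.card {y : ↥(twistedG2 K (3 ^ m)) // y ∈ Subgroup.centralizer {x} ∧ y * y = 1} := by
  obtain ⟨k, hk1, hkp⟩ := exists_pow_prime_order hp hpg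
  have hgC : g ∈ Subgroup.centralizer {g ^ k} := by
    rw [Subgroup.mem_centralizer_singleton_iff, ← pow_succ, ← pow_succ']
  refine ⟨g ^ k, hk1, hkp, hgC, ?_⟩
  have hC := ree_centralizer_comm hm hK hp hp3 hk1 hkp
  rw [← card_and_ne (fun y : ↥(twistedG2 K (3 ^ m)) => y ∈ Subgroup.centralizer {g ^ k} ∧ y * y = 1) 1
    ⟨one_mem _, one_mul 1⟩]
  congr 1
  apply Nat.card_congr
  apply Equiv.subtypeEquivRight
  intro z
  rw [orderOf_eq_two_iff']
  constructor
  · rintro ⟨⟨h1, h2⟩, h3⟩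
    refine ⟨⟨?_, h1⟩, h2⟩
    rw [Subgroup.mem_centralizer_singleton_iff]
    exact (Commute.pow_right (show Commute z g from h3) k)
  · rintro ⟨⟨h1, h2⟩, h3⟩
    exact ⟨⟨h2, h3⟩, hC z h1 g hgC⟩

theorem card_involutions_comm_split (hm : 1 ≤ m) {g : ↥(twistedG2 K (3 ^ m))}
    (hg : HasP (Fintype.card K - 1) g) :
    Nat.card {z : ↥(twistedG2 K (3 ^ m)) // orderOf z = 2 ∧ z * g = g * z} = 1 := by
  obtain ⟨p, hp, hp3, hpg, hpn⟩ := hg
  obtain ⟨x, hx1, hxp, _, h⟩ := card_involutions_comm hK hm hp hp3 hpg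
  rw [card_sq_split hK hp hp3 hpn hx1 hxp] at h
  omega

theorem card_involutions_comm_quarter (hm : 1 ≤ m) {g : ↥(twistedG2 K (3 ^ m))}
    (hg : HasP (Fintype.card K + 1) g) :
    Nat.card {z : ↥(twistedG2 K (3 ^ m)) // orderOf z = 2 ∧ z * g = g * z} = 3 := by
  obtain ⟨p, hp, hp3, hpg, hpn⟩ := hg
  obtain ⟨x, hx1, hxp, _, h⟩ := card_involutions_comm hK hm hp hp3 hpg
  rw [card_sq_quarter hK hm hp hp3 hpn hx1 hxp] at h
  omega

theorem card_involutions_comm_six (hm : 1 ≤ m) {g : ↥(twistedG2 K (3 ^ m))}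
    (hg : HasP (Fintype.card K * (Fintype.card K - 1) + 1) g) :
    Nat.card {z : ↥(twistedG2 K (3 ^ m)) // orderOf z = 2 ∧ z * g = g * z} = 0 := by
  obtain ⟨p, hp, hp3, hpg, hpn⟩ := hg
  obtain ⟨x, hx1, hxp, _, h⟩ := card_involutions_comm hK hm hp hp3 hpg
  rw [card_sq_six hK hm hp hp3 hpn hx1 hxp] at h
  omega

/-- The elements of order `3` in the centraliser of the involution. -/
theorem card_cent_order_three :
    Nat.card {u : ↥(twistedG2 K (3 ^ m)) // orderOf u = 3 ∧ aS hK * u = u * aS hK} + 1 =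
      Fintype.card K ^ 2 := by
  rw [← card_cent_cube hK, ← card_and_ne (fun u : ↥(twistedG2 K (3 ^ m)) =>
    u ^ 3 = 1 ∧ aS hK * u = u * aS hK) 1 ⟨one_pow 3, by rw [mul_one, one_mul]⟩]
  congr 1
  apply Nat.card_congr
  apply Equiv.subtypeEquivRight
  intro u
  rw [orderOf_eq_three_iff]
  tauto

/-- There are no elements of order `9` in the centraliser of the involution. -/
theorem card_cent_order_nine :
    Nat.card {u : ↥(twistedG2 K (3 ^ m)) // orderOf u = 9 ∧ aS hK * u = u * aS hK} = 0 := by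
  have h := card_and_not (fun u : ↥(twistedG2 K (3 ^ m)) => u ^ 9 = 1 ∧ aS hK * u = u * aS hK)
    (fun u => u ^ 3 = 1 ∧ aS hK * u = u * aS hK) (by
      rintro u ⟨h1, h2⟩
      refine ⟨?_, h2⟩
      have : u ^ 9 = (u ^ 3) ^ 3 := by rw [← pow_mul]
      rw [this, h1, one_pow])
  rw [card_cent_nine hK, card_cent_cube hK] at h
  have e : Nat.card {u : ↥(twistedG2 K (3 ^ m)) // orderOf u = 9 ∧ aS hK * u = u * aS hK} =
      Nat.card {u : ↥(twistedG2 K (3 ^ m)) // (u ^ 9 = 1 ∧ aS hK * u = u * aS hK) ∧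
        ¬ (u ^ 3 = 1 ∧ aS hK * u = u * aS hK)} := by
    apply Nat.card_congr
    apply Equiv.subtypeEquivRight
    intro u
    rw [orderOf_eq_nine_iff]
    tauto
  rw [e]
  omega

/-- The number of elements of order `6`. -/
theorem card_order_six (hm : 1 ≤ m) :
    Nat.card {g : ↥(twistedG2 K (3 ^ m)) // orderOf g = 6} + 
        Nat.card {z : ↥(twistedG2 K (3 ^ m)) // orderOf z = 2} =
      Nat.card {z : ↥(twistedG2 K (3 ^ m)) // orderOf z = 2} * Fintype.card K ^ 2 := by
  have h1 := card_orderOf_two_mul (G := ↥(twistedG2 K (3 ^ m))) (i := 3) (by decide)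
  have h2 := involution_pairs_fst (aS hK) (involution_conj' hK hm)
    (fun u : ↥(twistedG2 K (3 ^ m)) => orderOf u = 3) (by
      intro k u hu
      have := (MulAut.conj k).orderOf_eq u
      rw [MulAut.conj_apply] at this
      rw [this]
      exact hu)
  have h3 := card_cent_order_three hK
  have e : (2 * 3 : ℕ) = 6 := by norm_num
  rw [e] at h1
  rw [h1, h2, ← h3]
  ring

/-- There are no elements of order `18`. -/
theorem card_order_18 (hm : 1 ≤ m) :
    Nat.card {g : ↥(twistedG2 K (3 ^ m)) // orderOf g = 18} = 0 := by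
  have h1 := card_orderOf_two_mul (G := ↥(twistedG2 K (3 ^ m))) (i := 9) (by decide)
  have h2 := involution_pairs_fst (aS hK) (involution_conj' hK hm)
    (fun u : ↥(twistedG2 K (3 ^ m)) => orderOf u = 9) (by
      intro k u hu
      have := (MulAut.conj k).orderOf_eq u
      rw [MulAut.conj_apply] at this
      rw [this]
      exact hu)
  have e : (2 * 9 : ℕ) = 18 := by norm_num
  rw [e] at h1
  rw [h1, h2, card_cent_order_nine hK, mul_zero]

end ree

end Cfsg.Agent.Helper7.ReeCnt
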