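import Mathlib
import Cfsg.Agent.Helper7.ReeCntJ

set_option autoImplicit false
set_option linter.unusedSectionVars false
set_option linter.unusedVariables false

/-!
The elements of order `3` and `9` of the Ree groups, the elements with `g ^ 18 = 1`, the partition of the other
elements by the type of their order, and the count of the elements of a torus.
-/

namespace Cfsg.Agent.Helper7.ReeCnt

open Cfsg Cfsg.Lie Matrix Cfsg.Agent.Helper7.Chev Cfsg.Agent.Helper7.ReeAut Cfsg.Agent.Helper7.ReeTor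
  Cfsg.Agent.Helper7.ReeCyc Cfsg.Agent.Helper7.ReeLin

theorem gcd_18_dvd_two {n : ℕ} (h3 : ¬ 3 ∣ n) : Nat.gcd 18 n ∣ 2 := by
  have hc : Nat.Coprime 9 n := by
    have : Nat.Coprime 3 n := (Nat.Prime.coprime_iff_not_dvd Nat.prime_three).mpr h3
    have := Nat.Coprime.pow_left 2 this
    norm_num at this
    exact this
  have e : (18 : ℕ) = 2 * 9 := by norm_num
  rw [e, Nat.Coprime.gcd_mul_right_cancel 2 hc]
  exact Nat.gcd_dvd_left 2 n

section ree

variable {K : Type*} [Field K] [Fintype K] [CharP K 3] {m : ℕ}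
  (hK : Fintype.card K = 3 ^ (2 * m + 1))

include hK

theorem ree_card_mod_three : Fintype.card K % 3 = 0 := by
  rw [hK, pow_succ]
  omega

/-- A `3`-element is conjugate into `U¹`. -/
theorem exists_conj_mem_rU' (g : ↥(twistedG2 K (3 ^ m))) {c : ℕ} (hg : g ^ 3 ^ c = 1) :
    ∃ k : ↥(twistedG2 K (3 ^ m)), k⁻¹ * g * k ∈ rU' K m := by
  have : Fact (Nat.Prime 3) := ⟨Nat.prime_three⟩
  have hP : IsPGroup 3 ↥(Subgroup.zpowers g) := by
    obtain ⟨j, _, hj⟩ := (Nat.dvd_prime_pow Nat.prime_three).mp (orderOf_dvd_of_pow_eq_one hg)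
    apply IsPGroup.of_card (n := j)
    rw [Nat.card_zpowers, hj]
  obtain ⟨P, hP⟩ := hP.exists_le_sylow
  obtain ⟨k, hk⟩ := sylow_three_eq hK P
  exact ⟨k, (hk g).mp (hP (Subgroup.mem_zpowers g))⟩

/-- Counting the elements of order `d`, `d` a power of `3`, through `U¹`. -/
theorem card_order_three_pow (d c : ℕ) (hd : d = 3 ^ c) (hd1 : d ≠ 1) :
    Nat.card {g : ↥(twistedG2 K (3 ^ m)) // orderOf g = d} *
        (Fintype.card K ^ 3 * (Fintype.card K - 1)) =
      Nat.card ↥(twistedG2 K (3 ^ m)) *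
        Nat.card {y : ↥(twistedG2 K (3 ^ m)) // y ∈ rU' K m ∧ orderOf y = d} := by
  have h := card_conj_mul_card_normalizer (rU' K m) {y | y ∈ rU' K m ∧ orderOf y = d}
    (fun y hy => hy.1)
    (by
      rintro n hn y ⟨hy, hyo⟩
      exact ⟨(Subgroup.mem_normalizer_iff''.mp hn y).mp hy, by rw [orderOf_conj']; exact hyo⟩)
    (by
      rintro y ⟨hy, hyo⟩ g hg
      apply mem_normalizer_rU'_of_conj hK hy _ hg
      rintro rfl
      rw [orderOf_one] at hyo
      exact hd1 hyo.symm)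
  rw [card_normalizer_rU' hK] at h
  have e : Nat.card {g : ↥(twistedG2 K (3 ^ m)) // orderOf g = d} =
      Nat.card {x' : ↥(twistedG2 K (3 ^ m)) // ∃ g : ↥(twistedG2 K (3 ^ m)),
        g⁻¹ * x' * g ∈ {y | y ∈ rU' K m ∧ orderOf y = d}} := by
    apply Nat.card_congr
    apply Equiv.subtypeEquivRight
    intro g
    constructor
    · intro hg
      have h1 : g ^ 3 ^ c = 1 := by rw [← hd, ← hg]; exact pow_orderOf_eq_one g
      obtain ⟨k, hk⟩ := exists_conj_mem_rU' hK g h1
      exact ⟨k, hk, by rw [orderOf_conj']; exact hg⟩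
    · rintro ⟨k, _, hk⟩
      rw [orderOf_conj'] at hk
      exact hk
  rw [e]
  exact h

theorem card_order_three :
    Nat.card {g : ↥(twistedG2 K (3 ^ m)) // orderOf g = 3} *
        (Fintype.card K ^ 3 * (Fintype.card K - 1)) + Nat.card ↥(twistedG2 K (3 ^ m)) =
      Nat.card ↥(twistedG2 K (3 ^ m)) * Fintype.card K ^ 2 := by
  rw [card_order_three_pow hK 3 1 (by norm_num) (by norm_num), ← card_rU'_order_three hK]
  ring

theorem card_order_nine :
    Nat.card {g : ↥(twistedG2 K (3 ^ m)) // orderOf g = 9} *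
        (Fintype.card K ^ 3 * (Fintype.card K - 1)) + Nat.card ↥(twistedG2 K (3 ^ m)) * Fintype.card K ^ 2 =
      Nat.card ↥(twistedG2 K (3 ^ m)) * Fintype.card K ^ 3 := by
  rw [card_order_three_pow hK 9 2 (by norm_num) (by norm_num), ← card_rU'_order_nine hK]
  ring

omit hK in
theorem orderOf_mem_of_pow_18 {G : Type*} [Group G] (g : G) :
    g ^ 18 = 1 ↔ orderOf g = 1 ∨ (orderOf g = 2 ∨ (orderOf g = 3 ∨ (orderOf g = 6 ∨
      (orderOf g = 9 ∨ orderOf g = 18)))) := by
  constructor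
  · intro h
    have h1 := orderOf_dvd_of_pow_eq_one h
    have h2 : orderOf g ∈ Nat.divisors 18 := Nat.mem_divisors.mpr ⟨h1, by norm_num⟩
    have h3 : Nat.divisors 18 = {1, 2, 3, 6, 9, 18} := by decide
    rw [h3] at h2
    simp only [Finset.mem_insert, Finset.mem_singleton] at h2
    exact h2
  · intro h
    apply orderOf_dvd_iff_pow_eq_one.mp
    rcases h with h | h | h | h | h | h <;> rw [h] <;> norm_num

/-- The number of elements with `g ^ 18 = 1`. -/
theorem card_pow_18 (hm : 1 ≤ m) :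
    Nat.card {g : ↥(twistedG2 K (3 ^ m)) // g ^ 18 = 1} =
      1 + (Nat.card {g : ↥(twistedG2 K (3 ^ m)) // orderOf g = 2} +
        (Nat.card {g : ↥(twistedG2 K (3 ^ m)) // orderOf g = 3} +
        (Nat.card {g : ↥(twistedG2 K (3 ^ m)) // orderOf g = 6} +
        Nat.card {g : ↥(twistedG2 K (3 ^ m)) // orderOf g = 9}))) := by
  have e : Nat.card {g : ↥(twistedG2 K (3 ^ m)) // g ^ 18 = 1} =
      Nat.card {g : ↥(twistedG2 K (3 ^ m)) // orderOf g = 1 ∨ (orderOf g = 2 ∨ (orderOf g = 3 ∨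
        (orderOf g = 6 ∨ (orderOf g = 9 ∨ orderOf g = 18))))} := by
    apply Nat.card_congr
    apply Equiv.subtypeEquivRight
    intro g
    exact orderOf_mem_of_pow_18 g
  have h1 : Nat.card {g : ↥(twistedG2 K (3 ^ m)) // orderOf g = 1} = 1 := by
    rw [Nat.card_eq_one_iff_unique]
    refine ⟨⟨fun a b => Subtype.ext ?_⟩, ⟨⟨1, orderOf_one⟩⟩⟩
    rw [orderOf_eq_one_iff.mp a.2, orderOf_eq_one_iff.mp b.2]
  rw [e, card_or, card_or, card_or, card_or, card_or, h1, card_order_18 hK hm]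
  · ring
  all_goals
    intro g h1 h2
    omega

/-- A prime `p' > 3` dividing the order of an element whose order is divisible by a prime `p > 3`
dividing `q - 1` divides `q - 1`. -/
theorem dvd_of_hasP_split {p p' : ℕ} (hp : p.Prime) (hp3 : 3 < p) (hpq : p ∣ Fintype.card K - 1)
    {g : ↥(twistedG2 K (3 ^ m))} (hpg : p ∣ orderOf g) (hp'g : p' ∣ orderOf g) :
    p' ∣ Fintype.card K - 1 := by
  obtain ⟨k, hk1, hkp⟩ := exists_pow_prime_order hp hpg
  have hgC : g ∈ Subgroup.centralizer {g ^ k} := by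
    rw [Subgroup.mem_centralizer_singleton_iff, ← pow_succ, ← pow_succ']
  obtain ⟨g', hg'⟩ := split_centralizer_conj hK hp hp3 hpq hk1 hkp
  have h1 := Subgroup.orderOf_dvd_natCard _ hgC
  rw [hg', Subgroup.card_map_of_injective (MulAut.conj g').injective, card_range_ghHom hK] at h1
  exact hp'g.trans h1

theorem dvd_of_hasP_quarter (hm : 1 ≤ m) {p p' : ℕ} (hp : p.Prime) (hp3 : 3 < p)
    (hpq : p ∣ Fintype.card K + 1)
    {g : ↥(twistedG2 K (3 ^ m))} (hpg : p ∣ orderOf g) (hp'g : p' ∣ orderOf g) :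
    p' ∣ Fintype.card K + 1 := by
  obtain ⟨k, hk1, hkp⟩ := exists_pow_prime_order hp hpg
  have hgC : g ∈ Subgroup.centralizer {g ^ k} := by
    rw [Subgroup.mem_centralizer_singleton_iff, ← pow_succ, ← pow_succ']
  have h1 := Subgroup.orderOf_dvd_natCard _ hgC
  rw [(quarter_centralizer hK hm hp hp3 hpq hk1 hkp).2] at h1
  exact hp'g.trans h1

theorem dvd_of_hasP_six (hm : 1 ≤ m) {p p' : ℕ} (hp : p.Prime) (hp3 : 3 < p)
    (hpq : p ∣ Fintype.card K * (Fintype.card K - 1) + 1)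
    {g : ↥(twistedG2 K (3 ^ m))} (hpg : p ∣ orderOf g) (hp'g : p' ∣ orderOf g) :
    p' ∣ Fintype.card K * (Fintype.card K - 1) + 1 := by
  obtain ⟨k, hk1, hkp⟩ := exists_pow_prime_order hp hpg
  have hgC : g ∈ Subgroup.centralizer {g ^ k} := by
    rw [Subgroup.mem_centralizer_singleton_iff, ← pow_succ, ← pow_succ']
  have h1 := Subgroup.orderOf_dvd_natCard _ hgC
  exact hp'g.trans (h1.trans (card_centralizer_dvd_six hK hm hp hp3 hpq hk1 hkp))

/-- The partition of the elements of the group by the type of their order. -/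
theorem card_partition (hm : 1 ≤ m) (W : ↥(twistedG2 K (3 ^ m)) → Prop) :
    Nat.card {g : ↥(twistedG2 K (3 ^ m)) // W g} =
      Nat.card {g : ↥(twistedG2 K (3 ^ m)) // W g ∧ g ^ 18 = 1} +
      (Nat.card {g : ↥(twistedG2 K (3 ^ m)) // W g ∧ HasP (Fintype.card K - 1) g} +
      (Nat.card {g : ↥(twistedG2 K (3 ^ m)) // W g ∧ HasP (Fintype.card K + 1) g} +
      Nat.card {g : ↥(twistedG2 K (3 ^ m)) // W g ∧
        HasP (Fintype.card K * (Fintype.card K - 1) + 1) g})) := by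
  have hq1 : 1 ≤ Fintype.card K := Fintype.card_pos
  have e : Nat.card {g : ↥(twistedG2 K (3 ^ m)) // W g} =
      Nat.card {g : ↥(twistedG2 K (3 ^ m)) // (W g ∧ g ^ 18 = 1) ∨
        ((W g ∧ HasP (Fintype.card K - 1) g) ∨ ((W g ∧ HasP (Fintype.card K + 1) g) ∨
          (W g ∧ HasP (Fintype.card K * (Fintype.card K - 1) + 1) g)))} := by
    apply Nat.card_congr
    apply Equiv.subtypeEquivRight
    intro g
    constructor
    · intro hW
      rcases order_cases hK g with h | ⟨p, hp, hp3, hpg⟩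
      · exact Or.inl ⟨hW, h⟩
      · rcases prime_dvd_orderOf_cases hK hp hp3 hpg with h | h | h
        · exact Or.inr (Or.inl ⟨hW, p, hp, hp3, hpg, h⟩)
        · exact Or.inr (Or.inr (Or.inl ⟨hW, p, hp, hp3, hpg, h⟩))
        · exact Or.inr (Or.inr (Or.inr ⟨hW, p, hp, hp3, hpg, h⟩))
    · rintro (h | h | h | h) <;> exact h.1
  rw [e, card_or, card_or, card_or]
  · rintro g ⟨_, p, hp, hp3, hpg, hpn⟩ ⟨_, p', hp', hp3', hpg', hpn'⟩
    have := dvd_of_hasP_quarter hK hm hp hp3 hpn hpg hpg'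
    exact not_dvd_of_dvd_add_one hp3' hq1 this hpn'
  · rintro g ⟨_, p, hp, hp3, hpg, hpn⟩ (⟨_, p', hp', hp3', hpg', hpn'⟩ | ⟨_, p', hp', hp3', hpg', hpn'⟩)
    · have := dvd_of_hasP_split hK hp hp3 hpn hpg hpg'
      exact not_dvd_sub_of_dvd_add hp3' hq1 hpn' this
    · have := dvd_of_hasP_split hK hp hp3 hpn hpg hpg'
      exact not_dvd_of_dvd_sub_one' hp' hq1 this hpn'
  · rintro g ⟨_, h18⟩ (⟨_, p', hp', hp3', hpg', hpn'⟩ | ⟨_, p', hp', hp3', hpg', hpn'⟩ |
      ⟨_, p', hp', hp3', hpg', hpn'⟩) <;>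
    exact not_dvd_of_pow_18 hK h18 hp3' hp' hpg'

/-- Counting the conjugates of the elements of a torus whose order is divisible by a prime `p > 3`. -/
theorem torus_count_hasP (hm : 1 ≤ m) {p : ℕ} (hp : p.Prime) (hp3 : 3 < p)
    {x : ↥(twistedG2 K (3 ^ m))} (hx1 : x ≠ 1) (hxp : x ^ p = 1) :
    Nat.card {g : ↥(twistedG2 K (3 ^ m)) // HasP (Nat.card ↥(Subgroup.centralizer {x})) g} *
        Nat.card ↥(Subgroup.normalizer (Subgroup.centralizer {x} : Set ↥(twistedG2 K (3 ^ m)))) =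
      Nat.card ↥(twistedG2 K (3 ^ m)) *
        Nat.card {y : ↥(twistedG2 K (3 ^ m)) // y ∈ Subgroup.centralizer {x} ∧
          HasP (Nat.card ↥(Subgroup.centralizer {x})) y} :=
  torus_count hK hm hp hp3 hx1 hxp _ (fun k u hu => hu.conj k)
    (fun u ⟨p', hp', hp3', h1, h2⟩ => ⟨p', hp', hp3', h1, h2⟩)

/-- The elements of a torus whose order is divisible by a prime `p > 3` are those of square different
from `1`. -/
theorem torus_hasP_card {x : ↥(twistedG2 K (3 ^ m))}
    (h3 : ¬ 3 ∣ Nat.card ↥(Subgroup.centralizer {x})) :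
    Nat.card {y : ↥(twistedG2 K (3 ^ m)) // y ∈ Subgroup.centralizer {x} ∧
        HasP (Nat.card ↥(Subgroup.centralizer {x})) y} +
      Nat.card {y : ↥(twistedG2 K (3 ^ m)) // y ∈ Subgroup.centralizer {x} ∧ y * y = 1} =
      Nat.card ↥(Subgroup.centralizer {x}) := by
  have h := card_and_not (fun y : ↥(twistedG2 K (3 ^ m)) => y ∈ Subgroup.centralizer {x})
    (fun y => y ∈ Subgroup.centralizer {x} ∧ y * y = 1) (fun y hy => hy.1)
  have e : Nat.card {y : ↥(twistedG2 K (3 ^ m)) // y ∈ Subgroup.centralizer {x} ∧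
        HasP (Nat.card ↥(Subgroup.centralizer {x})) y} =
      Nat.card {y : ↥(twistedG2 K (3 ^ m)) // y ∈ Subgroup.centralizer {x} ∧
        ¬ (y ∈ Subgroup.centralizer {x} ∧ y * y = 1)} := by
    apply Nat.card_congr
    apply Equiv.subtypeEquivRight
    intro y
    constructor
    · rintro ⟨hy, p', hp', hp3', hpy, _⟩
      refine ⟨hy, ?_⟩
      rintro ⟨_, hy2⟩
      have h18 : y ^ 18 = 1 := by
        have : y ^ 18 = (y * y) ^ 9 := by rw [← pow_two, ← pow_mul]
        rw [this, hy2, one_pow]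
      exact not_dvd_of_pow_18 hK h18 hp3' hp' hpy
    · rintro ⟨hy, hy2⟩
      refine ⟨hy, ?_⟩
      have hyC := Subgroup.orderOf_dvd_natCard _ hy
      rcases order_cases hK y with h18 | ⟨p', hp', hp3', hpy⟩
      · exfalso
        apply hy2
        refine ⟨hy, ?_⟩
        have h1 := orderOf_dvd_of_pow_eq_one h18
        have h2 := (Nat.dvd_gcd h1 hyC).trans (gcd_18_dvd_two h3)
        rw [← pow_two]
        exact orderOf_dvd_iff_pow_eq_one.mp h2
      · exact ⟨p', hp', hp3', hpy, hpy.trans hyC⟩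
  rw [e]
  exact h

end ree

end Cfsg.Agent.Helper7.ReeCnt
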