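import Mathlib

set_option autoImplicit false
set_option linter.unusedSectionVars false
set_option linter.unusedVariables false

/-!
The arithmetic of the global count in the Ree groups.
-/

namespace Cfsg.Agent.Helper7.ReeCnt

set_option maxHeartbeats 1600000 in
theorem ree_arith (k G₀ n₂ n₃ n₆ n₉ c18 B1 B2 B3 b1 b2 b3 ND : ℕ)
    (hG : G₀ = (k + 27) ^ 3 * (k + 26) * ((k + 27) ^ 3 + 1))
    (hn2 : n₂ * ((k + 27) * ((k + 26) * (k + 28))) = G₀)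
    (hn3 : n₃ * ((k + 27) ^ 3 * (k + 26)) + G₀ = G₀ * (k + 27) ^ 2)
    (hn9 : n₉ * ((k + 27) ^ 3 * (k + 26)) + G₀ * (k + 27) ^ 2 = G₀ * (k + 27) ^ 3)
    (hn6 : n₆ + n₂ = n₂ * (k + 27) ^ 2)
    (hc18 : c18 = 1 + (n₂ + (n₃ + (n₆ + n₉))))
    (hB1 : B1 * (2 * (k + 26)) = G₀ * (k + 24))
    (hb1 : B1 * 1 = n₂ * b1) (hb2 : B2 * 3 = n₂ * b2) (hb3 : B3 * 0 = n₂ * b3)
    (hC : (k + 27) * ((k + 26) * (k + 28)) = (k + 27) * (3 * k + 80) + (b1 + (b2 + b3)))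
    (hB2 : B2 * ND = G₀ * (k + 24))
    (hGp : G₀ = c18 + (B1 + (B2 + B3))) :
    n₂ = (k + 27) ^ 2 * ((k + 27) * (k + 26) + 1) ∧
    n₃ = ((k + 26) * (k + 28)) * ((k + 27) ^ 3 + 1) ∧
    n₆ = (k + 27) ^ 2 * (k + 26) * ((k + 27) ^ 3 + 1) ∧
    n₉ = (k + 27) ^ 2 * (k + 26) * ((k + 27) ^ 3 + 1) ∧
    2 * B1 = (k + 27) ^ 3 * ((k + 27) ^ 3 + 1) * (k + 24) ∧
    ND = 6 * (k + 28) ∧
    6 * B2 = (k + 27) ^ 3 * (k + 26) * ((k + 27) * (k + 26) + 1) * (k + 24) ∧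
    3 * B3 = (k + 27) ^ 4 * (k + 26) * (k + 28) * (k + 25) := by
  zify at *
  have hk0 : (0 : ℤ) ≤ (k : ℤ) := Int.natCast_nonneg k
  generalize (k : ℤ) = κ at *
  obtain ⟨Q, rfl⟩ : ∃ Q : ℤ, κ = Q - 27 := ⟨κ + 27, by ring⟩
  have hQpos : (0 : ℤ) < Q := by linarith
  have hQm1 : Q - 1 ≠ 0 := by
    have : (0 : ℤ) < Q - 1 := by linarith
    exact this.ne'
  have hQp1 : Q + 1 ≠ 0 := by
    have : (0 : ℤ) < Q + 1 := by linarith
    exact this.ne'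
  have hQm3 : Q - 3 ≠ 0 := by
    have : (0 : ℤ) < Q - 3 := by linarith
    exact this.ne'
  have hQ0 : Q ≠ 0 := hQpos.ne'
  have hMpos : (0 : ℤ) < Q * (Q - 1) + 1 := by
    have : (0 : ℤ) < Q - 1 := by linarith
    positivity
  have hM0 : Q * (Q - 1) + 1 ≠ 0 := hMpos.ne'
  -- n₂
  have en2 : (n₂ : ℤ) = Q ^ 2 * (Q * (Q - 1) + 1) := by
    have hA : Q * ((Q - 1) * (Q + 1)) ≠ 0 := mul_ne_zero hQ0 (mul_ne_zero hQm1 hQp1)
    apply mul_right_cancel₀ hA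
    linear_combination hn2 + hG
  have hn2pos : (n₂ : ℤ) ≠ 0 := by
    rw [en2]
    exact mul_ne_zero (pow_ne_zero 2 hQ0) hM0
  have hX : Q ^ 3 * (Q - 1) ≠ 0 := mul_ne_zero (pow_ne_zero 3 hQ0) hQm1
  have en3 : (n₃ : ℤ) = ((Q - 1) * (Q + 1)) * (Q ^ 3 + 1) := by
    apply mul_right_cancel₀ hX
    linear_combination hn3 + (Q ^ 2 - 1) * hG
  have en9 : (n₉ : ℤ) = Q ^ 2 * (Q - 1) * (Q ^ 3 + 1) := by
    apply mul_right_cancel₀ hX
    linear_combination hn9 + (Q ^ 3 - Q ^ 2) * hG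
  have en6 : (n₆ : ℤ) = Q ^ 2 * (Q - 1) * (Q ^ 3 + 1) := by
    linear_combination hn6 + (Q ^ 2 - 1) * en2
  have eB1 : 2 * (B1 : ℤ) = Q ^ 3 * (Q ^ 3 + 1) * (Q - 3) := by
    apply mul_right_cancel₀ hQm1
    linear_combination hB1 + (Q - 3) * hG
  have eb1 : 2 * (b1 : ℤ) = Q * (Q + 1) * (Q - 3) := by
    apply mul_left_cancel₀ hn2pos
    linear_combination (-2) * hb1 + eB1 - (Q * (Q + 1) * (Q - 3)) * en2
  have eb3 : (b3 : ℤ) = 0 := by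
    have : (n₂ : ℤ) * b3 = 0 := by linear_combination -hb3
    exact (mul_eq_zero.mp this).resolve_left hn2pos
  have eb2 : 2 * (b2 : ℤ) = Q * (Q - 1) * (Q - 3) := by
    linear_combination (-2) * hC - eb1 - 2 * eb3
  have eB2 : 6 * (B2 : ℤ) = Q ^ 3 * (Q - 1) * (Q * (Q - 1) + 1) * (Q - 3) := by
    linear_combination 2 * hb2 + (n₂ : ℤ) * eb2 + (Q * (Q - 1) * (Q - 3)) * en2
  have eND : (ND : ℤ) = 6 * (Q + 1) := by
    have hP : Q ^ 3 * (Q - 1) * (Q * (Q - 1) + 1) * (Q - 3) ≠ 0 :=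
      mul_ne_zero (mul_ne_zero hX hM0) hQm3
    apply mul_left_cancel₀ hP
    linear_combination (-(ND : ℤ)) * eB2 + 6 * hB2 + 6 * (Q - 3) * hG
  have eB3 : 3 * (B3 : ℤ) = Q ^ 4 * (Q - 1) * (Q + 1) * (Q - 2) := by
    have h2 : (2 : ℤ) ≠ 0 := by norm_num
    apply mul_left_cancel₀ h2
    linear_combination (-6) * hGp - 6 * hc18 - 6 * en2 - 6 * en3 - 6 * en6 - 6 * en9 - 3 * eB1 - eB2 +
      6 * hG
  refine ⟨?_, ?_, ?_, ?_, ?_, ?_, ?_, ?_⟩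
  · linear_combination en2
  · linear_combination en3
  · linear_combination en6
  · linear_combination en9
  · linear_combination eB1
  · linear_combination eND
  · linear_combination eB2
  · linear_combination eB3

end Cfsg.Agent.Helper7.ReeCnt
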