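import Mathlib
import Cfsg.Agent.Helper7.ReeCntK
import Cfsg.Agent.Helper7.ReeCntL

set_option autoImplicit false
set_option linter.unusedSectionVars false
set_option linter.unusedVariables false

/-!
The global count in the Ree groups: the numbers of involutions and of elements of order `3`, `6`, `9`, the order of
the normaliser of a torus of order `q + 1`, and the number of elements whose order is divisible by a prime dividing
`q² - q + 1`.
-/

namespace Cfsg.Agent.Helper7.ReeCnt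

open Cfsg Cfsg.Lie Matrix Cfsg.Agent.Helper7.Chev Cfsg.Agent.Helper7.ReeAut Cfsg.Agent.Helper7.ReeTor
  Cfsg.Agent.Helper7.ReeCyc Cfsg.Agent.Helper7.ReeLin

section ree

variable {K : Type*} [Field K] [Fintype K] [CharP K 3] {m : ℕ}
  (hK : Fintype.card K = 3 ^ (2 * m + 1))

include hK

/-- An element of the split torus of prime order `p > 3`. -/
theorem exists_split_prime (hm : 1 ≤ m) :
    ∃ (p : ℕ) (s : Kˣ), p.Prime ∧ 3 < p ∧ p ∣ Fintype.card K - 1 ∧ ghS hK s ≠ 1 ∧ ghS hK s ^ p = 1 ∧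
      (s : K) ^ 2 ≠ 1 := by
  have hq := ree_card_ge hK hm
  have h1 : (Fintype.card K - 1) / 2 ≠ 1 := by omega
  obtain ⟨p, hp, hpd⟩ := Nat.exists_prime_and_dvd h1
  have hp3 : 3 < p := by
    apply toral_prime_gt_three (m := m) (d := (Fintype.card K - 1) / 2) hm _ hp hpd
    left
    rw [hK]
  have hpq : p ∣ Fintype.card K - 1 := hpd.trans (Nat.div_dvd_of_dvd (by
    have := ree_card_mod_eight hK
    omega))
  haveI : Fact p.Prime := ⟨hp⟩
  obtain ⟨s, hs⟩ := exists_prime_orderOf_dvd_card' (G := Kˣ) p (by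
    rw [Nat.card_units, Nat.card_eq_fintype_card]
    exact hpq)
  have hs1 : s ≠ 1 := by
    rintro rfl
    rw [orderOf_one] at hs
    exact hp.one_lt.ne hs
  refine ⟨p, s, hp, hp3, hpq, ?_, ?_, ?_⟩
  · intro h
    rw [← ghS_one hK] at h
    exact hs1 (ghS_injective hK h)
  · rw [ghS_pow, ← hs, pow_orderOf_eq_one, ghS_one]
  · intro h
    have h2 : s ^ 2 = 1 := by
      apply Units.ext
      rw [Units.val_pow_eq_pow_val, h, Units.val_one]
    have := orderOf_dvd_of_pow_eq_one h2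
    rw [hs] at this
    have := Nat.le_of_dvd (by norm_num) this
    omega

/-- An element of prime order `p > 3` dividing `q + 1`. -/
theorem exists_quarter_prime (hm : 1 ≤ m) :
    ∃ (p : ℕ) (x : ↥(twistedG2 K (3 ^ m))), p.Prime ∧ 3 < p ∧ p ∣ Fintype.card K + 1 ∧ x ≠ 1 ∧
      x ^ p = 1 := by
  have hq := ree_card_ge hK hm
  have h1 : (Fintype.card K + 1) / 4 ≠ 1 := by omega
  obtain ⟨p, hp, hpd⟩ := Nat.exists_prime_and_dvd h1
  have hp3 : 3 < p := by
    apply toral_prime_gt_three (m := m) (d := (Fintype.card K + 1) / 4) hm _ hp hpd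
    right; left
    rw [hK]
  have hpq : p ∣ Fintype.card K + 1 := hpd.trans (Nat.div_dvd_of_dvd (by
    have := ree_card_mod_eight hK
    omega))
  haveI : Fact p.Prime := ⟨hp⟩
  have hq1 : 1 ≤ Fintype.card K := Fintype.card_pos
  obtain ⟨x, hx⟩ := exists_prime_orderOf_dvd_card' (G := ↥(twistedG2 K (3 ^ m))) p (by
    rw [card_ree hK, cube_add_one _ hq1]
    exact Dvd.dvd.mul_left (Dvd.dvd.mul_right hpq _) _)
  have hx1 : x ≠ 1 := by
    rintro rfl
    rw [orderOf_one] at hx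
    exact hp.one_lt.ne hx
  exact ⟨p, x, hp, hp3, hpq, hx1, by rw [← hx]; exact pow_orderOf_eq_one x⟩

theorem not_three_dvd_sub_one : ¬ 3 ∣ Fintype.card K - 1 := by
  have := ree_card_mod_three hK
  have hq1 : 1 ≤ Fintype.card K := Fintype.card_pos
  omega

theorem not_three_dvd_add_one : ¬ 3 ∣ Fintype.card K + 1 := by
  have := ree_card_mod_three hK
  omega

theorem not_three_dvd_six : ¬ 3 ∣ Fintype.card K * (Fintype.card K - 1) + 1 := by
  have h := ree_card_mod_three hK
  intro h2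
  have h3 : 3 ∣ Fintype.card K * (Fintype.card K - 1) :=
    Dvd.dvd.mul_right (Nat.dvd_of_mod_eq_zero h) _
  have := (Nat.dvd_add_right h3).mp h2
  omega

/-- The global count. -/
theorem ree_global (hm : 1 ≤ m) {p₂ : ℕ} (hp₂ : p₂.Prime) (hp₂3 : 3 < p₂)
    (hp₂q : p₂ ∣ Fintype.card K + 1) {x₂ : ↥(twistedG2 K (3 ^ m))} (hx₂1 : x₂ ≠ 1)
    (hx₂p : x₂ ^ p₂ = 1) :
    Nat.card {g : ↥(twistedG2 K (3 ^ m)) // orderOf g = 2} =
      Fintype.card K ^ 2 * (Fintype.card K * (Fintype.card K - 1) + 1) ∧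
    Nat.card {g : ↥(twistedG2 K (3 ^ m)) // orderOf g = 3} =
      ((Fintype.card K - 1) * (Fintype.card K + 1)) * (Fintype.card K ^ 3 + 1) ∧
    Nat.card {g : ↥(twistedG2 K (3 ^ m)) // orderOf g = 6} =
      Fintype.card K ^ 2 * (Fintype.card K - 1) * (Fintype.card K ^ 3 + 1) ∧
    Nat.card {g : ↥(twistedG2 K (3 ^ m)) // orderOf g = 9} =
      Fintype.card K ^ 2 * (Fintype.card K - 1) * (Fintype.card K ^ 3 + 1) ∧
    Nat.card ↥(Subgroup.normalizer (Subgroup.centralizer {x₂} : Set ↥(twistedG2 K (3 ^ m)))) =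
      6 * (Fintype.card K + 1) ∧
    3 * Nat.card {g : ↥(twistedG2 K (3 ^ m)) //
        HasP (Fintype.card K * (Fintype.card K - 1) + 1) g} =
      Fintype.card K ^ 4 * (Fintype.card K - 1) * (Fintype.card K + 1) * (Fintype.card K - 2) := by
  have hq := ree_card_ge hK hm
  have hq1 : 1 ≤ Fintype.card K := Fintype.card_pos
  -- the split torus
  obtain ⟨p₁, s₁, hp₁, hp₁3, hp₁q, hx₁1, hx₁p, hs₁⟩ := exists_split_prime hK hm
  have hC₁ : Subgroup.centralizer {ghS hK s₁} = (ghHom hK).range := split_centralizer hK hs₁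
  have hcard₁ : Nat.card ↥(Subgroup.centralizer {ghS hK s₁}) = Fintype.card K - 1 := by
    rw [hC₁, card_range_ghHom hK]
  have hB1 := torus_count_hasP hK hm hp₁ hp₁3 hx₁1 hx₁p
  have hE1 := torus_hasP_card hK (x := ghS hK s₁) (by rw [hcard₁]; exact not_three_dvd_sub_one hK)
  rw [card_sq_split hK hp₁ hp₁3 hp₁q hx₁1 hx₁p] at hE1
  rw [hcard₁] at hB1 hE1
  rw [hC₁, card_normalizer_split hK hm, ← hC₁] at hB1
  -- the torus of order `q + 1`
  have hcard₂ := (quarter_centralizer hK hm hp₂ hp₂3 hp₂q hx₂1 hx₂p).2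
  have hB2 := torus_count_hasP hK hm hp₂ hp₂3 hx₂1 hx₂p
  have hE2 := torus_hasP_card hK (x := x₂) (by rw [hcard₂]; exact not_three_dvd_add_one hK)
  rw [card_sq_quarter hK hm hp₂ hp₂3 hp₂q hx₂1 hx₂p] at hE2
  rw [hcard₂] at hB2 hE2
  -- the pairs
  have hb1 := involution_pairs (aS hK) (involution_conj' hK hm)
    (HasP (Fintype.card K - 1)) (fun k u hu => hu.conj' k) 1
    (fun u hu => card_involutions_comm_split hK hm hu)
  have hb2 := involution_pairs (aS hK) (involution_conj' hK hm)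
    (HasP (Fintype.card K + 1)) (fun k u hu => hu.conj' k) 3
    (fun u hu => card_involutions_comm_quarter hK hm hu)
  have hb3 := involution_pairs (aS hK) (involution_conj' hK hm)
    (HasP (Fintype.card K * (Fintype.card K - 1) + 1)) (fun k u hu => hu.conj' k) 0
    (fun u hu => card_involutions_comm_six hK hm hu)
  -- the partition of the centraliser of the involution
  have hC := card_partition hK hm (fun u => aS hK * u = u * aS hK)
  have ec : ∀ (P : ↥(twistedG2 K (3 ^ m)) → Prop),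
      Nat.card {g : ↥(twistedG2 K (3 ^ m)) // aS hK * g = g * aS hK ∧ P g} =
        Nat.card {g : ↥(twistedG2 K (3 ^ m)) // P g ∧ aS hK * g = g * aS hK} := by
    intro P
    apply Nat.card_congr
    apply Equiv.subtypeEquivRight
    intro g
    exact and_comm
  rw [card_cent_all hK, ec, ec, ec, ec, card_cent_18 hK, ree_sq_sub_one hK] at hC
  -- the partition of the group
  have hG := card_partition hK hm (fun _ => True)
  have et : ∀ (P : ↥(twistedG2 K (3 ^ m)) → Prop),
      Nat.card {g : ↥(twistedG2 K (3 ^ m)) // True ∧ P g} =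
        Nat.card {g : ↥(twistedG2 K (3 ^ m)) // P g} := by
    intro P
    apply Nat.card_congr
    apply Equiv.subtypeEquivRight
    intro g
    exact ⟨fun h => h.2, fun h => ⟨trivial, h⟩⟩
  rw [et, et, et, et, Nat.card_congr (Equiv.subtypeUnivEquiv (fun _ => trivial))] at hG
  have h18 := card_pow_18 hK hm
  have hn2 := card_involutions_mul hK hm
  rw [ree_sq_sub_one hK] at hn2
  have hn3 := card_order_three hK (m := m)
  have hn9 := card_order_nine hK (m := m)
  have hn6 := card_order_six hK hm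
  have hGc := card_ree hK (m := m)
  obtain ⟨k, hk⟩ : ∃ k, Fintype.card K = k + 27 := ⟨Fintype.card K - 27, by omega⟩
  rw [hk] at hB1 hB2 hE1 hE2 hb1 hb2 hb3 hC hG hn2 hn3 hn9 hn6 hGc ⊢
  have e1 : k + 27 - 1 = k + 26 := by omega
  have e2 : k + 27 + 1 = k + 28 := by omega
  have e3 : k + 26 - 2 = k + 24 := by omega
  have e4 : k + 28 - 4 = k + 24 := by omega
  have e5 : 3 * (k + 27) ^ 2 - (k + 27) = (k + 27) * (3 * k + 80) := by
    apply Nat.sub_eq_of_eq_add
    ring
  have e6 : k + 27 - 2 = k + 25 := by omega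
  rw [e1] at hB1 hE1 hb1 hb3 hC hG hn2 hn3 hn9 hGc ⊢
  rw [e2] at hB2 hE2 hb2 hC hG hn2 ⊢
  have hE1' : Nat.card {y : ↥(twistedG2 K (3 ^ m)) // y ∈ Subgroup.centralizer {ghS hK s₁} ∧
      HasP (k + 26) y} = k + 24 := by omega
  have hE2' : Nat.card {y : ↥(twistedG2 K (3 ^ m)) // y ∈ Subgroup.centralizer {x₂} ∧
      HasP (k + 28) y} = k + 24 := by omega
  rw [hE1'] at hB1
  rw [hE2'] at hB2
  rw [e5] at hC
  rw [e6]
  obtain ⟨a1, a2, a3, a4, _, a6, _, a8⟩ :=
    ree_arith k _ _ _ _ _ _ _ _ _ _ _ _ _ hGc hn2 hn3 hn9 hn6 h18 hB1 hb1 hb2 hb3 hC hB2 hG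
  exact ⟨a1, a2, a3, a4, a6, a8⟩

end ree

end Cfsg.Agent.Helper7.ReeCnt
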