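import Mathlib
import Cfsg.Agent.Helper7.ReeLinC

set_option autoImplicit false
set_option linter.unusedSectionVars false
set_option linter.unusedVariables false

/-!
An element normalising the subgroup generated by an element `x` of prime order `p`, in a group embedded in
`GL_{d+1}(q)` with `p` a primitive prime divisor of `q ^ d - 1`, conjugates `x` to a Frobenius power `x ^ (q ^ i)`.
-/

namespace Cfsg.Agent.Helper7.ReeLin

open Matrix Polynomial Cfsg.Agent.Helper7.GLCyc Cfsg.Agent.Helper7.ReeTor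

section group

variable (K : Type*) [Field K] [Fintype K] (p₀ : ℕ) [Fact p₀.Prime] [CharP K p₀] (d : ℕ) [NeZero d]

/-- The roots in `L` of the minimal polynomial of `μ` are Frobenius powers of `μ`. -/
theorem exists_frob_pow_of_root (μ ν : FiniteField.Extension K p₀ d)
    (h : aeval ν (minpoly K μ) = 0) : ∃ i < d, ν = μ ^ (Fintype.card K ^ i) := by
  have hint : IsIntegral K μ := Algebra.IsIntegral.isIntegral μ
  have h1 : IsConjRoot K μ ν := isConjRoot_of_aeval_eq_zero hint h
  obtain ⟨σ, hσ⟩ := isConjRoot_iff_exists_algEquiv.mp h1.symm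
  obtain ⟨i, hi, rfl⟩ := FiniteField.Extension.exists_frob_pow_eq K p₀ d σ
  refine ⟨i, hi, ?_⟩
  rw [← hσ, FiniteField.Extension.frob_iterate_apply, Nat.card_eq_fintype_card]

variable {G : Type*} [Group G] (ψ : G →* GL (Fin (d + 1)) K) (hψ : Function.Injective ψ)

include p₀ hψ in
/-- Conjugation by a normalising element is a Frobenius power. -/
theorem conj_eq_frob_pow {p : ℕ} (hp : p.Prime) (hpq : ¬ p ∣ Fintype.card K)
    (h : ∀ i, 1 ≤ i → i ≤ d + 1 → i ≠ d → ¬ p ∣ Fintype.card K ^ i - 1)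
    {x : G} (hx1 : x ≠ 1) (hxp : x ^ p = 1) (n : G) (j : ℕ) (hn : n * x * n⁻¹ = x ^ j) :
    ∃ i < d, x ^ j = x ^ (Fintype.card K ^ i) := by
  haveI : Fact p.Prime := ⟨hp⟩
  obtain ⟨Y, μ, hμ, hord⟩ := exists_singer_conj K p₀ d ψ hψ hp hpq h hx1 hxp
  have hox : orderOf x = p := orderOf_eq_prime hxp hx1
  -- the conjugation in `GL`
  have e : (Y⁻¹ * ψ n * Y) * singerHom K p₀ d 1 μ * (Y⁻¹ * ψ n * Y)⁻¹ = singerHom K p₀ d 1 (μ ^ j) := by
    rw [map_pow, hμ]
    have e1 : (Y⁻¹ * ψ n * Y) * (Y⁻¹ * ψ x * Y) * (Y⁻¹ * ψ n * Y)⁻¹ = Y⁻¹ * ψ (n * x * n⁻¹) * Y := by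
      rw [map_mul, map_mul, map_inv]
      group
    rw [e1, hn, map_pow]
    have := conj_pow (a := Y⁻¹) (b := ψ x) (i := j)
    rw [inv_inv] at this
    exact this.symm
  have e' := congrArg Units.val e
  rw [Units.val_mul, Units.val_mul, singerHom_val, singerHom_val, Units.val_pow_eq_pow_val] at e'
  -- the polynomial
  set P : K[X] := minpoly K (μ : FiniteField.Extension K p₀ d) * (X - C 1) with hP
  have hP0 : aeval ((((μ : (FiniteField.Extension K p₀ d)ˣ) : FiniteField.Extension K p₀ d),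
      (1 : Fin 1 → K)) : Alg K p₀ d 1) P = 0 := by
    rw [aeval_prod_apply]
    apply Prod.ext
    · show aeval (μ : FiniteField.Extension K p₀ d) P = 0
      rw [hP, map_mul, minpoly.aeval, zero_mul]
    · show aeval (1 : Fin 1 → K) P = 0
      funext i
      rw [aeval_pi_apply₂, hP, map_mul, map_sub, aeval_X, aeval_C]
      simp
  have h2 := aeval_eq_zero_of_conj (basisAlg K p₀ d 1) (Y⁻¹ * ψ n * Y) e' P hP0
  rw [aeval_prod_apply] at h2
  have h3 : aeval ((μ : FiniteField.Extension K p₀ d) ^ j) P = 0 := congrArg Prod.fst h2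
  rw [hP, map_mul, map_sub, aeval_X, aeval_C, map_one] at h3
  rcases mul_eq_zero.mp h3 with h4 | h4
  · obtain ⟨i, hi, hi2⟩ := exists_frob_pow_of_root K p₀ d _ _ h4
    refine ⟨i, hi, ?_⟩
    have h5 : μ ^ j = μ ^ (Fintype.card K ^ i) := by
      apply Units.ext
      rw [Units.val_pow_eq_pow_val, Units.val_pow_eq_pow_val]
      exact hi2
    rw [pow_eq_pow_iff_modEq, hord] at h5
    rw [pow_eq_pow_iff_modEq, hox]
    exact h5
  · exfalso
    have h5 : μ ^ j = 1 := by
      apply Units.ext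
      rw [Units.val_pow_eq_pow_val, Units.val_one]
      exact sub_eq_zero.mp h4
    have h6 := orderOf_dvd_of_pow_eq_one h5
    rw [hord, ← hox] at h6
    have h7 : x ^ j = 1 := orderOf_dvd_iff_pow_eq_one.mp h6
    rw [h7] at hn
    apply hx1
    have : x = n⁻¹ * (n * x * n⁻¹) * n := by group
    rw [this, hn]
    group

end group

end Cfsg.Agent.Helper7.ReeLin
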