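import Mathlib
import Cfsg.Agent.Helper7.ReeCntM
import Cfsg.Agent.Helper7.ReeLinF

set_option autoImplicit false
set_option linter.unusedSectionVars false
set_option linter.unusedVariables false

/-!
The normaliser of the centraliser `T` of an element of prime order dividing `q² - q + 1` in the Ree groups has order at
most `6 |T|`.
-/

namespace Cfsg.Agent.Helper7.ReeCnt

open Cfsg Cfsg.Lie Matrix Cfsg.Agent.Helper7.Chev Cfsg.Agent.Helper7.ReeAut Cfsg.Agent.Helper7.ReeTor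
  Cfsg.Agent.Helper7.ReeCyc Cfsg.Agent.Helper7.ReeLin Cfsg.Agent.Helper7.ReeSeven

section ree

variable {K : Type*} [Field K] [Fintype K] [CharP K 3] {m : ℕ}
  (hK : Fintype.card K = 3 ^ (2 * m + 1))

include hK

/-- Conjugation by an element normalising `⟨x⟩` is a Frobenius power. -/
theorem ree_conj_eq_frob_pow (hm : 1 ≤ m) {p : ℕ} (hp : p.Prime) (hp3 : 3 < p)
    (h : p ∣ Fintype.card K * (Fintype.card K - 1) + 1) {x : ↥(twistedG2 K (3 ^ m))} (hx1 : x ≠ 1)
    (hxp : x ^ p = 1) (n : ↥(twistedG2 K (3 ^ m))) (j : ℕ) (hn : n * x * n⁻¹ = x ^ j) :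
    ∃ i < 6, x ^ j = x ^ (Fintype.card K ^ i) := by
  haveI : Fact p.Prime := ⟨hp⟩
  haveI : Fact (Nat.Prime 3) := ⟨Nat.prime_three⟩
  have h3q : ¬ p ∣ Fintype.card K := by
    rw [hK]
    exact not_dvd_three_pow hp hp3 _
  let e : JIdx ≃ Fin (6 + 1) := Fintype.equivFinOfCardEq card_JIdx
  let φ : GL JIdx K ≃* GL (Fin (6 + 1)) K := Units.mapEquiv (Matrix.reindexRingEquiv K e).toMulEquiv
  let ψ : ↥(twistedG2 K (3 ^ m)) →* GL (Fin (6 + 1)) K := φ.toMonoidHom.comp (rho7 K (3 ^ m))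
  have hψ : Function.Injective ψ := φ.injective.comp (rho7_injective hm hK)
  exact conj_eq_frob_pow K 3 6 ψ hψ hp h3q
    (not_dvd_pow_sub_one hp3 (by have := Fintype.card_pos (α := K); omega) h) hx1 hxp n j hn

/-- An element normalising the torus normalises `⟨x⟩`. -/
theorem conj_mem_powers_of_mem_normalizer (hm : 1 ≤ m) {p : ℕ} (hp : p.Prime) (hp3 : 3 < p)
    {x : ↥(twistedG2 K (3 ^ m))} (hx1 : x ≠ 1) (hxp : x ^ p = 1) {n : ↥(twistedG2 K (3 ^ m))}
    (hn : n ∈ Subgroup.normalizer (Subgroup.centralizer {x} : Set ↥(twistedG2 K (3 ^ m)))) :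
    ∃ j : ℕ, n * x * n⁻¹ = x ^ j := by
  haveI : Fact p.Prime := ⟨hp⟩
  have hC := ree_centralizer_comm hm hK hp hp3 hx1 hxp
  have hxT : x ∈ Subgroup.centralizer {x} := Subgroup.mem_centralizer_singleton_iff.mpr rfl
  have hyT : n * x * n⁻¹ ∈ Subgroup.centralizer {x} := (Subgroup.mem_normalizer_iff.mp hn x).mp hxT
  have hox : orderOf x = p := orderOf_eq_prime hxp hx1
  have hoy : orderOf (n * x * n⁻¹) = p := by
    have := (MulAut.conj n).orderOf_eq x
    rw [MulAut.conj_apply] at this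
    rw [this, hox]
  have heq : Subgroup.zpowers (n * x * n⁻¹) = Subgroup.zpowers x := by
    apply subgroup_unique_of_comm (Subgroup.centralizer {x}) hC p
      (fun p' hp' hpp' P => by
        have := (Nat.prime_dvd_prime_iff_eq hp' hp).mp hpp'
        subst this
        exact ree_S1156 hm hK hp3 P) _ _
      (by rw [Subgroup.zpowers_le]; exact hyT) (by rw [Subgroup.zpowers_le]; exact hxT)
    · rw [Nat.card_zpowers, hoy]
    · rw [Nat.card_zpowers, hox]
  have h1 : n * x * n⁻¹ ∈ Subgroup.zpowers x := by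
    rw [← heq]
    exact Subgroup.mem_zpowers _
  rw [← mem_powers_iff_mem_zpowers] at h1
  obtain ⟨j, hj⟩ := h1
  exact ⟨j, hj.symm⟩

/-- The normaliser of the torus has order at most `6` times that of the torus. -/
theorem card_normalizer_le_six (hm : 1 ≤ m) {p : ℕ} (hp : p.Prime) (hp3 : 3 < p)
    (h : p ∣ Fintype.card K * (Fintype.card K - 1) + 1) {x : ↥(twistedG2 K (3 ^ m))} (hx1 : x ≠ 1)
    (hxp : x ^ p = 1) :
    Nat.card ↥(Subgroup.normalizer (Subgroup.centralizer {x} : Set ↥(twistedG2 K (3 ^ m)))) ≤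
      6 * Nat.card ↥(Subgroup.centralizer {x}) := by
  set N := Subgroup.normalizer (Subgroup.centralizer {x} : Set ↥(twistedG2 K (3 ^ m))) with hN
  let O := {y : ↥(twistedG2 K (3 ^ m)) // ∃ n ∈ N, n * x * n⁻¹ = y}
  let φ : ↥N → O := fun n => ⟨n.1 * x * n.1⁻¹, n.1, n.2, rfl⟩
  have h1 : Nat.card ↥N = Nat.card O * Nat.card ↥(Subgroup.centralizer {x}) := by
    apply card_eq_mul_of_fibers φ
    rintro ⟨y, n₀, hn₀, rfl⟩
    apply Nat.card_congr
    refine
      { toFun := fun n => ⟨n₀⁻¹ * n.1.1, ?_⟩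
        invFun := fun t => ⟨⟨n₀ * t.1, N.mul_mem hn₀ (Subgroup.le_normalizer t.2)⟩, ?_⟩
        left_inv := ?_
        right_inv := ?_ }
    · have h2 : n.1.1 * x * n.1.1⁻¹ = n₀ * x * n₀⁻¹ := congrArg Subtype.val n.2
      rw [Subgroup.mem_centralizer_singleton_iff]
      calc n₀⁻¹ * n.1.1 * x = n₀⁻¹ * (n.1.1 * x * n.1.1⁻¹) * n.1.1 := by group
        _ = n₀⁻¹ * (n₀ * x * n₀⁻¹) * n.1.1 := by rw [h2]
        _ = x * (n₀⁻¹ * n.1.1) := by group
    · apply Subtype.ext
      have h2 : t.1 * x = x * t.1 := Subgroup.mem_centralizer_singleton_iff.mp t.2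
      show n₀ * t.1 * x * (n₀ * t.1)⁻¹ = n₀ * x * n₀⁻¹
      calc n₀ * t.1 * x * (n₀ * t.1)⁻¹ = n₀ * (t.1 * x) * t.1⁻¹ * n₀⁻¹ := by group
        _ = n₀ * (x * t.1) * t.1⁻¹ * n₀⁻¹ := by rw [h2]
        _ = n₀ * x * n₀⁻¹ := by group
    · intro n
      apply Subtype.ext
      apply Subtype.ext
      show n₀ * (n₀⁻¹ * n.1.1) = n.1.1
      group
    · intro t
      apply Subtype.ext
      show n₀⁻¹ * (n₀ * t.1) = t.1
      group
  have h2 : Nat.card O ≤ 6 := by
    have key : ∀ y : O, ∃ i : Fin 6, y.1 = x ^ (Fintype.card K ^ (i : ℕ)) := by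
      rintro ⟨y, n, hn, rfl⟩
      obtain ⟨j, hj⟩ := conj_mem_powers_of_mem_normalizer hK hm hp hp3 hx1 hxp hn
      obtain ⟨i, hi, hi2⟩ := ree_conj_eq_frob_pow hK hm hp hp3 h hx1 hxp n j hj
      exact ⟨⟨i, hi⟩, hj.trans hi2⟩
    let g : O → Fin 6 := fun y => Classical.choose (key y)
    have hg : Function.Injective g := by
      intro y y' hyy'
      apply Subtype.ext
      rw [Classical.choose_spec (key y), Classical.choose_spec (key y')]
      show x ^ (Fintype.card K ^ ((g y : Fin 6) : ℕ)) = x ^ (Fintype.card K ^ ((g y' : Fin 6) : ℕ))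
      rw [hyy']
    have := Nat.card_le_card_of_injective g hg
    simpa using this
  rw [h1]
  exact Nat.mul_le_mul_right _ h2

end ree

end Cfsg.Agent.Helper7.ReeCnt
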