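import Mathlib
import Cfsg.Agent.Helper7.ReeCntN

set_option autoImplicit false
set_option linter.unusedSectionVars false
set_option linter.unusedVariables false

/-!
The tori of the Ree groups of order dividing `q² - q + 1`: basic properties used in the count.
-/

namespace Cfsg.Agent.Helper7.ReeCnt

open Cfsg Cfsg.Lie Matrix Cfsg.Agent.Helper7.Chev Cfsg.Agent.Helper7.ReeAut Cfsg.Agent.Helper7.ReeTor
  Cfsg.Agent.Helper7.ReeCyc Cfsg.Agent.Helper7.ReeLin

theorem nine_pow_mod_five (m : ℕ) : 9 ^ m % 5 = 1 ∨ 9 ^ m % 5 = 4 := by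
  induction m with
  | zero => left; norm_num
  | succ n ih =>
    rw [pow_succ]
    rcases ih with h | h <;> omega

section ree

variable {K : Type*} [Field K] [Fintype K] [CharP K 3] {m : ℕ}
  (hK : Fintype.card K = 3 ^ (2 * m + 1))

include hK

theorem not_five_dvd_six : ¬ 5 ∣ Fintype.card K * (Fintype.card K - 1) + 1 := by
  have e : Fintype.card K = 3 * 9 ^ m := by
    rw [hK, pow_succ, pow_mul]
    norm_num [mul_comm]
  have hq1 : 1 ≤ Fintype.card K := Fintype.card_pos
  obtain ⟨n, hn⟩ : ∃ n, Fintype.card K = n + 1 := ⟨Fintype.card K - 1, by omega⟩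
  rw [hn, Nat.add_sub_cancel]
  rcases nine_pow_mod_five m with h | h
  · have h5 : n % 5 = 2 := by omega
    intro h6
    have : (n + 1) * n % 5 = 1 := by
      rw [Nat.mul_mod, h5]
      have : (n + 1) % 5 = 3 := by omega
      rw [this]
    omega
  · have h5 : n % 5 = 1 := by omega
    intro h6
    have : (n + 1) * n % 5 = 2 := by
      rw [Nat.mul_mod, h5]
      have : (n + 1) % 5 = 2 := by omega
      rw [this]
    omega

theorem not_two_dvd_six : ¬ 2 ∣ Fintype.card K * (Fintype.card K - 1) + 1 := by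
  have := Nat.even_mul_pred_self (Fintype.card K)
  rw [even_iff_two_dvd] at this
  intro h2
  have := (Nat.dvd_add_right this).mp h2
  omega

/-- A prime dividing `q² - q + 1` is at least `7`. -/
theorem seven_le_of_dvd_six {p : ℕ} (hp : p.Prime)
    (h : p ∣ Fintype.card K * (Fintype.card K - 1) + 1) : 7 ≤ p := by
  have h2 : p ≠ 2 := by rintro rfl; exact not_two_dvd_six hK h
  have h3 : p ≠ 3 := by rintro rfl; exact not_three_dvd_six hK h
  have h5 : p ≠ 5 := by rintro rfl; exact not_five_dvd_six hK h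
  have h4 : p ≠ 4 := by rintro rfl; norm_num at hp
  have h6 : p ≠ 6 := by rintro rfl; norm_num at hp
  have := hp.two_le
  omega

/-- Two commuting... if a prime `p'` divides the order of the torus of `x`, the torus of an element of order
`p'` has the same order. -/
theorem card_centralizer_eq_of_dvd (hm : 1 ≤ m) {p p' : ℕ} (hp : p.Prime) (hp3 : 3 < p)
    (hp' : p'.Prime) (hp3' : 3 < p') {x x' : ↥(twistedG2 K (3 ^ m))} (hx1 : x ≠ 1) (hxp : x ^ p = 1)
    (hx1' : x' ≠ 1) (hxp' : x' ^ p' = 1) (hdvd : p' ∣ Nat.card ↥(Subgroup.centralizer {x})) :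
    Nat.card ↥(Subgroup.centralizer {x'}) = Nat.card ↥(Subgroup.centralizer {x}) ∧
      Nat.card ↥(Subgroup.normalizer (Subgroup.centralizer {x'} : Set ↥(twistedG2 K (3 ^ m)))) =
        Nat.card ↥(Subgroup.normalizer (Subgroup.centralizer {x} : Set ↥(twistedG2 K (3 ^ m)))) := by
  have : Fact p'.Prime := ⟨hp'⟩
  have hox' : orderOf x' = p' := orderOf_eq_prime hxp' hx1'
  obtain ⟨k, hk⟩ := conj_mem_torus hK hm hp hp3 hp' hp3' hx1 hxp hdvd (g := x')
    (by rw [hox'])
  have e := centralizer_eq_of_comm hK hm hp hp3 hp' hp3' hx1 hxp (conj_ne_one hx1')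
    (by rw [conj_pow', hxp', mul_one, inv_mul_cancel]) (Subgroup.mem_centralizer_singleton_iff.mp hk)
  have e2 : x' = k * (k⁻¹ * x' * k) * k⁻¹ := by group
  constructor
  · rw [e2, card_centralizer_conj, e]
  · rw [← e]
    -- the normaliser of a conjugate
    apply Nat.card_congr
    refine
      { toFun := fun n => ⟨k⁻¹ * n.1 * k, ?_⟩
        invFun := fun n => ⟨k * n.1 * k⁻¹, ?_⟩
        left_inv := ?_
        right_inv := ?_ }
    · apply Subgroup.mem_normalizer_fintype
      intro u hu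
      have hu' : u ∈ Subgroup.centralizer {k⁻¹ * x' * k} := hu
      rw [mem_centralizer_conj] at hu'
      have h1 := (Subgroup.mem_normalizer_iff.mp n.2 _).mp hu'
      show k⁻¹ * n.1 * k * u * (k⁻¹ * n.1 * k)⁻¹ ∈ Subgroup.centralizer {k⁻¹ * x' * k}
      rw [mem_centralizer_conj]
      have e3 : k * (k⁻¹ * n.1 * k * u * (k⁻¹ * n.1 * k)⁻¹) * k⁻¹ = n.1 * (k * u * k⁻¹) * n.1⁻¹ := by
        group
      rw [e3]
      exact h1
    · apply Subgroup.mem_normalizer_fintype
      intro u hu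
      have hu' : u ∈ Subgroup.centralizer {x'} := hu
      have h0 : k⁻¹ * u * k ∈ Subgroup.centralizer {k⁻¹ * x' * k} := by
        rw [mem_centralizer_conj]
        have : k * (k⁻¹ * u * k) * k⁻¹ = u := by group
        rw [this]
        exact hu'
      have h1 := (Subgroup.mem_normalizer_iff.mp n.2 _).mp h0
      rw [mem_centralizer_conj] at h1
      show k * n.1 * k⁻¹ * u * (k * n.1 * k⁻¹)⁻¹ ∈ Subgroup.centralizer {x'}
      have e3 : k * (n.1 * (k⁻¹ * u * k) * n.1⁻¹) * k⁻¹ = k * n.1 * k⁻¹ * u * (k * n.1 * k⁻¹)⁻¹ := by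
        group
      rw [← e3]
      exact h1
    · intro n
      apply Subtype.ext
      show k * (k⁻¹ * n.1 * k) * k⁻¹ = n.1
      group
    · intro n
      apply Subtype.ext
      show k⁻¹ * (k * n.1 * k⁻¹) * k = n.1
      group

/-- Basic properties of the order of a torus dividing `q² - q + 1`. -/
theorem six_torus_props (hm : 1 ≤ m) {p : ℕ} (hp : p.Prime)
    (h : p ∣ Fintype.card K * (Fintype.card K - 1) + 1) {x : ↥(twistedG2 K (3 ^ m))} (hx1 : x ≠ 1)
    (hxp : x ^ p = 1) :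
    3 < p ∧ Nat.card ↥(Subgroup.centralizer {x}) ∣ Fintype.card K * (Fintype.card K - 1) + 1 ∧
      p ∣ Nat.card ↥(Subgroup.centralizer {x}) ∧ 7 ≤ Nat.card ↥(Subgroup.centralizer {x}) ∧
      Nat.card ↥(Subgroup.centralizer {x}) ∣
        Nat.card ↥(Subgroup.normalizer (Subgroup.centralizer {x} : Set ↥(twistedG2 K (3 ^ m)))) ∧
      Nat.card ↥(Subgroup.normalizer (Subgroup.centralizer {x} : Set ↥(twistedG2 K (3 ^ m)))) ≤
        6 * Nat.card ↥(Subgroup.centralizer {x}) ∧
      Nat.card {g : ↥(twistedG2 K (3 ^ m)) // HasP (Nat.card ↥(Subgroup.centralizer {x})) g} *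
          Nat.card ↥(Subgroup.normalizer (Subgroup.centralizer {x} : Set ↥(twistedG2 K (3 ^ m)))) + 
          Nat.card ↥(twistedG2 K (3 ^ m)) =
        Nat.card ↥(twistedG2 K (3 ^ m)) * Nat.card ↥(Subgroup.centralizer {x}) := by
  have : Fact p.Prime := ⟨hp⟩
  have h7 := seven_le_of_dvd_six hK hp h
  have hp3 : 3 < p := by omega
  have hdvd := card_centralizer_dvd_six hK hm hp hp3 h hx1 hxp
  have hox : orderOf x = p := orderOf_eq_prime hxp hx1
  have hpT : p ∣ Nat.card ↥(Subgroup.centralizer {x}) := by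
    rw [← hox]
    exact Subgroup.orderOf_dvd_natCard _ (Subgroup.mem_centralizer_singleton_iff.mpr rfl)
  have hpos : 0 < Nat.card ↥(Subgroup.centralizer {x}) := Nat.card_pos
  refine ⟨hp3, hdvd, hpT, h7.trans (Nat.le_of_dvd hpos hpT), ?_, ?_, ?_⟩
  · exact Subgroup.card_dvd_of_le Subgroup.le_normalizer
  · exact card_normalizer_le_six hK hm hp hp3 h hx1 hxp
  · have h1 := torus_count_hasP hK hm hp hp3 hx1 hxp
    have h2 := torus_hasP_card hK (x := x) (fun h3 => not_three_dvd_six hK (h3.trans hdvd))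
    rw [card_sq_six hK hm hp hp3 h hx1 hxp] at h2
    obtain ⟨a, ha⟩ : ∃ a, a = Nat.card {y : ↥(twistedG2 K (3 ^ m)) // y ∈ Subgroup.centralizer {x} ∧
        HasP (Nat.card ↥(Subgroup.centralizer {x})) y} := ⟨_, rfl⟩
    rw [← ha] at h1 h2
    rw [h1, ← h2]
    ring

/-- The Hall property: a torus contains a Sylow subgroup for each prime dividing its order. -/
theorem six_torus_hall (hm : 1 ≤ m) {p r : ℕ} (hp : p.Prime) (hp3 : 3 < p) (hr : r.Prime) (hr3 : 3 < r)
    {x : ↥(twistedG2 K (3 ^ m))} (hx1 : x ≠ 1) (hxp : x ^ p = 1)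
    (hdvd : r ∣ Nat.card ↥(Subgroup.centralizer {x})) :
    r ^ (Nat.card ↥(twistedG2 K (3 ^ m))).factorization r ∣ Nat.card ↥(Subgroup.centralizer {x}) := by
  have : Fact r.Prime := ⟨hr⟩
  obtain ⟨⟨y, hyT⟩, hyo⟩ := exists_prime_orderOf_dvd_card' (G := ↥(Subgroup.centralizer {x})) r hdvd
  have hyo' : orderOf y = r := by
    rw [← hyo]
    exact (Subgroup.orderOf_mk y hyT).symm
  have hy1 : y ≠ 1 := by
    rintro rfl
    rw [orderOf_one] at hyo'
    exact hr.one_lt.ne hyo'
  have hyr : y ^ r = 1 := by rw [← hyo']; exact pow_orderOf_eq_one y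
  have e := centralizer_eq_of_comm hK hm hp hp3 hr hr3 hx1 hxp hy1 hyr
    (Subgroup.mem_centralizer_singleton_iff.mp hyT)
  have hP : IsPGroup r ↥(Subgroup.zpowers y) := by
    apply IsPGroup.of_card (n := 1)
    rw [Nat.card_zpowers, hyo', pow_one]
  obtain ⟨R, hR⟩ := hP.exists_le_sylow
  haveI : IsCyclic (R : Subgroup ↥(twistedG2 K (3 ^ m))) := ree_S1156 hm hK hr3 R
  have hRle : (R : Subgroup ↥(twistedG2 K (3 ^ m))) ≤ Subgroup.centralizer {y} := by
    intro s hs
    rw [Subgroup.mem_centralizer_singleton_iff]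
    letI := IsCyclic.commGroup (α := ↥(R : Subgroup ↥(twistedG2 K (3 ^ m))))
    have hyR : y ∈ (R : Subgroup ↥(twistedG2 K (3 ^ m))) := hR (Subgroup.mem_zpowers y)
    exact congrArg Subtype.val (mul_comm (⟨s, hs⟩ : ↥(R : Subgroup ↥(twistedG2 K (3 ^ m)))) ⟨y, hyR⟩)
  rw [← e, ← Sylow.card_eq_multiplicity R]
  exact Subgroup.card_dvd_of_le hRle

/-- The sets of elements attached to two tori of different type are disjoint. -/
theorem six_torus_disjoint (hm : 1 ≤ m) {p p' : ℕ} (hp : p.Prime) (hp' : p'.Prime)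
    (h : p ∣ Fintype.card K * (Fintype.card K - 1) + 1)
    (h' : p' ∣ Fintype.card K * (Fintype.card K - 1) + 1)
    {x x' : ↥(twistedG2 K (3 ^ m))} (hx1 : x ≠ 1) (hxp : x ^ p = 1)
    (hx1' : x' ≠ 1) (hxp' : x' ^ p' = 1)
    (hnd : ¬ p' ∣ Nat.card ↥(Subgroup.centralizer {x})) (g : ↥(twistedG2 K (3 ^ m)))
    (hg : HasP (Nat.card ↥(Subgroup.centralizer {x})) g)
    (hg' : HasP (Nat.card ↥(Subgroup.centralizer {x'})) g) : False := by
  obtain ⟨hp3, hdvd, hpT, _⟩ := six_torus_props hK hm hp h hx1 hxp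
  obtain ⟨hp3', hdvd', hpT', _⟩ := six_torus_props hK hm hp' h' hx1' hxp'
  obtain ⟨r, hr, hr3, hrg, hrm⟩ := hg
  obtain ⟨r', hr', hr3', hrg', hrm'⟩ := hg'
  obtain ⟨k, hk1, hkr⟩ := exists_pow_prime_order hr hrg
  obtain ⟨k', hk1', hkr'⟩ := exists_pow_prime_order hr' hrg'
  -- the torus of `g ^ k` has the order of that of `x`
  have e1 := (card_centralizer_eq_of_dvd hK hm hp hp3 hr hr3 hx1 hxp hk1 hkr hrm).1
  have hgC : g ∈ Subgroup.centralizer {g ^ k} := by
    rw [Subgroup.mem_centralizer_singleton_iff, ← pow_succ, ← pow_succ']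
  have h1 : r' ∣ Nat.card ↥(Subgroup.centralizer {x}) := by
    rw [← e1]
    exact hrg'.trans (Subgroup.orderOf_dvd_natCard _ hgC)
  have e2 := (card_centralizer_eq_of_dvd hK hm hp hp3 hr' hr3' hx1 hxp hk1' hkr' h1).1
  have e3 := (card_centralizer_eq_of_dvd hK hm hp' hp3' hr' hr3' hx1' hxp' hk1' hkr' hrm').1
  apply hnd
  rw [← e2, e3]
  exact hpT'

end ree

end Cfsg.Agent.Helper7.ReeCnt
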