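import Mathlib

set_option autoImplicit false
set_option linter.unusedSectionVars false
set_option linter.unusedVariables false

/-!
Arithmetic lemmas for the tori of order dividing `q² - q + 1` of the Ree groups.
-/

namespace Cfsg.Agent.Helper7.ReeCnt

/-- A single class of tori is impossible. -/
theorem arith_one_class (q M m₁ c w₁ : ℕ) (hq : 27 ≤ q) (hM : M = q * (q - 1) + 1) (hc : M = c * m₁)
    (hm₁ : 7 ≤ m₁) (hw1 : 1 ≤ w₁) (hw6 : w₁ ≤ 6)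
    (h : 3 * M * (m₁ - 1) = w₁ * m₁ * (q * (q - 2))) : False := by
  obtain ⟨k, rfl⟩ : ∃ k, q = k + 27 := ⟨q - 27, by omega⟩
  obtain ⟨a, rfl⟩ : ∃ a, m₁ = a + 7 := ⟨m₁ - 7, by omega⟩
  have e1 : k + 27 - 1 = k + 26 := by omega
  have e2 : k + 27 - 2 = k + 25 := by omega
  have e3 : a + 7 - 1 = a + 6 := by omega
  rw [e1] at hM
  rw [e2, e3] at h
  -- `q (q - 2) = M - q - 1`
  have hQ : (k + 27) * (k + 25) + (k + 27) + 1 = M := by rw [hM]; ring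
  -- cancel `m₁`
  have h2 : 3 * c * (a + 6) = w₁ * ((k + 27) * (k + 25)) := by
    have h3 : (a + 7) * (3 * c * (a + 6)) = (a + 7) * (w₁ * ((k + 27) * (k + 25))) := by
      have : 3 * M * (a + 6) = 3 * (c * (a + 7)) * (a + 6) := by rw [hc]
      calc (a + 7) * (3 * c * (a + 6)) = 3 * (c * (a + 7)) * (a + 6) := by ring
        _ = 3 * M * (a + 6) := this.symm
        _ = w₁ * (a + 7) * ((k + 27) * (k + 25)) := h
        _ = (a + 7) * (w₁ * ((k + 27) * (k + 25))) := by ring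
    exact Nat.eq_of_mul_eq_mul_left (by omega) h3
  have h7c : 7 * c ≤ M := by
    rw [hc]
    nlinarith
  have hMbig : 6 * (k + 28) + 1 ≤ M := by
    rw [hM]
    nlinarith
  have hc1 : 1 ≤ c := by
    rcases Nat.eq_zero_or_pos c with h0 | h0
    · rw [h0, zero_mul] at hc
      omega
    · exact h0
  -- `3 c m₁ - 3 c = w₁ (M - q - 1)`
  have h4 : 3 * M + w₁ * (k + 28) = w₁ * M + 3 * c := by
    have e5 : 3 * c * (a + 6) + 3 * c = 3 * M := by rw [hc]; ring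
    have e6 : w₁ * ((k + 27) * (k + 25)) + w₁ * (k + 28) = w₁ * M := by rw [← hQ]; ring
    omega
  interval_cases w₁
  · omega
  · omega
  · -- `c = q + 1`
    have hcq : c = k + 28 := by omega
    rw [hcq] at hc
    rw [hc] at hM
    have h8 : a + 7 ≤ k + 25 ∨ k + 26 ≤ a + 7 := by omega
    rcases h8 with h8 | h8
    · nlinarith
    · nlinarith
  · omega
  · omega
  · omega

/-- Linear core of `arith_two_classes`. -/
theorem arith_two_aux (M m₁ m₂ d₁ d₂ Qm q1 w₁ w₂ : ℕ) (hQ : Qm + q1 = M) (hd₁ : M = m₁ + d₁)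
    (hd₂ : M = m₂ + d₂) (hsum : 7 * (m₁ + m₂) ≤ M + 49) (hMbig : 703 ≤ M)
    (hw1 : 1 ≤ w₁) (hw1' : w₁ ≤ 6) (hw2 : 1 ≤ w₂) (hw2' : w₂ ≤ 6)
    (hE : 3 * (w₂ * d₂ + w₁ * d₁) = w₁ * w₂ * Qm) :
    w₁ = 6 ∧ w₂ = 6 ∧ m₁ + m₂ = 2 * q1 := by
  interval_cases w₁ <;> interval_cases w₂ <;> omega

/-- Two classes of tori: the normalisers have index `6` and the orders add up to `2 (q + 1)`. -/
theorem arith_two_classes (q M m₁ m₂ w₁ w₂ : ℕ) (hq : 27 ≤ q) (hMq : M = q * (q - 1) + 1)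
    (hM : M = m₁ * m₂) (hm₁ : 7 ≤ m₁) (hm₂ : 7 ≤ m₂) (hw1 : 1 ≤ w₁) (hw1' : w₁ ≤ 6) (hw2 : 1 ≤ w₂)
    (hw2' : w₂ ≤ 6)
    (hE : 3 * (w₂ * (M - m₂) + w₁ * (M - m₁)) = w₁ * w₂ * (q * (q - 2))) :
    w₁ = 6 ∧ w₂ = 6 ∧ m₁ + m₂ = 2 * (q + 1) := by
  obtain ⟨k, rfl⟩ : ∃ k, q = k + 27 := ⟨q - 27, by omega⟩
  have e1 : k + 27 - 1 = k + 26 := by omega
  have e2 : k + 27 - 2 = k + 25 := by omega
  rw [e1] at hMq
  rw [e2] at hE
  have hQ : (k + 27) * (k + 25) + (k + 27) + 1 = M := by rw [hMq]; ring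
  have hle1 : m₁ ≤ M := by rw [hM]; nlinarith
  have hle2 : m₂ ≤ M := by rw [hM]; nlinarith
  have hsum : 7 * (m₁ + m₂) ≤ M + 49 := by
    obtain ⟨a, rfl⟩ : ∃ a, m₁ = a + 7 := ⟨m₁ - 7, by omega⟩
    obtain ⟨b, rfl⟩ : ∃ b, m₂ = b + 7 := ⟨m₂ - 7, by omega⟩
    rw [hM]
    nlinarith
  have hMbig : 703 ≤ M := by
    rw [hMq]
    nlinarith
  obtain ⟨Qm, hQm⟩ : ∃ Qm, Qm = (k + 27) * (k + 25) := ⟨_, rfl⟩
  rw [← hQm] at hE hQ
  obtain ⟨d₁, hd₁⟩ : ∃ d, M = m₁ + d := ⟨M - m₁, by omega⟩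
  obtain ⟨d₂, hd₂⟩ : ∃ d, M = m₂ + d := ⟨M - m₂, by omega⟩
  have e3 : M - m₁ = d₁ := by omega
  have e4 : M - m₂ = d₂ := by omega
  rw [e3, e4] at hE
  have hQ' : Qm + (k + 27 + 1) = M := by omega
  exact arith_two_aux M m₁ m₂ d₁ d₂ Qm (k + 27 + 1) w₁ w₂ hQ' hd₁ hd₂ hsum hMbig hw1 hw1' hw2 hw2' hE

/-- The two orders are `q + 1 ± r`. -/
theorem arith_orders (q r m₁ m₂ : ℕ) (hr : r ^ 2 = 3 * q) (hrq : r ≤ q) (h1 : m₁ + m₂ = 2 * (q + 1))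
    (h2 : m₁ * m₂ = q * (q - 1) + 1) (hq : 1 ≤ q) : m₁ = q - r + 1 ∨ m₁ = q + r + 1 := by
  obtain ⟨k, rfl⟩ : ∃ k, q = k + 1 := ⟨q - 1, by omega⟩
  rw [Nat.add_sub_cancel] at h2
  have h3 : ((m₁ : ℤ) - ((k : ℤ) + 2)) ^ 2 = (r : ℤ) ^ 2 := by
    have h1' : (m₁ : ℤ) + m₂ = 2 * ((k : ℤ) + 1 + 1) := by exact_mod_cast h1
    have h2' : (m₁ : ℤ) * m₂ = ((k : ℤ) + 1) * k + 1 := by exact_mod_cast h2
    have hr' : (r : ℤ) ^ 2 = 3 * ((k : ℤ) + 1) := by exact_mod_cast hr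
    have hm₂ : (m₂ : ℤ) = 2 * ((k : ℤ) + 1 + 1) - m₁ := by linarith
    rw [hm₂] at h2'
    rw [hr']
    linear_combination -h2'
  rcases sq_eq_sq_iff_eq_or_eq_neg.mp h3 with h4 | h4
  · right
    have : (m₁ : ℤ) = (k : ℤ) + 1 + r + 1 := by linarith
    exact_mod_cast this
  · left
    have h5 : (m₁ : ℤ) + r = (k : ℤ) + 2 := by linarith
    have h6 : m₁ + r = k + 2 := by exact_mod_cast h5
    omega

end Cfsg.Agent.Helper7.ReeCnt
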