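import Mathlib
import Cfsg.Agent.Helper7.ReeCntO
import Cfsg.Agent.Helper7.ReeCntP

set_option autoImplicit false
set_option linter.unusedSectionVars false
set_option linter.unusedVariables false

/-!
The tori of the Ree groups of order dividing `q² - q + 1`: there are exactly two classes, of orders
`q - r + 1` and `q + r + 1`, with normalisers of index `6`.
-/

namespace Cfsg.Agent.Helper7.ReeCnt

open Cfsg Cfsg.Lie Matrix Cfsg.Agent.Helper7.Chev Cfsg.Agent.Helper7.ReeAut Cfsg.Agent.Helper7.ReeTor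
  Cfsg.Agent.Helper7.ReeCyc Cfsg.Agent.Helper7.ReeLin

theorem card_le_of_imp {α : Type*} [Finite α] (P Q : α → Prop) (h : ∀ a, P a → Q a) :
    Nat.card {a // P a} ≤ Nat.card {a // Q a} :=
  Nat.card_le_card_of_injective (fun a => (⟨a.1, h a.1 a.2⟩ : {a // Q a}))
    (fun a b hab => Subtype.ext (congrArg (fun z : {a // Q a} => z.1) hab))

theorem HasP.mono {G : Type*} [Group G] {n n' : ℕ} {g : G} (hn : n ∣ n') (h : HasP n g) :
    HasP n' g := by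
  obtain ⟨p, hp, hp3, h1, h2⟩ := h
  exact ⟨p, hp, hp3, h1, h2.trans hn⟩

theorem seven_mul_ge (X N G m : ℕ) (h1 : X * N + G = G * m) (h2 : N ≤ 6 * m) (h7 : 7 ≤ m) :
    G ≤ 7 * X := by
  by_contra hlt
  push_neg at hlt
  have hlt' : 7 * X + 1 ≤ G := hlt
  have h3 : X * N ≤ X * (6 * m) := Nat.mul_le_mul_left X h2
  have h4 : G * 7 ≤ G * m := Nat.mul_le_mul_left G h7
  have h5 : (7 * X + 1) * m ≤ G * m := Nat.mul_le_mul_right m hlt'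
  have e1 : X * (6 * m) = 6 * (X * m) := by ring
  have e2 : (7 * X + 1) * m = 7 * (X * m) + m := by ring
  rw [e1] at h3
  rw [e2] at h5
  omega

/-- The arithmetic identity for a single class. -/
theorem one_class_eq (G X M Q m₁ w₁ N₁ : ℕ) (hG : 0 < G) (h1 : X * N₁ + G = G * m₁)
    (hg : 3 * X * M = G * Q) (hN₁ : N₁ = m₁ * w₁) (hm₁ : 1 ≤ m₁) :
    3 * M * (m₁ - 1) = w₁ * m₁ * Q := by
  obtain ⟨a, rfl⟩ : ∃ a, m₁ = a + 1 := ⟨m₁ - 1, by omega⟩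
  subst hN₁
  rw [Nat.add_sub_cancel]
  apply Nat.eq_of_mul_eq_mul_left hG
  have h1z : ((X * ((a + 1) * w₁) + G : ℕ) : ℤ) = ((G * (a + 1) : ℕ) : ℤ) := by rw [h1]
  have hgz : ((3 * X * M : ℕ) : ℤ) = ((G * Q : ℕ) : ℤ) := by rw [hg]
  push_cast at h1z hgz
  have : ((G * (3 * M * a) : ℕ) : ℤ) = ((G * (w₁ * (a + 1) * Q) : ℕ) : ℤ) := by
    push_cast
    linear_combination (-3 * (M : ℤ)) * h1z + ((w₁ : ℤ) * ((a : ℤ) + 1)) * hgz
  exact_mod_cast this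

/-- The arithmetic identity for two classes. -/
theorem two_class_eq (G X₁ X₂ B M Q m₁ m₂ w₁ w₂ N₁ N₂ : ℕ) (hG : 0 < G)
    (h1 : X₁ * N₁ + G = G * m₁) (h2 : X₂ * N₂ + G = G * m₂) (hB : B = X₁ + X₂)
    (hg : 3 * B * M = G * Q) (hM : M = m₁ * m₂) (hN₁ : N₁ = m₁ * w₁) (hN₂ : N₂ = m₂ * w₂)
    (hm₁ : 1 ≤ m₁) (hm₂ : 1 ≤ m₂) :
    3 * (w₂ * (M - m₂) + w₁ * (M - m₁)) = w₁ * w₂ * Q := by
  obtain ⟨a₁, rfl⟩ : ∃ a, m₁ = a + 1 := ⟨m₁ - 1, by omega⟩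
  obtain ⟨a₂, rfl⟩ : ∃ a, m₂ = a + 1 := ⟨m₂ - 1, by omega⟩
  subst hN₁ hN₂ hB hM
  have e1 : (a₁ + 1) * (a₂ + 1) - (a₂ + 1) = a₁ * (a₂ + 1) := Nat.sub_eq_of_eq_add (by ring)
  have e2 : (a₁ + 1) * (a₂ + 1) - (a₁ + 1) = a₂ * (a₁ + 1) := Nat.sub_eq_of_eq_add (by ring)
  rw [e1, e2]
  apply Nat.eq_of_mul_eq_mul_left hG
  have h1z : ((X₁ * ((a₁ + 1) * w₁) + G : ℕ) : ℤ) = ((G * (a₁ + 1) : ℕ) : ℤ) := by rw [h1]
  have h2z : ((X₂ * ((a₂ + 1) * w₂) + G : ℕ) : ℤ) = ((G * (a₂ + 1) : ℕ) : ℤ) := by rw [h2]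
  have hgz : ((3 * (X₁ + X₂) * ((a₁ + 1) * (a₂ + 1)) : ℕ) : ℤ) = ((G * Q : ℕ) : ℤ) := by rw [hg]
  push_cast at h1z h2z hgz
  have : ((G * (3 * (w₂ * (a₁ * (a₂ + 1)) + w₁ * (a₂ * (a₁ + 1)))) : ℕ) : ℤ) =
      ((G * (w₁ * w₂ * Q) : ℕ) : ℤ) := by
    push_cast
    linear_combination (-3 * (w₂ : ℤ) * ((a₂ : ℤ) + 1)) * h1z + (-3 * (w₁ : ℤ) * ((a₁ : ℤ) + 1)) * h2z +
      ((w₁ : ℤ) * w₂) * hgz
  exact_mod_cast this

/-- Three classes are too many. -/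
theorem three_class_false (G B M Q X₁ X₂ X₃ : ℕ) (hG : 0 < G) (hg : 3 * B * M = G * Q)
    (hQM : Q < M) (hB : X₁ + (X₂ + X₃) ≤ B) (h1 : G ≤ 7 * X₁) (h2 : G ≤ 7 * X₂) (h3 : G ≤ 7 * X₃) :
    False := by
  have h4 : 3 * G ≤ 7 * B := by omega
  have h5 : 3 * M * (3 * G) ≤ 3 * M * (7 * B) := Nat.mul_le_mul_left _ h4
  have e1 : 3 * M * (7 * B) = 7 * (3 * B * M) := by ring
  have e2 : 3 * M * (3 * G) = 9 * (G * M) := by ring
  rw [e1, e2, hg] at h5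
  have h6 : G * (Q + 1) ≤ G * M := Nat.mul_le_mul_left G hQM
  have e3 : G * (Q + 1) = G * Q + G := by ring
  rw [e3] at h6
  omega

section ree

variable {K : Type*} [Field K] [Fintype K] [CharP K 3] {m : ℕ}
  (hK : Fintype.card K = 3 ^ (2 * m + 1))

include hK

theorem six_dvd_card :
    Fintype.card K * (Fintype.card K - 1) + 1 ∣ Nat.card ↥(twistedG2 K (3 ^ m)) := by
  rw [card_ree hK]
  have hq1 : 1 ≤ Fintype.card K := Fintype.card_pos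
  obtain ⟨n, hn⟩ : ∃ n, Fintype.card K = n + 1 := ⟨Fintype.card K - 1, by omega⟩
  rw [hn, Nat.add_sub_cancel]
  exact ⟨(n + 1) ^ 3 * n * (n + 2), by ring⟩

theorem exists_elt_of_prime_dvd_six {p : ℕ} (hp : p.Prime)
    (h : p ∣ Fintype.card K * (Fintype.card K - 1) + 1) :
    ∃ x : ↥(twistedG2 K (3 ^ m)), x ≠ 1 ∧ x ^ p = 1 := by
  have : Fact p.Prime := ⟨hp⟩
  obtain ⟨x, hx⟩ := exists_prime_orderOf_dvd_card' (G := ↥(twistedG2 K (3 ^ m))) p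
    (h.trans (six_dvd_card hK))
  refine ⟨x, ?_, ?_⟩
  · rintro rfl
    rw [orderOf_one] at hx
    exact hp.one_lt.ne hx
  · rw [← hx]
    exact pow_orderOf_eq_one x

/-- The global count of the elements attached to the tori dividing `q² - q + 1`. -/
theorem six_global (hm : 1 ≤ m) :
    3 * Nat.card {g : ↥(twistedG2 K (3 ^ m)) //
        HasP (Fintype.card K * (Fintype.card K - 1) + 1) g} *
        (Fintype.card K * (Fintype.card K - 1) + 1) =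
      Nat.card ↥(twistedG2 K (3 ^ m)) * (Fintype.card K * (Fintype.card K - 2)) := by
  obtain ⟨p₂, x₂, hp₂, hp₂3, hp₂q, hx₂1, hx₂p⟩ := exists_quarter_prime hK hm
  obtain ⟨-, -, -, -, -, h⟩ := ree_global hK hm hp₂ hp₂3 hp₂q hx₂1 hx₂p
  rw [h, card_ree hK]
  have hq := ree_card_ge hK hm
  obtain ⟨n, hn⟩ : ∃ n, Fintype.card K = n + 2 := ⟨Fintype.card K - 2, by omega⟩
  rw [hn]
  have e1 : n + 2 - 1 = n + 1 := by omega
  have e2 : n + 2 - 2 = n := by omega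
  rw [e1, e2]
  ring

end ree

end Cfsg.Agent.Helper7.ReeCnt
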