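import Mathlib
import Cfsg.Agent.Helper7.ReeCntQ

set_option autoImplicit false
set_option linter.unusedSectionVars false
set_option linter.unusedVariables false

/-!
The tori of the Ree groups of order dividing `q² - q + 1`: there are exactly two classes, of orders
`q - r + 1` and `q + r + 1`, with normalisers of index `6`.
-/

namespace Cfsg.Agent.Helper7.ReeCnt

open Cfsg Cfsg.Lie Matrix Cfsg.Agent.Helper7.Chev Cfsg.Agent.Helper7.ReeAut Cfsg.Agent.Helper7.ReeTor
  Cfsg.Agent.Helper7.ReeCyc Cfsg.Agent.Helper7.ReeLin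

section ree

variable {K : Type*} [Field K] [Fintype K] [CharP K 3] {m : ℕ}
  (hK : Fintype.card K = 3 ^ (2 * m + 1))

include hK

/-- The numerical data of a torus dividing `q² - q + 1`. -/
theorem torus_data (hm : 1 ≤ m) {p : ℕ} (hp : p.Prime)
    (h : p ∣ Fintype.card K * (Fintype.card K - 1) + 1) {x : ↥(twistedG2 K (3 ^ m))} (hx1 : x ≠ 1)
    (hxp : x ^ p = 1) :
    ∃ w : ℕ, 1 ≤ w ∧ w ≤ 6 ∧
      Nat.card ↥(Subgroup.normalizer (Subgroup.centralizer {x} : Set ↥(twistedG2 K (3 ^ m)))) =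
        Nat.card ↥(Subgroup.centralizer {x}) * w ∧
      Nat.card ↥(twistedG2 K (3 ^ m)) ≤
        7 * Nat.card {g : ↥(twistedG2 K (3 ^ m)) // HasP (Nat.card ↥(Subgroup.centralizer {x})) g} := by
  obtain ⟨hp3, hdvd, hpT, h7, ⟨w, hw⟩, hN6, hcount⟩ := six_torus_props hK hm hp h hx1 hxp
  have hNpos : 0 < Nat.card ↥(Subgroup.normalizer
    (Subgroup.centralizer {x} : Set ↥(twistedG2 K (3 ^ m)))) := Nat.card_pos
  refine ⟨w, ?_, ?_, hw, ?_⟩
  · rcases Nat.eq_zero_or_pos w with h0 | h0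
    · rw [h0, mul_zero] at hw
      omega
    · exact h0
  · rw [hw, mul_comm] at hN6
    exact Nat.le_of_mul_le_mul_right hN6 (by omega)
  · exact seven_mul_ge _ _ _ _ hcount hN6 h7

/-- The two classes of tori of order dividing `q² - q + 1`. -/
theorem six_tori (hm : 1 ≤ m) (r : ℕ) (hr : r ^ 2 = 3 * Fintype.card K) :
    ∃ (p₁ p₂ : ℕ) (x₁ x₂ : ↥(twistedG2 K (3 ^ m))), p₁.Prime ∧ p₂.Prime ∧
      p₁ ∣ Fintype.card K * (Fintype.card K - 1) + 1 ∧
      p₂ ∣ Fintype.card K * (Fintype.card K - 1) + 1 ∧ x₁ ≠ 1 ∧ x₁ ^ p₁ = 1 ∧ x₂ ≠ 1 ∧ x₂ ^ p₂ = 1 ∧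
      Nat.card ↥(Subgroup.centralizer {x₁}) = Fintype.card K - r + 1 ∧
      Nat.card ↥(Subgroup.centralizer {x₂}) = Fintype.card K + r + 1 ∧
      Nat.card ↥(Subgroup.normalizer (Subgroup.centralizer {x₁} : Set ↥(twistedG2 K (3 ^ m)))) =
        6 * Nat.card ↥(Subgroup.centralizer {x₁}) ∧
      Nat.card ↥(Subgroup.normalizer (Subgroup.centralizer {x₂} : Set ↥(twistedG2 K (3 ^ m)))) =
        6 * Nat.card ↥(Subgroup.centralizer {x₂}) ∧
      ∀ p : ℕ, p.Prime → p ∣ Fintype.card K * (Fintype.card K - 1) + 1 →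
        p ∣ Nat.card ↥(Subgroup.centralizer {x₁}) ∨ p ∣ Nat.card ↥(Subgroup.centralizer {x₂}) := by
  have hq := ree_card_ge hK hm
  have hGpos : 0 < Nat.card ↥(twistedG2 K (3 ^ m)) := Nat.card_pos
  have hglob := six_global hK hm
  have hM1 : Fintype.card K * (Fintype.card K - 1) + 1 ≠ 1 := by
    have : 0 < Fintype.card K * (Fintype.card K - 1) := Nat.mul_pos (by omega) (by omega)
    omega
  have hQM : Fintype.card K * (Fintype.card K - 2) <
      Fintype.card K * (Fintype.card K - 1) + 1 := by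
    have : Fintype.card K * (Fintype.card K - 2) ≤ Fintype.card K * (Fintype.card K - 1) :=
      Nat.mul_le_mul_left _ (by omega)
    omega
  obtain ⟨p₁, hp₁, h₁⟩ := Nat.exists_prime_and_dvd hM1
  obtain ⟨x₁, hx₁1, hx₁p⟩ := exists_elt_of_prime_dvd_six hK hp₁ h₁
  obtain ⟨hp3₁, hdvd₁, hpT₁, h7₁, -, -, hcount₁⟩ := six_torus_props hK hm hp₁ h₁ hx₁1 hx₁p
  obtain ⟨w₁, hw₁1, hw₁6, hN₁, hX₁⟩ := torus_data hK hm hp₁ h₁ hx₁1 hx₁p
  by_cases hA : ∀ p : ℕ, p.Prime → p ∣ Fintype.card K * (Fintype.card K - 1) + 1 →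
      p ∣ Nat.card ↥(Subgroup.centralizer {x₁})
  · -- a single class: impossible
    exfalso
    have hBX : Nat.card {g : ↥(twistedG2 K (3 ^ m)) //
        HasP (Fintype.card K * (Fintype.card K - 1) + 1) g} =
        Nat.card {g : ↥(twistedG2 K (3 ^ m)) // HasP (Nat.card ↥(Subgroup.centralizer {x₁})) g} := by
      apply le_antisymm
      · apply card_le_of_imp
        rintro g ⟨p, hp, hp3, h1, h2⟩
        exact ⟨p, hp, hp3, h1, hA p hp h2⟩
      · apply card_le_of_imp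
        intro g hg
        exact hg.mono hdvd₁
    rw [hBX] at hglob
    obtain ⟨c, hc⟩ := hdvd₁
    have h := one_class_eq _ _ _ _ _ w₁ _ hGpos hcount₁ hglob hN₁ (by omega)
    exact arith_one_class (Fintype.card K) _ (Nat.card ↥(Subgroup.centralizer {x₁})) c w₁ hq rfl
      (by rw [hc, mul_comm]) h7₁ hw₁1 hw₁6 h
  · push_neg at hA
    obtain ⟨p₂, hp₂, h₂, hnd₁₂⟩ := hA
    obtain ⟨x₂, hx₂1, hx₂p⟩ := exists_elt_of_prime_dvd_six hK hp₂ h₂
    obtain ⟨hp3₂, hdvd₂, hpT₂, h7₂, -, -, hcount₂⟩ := six_torus_props hK hm hp₂ h₂ hx₂1 hx₂p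
    obtain ⟨w₂, hw₂1, hw₂6, hN₂, hX₂⟩ := torus_data hK hm hp₂ h₂ hx₂1 hx₂p
    have d12 := six_torus_disjoint hK hm hp₁ hp₂ h₁ h₂ hx₁1 hx₁p hx₂1 hx₂p hnd₁₂
    by_cases hB : ∀ p : ℕ, p.Prime → p ∣ Fintype.card K * (Fintype.card K - 1) + 1 →
        p ∣ Nat.card ↥(Subgroup.centralizer {x₁}) ∨ p ∣ Nat.card ↥(Subgroup.centralizer {x₂})
    · -- two classes
      have hcop : Nat.Coprime (Nat.card ↥(Subgroup.centralizer {x₁}))
          (Nat.card ↥(Subgroup.centralizer {x₂})) := by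
        apply Nat.coprime_of_dvd
        intro s hs hs1 hs2
        have hsM := hs1.trans hdvd₁
        have hs3 : 3 < s := by
          have := seven_le_of_dvd_six hK hs hsM
          omega
        obtain ⟨y, hy1, hys⟩ := exists_elt_of_prime_dvd_six hK hs hsM
        have e1 := (card_centralizer_eq_of_dvd hK hm hp₁ hp3₁ hs hs3 hx₁1 hx₁p hy1 hys hs1).1
        have e2 := (card_centralizer_eq_of_dvd hK hm hp₂ hp3₂ hs hs3 hx₂1 hx₂p hy1 hys hs2).1
        apply hnd₁₂
        rw [← e1, e2]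
        exact hpT₂
      have hMdvd : Fintype.card K * (Fintype.card K - 1) + 1 ∣
          Nat.card ↥(Subgroup.centralizer {x₁}) * Nat.card ↥(Subgroup.centralizer {x₂}) := by
        rw [Nat.dvd_iff_prime_pow_dvd_dvd]
        intro s k hs hsk
        rcases Nat.eq_zero_or_pos k with hk0 | hk0
        · rw [hk0, pow_zero]
          exact one_dvd _
        have hsM : s ∣ Fintype.card K * (Fintype.card K - 1) + 1 :=
          (dvd_pow_self s hk0.ne').trans hsk
        have hs3 : 3 < s := by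
          have := seven_le_of_dvd_six hK hs hsM
          omega
        have hkle : k ≤ (Nat.card ↥(twistedG2 K (3 ^ m))).factorization s :=
          (Nat.Prime.pow_dvd_iff_le_factorization hs hGpos.ne').mp (hsk.trans (six_dvd_card hK))
        rcases hB s hs hsM with hs1 | hs2
        · exact ((pow_dvd_pow s hkle).trans
            (six_torus_hall hK hm hp₁ hp3₁ hs hs3 hx₁1 hx₁p hs1)).trans (Dvd.intro _ rfl)
        · exact ((pow_dvd_pow s hkle).trans
            (six_torus_hall hK hm hp₂ hp3₂ hs hs3 hx₂1 hx₂p hs2)).trans (Dvd.intro_left _ rfl)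
      have hMeq : Fintype.card K * (Fintype.card K - 1) + 1 =
          Nat.card ↥(Subgroup.centralizer {x₁}) * Nat.card ↥(Subgroup.centralizer {x₂}) :=
        Nat.dvd_antisymm hMdvd (Nat.Coprime.mul_dvd_of_dvd_of_dvd hcop hdvd₁ hdvd₂)
      have hBX : Nat.card {g : ↥(twistedG2 K (3 ^ m)) //
          HasP (Fintype.card K * (Fintype.card K - 1) + 1) g} =
          Nat.card {g : ↥(twistedG2 K (3 ^ m)) // HasP (Nat.card ↥(Subgroup.centralizer {x₁})) g} +
          Nat.card {g : ↥(twistedG2 K (3 ^ m)) // HasP (Nat.card ↥(Subgroup.centralizer {x₂})) g} := by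
        rw [← card_or _ _ d12]
        apply Nat.card_congr
        apply Equiv.subtypeEquivRight
        intro g
        constructor
        · rintro ⟨p, hp, hp3, h1, h2⟩
          rcases hB p hp h2 with h3 | h3
          · exact Or.inl ⟨p, hp, hp3, h1, h3⟩
          · exact Or.inr ⟨p, hp, hp3, h1, h3⟩
        · rintro (hg | hg)
          · exact hg.mono hdvd₁
          · exact hg.mono hdvd₂
      have hE := two_class_eq _ _ _ _ _ _ _ _ w₁ w₂ _ _ hGpos hcount₁ hcount₂ hBX hglob hMeq hN₁ hN₂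
        (by omega) (by omega)
      obtain ⟨e1, e2, e3⟩ := arith_two_classes (Fintype.card K) _ _ _ w₁ w₂ hq rfl hMeq h7₁ h7₂
        hw₁1 hw₁6 hw₂1 hw₂6 hE
      rw [e1] at hN₁
      rw [e2] at hN₂
      have hrq : r ≤ Fintype.card K := by
        by_contra hlt
        push_neg at hlt
        nlinarith
      rcases arith_orders (Fintype.card K) r _ _ hr hrq e3 hMeq.symm (by omega) with e4 | e4
      · refine ⟨p₁, p₂, x₁, x₂, hp₁, hp₂, h₁, h₂, hx₁1, hx₁p, hx₂1, hx₂p, e4, by omega,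
          by rw [hN₁, mul_comm], by rw [hN₂, mul_comm], hB⟩
      · refine ⟨p₂, p₁, x₂, x₁, hp₂, hp₁, h₂, h₁, hx₂1, hx₂p, hx₁1, hx₁p, by omega, e4,
          by rw [hN₂, mul_comm], by rw [hN₁, mul_comm], fun p hp hpM => (hB p hp hpM).symm⟩
    · -- three classes: impossible
      exfalso
      push_neg at hB
      obtain ⟨p₃, hp₃, h₃, hnd₁₃, hnd₂₃⟩ := hB
      obtain ⟨x₃, hx₃1, hx₃p⟩ := exists_elt_of_prime_dvd_six hK hp₃ h₃
      obtain ⟨hp3₃, hdvd₃, hpT₃, h7₃, -, -, hcount₃⟩ := six_torus_props hK hm hp₃ h₃ hx₃1 hx₃p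
      obtain ⟨w₃, hw₃1, hw₃6, hN₃, hX₃⟩ := torus_data hK hm hp₃ h₃ hx₃1 hx₃p
      have d13 := six_torus_disjoint hK hm hp₁ hp₃ h₁ h₃ hx₁1 hx₁p hx₃1 hx₃p hnd₁₃
      have d23 := six_torus_disjoint hK hm hp₂ hp₃ h₂ h₃ hx₂1 hx₂p hx₃1 hx₃p hnd₂₃
      have hle : Nat.card {g : ↥(twistedG2 K (3 ^ m)) //
            HasP (Nat.card ↥(Subgroup.centralizer {x₁})) g} +
          (Nat.card {g : ↥(twistedG2 K (3 ^ m)) // HasP (Nat.card ↥(Subgroup.centralizer {x₂})) g} +
          Nat.card {g : ↥(twistedG2 K (3 ^ m)) // HasP (Nat.card ↥(Subgroup.centralizer {x₃})) g}) ≤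
          Nat.card {g : ↥(twistedG2 K (3 ^ m)) //
            HasP (Fintype.card K * (Fintype.card K - 1) + 1) g} := by
        rw [← card_or _ _ d23, ← card_or]
        · apply card_le_of_imp
          rintro g (hg | hg | hg)
          · exact hg.mono hdvd₁
          · exact hg.mono hdvd₂
          · exact hg.mono hdvd₃
        · rintro g hg (hg' | hg')
          · exact d12 g hg hg'
          · exact d13 g hg hg'
      exact three_class_false _ _ _ _ _ _ _ hGpos hglob hQM hle hX₁ hX₂ hX₃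

end ree

end Cfsg.Agent.Helper7.ReeCnt
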