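import Mathlib
import Cfsg.Agent.Helper7.ReeCntR

set_option autoImplicit false
set_option linter.unusedSectionVars false
set_option linter.unusedVariables false

/-!
Cyclic subgroups of the tori of the Ree groups and their normalisers.
-/

namespace Cfsg.Agent.Helper7.ReeCnt

open Cfsg Cfsg.Lie Matrix Cfsg.Agent.Helper7.Chev Cfsg.Agent.Helper7.ReeAut Cfsg.Agent.Helper7.ReeTor
  Cfsg.Agent.Helper7.ReeCyc Cfsg.Agent.Helper7.ReeLin

section abstract

variable {G : Type*} [Group G]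

/-- A commutative subgroup of a finite group is cyclic as soon as the Sylow subgroups of the group are
cyclic for the primes dividing its order. -/
theorem isCyclic_of_comm_of_sylow [Finite G] (A : Subgroup G) (hA : ∀ a ∈ A, ∀ b ∈ A, a * b = b * a)
    (hd : ∀ p : ℕ, p.Prime → p ∣ Nat.card A → ∀ P : Sylow p G, IsCyclic P) : IsCyclic A := by
  haveI : IsZGroup A := by
    refine ⟨fun p hp P => ?_⟩
    haveI : Fact p.Prime := ⟨hp⟩
    by_cases hpd : p ∣ Nat.card A
    · have h1 : IsPGroup p ((P : Subgroup A).map A.subtype) := P.isPGroup'.map _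
      obtain ⟨Q, hQ⟩ := h1.exists_le_sylow
      haveI : IsCyclic (Q : Subgroup G) := hd p hp hpd Q
      haveI : IsCyclic ((P : Subgroup A).map A.subtype) := Subgroup.isCyclic_of_le hQ
      let e2 := (P : Subgroup A).equivMapOfInjective A.subtype A.subtype_injective
      exact isCyclic_of_surjective e2.symm e2.symm.surjective
    · have hcard : Nat.card (P : Subgroup A) = 1 := by
        rw [Sylow.card_eq_multiplicity, Nat.factorization_eq_zero_of_not_dvd hpd, pow_zero]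
      haveI : Subsingleton (P : Subgroup A) := (Nat.card_eq_one_iff_unique.mp hcard).1
      exact isCyclic_of_subsingleton
  letI : CommGroup A :=
    { (inferInstance : Group A) with mul_comm := fun a b => Subtype.ext (hA a a.2 b b.2) }
  infer_instance

/-- The subgroup of the squares of a commutative subgroup. -/
def sqIn (T : Subgroup G) (hT : ∀ a ∈ T, ∀ b ∈ T, a * b = b * a) : Subgroup G where
  carrier := {c | ∃ t ∈ T, c = t * t}
  one_mem' := ⟨1, T.one_mem, (one_mul 1).symm⟩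
  mul_mem' := by
    rintro _ _ ⟨t, ht, rfl⟩ ⟨s, hs, rfl⟩
    refine ⟨t * s, T.mul_mem ht hs, ?_⟩
    have h := hT t ht s hs
    calc t * t * (s * s) = t * (t * s) * s := by group
      _ = t * (s * t) * s := by rw [h]
      _ = t * s * (t * s) := by group
  inv_mem' := by
    rintro _ ⟨t, ht, rfl⟩
    exact ⟨t⁻¹, T.inv_mem ht, by group⟩

theorem mem_sqIn {T : Subgroup G} {hT : ∀ a ∈ T, ∀ b ∈ T, a * b = b * a} {c : G} :
    c ∈ sqIn T hT ↔ ∃ t ∈ T, c = t * t := Iff.rfl

theorem sqIn_le (T : Subgroup G) (hT : ∀ a ∈ T, ∀ b ∈ T, a * b = b * a) : sqIn T hT ≤ T := by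
  rintro _ ⟨t, ht, rfl⟩
  exact T.mul_mem ht ht

theorem card_sqIn [Finite G] (T : Subgroup G) (hT : ∀ a ∈ T, ∀ b ∈ T, a * b = b * a) :
    Nat.card T = Nat.card (sqIn T hT) * Nat.card {y : G // y ∈ T ∧ y * y = 1} := by
  let φ : T → sqIn T hT := fun t => ⟨t.1 * t.1, t.1, t.2, rfl⟩
  apply card_eq_mul_of_fibers φ
  rintro ⟨_, t₀, ht₀, rfl⟩
  apply Nat.card_congr
  refine
    { toFun := fun t => ⟨t₀⁻¹ * t.1.1, T.mul_mem (T.inv_mem ht₀) t.1.2, ?_⟩
      invFun := fun y => ⟨⟨t₀ * y.1, T.mul_mem ht₀ y.2.1⟩, ?_⟩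
      left_inv := ?_
      right_inv := ?_ }
  · have h1 : t.1.1 * t.1.1 = t₀ * t₀ := congrArg Subtype.val t.2
    have h2 := hT t.1.1 t.1.2 t₀⁻¹ (T.inv_mem ht₀)
    calc t₀⁻¹ * t.1.1 * (t₀⁻¹ * t.1.1) = t₀⁻¹ * (t.1.1 * t₀⁻¹) * t.1.1 := by group
      _ = t₀⁻¹ * (t₀⁻¹ * t.1.1) * t.1.1 := by rw [h2]
      _ = t₀⁻¹ * t₀⁻¹ * (t.1.1 * t.1.1) := by group
      _ = 1 := by rw [h1]; group
  · apply Subtype.ext
    show t₀ * y.1 * (t₀ * y.1) = t₀ * t₀
    have h2 := hT y.1 y.2.1 t₀ ht₀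
    calc t₀ * y.1 * (t₀ * y.1) = t₀ * (y.1 * t₀) * y.1 := by group
      _ = t₀ * (t₀ * y.1) * y.1 := by rw [h2]
      _ = t₀ * t₀ * (y.1 * y.1) := by group
      _ = t₀ * t₀ := by rw [y.2.2, mul_one]
  · intro t
    apply Subtype.ext
    apply Subtype.ext
    show t₀ * (t₀⁻¹ * t.1.1) = t.1.1
    group
  · intro y
    apply Subtype.ext
    show t₀⁻¹ * (t₀ * y.1) = y.1
    group

/-- An element of odd order of a commutative subgroup is a square. -/
theorem mem_sqIn_of_odd {T : Subgroup G} {hT : ∀ a ∈ T, ∀ b ∈ T, a * b = b * a} {y : G} (hy : y ∈ T)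
    {i : ℕ} (hi : Odd i) (hyi : y ^ i = 1) : y ∈ sqIn T hT := by
  obtain ⟨j, rfl⟩ := hi
  refine ⟨y ^ (j + 1), T.pow_mem hy _, ?_⟩
  rw [← pow_add]
  have : j + 1 + (j + 1) = 2 * j + 1 + 1 := by ring
  rw [this, pow_succ, hyi, one_mul]

/-- The number of elements of given order of a cyclic subgroup. -/
theorem card_orderOf_eq_totient_of_cyclic [Finite G] (A : Subgroup G) [IsCyclic A] {i : ℕ}
    (hi : i ∣ Nat.card A) : Nat.card {y : G // y ∈ A ∧ orderOf y = i} = Nat.totient i := by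
  classical
  haveI := Fintype.ofFinite A
  have h := IsCyclic.card_orderOf_eq_totient (α := A) (d := i) (by rwa [← Nat.card_eq_fintype_card])
  rw [← h, ← Fintype.card_subtype, ← Nat.card_eq_fintype_card]
  apply Nat.card_congr
  exact
    { toFun := fun y => ⟨⟨y.1, y.2.1⟩, (Subgroup.orderOf_mk y.1 y.2.1).trans y.2.2⟩
      invFun := fun a => ⟨a.1.1, a.1.2, (Subgroup.orderOf_coe a.1).trans a.2⟩
      left_inv := fun y => rfl
      right_inv := fun a => rfl }

end abstract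

section ree

variable {K : Type*} [Field K] [Fintype K] [CharP K 3] {m : ℕ}
  (hK : Fintype.card K = 3 ^ (2 * m + 1))

include hK

omit hK in
/-- A prime different from `2` and `3` is bigger than `3`. -/
theorem three_lt_of_prime {s : ℕ} (hs : s.Prime) (h2 : s ≠ 2) (h3 : s ≠ 3) : 3 < s := by
  have := hs.two_le
  omega

/-- The normaliser of a non-trivial subgroup of order prime to `6` of a torus is the normaliser of the
torus. -/
theorem normalizer_eq_of_le_torus (hm : 1 ≤ m) {p : ℕ} (hp : p.Prime) (hp3 : 3 < p)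
    {x : ↥(twistedG2 K (3 ^ m))} (hx1 : x ≠ 1) (hxp : x ^ p = 1)
    (A₀ : Subgroup ↥(twistedG2 K (3 ^ m))) (hA₀ : A₀ ≤ Subgroup.centralizer {x}) (hne : A₀ ≠ ⊥)
    (h2 : ¬ 2 ∣ Nat.card A₀) (h3 : ¬ 3 ∣ Nat.card A₀) :
    Subgroup.normalizer (A₀ : Set ↥(twistedG2 K (3 ^ m))) =
      Subgroup.normalizer (Subgroup.centralizer {x} : Set ↥(twistedG2 K (3 ^ m))) := by
  have hC := ree_centralizer_comm hm hK hp hp3 hx1 hxp
  have hcard1 : Nat.card A₀ ≠ 1 := fun h => hne (Subgroup.card_eq_one.mp h)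
  obtain ⟨p', hp', hp'd⟩ := Nat.exists_prime_and_dvd hcard1
  have hp'3 : 3 < p' := three_lt_of_prime hp' (by rintro rfl; exact h2 hp'd)
    (by rintro rfl; exact h3 hp'd)
  have : Fact p'.Prime := ⟨hp'⟩
  obtain ⟨⟨y, hyA⟩, hyo⟩ := exists_prime_orderOf_dvd_card' (G := A₀) p' hp'd
  have hyo' : orderOf y = p' := by
    rw [← hyo]
    exact (Subgroup.orderOf_mk y hyA).symm
  have hy1 : y ≠ 1 := by
    rintro rfl
    rw [orderOf_one] at hyo'
    exact hp'.one_lt.ne hyo'
  have hyp : y ^ p' = 1 := by rw [← hyo']; exact pow_orderOf_eq_one y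
  have hyx : y * x = x * y := Subgroup.mem_centralizer_singleton_iff.mp (hA₀ hyA)
  have e := centralizer_eq_of_comm hK hm hp hp3 hp' hp'3 hx1 hxp hy1 hyp hyx
  apply le_antisymm
  · intro n hn
    have hy' : n * y * n⁻¹ ∈ A₀ := (Subgroup.mem_normalizer_iff.mp hn y).mp hyA
    have hy'1 : n * y * n⁻¹ ≠ 1 := by
      have := conj_ne_one (g := n⁻¹) hy1
      rwa [inv_inv] at this
    have hy'p : (n * y * n⁻¹) ^ p' = 1 := by
      have := conj_pow' n⁻¹ y p'
      rw [inv_inv] at this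
      rw [this, hyp, mul_one, mul_inv_cancel]
    have hy'x : n * y * n⁻¹ * x = x * (n * y * n⁻¹) :=
      Subgroup.mem_centralizer_singleton_iff.mp (hA₀ hy')
    have e' := centralizer_eq_of_comm hK hm hp hp3 hp' hp'3 hx1 hxp hy'1 hy'p hy'x
    apply Subgroup.mem_normalizer_fintype
    intro u hu
    have hu' : u ∈ Subgroup.centralizer {x} := hu
    rw [← e, Subgroup.mem_centralizer_singleton_iff] at hu'
    show n * u * n⁻¹ ∈ Subgroup.centralizer {x}
    rw [← e', Subgroup.mem_centralizer_singleton_iff]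
    calc n * u * n⁻¹ * (n * y * n⁻¹) = n * (u * y) * n⁻¹ := by group
      _ = n * (y * u) * n⁻¹ := by rw [hu']
      _ = n * y * n⁻¹ * (n * u * n⁻¹) := by group
  · intro n hn
    have hle : A₀.map (MulAut.conj n).toMonoidHom ≤ Subgroup.centralizer {x} := by
      rintro _ ⟨a, ha, rfl⟩
      exact (Subgroup.mem_normalizer_iff.mp hn a).mp (hA₀ ha)
    have hcard : Nat.card (A₀.map (MulAut.conj n).toMonoidHom) = Nat.card A₀ :=
      Subgroup.card_map_of_injective (MulAut.conj n).injective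
    have hd : ∀ s : ℕ, s.Prime → s ∣ Nat.card A₀ →
        ∀ P : Sylow s ↥(twistedG2 K (3 ^ m)), IsCyclic P := by
      intro s hs hsd P
      have : Fact s.Prime := ⟨hs⟩
      exact ree_S1156 hm hK (three_lt_of_prime hs (by rintro rfl; exact h2 hsd)
        (by rintro rfl; exact h3 hsd)) P
    have heq := subgroup_unique_of_comm (Subgroup.centralizer {x}) hC (Nat.card A₀) hd
      (A₀.map (MulAut.conj n).toMonoidHom) A₀ hle hA₀ hcard rfl
    apply Subgroup.mem_normalizer_fintype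
    intro a ha
    have ha' : a ∈ A₀ := ha
    show n * a * n⁻¹ ∈ A₀
    rw [← heq]
    exact ⟨a, ha', rfl⟩

/-- A commutative subgroup of order prime to `6` of the Ree group is cyclic. -/
theorem ree_isCyclic_of_comm (hm : 1 ≤ m) (A : Subgroup ↥(twistedG2 K (3 ^ m)))
    (hA : ∀ a ∈ A, ∀ b ∈ A, a * b = b * a) (h2 : ¬ 2 ∣ Nat.card A) (h3 : ¬ 3 ∣ Nat.card A) :
    IsCyclic A := by
  apply isCyclic_of_comm_of_sylow A hA
  intro s hs hsd P
  have : Fact s.Prime := ⟨hs⟩
  exact ree_S1156 hm hK (three_lt_of_prime hs (by rintro rfl; exact h2 hsd)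
    (by rintro rfl; exact h3 hsd)) P

end ree

end Cfsg.Agent.Helper7.ReeCnt
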