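import Mathlib
import Cfsg.Agent.Helper7.ReeCntS

set_option autoImplicit false
set_option linter.unusedSectionVars false
set_option linter.unusedVariables false

/-!
The Hall subgroups of the tori of the Ree groups.
-/

namespace Cfsg.Agent.Helper7.ReeCnt

open Cfsg Cfsg.Lie Matrix Cfsg.Agent.Helper7.Chev Cfsg.Agent.Helper7.ReeAut Cfsg.Agent.Helper7.ReeTor
  Cfsg.Agent.Helper7.ReeCyc Cfsg.Agent.Helper7.ReeLin

section ree

variable {K : Type*} [Field K] [Fintype K] [CharP K 3] {m : ℕ}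
  (hK : Fintype.card K = 3 ^ (2 * m + 1))

include hK

/-- The subgroup of the squares of a torus: a cyclic Hall subgroup, all of whose non-trivial subgroups have
the normaliser of the torus. -/
theorem torus_hall (hm : 1 ≤ m) {p : ℕ} (hp : p.Prime) (hp3 : 3 < p)
    {x : ↥(twistedG2 K (3 ^ m))} (hx1 : x ≠ 1) (hxp : x ^ p = 1) (k : ℕ)
    (hk : Nat.card ↥(Subgroup.centralizer {x}) =
      k * Nat.card {y : ↥(twistedG2 K (3 ^ m)) // y ∈ Subgroup.centralizer {x} ∧ y * y = 1})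
    (hk2 : ¬ 2 ∣ k) (hk3 : ¬ 3 ∣ k) (hk1 : k ≠ 1) :
    ∃ A : Subgroup ↥(twistedG2 K (3 ^ m)), IsCyclic A ∧ Nat.card A = k ∧
      A ≤ Subgroup.centralizer {x} ∧ (∀ t ∈ Subgroup.centralizer {x}, t * t ∈ A) ∧
      (∀ t ∈ Subgroup.centralizer {x}, ∀ i : ℕ, Odd i → t ^ i = 1 → t ∈ A) ∧
      Subgroup.normalizer (A : Set ↥(twistedG2 K (3 ^ m))) =
        Subgroup.normalizer (Subgroup.centralizer {x} : Set ↥(twistedG2 K (3 ^ m))) ∧
      ∀ A₀ : Subgroup ↥(twistedG2 K (3 ^ m)), A₀ ≤ A → A₀ ≠ ⊥ →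
        Subgroup.normalizer (A₀ : Set ↥(twistedG2 K (3 ^ m))) =
          Subgroup.normalizer (Subgroup.centralizer {x} : Set ↥(twistedG2 K (3 ^ m))) := by
  have hC := ree_centralizer_comm hm hK hp hp3 hx1 hxp
  have hle := sqIn_le (Subgroup.centralizer {x}) hC
  have hcpos : 0 < Nat.card {y : ↥(twistedG2 K (3 ^ m)) //
      y ∈ Subgroup.centralizer {x} ∧ y * y = 1} := by
    haveI : Nonempty {y : ↥(twistedG2 K (3 ^ m)) // y ∈ Subgroup.centralizer {x} ∧ y * y = 1} :=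
      ⟨⟨1, one_mem _, one_mul 1⟩⟩
    exact Nat.card_pos
  have hcard : Nat.card ↥(sqIn (Subgroup.centralizer {x}) hC) = k := by
    have h1 := card_sqIn (Subgroup.centralizer {x}) hC
    rw [hk] at h1
    exact (Nat.eq_of_mul_eq_mul_right hcpos h1).symm
  have hcomm : ∀ a ∈ sqIn (Subgroup.centralizer {x}) hC, ∀ b ∈ sqIn (Subgroup.centralizer {x}) hC,
      a * b = b * a := fun a ha b hb => hC a (hle ha) b (hle hb)
  have key : ∀ A₀ : Subgroup ↥(twistedG2 K (3 ^ m)), A₀ ≤ sqIn (Subgroup.centralizer {x}) hC →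
      A₀ ≠ ⊥ → Subgroup.normalizer (A₀ : Set ↥(twistedG2 K (3 ^ m))) =
        Subgroup.normalizer (Subgroup.centralizer {x} : Set ↥(twistedG2 K (3 ^ m))) := by
    intro A₀ hA₀ hne
    have hdvd : Nat.card A₀ ∣ k := by
      rw [← hcard]
      exact Subgroup.card_dvd_of_le hA₀
    exact normalizer_eq_of_le_torus hK hm hp hp3 hx1 hxp A₀ (hA₀.trans hle) hne
      (fun h => hk2 (h.trans hdvd)) (fun h => hk3 (h.trans hdvd))
  refine ⟨sqIn (Subgroup.centralizer {x}) hC, ?_, hcard, hle, ?_, ?_, ?_, key⟩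
  · exact ree_isCyclic_of_comm hK hm _ hcomm (by rw [hcard]; exact hk2) (by rw [hcard]; exact hk3)
  · intro t ht
    exact ⟨t, ht, rfl⟩
  · intro t ht i hi hti
    exact mem_sqIn_of_odd ht hi hti
  · apply key _ le_rfl
    intro h
    apply hk1
    rw [← hcard, h]
    exact Subgroup.card_bot

/-- The split torus. -/
theorem exists_torus_split (hm : 1 ≤ m) :
    ∃ (p : ℕ) (x : ↥(twistedG2 K (3 ^ m))), p.Prime ∧ 3 < p ∧ p ∣ Fintype.card K - 1 ∧ x ≠ 1 ∧
      x ^ p = 1 ∧ Nat.card ↥(Subgroup.centralizer {x}) = Fintype.card K - 1 ∧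
      Nat.card ↥(Subgroup.normalizer (Subgroup.centralizer {x} : Set ↥(twistedG2 K (3 ^ m)))) =
        2 * (Fintype.card K - 1) ∧ IsCyclic ↥(Subgroup.centralizer {x}) := by
  obtain ⟨p, s, hp, hp3, hpq, hx1, hxp, hs2⟩ := exists_split_prime hK hm
  refine ⟨p, ghS hK s, hp, hp3, hpq, hx1, hxp, ?_, ?_, ?_⟩
  · rw [split_centralizer hK hs2, card_range_ghHom hK]
  · rw [split_centralizer hK hs2, card_normalizer_split hK hm]
  · rw [split_centralizer hK hs2]
    exact isCyclic_of_surjective (ghHom hK).rangeRestrict (ghHom hK).rangeRestrict_surjective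

/-- The torus of order `q + 1`. -/
theorem exists_torus_quarter (hm : 1 ≤ m) :
    ∃ (p : ℕ) (x : ↥(twistedG2 K (3 ^ m))), p.Prime ∧ 3 < p ∧ p ∣ Fintype.card K + 1 ∧ x ≠ 1 ∧
      x ^ p = 1 ∧ Nat.card ↥(Subgroup.centralizer {x}) = Fintype.card K + 1 ∧
      Nat.card ↥(Subgroup.normalizer (Subgroup.centralizer {x} : Set ↥(twistedG2 K (3 ^ m)))) =
        6 * (Fintype.card K + 1) := by
  obtain ⟨p, x, hp, hp3, hpq, hx1, hxp⟩ := exists_quarter_prime hK hm
  obtain ⟨-, -, -, -, h, -⟩ := ree_global hK hm hp hp3 hpq hx1 hxp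
  exact ⟨p, x, hp, hp3, hpq, hx1, hxp, (quarter_centralizer hK hm hp hp3 hpq hx1 hxp).2, h⟩

end ree

end Cfsg.Agent.Helper7.ReeCnt
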