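import Mathlib
import Cfsg.Agent.Helper7.ReeCntT

set_option autoImplicit false
set_option linter.unusedSectionVars false
set_option linter.unusedVariables false

/-!
The number of elements of each order in the Ree groups: the semisimple classes.
-/

namespace Cfsg.Agent.Helper7.ReeCnt

open Cfsg Cfsg.Lie Matrix Cfsg.Agent.Helper7.Chev Cfsg.Agent.Helper7.ReeAut Cfsg.Agent.Helper7.ReeTor
  Cfsg.Agent.Helper7.ReeCyc Cfsg.Agent.Helper7.ReeLin

section ree

variable {K : Type*} [Field K] [Fintype K] [CharP K 3] {m : ℕ}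
  (hK : Fintype.card K = 3 ^ (2 * m + 1))

include hK

/-- The elements of order `i` are counted in a torus, if `i` is divisible by a prime `p' > 3` dividing the
order of the torus. -/
theorem card_order_torus (hm : 1 ≤ m) {p : ℕ} (hp : p.Prime) (hp3 : 3 < p)
    {x : ↥(twistedG2 K (3 ^ m))} (hx1 : x ≠ 1) (hxp : x ^ p = 1) (i : ℕ) {p' : ℕ} (hp' : p'.Prime)
    (hp'3 : 3 < p') (hp'i : p' ∣ i) (hp'T : p' ∣ Nat.card ↥(Subgroup.centralizer {x})) :
    Nat.card {g : ↥(twistedG2 K (3 ^ m)) // orderOf g = i} *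
        Nat.card ↥(Subgroup.normalizer (Subgroup.centralizer {x} : Set ↥(twistedG2 K (3 ^ m)))) =
      Nat.card ↥(twistedG2 K (3 ^ m)) *
        Nat.card {y : ↥(twistedG2 K (3 ^ m)) // y ∈ Subgroup.centralizer {x} ∧ orderOf y = i} :=
  torus_count hK hm hp hp3 hx1 hxp (fun g => orderOf g = i)
    (fun k u hu => (orderOf_conj' k u).trans hu)
    (fun u hu => ⟨p', hp', hp'3, by rw [hu]; exact hp'i, hp'T⟩)

/-- The elements of order `i > 2` dividing `q - 1`. -/
theorem card_order_split (hm : 1 ≤ m) (i : ℕ) (hi2 : 2 < i) (hi : i ∣ Fintype.card K - 1) :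
    2 * Nat.card {g : ↥(twistedG2 K (3 ^ m)) // orderOf g = i} =
      Nat.totient i * Fintype.card K ^ 3 * (Fintype.card K ^ 3 + 1) := by
  have hq := ree_card_ge hK hm
  have hq8 := ree_card_mod_eight hK
  have hq3 := ree_card_mod_three hK
  obtain ⟨p, x, hp, hp3, hpq, hx1, hxp, hT, hN, hcyc⟩ := exists_torus_split hK hm
  -- a prime `p' > 3` dividing `i`
  obtain ⟨p', hp', hp'3, hp'i⟩ : ∃ p' : ℕ, p'.Prime ∧ 3 < p' ∧ p' ∣ i := by
    obtain ⟨k, hk⟩ : ∃ k, Fintype.card K - 1 = 2 * k := ⟨(Fintype.card K - 1) / 2, by omega⟩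
    have hk2 : ¬ 2 ∣ k := by omega
    have hk3 : ¬ 3 ∣ k := by omega
    rw [hk] at hi
    by_cases h2 : 2 ∣ i
    · obtain ⟨j, rfl⟩ := h2
      have hj : j ∣ k := Nat.dvd_of_mul_dvd_mul_left (by norm_num) hi
      have hj1 : j ≠ 1 := by omega
      obtain ⟨p', hp', hp'j⟩ := Nat.exists_prime_and_dvd hj1
      refine ⟨p', hp', ?_, hp'j.trans (Dvd.intro_left _ rfl)⟩
      exact three_lt_of_prime hp' (by rintro rfl; exact hk2 (hp'j.trans hj))
        (by rintro rfl; exact hk3 (hp'j.trans hj))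
    · have hc : Nat.Coprime i 2 := by
        rw [Nat.coprime_comm]
        exact (Nat.Prime.coprime_iff_not_dvd Nat.prime_two).mpr h2
      have hj : i ∣ k := hc.dvd_of_dvd_mul_left hi
      have hj1 : i ≠ 1 := by omega
      obtain ⟨p', hp', hp'j⟩ := Nat.exists_prime_and_dvd hj1
      refine ⟨p', hp', ?_, hp'j⟩
      exact three_lt_of_prime hp' (by rintro rfl; exact hk2 (hp'j.trans hj))
        (by rintro rfl; exact hk3 (hp'j.trans hj))
  have h1 := card_order_torus hK hm hp hp3 hx1 hxp i hp' hp'3 hp'i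
    (by rw [hT]; exact hp'i.trans hi)
  rw [card_orderOf_eq_totient_of_cyclic _ (by rw [hT]; exact hi), hN, card_ree hK] at h1
  apply Nat.eq_of_mul_eq_mul_right (show 0 < Fintype.card K - 1 by omega)
  rw [← mul_assoc] at h1
  calc 2 * Nat.card {g : ↥(twistedG2 K (3 ^ m)) // orderOf g = i} * (Fintype.card K - 1) =
      Nat.card {g : ↥(twistedG2 K (3 ^ m)) // orderOf g = i} * 2 * (Fintype.card K - 1) := by ring
    _ = Fintype.card K ^ 3 * (Fintype.card K - 1) * (Fintype.card K ^ 3 + 1) * Nat.totient i := h1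
    _ = Nat.totient i * Fintype.card K ^ 3 * (Fintype.card K ^ 3 + 1) * (Fintype.card K - 1) := by
      ring

/-- The elements of order `i > 1` dividing `(q + 1) / 4`, and those of order `2 i`. -/
theorem card_order_quarter (hm : 1 ≤ m) (i : ℕ) (hi1 : 1 < i) (hi : i ∣ (Fintype.card K + 1) / 4) :
    6 * Nat.card {g : ↥(twistedG2 K (3 ^ m)) // orderOf g = i} =
        Nat.totient i * Fintype.card K ^ 3 * (Fintype.card K - 1) *
          (Fintype.card K * (Fintype.card K - 1) + 1) ∧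
      Nat.card {g : ↥(twistedG2 K (3 ^ m)) // orderOf g = 2 * i} =
        Nat.card {g : ↥(twistedG2 K (3 ^ m)) // orderOf g = i} * 3 := by
  have hq := ree_card_ge hK hm
  have hq8 := ree_card_mod_eight hK
  have hq3 := ree_card_mod_three hK
  obtain ⟨p, x, hp, hp3, hpq, hx1, hxp, hT, hN⟩ := exists_torus_quarter hK hm
  have hc := card_sq_quarter hK hm hp hp3 hpq hx1 hxp
  obtain ⟨k, hk⟩ : ∃ k, Fintype.card K + 1 = 4 * k := ⟨(Fintype.card K + 1) / 4, by omega⟩
  have hk' : (Fintype.card K + 1) / 4 = k := by omega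
  have hk2 : ¬ 2 ∣ k := by omega
  have hk3 : ¬ 3 ∣ k := by omega
  rw [hk'] at hi
  obtain ⟨A, hcyc, hcard, hAle, -, hodd, -, -⟩ := torus_hall hK hm hp hp3 hx1 hxp k
    (by rw [hT, hc]; omega) hk2 hk3 (by omega)
  have hiodd : Odd i := by
    rw [← Nat.not_even_iff_odd, even_iff_two_dvd]
    exact fun h => hk2 (h.trans hi)
  obtain ⟨p', hp', hp'i⟩ := Nat.exists_prime_and_dvd (show i ≠ 1 by omega)
  have hp'3 : 3 < p' := three_lt_of_prime hp' (by rintro rfl; exact hk2 (hp'i.trans hi))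
    (by rintro rfl; exact hk3 (hp'i.trans hi))
  have hp'q : p' ∣ Fintype.card K + 1 := by
    rw [hk]
    exact (hp'i.trans hi).trans (Dvd.intro_left _ rfl)
  constructor
  · have h1 := card_order_torus hK hm hp hp3 hx1 hxp i hp' hp'3 hp'i (by rw [hT]; exact hp'q)
    have h2 : Nat.card {y : ↥(twistedG2 K (3 ^ m)) // y ∈ Subgroup.centralizer {x} ∧ orderOf y = i} =
        Nat.totient i := by
      haveI := hcyc
      rw [← card_orderOf_eq_totient_of_cyclic A (by rw [hcard]; exact hi)]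
      apply Nat.card_congr
      apply Equiv.subtypeEquivRight
      intro y
      constructor
      · rintro ⟨hy, hyi⟩
        refine ⟨hodd y hy i hiodd ?_, hyi⟩
        rw [← hyi]
        exact pow_orderOf_eq_one y
      · rintro ⟨hy, hyi⟩
        exact ⟨hAle hy, hyi⟩
    rw [h2, hN, card_ree hK] at h1
    apply Nat.eq_of_mul_eq_mul_right (show 0 < Fintype.card K + 1 by omega)
    obtain ⟨n, hn⟩ : ∃ n, Fintype.card K = n + 1 := ⟨Fintype.card K - 1, by omega⟩
    rw [hn, Nat.add_sub_cancel] at h1 ⊢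
    calc 6 * Nat.card {g : ↥(twistedG2 K (3 ^ m)) // orderOf g = i} * (n + 1 + 1) =
        Nat.card {g : ↥(twistedG2 K (3 ^ m)) // orderOf g = i} * (6 * (n + 1 + 1)) := by ring
      _ = (n + 1) ^ 3 * n * ((n + 1) ^ 3 + 1) * Nat.totient i := h1
      _ = Nat.totient i * (n + 1) ^ 3 * n * ((n + 1) * n + 1) * (n + 1 + 1) := by ring
  · rw [card_orderOf_two_mul hiodd]
    rw [← card_pairs_snd (fun u : ↥(twistedG2 K (3 ^ m)) => orderOf u = i)
      (fun z u => orderOf z = 2 ∧ z * u = u * z) 3]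
    · apply Nat.card_congr
      apply Equiv.subtypeEquivRight
      intro pr
      exact and_left_comm
    · intro u hu
      exact card_involutions_comm_quarter hK hm ⟨p', hp', hp'3, by rw [hu]; exact hp'i, hp'q⟩

/-- The elements of order `i > 1` dividing `q - r + 1` or `q + r + 1`. -/
theorem card_order_sixtorus (hm : 1 ≤ m) (r : ℕ) (hr : r ^ 2 = 3 * Fintype.card K) (i : ℕ) (hi1 : 1 < i) :
    (i ∣ Fintype.card K - r + 1 →
      6 * Nat.card {g : ↥(twistedG2 K (3 ^ m)) // orderOf g = i} =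
        Nat.totient i * Fintype.card K ^ 3 * ((Fintype.card K - 1) * (Fintype.card K + 1)) *
          (Fintype.card K + r + 1)) ∧
    (i ∣ Fintype.card K + r + 1 →
      6 * Nat.card {g : ↥(twistedG2 K (3 ^ m)) // orderOf g = i} =
        Nat.totient i * Fintype.card K ^ 3 * ((Fintype.card K - 1) * (Fintype.card K + 1)) *
          (Fintype.card K - r + 1)) := by
  have hq := ree_card_ge hK hm
  obtain ⟨p₁, p₂, x₁, x₂, hp₁, hp₂, h₁, h₂, hx₁1, hx₁p, hx₂1, hx₂p, hT₁, hT₂, hN₁, hN₂, -⟩ :=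
    six_tori hK hm r hr
  have hrq : r ≤ Fintype.card K := by
    by_contra hlt
    push_neg at hlt
    nlinarith
  -- `(q - r + 1) (q + r + 1) = q (q - 1) + 1`
  have hprod : (Fintype.card K - r + 1) * (Fintype.card K + r + 1) =
      Fintype.card K * (Fintype.card K - 1) + 1 := by
    obtain ⟨d, hd⟩ : ∃ d, Fintype.card K = r + d := ⟨Fintype.card K - r, by omega⟩
    have e1 : Fintype.card K - r = d := by omega
    rw [e1]
    obtain ⟨n, hn⟩ : ∃ n, Fintype.card K = n + 1 := ⟨Fintype.card K - 1, by omega⟩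
    rw [hn, Nat.add_sub_cancel]
    rw [hn] at hd hr
    have hd' : (n : ℤ) + 1 = r + d := by exact_mod_cast hd
    have hr' : (r : ℤ) ^ 2 = 3 * ((n : ℤ) + 1) := by exact_mod_cast hr
    have : ((d : ℤ) + 1) * ((n : ℤ) + 1 + r + 1) = ((n : ℤ) + 1) * n + 1 := by
      have hd'' : (d : ℤ) = (n : ℤ) + 1 - r := by linarith
      rw [hd'']
      linear_combination (-1 : ℤ) * hr'
    exact_mod_cast this
  have key : ∀ (p : ℕ) (x : ↥(twistedG2 K (3 ^ m))) (m₁ m₂ : ℕ), p.Prime →
      p ∣ Fintype.card K * (Fintype.card K - 1) + 1 → x ≠ 1 → x ^ p = 1 →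
      Nat.card ↥(Subgroup.centralizer {x}) = m₁ →
      Nat.card ↥(Subgroup.normalizer (Subgroup.centralizer {x} : Set ↥(twistedG2 K (3 ^ m)))) =
        6 * Nat.card ↥(Subgroup.centralizer {x}) →
      m₁ * m₂ = Fintype.card K * (Fintype.card K - 1) + 1 → i ∣ m₁ →
      6 * Nat.card {g : ↥(twistedG2 K (3 ^ m)) // orderOf g = i} =
        Nat.totient i * Fintype.card K ^ 3 * ((Fintype.card K - 1) * (Fintype.card K + 1)) * m₂ := by
    intro p x m₁ m₂ hp h hx1 hxp hT hN hmm hi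
    obtain ⟨hp3, hdvd, -, h7, -, -, -⟩ := six_torus_props hK hm hp h hx1 hxp
    have hC := ree_centralizer_comm hm hK hp hp3 hx1 hxp
    haveI : IsCyclic ↥(Subgroup.centralizer {x}) := ree_isCyclic_of_comm hK hm _ hC
      (fun h => not_two_dvd_six hK (h.trans hdvd)) (fun h => not_three_dvd_six hK (h.trans hdvd))
    obtain ⟨p', hp', hp'i⟩ := Nat.exists_prime_and_dvd (show i ≠ 1 by omega)
    have hp'T : p' ∣ Nat.card ↥(Subgroup.centralizer {x}) := by rw [hT]; exact hp'i.trans hi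
    have hp'3 : 3 < p' := by
      have := seven_le_of_dvd_six hK hp' (hp'T.trans hdvd)
      omega
    have h1 := card_order_torus hK hm hp hp3 hx1 hxp i hp' hp'3 hp'i hp'T
    rw [card_orderOf_eq_totient_of_cyclic _ (by rw [hT]; exact hi), hN, hT, card_ree hK] at h1
    have hm₁pos : 0 < m₁ := by rw [← hT]; exact Nat.card_pos
    apply Nat.eq_of_mul_eq_mul_right hm₁pos
    obtain ⟨n, hn⟩ : ∃ n, Fintype.card K = n + 1 := ⟨Fintype.card K - 1, by omega⟩
    rw [hn, Nat.add_sub_cancel] at h1 hmm ⊢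
    have e3 : (n + 1) ^ 3 + 1 = (n + 1 + 1) * ((n + 1) * n + 1) := by ring
    rw [e3, ← hmm] at h1
    calc 6 * Nat.card {g : ↥(twistedG2 K (3 ^ m)) // orderOf g = i} * m₁ =
        Nat.card {g : ↥(twistedG2 K (3 ^ m)) // orderOf g = i} * (6 * m₁) := by ring
      _ = (n + 1) ^ 3 * n * ((n + 1 + 1) * (m₁ * m₂)) * Nat.totient i := h1
      _ = Nat.totient i * (n + 1) ^ 3 * (n * (n + 1 + 1)) * m₂ * m₁ := by ring
  constructor
  · intro hi
    exact key p₁ x₁ _ _ hp₁ h₁ hx₁1 hx₁p hT₁ hN₁ hprod hi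
  · intro hi
    exact key p₂ x₂ _ _ hp₂ h₂ hx₂1 hx₂p hT₂ hN₂ (by rw [mul_comm]; exact hprod) hi

end ree

end Cfsg.Agent.Helper7.ReeCnt
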