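import Mathlib
import Cfsg.Agent.Helper7.ReeCntU

set_option autoImplicit false
set_option linter.unusedSectionVars false
set_option linter.unusedVariables false

/-!
The orders of the elements of the Ree groups.
-/

namespace Cfsg.Agent.Helper7.ReeCnt

open Cfsg Cfsg.Lie Matrix Cfsg.Agent.Helper7.Chev Cfsg.Agent.Helper7.ReeAut Cfsg.Agent.Helper7.ReeTor
  Cfsg.Agent.Helper7.ReeCyc Cfsg.Agent.Helper7.ReeLin

section abstract

variable {G : Type*} [Group G]

theorem exists_orderOf_of_dvd [Finite G] {x : G} {N d : ℕ} (hx : orderOf x = N) (hd : d ∣ N) :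
    ∃ g : G, orderOf g = d := by
  subst hx
  exact ⟨x ^ (orderOf x / d), orderOf_pow_orderOf_div (orderOf_pos x).ne' hd⟩

/-- A generator of a cyclic subgroup. -/
theorem exists_orderOf_eq_card [Finite G] (A : Subgroup G) [IsCyclic A] :
    ∃ a : G, a ∈ A ∧ orderOf a = Nat.card A := by
  obtain ⟨g, hg⟩ := IsCyclic.exists_generator (α := A)
  refine ⟨g.1, g.2, ?_⟩
  rw [Subgroup.orderOf_coe]
  exact orderOf_eq_card_of_forall_mem_zpowers hg

theorem exists_of_card_pos {α : Type*} {P : α → Prop} (h : 0 < Nat.card {a // P a}) : ∃ a, P a := by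
  by_contra hcon
  push_neg at hcon
  haveI : IsEmpty {a // P a} := ⟨fun a => hcon a.1 a.2⟩
  rw [Nat.card_of_isEmpty] at h
  exact lt_irrefl 0 h

end abstract

section ree

variable {K : Type*} [Field K] [Fintype K] [CharP K 3] {m : ℕ}
  (hK : Fintype.card K = 3 ^ (2 * m + 1))

include hK

/-- The orders of the elements divide one of six numbers. -/
theorem orderOf_dvd_cases (hm : 1 ≤ m) (r : ℕ) (hr : r ^ 2 = 3 * Fintype.card K)
    (g : ↥(twistedG2 K (3 ^ m))) :
    orderOf g ∣ 6 ∨ orderOf g ∣ 9 ∨ orderOf g ∣ Fintype.card K - 1 ∨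
      orderOf g ∣ (Fintype.card K + 1) / 2 ∨ orderOf g ∣ Fintype.card K - r + 1 ∨
      orderOf g ∣ Fintype.card K + r + 1 := by
  have hq := ree_card_ge hK hm
  have hq8 := ree_card_mod_eight hK
  have hq3 := ree_card_mod_three hK
  rcases order_cases hK g with h18 | ⟨p, hp, hp3, hpg⟩
  · rw [orderOf_mem_of_pow_18] at h18
    rcases h18 with h | h | h | h | h | h
    · left; rw [h]; norm_num
    · left; rw [h]; norm_num
    · left; rw [h]; norm_num
    · left; rw [h]
    · right; left; rw [h]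
    · exfalso
      have h0 := card_order_18 hK hm
      have : Nonempty {g : ↥(twistedG2 K (3 ^ m)) // orderOf g = 18} := ⟨⟨g, h⟩⟩
      have : 0 < Nat.card {g : ↥(twistedG2 K (3 ^ m)) // orderOf g = 18} := Nat.card_pos
      omega
  · obtain ⟨k, hk1, hkp⟩ := exists_pow_prime_order hp hpg
    have hgC : g ∈ Subgroup.centralizer {g ^ k} := by
      rw [Subgroup.mem_centralizer_singleton_iff, ← pow_succ, ← pow_succ']
    rcases prime_dvd_orderOf_cases hK hp hp3 hpg with h | h | h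
    · right; right; left
      exact dvd_of_hasP_split hK hp hp3 h hpg dvd_rfl
    · right; right; right; left
      have hT := (quarter_centralizer hK hm hp hp3 h hk1 hkp).2
      have hc := card_sq_quarter hK hm hp hp3 h hk1 hkp
      obtain ⟨n, hn⟩ : ∃ n, Fintype.card K + 1 = 4 * n := ⟨(Fintype.card K + 1) / 4, by omega⟩
      obtain ⟨A, hcyc, hcard, hAle, hsq, -, -, -⟩ := torus_hall hK hm hp hp3 hk1 hkp n
        (by rw [hT, hc]; omega) (by omega) (by omega) (by omega)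
      have h1 : (⟨g * g, hsq g hgC⟩ : A) ^ Nat.card A = 1 := pow_card_eq_one'
      have h2 : (g * g) ^ n = 1 := by
        rw [hcard] at h1
        exact congrArg Subtype.val h1
      have e : (Fintype.card K + 1) / 2 = 2 * n := by omega
      rw [e]
      apply orderOf_dvd_of_pow_eq_one
      rw [pow_mul, pow_two]
      exact h2
    · right; right; right; right
      obtain ⟨p₁, p₂, x₁, x₂, hp₁, hp₂, h₁, h₂, hx₁1, hx₁p, hx₂1, hx₂p, hT₁, hT₂, -, -, hall⟩ :=
        six_tori hK hm r hr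
      have hd := Subgroup.orderOf_dvd_natCard _ hgC
      rcases hall p hp h with h3 | h3
      · left
        have hp3₁ := (six_torus_props hK hm hp₁ h₁ hx₁1 hx₁p).1
        rw [(card_centralizer_eq_of_dvd hK hm hp₁ hp3₁ hp hp3 hx₁1 hx₁p hk1 hkp h3).1, hT₁] at hd
        exact hd
      · right
        have hp3₂ := (six_torus_props hK hm hp₂ h₂ hx₂1 hx₂p).1
        rw [(card_centralizer_eq_of_dvd hK hm hp₂ hp3₂ hp hp3 hx₂1 hx₂p hk1 hkp h3).1, hT₂] at hd
        exact hd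

/-- Elements of the six maximal orders. -/
theorem exists_orders (hm : 1 ≤ m) (r : ℕ) (hr : r ^ 2 = 3 * Fintype.card K) :
    (∃ g : ↥(twistedG2 K (3 ^ m)), orderOf g = 6) ∧ (∃ g : ↥(twistedG2 K (3 ^ m)), orderOf g = 9) ∧
    (∃ g : ↥(twistedG2 K (3 ^ m)), orderOf g = Fintype.card K - 1) ∧
    (∃ g : ↥(twistedG2 K (3 ^ m)), orderOf g = (Fintype.card K + 1) / 2) ∧
    (∃ g : ↥(twistedG2 K (3 ^ m)), orderOf g = Fintype.card K - r + 1) ∧
    (∃ g : ↥(twistedG2 K (3 ^ m)), orderOf g = Fintype.card K + r + 1) := by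
  have hq := ree_card_ge hK hm
  have hq8 := ree_card_mod_eight hK
  have hq3 := ree_card_mod_three hK
  obtain ⟨p₂, x₂, hp₂, hp₂3, hp₂q, hx₂1, hx₂p, hT₂, -⟩ := exists_torus_quarter hK hm
  obtain ⟨-, -, g6, g9, -, -⟩ := ree_global hK hm hp₂ hp₂3 hp₂q hx₂1 hx₂p
  have hpos : 0 < Fintype.card K ^ 2 * (Fintype.card K - 1) * (Fintype.card K ^ 3 + 1) := by
    apply Nat.mul_pos (Nat.mul_pos (pow_pos (by omega) 2) (by omega)) (by omega)
  refine ⟨?_, ?_, ?_, ?_, ?_⟩
  · apply exists_of_card_pos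
    rw [g6]
    exact hpos
  · apply exists_of_card_pos
    rw [g9]
    exact hpos
  · obtain ⟨p, x, hp, hp3, hpq, hx1, hxp, hT, hN, hcyc⟩ := exists_torus_split hK hm
    have := hcyc
    obtain ⟨a, -, ha⟩ := exists_orderOf_eq_card (Subgroup.centralizer {x})
    exact ⟨a, by rw [ha, hT]⟩
  · -- an involution times a generator of the odd part
    have hc := card_sq_quarter hK hm hp₂ hp₂3 hp₂q hx₂1 hx₂p
    have hC := ree_centralizer_comm hm hK hp₂ hp₂3 hx₂1 hx₂p
    obtain ⟨n, hn⟩ : ∃ n, Fintype.card K + 1 = 4 * n := ⟨(Fintype.card K + 1) / 4, by omega⟩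
    obtain ⟨A, hcyc, hcard, hAle, -, -, -, -⟩ := torus_hall hK hm hp₂ hp₂3 hx₂1 hx₂p n
      (by rw [hT₂, hc]; omega) (by omega) (by omega) (by omega)
    have := hcyc
    obtain ⟨a, haA, ha⟩ := exists_orderOf_eq_card A
    rw [hcard] at ha
    -- an involution of the torus
    obtain ⟨z, hzC, hzz, hz1⟩ : ∃ z : ↥(twistedG2 K (3 ^ m)),
        z ∈ Subgroup.centralizer {x₂} ∧ z * z = 1 ∧ z ≠ 1 := by
      have h1 := card_and_ne (fun y : ↥(twistedG2 K (3 ^ m)) =>
        y ∈ Subgroup.centralizer {x₂} ∧ y * y = 1) 1 ⟨one_mem _, one_mul 1⟩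
      rw [hc] at h1
      obtain ⟨z, ⟨hz1, hz2⟩, hz3⟩ := exists_of_card_pos (P := fun y : ↥(twistedG2 K (3 ^ m)) =>
        (y ∈ Subgroup.centralizer {x₂} ∧ y * y = 1) ∧ y ≠ 1) (by omega)
      exact ⟨z, hz1, hz2, hz3⟩
    have hzo : orderOf z = 2 := (orderOf_eq_two_iff' z).mpr ⟨hzz, hz1⟩
    have hcomm : Commute z a := hC z hzC a (hAle haA)
    refine ⟨z * a, ?_⟩
    rw [hcomm.orderOf_mul_eq_mul_orderOf_of_coprime, hzo, ha]
    · omega
    · rw [hzo, ha]
      exact (Nat.Prime.coprime_iff_not_dvd Nat.prime_two).mpr (by omega)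
  · obtain ⟨p₁, p₂, x₁, x₂, hp₁, hp₂, h₁, h₂, hx₁1, hx₁p, hx₂1, hx₂p, hT₁, hT₂, -, -, -⟩ :=
      six_tori hK hm r hr
    have key : ∀ (p : ℕ) (x : ↥(twistedG2 K (3 ^ m))), p.Prime →
        p ∣ Fintype.card K * (Fintype.card K - 1) + 1 → x ≠ 1 → x ^ p = 1 →
        ∃ g : ↥(twistedG2 K (3 ^ m)), orderOf g = Nat.card ↥(Subgroup.centralizer {x}) := by
      intro p x hp h hx1 hxp
      obtain ⟨hp3, hdvd, -, h7, -, -, -⟩ := six_torus_props hK hm hp h hx1 hxp
      have hC := ree_centralizer_comm hm hK hp hp3 hx1 hxp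
      haveI : IsCyclic ↥(Subgroup.centralizer {x}) := ree_isCyclic_of_comm hK hm _ hC
        (fun h => not_two_dvd_six hK (h.trans hdvd)) (fun h => not_three_dvd_six hK (h.trans hdvd))
      obtain ⟨a, -, ha⟩ := exists_orderOf_eq_card (Subgroup.centralizer {x})
      exact ⟨a, ha⟩
    constructor
    · rw [← hT₁]
      exact key p₁ x₁ hp₁ h₁ hx₁1 hx₁p
    · rw [← hT₂]
      exact key p₂ x₂ hp₂ h₂ hx₂1 hx₂p

end ree

end Cfsg.Agent.Helper7.ReeCnt
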