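import Mathlib

set_option autoImplicit false
set_option linter.unusedSectionVars false
set_option linter.unusedVariables false

/-!
Normal `p`-subgroups of finite solvable groups.
-/

namespace Cfsg.Agent.Helper7.SolvN

section

variable {G : Type*} [Group G]

/-- The elements of `p`-power order of a commutative subgroup. -/
def pPart (B : Subgroup G) (hB : ∀ a ∈ B, ∀ b ∈ B, a * b = b * a) (p : ℕ) : Subgroup G where
  carrier := {b | b ∈ B ∧ ∃ j : ℕ, b ^ p ^ j = 1}
  one_mem' := ⟨B.one_mem, 0, one_pow _⟩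
  mul_mem' := by
    rintro a b ⟨ha, i, hai⟩ ⟨hb, j, hbj⟩
    refine ⟨B.mul_mem ha hb, i + j, ?_⟩
    have hc : Commute a b := hB a ha b hb
    rw [hc.mul_pow, pow_add, pow_mul, hai, one_pow, mul_comm (p ^ i) (p ^ j), pow_mul, hbj, one_pow,
      mul_one]
  inv_mem' := by
    rintro a ⟨ha, i, hai⟩
    exact ⟨B.inv_mem ha, i, by rw [inv_pow, hai, inv_one]⟩

theorem mem_pPart {B : Subgroup G} {hB : ∀ a ∈ B, ∀ b ∈ B, a * b = b * a} {p : ℕ} {b : G} :
    b ∈ pPart B hB p ↔ b ∈ B ∧ ∃ j : ℕ, b ^ p ^ j = 1 := Iff.rfl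

/-- A non-trivial finite solvable group has a non-trivial normal `p`-subgroup. -/
theorem exists_normal_pgroup [Finite G] [Group.IsSolvable G] [Nontrivial G] :
    ∃ (p : ℕ) (N : Subgroup G), p.Prime ∧ N.Normal ∧ IsPGroup p N ∧ N ≠ ⊥ := by
  classical
  have hex : ∃ n, derivedSeries G n = ⊥ := Group.IsSolvable.solvable
  have hn₀ : derivedSeries G (Nat.find hex) = ⊥ := Nat.find_spec hex
  have hn₀pos : Nat.find hex ≠ 0 := by
    intro h0
    rw [h0, derivedSeries_zero] at hn₀
    exact top_ne_bot hn₀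
  obtain ⟨k, hk⟩ := Nat.exists_eq_succ_of_ne_zero hn₀pos
  have hBne : derivedSeries G k ≠ ⊥ := Nat.find_min hex (by omega)
  have hBcomm : ∀ a ∈ derivedSeries G k, ∀ b ∈ derivedSeries G k, a * b = b * a := by
    rw [hk, derivedSeries_succ, Subgroup.commutator_eq_bot_iff_le_centralizer] at hn₀
    intro a ha b hb
    exact hn₀ hb a ha
  have hBn : (derivedSeries G k).Normal := derivedSeries_normal G k
  have hcard : Nat.card (derivedSeries G k) ≠ 1 := fun h => hBne (Subgroup.card_eq_one.mp h)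
  obtain ⟨p, hp, hpd⟩ := Nat.exists_prime_and_dvd hcard
  have : Fact p.Prime := ⟨hp⟩
  obtain ⟨⟨b, hbB⟩, hbo⟩ := exists_prime_orderOf_dvd_card' (G := derivedSeries G k) p hpd
  have hbo' : orderOf b = p := by
    rw [← hbo]
    exact (Subgroup.orderOf_mk b hbB).symm
  refine ⟨p, pPart (derivedSeries G k) hBcomm p, hp, ?_, ?_, ?_⟩
  · refine ⟨fun a ha g => ?_⟩
    obtain ⟨ha, j, haj⟩ := ha
    exact ⟨hBn.conj_mem a ha g, j, by rw [conj_pow, haj, mul_one, mul_inv_cancel]⟩
  · rintro ⟨a, ha, j, haj⟩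
    exact ⟨j, Subtype.ext haj⟩
  · intro hbot
    have hb : b ∈ pPart (derivedSeries G k) hBcomm p :=
      ⟨hbB, 1, by rw [pow_one, ← hbo']; exact pow_orderOf_eq_one b⟩
    rw [hbot, Subgroup.mem_bot] at hb
    rw [hb, orderOf_one] at hbo'
    exact hp.one_lt.ne hbo'

/-- A normal subgroup of order `2` is central. -/
theorem le_center_of_card_two (N : Subgroup G) [hN : N.Normal] (hN2 : Nat.card N = 2) :
    N ≤ Subgroup.center G := by
  intro z hz
  rw [Subgroup.mem_center_iff]
  intro g
  by_cases hz1 : z = 1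
  · rw [hz1, mul_one, one_mul]
  obtain ⟨y, -, hy⟩ := (Nat.card_eq_two_iff' (1 : N)).mp hN2
  have h1 : (⟨z, hz⟩ : N) = y := hy _ (fun h => hz1 (congrArg Subtype.val h))
  have hc : g * z * g⁻¹ ∈ N := hN.conj_mem z hz g
  have h2 : (⟨g * z * g⁻¹, hc⟩ : N) = y := by
    apply hy
    intro h
    apply hz1
    have h3 : g * z * g⁻¹ = 1 := congrArg Subtype.val h
    have : z = g⁻¹ * (g * z * g⁻¹) * g := by group
    rw [this, h3]
    group
  have h3 : g * z * g⁻¹ = z := congrArg Subtype.val (h2.trans h1.symm)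
  calc g * z = g * z * g⁻¹ * g := by group
    _ = z * g := by rw [h3]

/-- The second step: a finite solvable group with a normal subgroup `N` of order `2`, `N ≠ ⊤`, has a normal
`2`-subgroup of order divisible by `4` or a non-trivial normal `p`-subgroup with `p` odd. -/
theorem exists_normal_pgroup_of_central [Finite G] [Group.IsSolvable G] (N : Subgroup G) [hN : N.Normal]
    (hN2 : Nat.card N = 2) (hNtop : N ≠ ⊤) :
    ∃ (p : ℕ) (N' : Subgroup G), p.Prime ∧ N'.Normal ∧ IsPGroup p N' ∧
      ((p = 2 ∧ 4 ∣ Nat.card N') ∨ (p ≠ 2 ∧ N' ≠ ⊥)) := by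
  haveI : Nontrivial (G ⧸ N) := QuotientGroup.nontrivial_iff.mpr hNtop
  obtain ⟨p, Mb, hp, hMbn, hMbp, hMbne⟩ := exists_normal_pgroup (G := G ⧸ N)
  have : Fact p.Prime := ⟨hp⟩
  have hsurj : Function.Surjective (QuotientGroup.mk' N) := QuotientGroup.mk'_surjective N
  have hMn : (Mb.comap (QuotientGroup.mk' N)).Normal := hMbn.comap _
  -- the order of the preimage
  have hcardM : Nat.card (Mb.comap (QuotientGroup.mk' N)) = 2 * Nat.card Mb := by
    have h1 := Subgroup.index_comap_of_surjective Mb hsurj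
    have h2 := Subgroup.card_mul_index (Mb.comap (QuotientGroup.mk' N))
    have h3 := Subgroup.card_mul_index Mb
    have h4 := Subgroup.card_eq_card_quotient_mul_card_subgroup N
    rw [h1] at h2
    rw [hN2] at h4
    have hpos : 0 < Mb.index := Nat.pos_of_ne_zero Subgroup.index_ne_zero_of_finite
    apply Nat.eq_of_mul_eq_mul_right hpos
    rw [h2, h4, ← h3]
    ring
  obtain ⟨k, hk⟩ := IsPGroup.iff_card.mp hMbp
  have hk0 : k ≠ 0 := by
    rintro rfl
    rw [pow_zero] at hk
    exact hMbne (Subgroup.card_eq_one.mp hk)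
  by_cases hp2 : p = 2
  · subst hp2
    refine ⟨2, Mb.comap (QuotientGroup.mk' N), hp, hMn, ?_, Or.inl ⟨rfl, ?_⟩⟩
    · apply IsPGroup.of_card (n := k + 1)
      rw [hcardM, hk, pow_succ]
      ring
    · rw [hcardM, hk]
      obtain ⟨j, rfl⟩ := Nat.exists_eq_succ_of_ne_zero hk0
      rw [pow_succ]
      exact ⟨2 ^ j, by ring⟩
  · -- the preimage is nilpotent
    let M := Mb.comap (QuotientGroup.mk' N)
    let f : M →* Mb := ((QuotientGroup.mk' N).comp M.subtype).codRestrict Mb (fun x => x.2)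
    have hker : f.ker ≤ Subgroup.center M := by
      intro x hx
      rw [MonoidHom.mem_ker] at hx
      have h1 : (QuotientGroup.mk' N) x.1 = 1 := congrArg Subtype.val hx
      have h2 : x.1 ∈ N := by
        rw [← QuotientGroup.ker_mk' N, MonoidHom.mem_ker]
        exact h1
      have h3 := le_center_of_card_two N hN2 h2
      rw [Subgroup.mem_center_iff] at h3 ⊢
      intro g
      apply Subtype.ext
      exact h3 g.1
    have : Group.IsNilpotent Mb := hMbp.isNilpotent
    have : Group.IsNilpotent M := Subgroup.isNilpotent_of_ker_le_center f hker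
    haveI : M.Normal := hMn
    have hpM : p ∣ Nat.card M := by
      show p ∣ Nat.card (Mb.comap (QuotientGroup.mk' N))
      rw [hcardM, hk]
      exact Dvd.dvd.mul_left (dvd_pow_self p hk0) 2
    let P : Sylow p M := default
    have : (P : Subgroup M).Normal := inferInstance
    have : (P : Subgroup M).Characteristic := Sylow.characteristic_of_normal P inferInstance
    refine ⟨p, (P : Subgroup M).map M.subtype, hp, inferInstance, P.isPGroup'.map _, Or.inr ⟨hp2, ?_⟩⟩
    rw [Ne, Subgroup.map_eq_bot_iff_of_injective _ M.subtype_injective]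
    exact P.ne_bot_of_dvd_card hpM

end

end Cfsg.Agent.Helper7.SolvN
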