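import Mathlib
import Cfsg.Agent.Helper7.ReeCntV
import Cfsg.Agent.Helper7.SolvNormA

set_option autoImplicit false
set_option linter.unusedSectionVars false
set_option linter.unusedVariables false

/-!
Solvable subgroups of the Ree groups: the cases of a normal `p`-subgroup, `p` odd, and of a normal Sylow
`2`-subgroup.
-/

namespace Cfsg.Agent.Helper7.ReeSolv

open Cfsg Cfsg.Lie Matrix Cfsg.Agent.Helper7.Chev Cfsg.Agent.Helper7.ReeAut Cfsg.Agent.Helper7.ReeTor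
  Cfsg.Agent.Helper7.ReeCyc Cfsg.Agent.Helper7.ReeLin Cfsg.Agent.Helper7.ReeCnt

section ree

variable {K : Type*} [Field K] [Fintype K] [CharP K 3] {m : ℕ}
  (hK : Fintype.card K = 3 ^ (2 * m + 1))

include hK

/-- The cyclic Hall subgroup attached to an element of prime order `p > 3`. -/
theorem exists_hall_of_prime (hm : 1 ≤ m) (r : ℕ) (hr : r ^ 2 = 3 * Fintype.card K) {p : ℕ}
    (hp : p.Prime) (hp3 : 3 < p) {x : ↥(twistedG2 K (3 ^ m))} (hx1 : x ≠ 1) (hxp : x ^ p = 1) :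
    ∃ A : Subgroup ↥(twistedG2 K (3 ^ m)), IsCyclic A ∧
      (Nat.card A = (Fintype.card K - 1) / 2 ∨ Nat.card A = (Fintype.card K + 1) / 4 ∨
        Nat.card A = Fintype.card K - r + 1 ∨ Nat.card A = Fintype.card K + r + 1) ∧
      Subgroup.normalizer (A : Set ↥(twistedG2 K (3 ^ m))) =
        Subgroup.normalizer (Subgroup.centralizer {x} : Set ↥(twistedG2 K (3 ^ m))) := by
  have hq := ree_card_ge hK hm
  have hq8 := ree_card_mod_eight hK
  have hq3 := ree_card_mod_three hK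
  have : Fact p.Prime := ⟨hp⟩
  have hox : orderOf x = p := orderOf_eq_prime hxp hx1
  have hpG : p ∣ Nat.card ↥(twistedG2 K (3 ^ m)) := by
    rw [← hox]
    exact orderOf_dvd_natCard x
  rcases prime_dvd_cases hK hp hp3 hpG with h | h | h
  · obtain ⟨g, hg⟩ := split_centralizer_conj hK hp hp3 h hx1 hxp
    have hT : Nat.card ↥(Subgroup.centralizer {x}) = Fintype.card K - 1 := by
      rw [hg, Subgroup.card_map_of_injective (MulAut.conj g).injective, card_range_ghHom hK]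
    have hc := card_sq_split hK hp hp3 h hx1 hxp
    obtain ⟨A, hcyc, hcard, -, -, -, hNA, -⟩ := torus_hall hK hm hp hp3 hx1 hxp
      ((Fintype.card K - 1) / 2) (by rw [hT, hc]; omega) (by omega) (by omega) (by omega)
    exact ⟨A, hcyc, Or.inl hcard, hNA⟩
  · have hT := (quarter_centralizer hK hm hp hp3 h hx1 hxp).2
    have hc := card_sq_quarter hK hm hp hp3 h hx1 hxp
    obtain ⟨A, hcyc, hcard, -, -, -, hNA, -⟩ := torus_hall hK hm hp hp3 hx1 hxp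
      ((Fintype.card K + 1) / 4) (by rw [hT, hc]; omega) (by omega) (by omega) (by omega)
    exact ⟨A, hcyc, Or.inr (Or.inl hcard), hNA⟩
  · obtain ⟨p₁, p₂, x₁, x₂, hp₁, hp₂, h₁, h₂, hx₁1, hx₁p, hx₂1, hx₂p, hT₁, hT₂, -, -, hall⟩ :=
      six_tori hK hm r hr
    obtain ⟨-, hdvd, -, h7, -, -, -⟩ := six_torus_props hK hm hp h hx1 hxp
    have hc := card_sq_six hK hm hp hp3 h hx1 hxp
    obtain ⟨A, hcyc, hcard, -, -, -, hNA, -⟩ := torus_hall hK hm hp hp3 hx1 hxp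
      (Nat.card ↥(Subgroup.centralizer {x})) (by rw [hc, mul_one])
      (fun h => not_two_dvd_six hK (h.trans hdvd)) (fun h => not_three_dvd_six hK (h.trans hdvd))
      (by omega)
    refine ⟨A, hcyc, Or.inr (Or.inr ?_), hNA⟩
    rcases hall p hp h with h3 | h3
    · left
      have hp3₁ := (six_torus_props hK hm hp₁ h₁ hx₁1 hx₁p).1
      rw [hcard, (card_centralizer_eq_of_dvd hK hm hp₁ hp3₁ hp hp3 hx₁1 hx₁p hx1 hxp h3).1, hT₁]
    · right
      have hp3₂ := (six_torus_props hK hm hp₂ h₂ hx₂1 hx₂p).1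
      rw [hcard, (card_centralizer_eq_of_dvd hK hm hp₂ hp3₂ hp hp3 hx₂1 hx₂p hx1 hxp h3).1, hT₂]

/-- A subgroup normalising a non-trivial `p`-subgroup, `p > 3`, normalises a cyclic Hall subgroup. -/
theorem solv_torus (hm : 1 ≤ m) (r : ℕ) (hr : r ^ 2 = 3 * Fintype.card K) {p : ℕ} (hp : p.Prime)
    (hp3 : 3 < p) (S N : Subgroup ↥(twistedG2 K (3 ^ m))) (hNp : IsPGroup p N) (hN1 : N ≠ ⊥)
    (hSN : ∀ s ∈ S, ∀ n ∈ N, s * n * s⁻¹ ∈ N) :
    ∃ A : Subgroup ↥(twistedG2 K (3 ^ m)), IsCyclic A ∧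
      (Nat.card A = (Fintype.card K - 1) / 2 ∨ Nat.card A = (Fintype.card K + 1) / 4 ∨
        Nat.card A = Fintype.card K - r + 1 ∨ Nat.card A = Fintype.card K + r + 1) ∧
      S ≤ Subgroup.normalizer (A : Set ↥(twistedG2 K (3 ^ m))) := by
  have : Fact p.Prime := ⟨hp⟩
  -- `N` is commutative
  obtain ⟨P, hP⟩ := hNp.exists_le_sylow
  have hPc : IsCyclic (P : Subgroup ↥(twistedG2 K (3 ^ m))) := ree_S1156 hm hK hp3 P
  have hcomm : ∀ a ∈ N, ∀ b ∈ N, a * b = b * a := by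
    intro a ha b hb
    let _ := IsCyclic.commGroup (α := ↥(P : Subgroup ↥(twistedG2 K (3 ^ m))))
    exact congrArg Subtype.val (mul_comm (⟨a, hP ha⟩ : ↥(P : Subgroup ↥(twistedG2 K (3 ^ m))))
      ⟨b, hP hb⟩)
  -- an element of order `p`
  have hcard1 : Nat.card N ≠ 1 := fun h => hN1 (Subgroup.card_eq_one.mp h)
  obtain ⟨k, hk⟩ := IsPGroup.iff_card.mp hNp
  have hpd : p ∣ Nat.card N := by
    rw [hk]
    apply dvd_pow_self
    rintro rfl
    rw [pow_zero] at hk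
    exact hcard1 hk
  obtain ⟨⟨x, hxN⟩, hxo⟩ := exists_prime_orderOf_dvd_card' (G := N) p hpd
  have hxo' : orderOf x = p := by
    rw [← hxo]
    exact (Subgroup.orderOf_mk x hxN).symm
  have hx1 : x ≠ 1 := by
    rintro rfl
    rw [orderOf_one] at hxo'
    exact hp.one_lt.ne hxo'
  have hxp : x ^ p = 1 := by rw [← hxo']; exact pow_orderOf_eq_one x
  obtain ⟨A, hcyc, hcard, hNA⟩ := exists_hall_of_prime hK hm r hr hp hp3 hx1 hxp
  refine ⟨A, hcyc, hcard, ?_⟩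
  rw [hNA]
  intro s hs
  have hx'N := hSN s hs x hxN
  have hx'1 : s * x * s⁻¹ ≠ 1 := by
    have := conj_ne_one (g := s⁻¹) hx1
    rwa [inv_inv] at this
  have hx'p : (s * x * s⁻¹) ^ p = 1 := by
    rw [conj_pow, hxp, mul_one, mul_inv_cancel]
  have e := centralizer_eq_of_comm hK hm hp hp3 hp hp3 hx1 hxp hx'1 hx'p (hcomm _ hx'N _ hxN)
  apply Subgroup.mem_normalizer_fintype
  intro u hu
  have hu' : u * x = x * u := Subgroup.mem_centralizer_singleton_iff.mp hu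
  show s * u * s⁻¹ ∈ Subgroup.centralizer {x}
  rw [← e, Subgroup.mem_centralizer_singleton_iff]
  calc s * u * s⁻¹ * (s * x * s⁻¹) = s * (u * x) * s⁻¹ := by group
    _ = s * (x * u) * s⁻¹ := by rw [hu']
    _ = s * x * s⁻¹ * (s * u * s⁻¹) := by group

/-- A subgroup normalising a non-trivial `3`-subgroup normalises a Sylow `3`-subgroup. -/
theorem solv_three (S N : Subgroup ↥(twistedG2 K (3 ^ m))) (hNp : IsPGroup 3 N) (hN1 : N ≠ ⊥)
    (hSN : ∀ s ∈ S, ∀ n ∈ N, s * n * s⁻¹ ∈ N) :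
    ∃ P : Sylow 3 ↥(twistedG2 K (3 ^ m)),
      S ≤ Subgroup.normalizer ((P : Subgroup ↥(twistedG2 K (3 ^ m))) : Set ↥(twistedG2 K (3 ^ m))) := by
  have : Fact (Nat.Prime 3) := ⟨Nat.prime_three⟩
  obtain ⟨P, hP⟩ := hNp.exists_le_sylow
  obtain ⟨g, hg⟩ := sylow_three_eq hK P
  refine ⟨P, ?_⟩
  obtain ⟨⟨y, hyN⟩, hy1⟩ := Subgroup.ne_bot_iff_exists_ne_one.mp hN1
  have hy1' : y ≠ 1 := fun h => hy1 (Subtype.ext h)
  intro s hs
  have hy' := hP (hSN s hs y hyN)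
  have h1 : g⁻¹ * y * g ∈ rU' K m := (hg y).mp (hP hyN)
  have h2 : g⁻¹ * (s * y * s⁻¹) * g ∈ rU' K m := (hg _).mp hy'
  have h3 : (g⁻¹ * s⁻¹ * g)⁻¹ * (g⁻¹ * y * g) * (g⁻¹ * s⁻¹ * g) ∈ rU' K m := by
    have e : (g⁻¹ * s⁻¹ * g)⁻¹ * (g⁻¹ * y * g) * (g⁻¹ * s⁻¹ * g) = g⁻¹ * (s * y * s⁻¹) * g := by group
    rw [e]
    exact h2
  have h4 := mem_normalizer_rU'_of_conj hK h1 (conj_ne_one hy1') h3
  -- `g⁻¹ s⁻¹ g` normalises `U`, so `s` normalises `P`
  have h5 : g⁻¹ * s * g ∈ Subgroup.normalizer (rU' K m : Set ↥(twistedG2 K (3 ^ m))) := by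
    have := inv_mem h4
    have e : (g⁻¹ * s⁻¹ * g)⁻¹ = g⁻¹ * s * g := by group
    rwa [e] at this
  apply Subgroup.mem_normalizer_fintype
  intro u hu
  have hu' : u ∈ (P : Subgroup ↥(twistedG2 K (3 ^ m))) := hu
  show s * u * s⁻¹ ∈ (P : Subgroup ↥(twistedG2 K (3 ^ m)))
  rw [hg]
  have h6 := (Subgroup.mem_normalizer_iff.mp h5 _).mp ((hg u).mp hu')
  have e : g⁻¹ * s * g * (g⁻¹ * u * g) * (g⁻¹ * s * g)⁻¹ = g⁻¹ * (s * u * s⁻¹) * g := by group
  rw [e] at h6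
  exact h6

/-- A subgroup normalising a subgroup of order `8` normalises a Sylow `2`-subgroup. -/
theorem solv_eight (S N : Subgroup ↥(twistedG2 K (3 ^ m))) (hN8 : Nat.card N = 8)
    (hSN : ∀ s ∈ S, ∀ n ∈ N, s * n * s⁻¹ ∈ N) :
    ∃ P : Sylow 2 ↥(twistedG2 K (3 ^ m)),
      S ≤ Subgroup.normalizer ((P : Subgroup ↥(twistedG2 K (3 ^ m))) : Set ↥(twistedG2 K (3 ^ m))) := by
  have : Fact (Nat.Prime 2) := ⟨Nat.prime_two⟩
  have hNp : IsPGroup 2 N := IsPGroup.of_card (n := 3) (by rw [hN8]; norm_num)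
  obtain ⟨P, hP⟩ := hNp.exists_le_sylow
  have hPN : (P : Subgroup ↥(twistedG2 K (3 ^ m))) = N := by
    symm
    apply Subgroup.eq_of_le_of_card_ge hP
    rw [(sylow_two_card hK P).1, hN8]
  refine ⟨P, ?_⟩
  rw [hPN]
  intro s hs
  apply Subgroup.mem_normalizer_fintype
  intro u hu
  exact hSN s hs u hu

end ree

end Cfsg.Agent.Helper7.ReeSolv
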