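import Mathlib
import Cfsg.Agent.Helper7.ReeSolvA

set_option autoImplicit false
set_option linter.unusedSectionVars false
set_option linter.unusedVariables false

/-!
The four-groups of the Ree groups: the normaliser of a four-group normalises a torus of order `q + 1`.
-/

namespace Cfsg.Agent.Helper7.ReeSolv

open Cfsg Cfsg.Lie Matrix Cfsg.Agent.Helper7.Chev Cfsg.Agent.Helper7.ReeAut Cfsg.Agent.Helper7.ReeTor
  Cfsg.Agent.Helper7.ReeCyc Cfsg.Agent.Helper7.ReeLin Cfsg.Agent.Helper7.ReeCnt

section sl2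

variable {K : Type*} [Field K]

/-- The square roots of `1` in `SL₂`. -/
theorem sl2_eq_of_mul_self_eq_one (h2 : (2 : K) ≠ 0) (y : Matrix.SpecialLinearGroup (Fin 2) K)
    (h : y * y = 1) : y = 1 ∨ y = -1 := by
  have h1 := sl2_mul_self y
  have h3 : y.val * y.val = 1 := by
    have := congrArg Subtype.val h
    rwa [Matrix.SpecialLinearGroup.coe_mul, Matrix.SpecialLinearGroup.coe_one] at this
  rw [h3] at h1
  have hd := det_two_eq y
  have e00 : (1 : K) = tr2 y * y.val 0 0 - 1 := by
    have := congrFun (congrFun h1 0) 0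
    simpa [Matrix.sub_apply, Matrix.smul_apply] using this
  have e01 : (0 : K) = tr2 y * y.val 0 1 := by
    have := congrFun (congrFun h1 0) 1
    simpa [Matrix.sub_apply, Matrix.smul_apply] using this
  have e10 : (0 : K) = tr2 y * y.val 1 0 := by
    have := congrFun (congrFun h1 1) 0
    simpa [Matrix.sub_apply, Matrix.smul_apply] using this
  have e11 : (1 : K) = tr2 y * y.val 1 1 - 1 := by
    have := congrFun (congrFun h1 1) 1
    simpa [Matrix.sub_apply, Matrix.smul_apply] using this
  have ht : tr2 y ≠ 0 := by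
    intro ht
    rw [ht, zero_mul] at e00
    apply h2
    linear_combination e00
  have h01 : y.val 0 1 = 0 := by
    rcases mul_eq_zero.mp e01.symm with h | h
    · exact absurd h ht
    · exact h
  have h10 : y.val 1 0 = 0 := by
    rcases mul_eq_zero.mp e10.symm with h | h
    · exact absurd h ht
    · exact h
  have h0011 : y.val 0 0 = y.val 1 1 := by
    have : tr2 y * (y.val 0 0 - y.val 1 1) = 0 := by linear_combination e11 - e00
    rcases mul_eq_zero.mp this with h | h
    · exact absurd h ht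
    · exact sub_eq_zero.mp h
  rw [h01, h10, ← h0011] at hd
  have hsq : (y.val 0 0 - 1) * (y.val 0 0 + 1) = 0 := by linear_combination hd
  rcases mul_eq_zero.mp hsq with h | h
  · left
    apply Subtype.ext
    rw [sl2_val_eq y, Matrix.SpecialLinearGroup.coe_one, Matrix.one_fin_two, mat2_eq_iff]
    refine ⟨sub_eq_zero.mp h, h01, h10, ?_⟩
    rw [← h0011]
    exact sub_eq_zero.mp h
  · right
    apply Subtype.ext
    rw [sl2_val_eq y, Matrix.SpecialLinearGroup.coe_neg, Matrix.SpecialLinearGroup.coe_one,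
      Matrix.one_fin_two]
    have e : -(!![1, 0; 0, 1] : Matrix (Fin 2) (Fin 2) K) = !![-1, -0; -0, -1] := by
      ext i j
      fin_cases i <;> fin_cases j <;> simp
    rw [e, mat2_eq_iff]
    refine ⟨eq_neg_of_add_eq_zero_left h, by rw [h01, neg_zero], by rw [h10, neg_zero], ?_⟩
    rw [← h0011]
    exact eq_neg_of_add_eq_zero_left h

/-- Anticommuting elements: odd powers anticommute. -/
theorem sl2_anticomm_pow (y w : Matrix.SpecialLinearGroup (Fin 2) K) (h : y * w = -(w * y)) (j : ℕ) :
    y ^ (2 * j + 1) * w = -(w * y ^ (2 * j + 1)) := by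
  have h2 : y ^ 2 * w = w * y ^ 2 := by
    rw [pow_two, mul_assoc, h, mul_neg, ← mul_assoc, h, neg_mul, neg_neg, mul_assoc]
  have h3 : ∀ j : ℕ, (y ^ 2) ^ j * w = w * (y ^ 2) ^ j := by
    intro j
    induction j with
    | zero => rw [pow_zero, one_mul, mul_one]
    | succ n ih => rw [pow_succ, mul_assoc, h2, ← mul_assoc, ih, mul_assoc]
  rw [pow_succ, pow_mul, mul_assoc, h, mul_neg, ← mul_assoc, h3, mul_assoc]

theorem sl2_ne_neg_self (h2 : (2 : K) ≠ 0) (w : Matrix.SpecialLinearGroup (Fin 2) K) : w ≠ -w := by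
  intro h
  have hd := det_two_eq w
  have h00 : w.val 0 0 = 0 := by
    have h1 := congrArg (fun g : Matrix.SpecialLinearGroup (Fin 2) K => g.val 0 0) h
    simp only [Matrix.SpecialLinearGroup.coe_neg, Matrix.neg_apply] at h1
    have : (2 : K) * w.val 0 0 = 0 := by linear_combination h1
    rcases mul_eq_zero.mp this with h | h
    · exact absurd h h2
    · exact h
  have h01 : w.val 0 1 = 0 := by
    have h1 := congrArg (fun g : Matrix.SpecialLinearGroup (Fin 2) K => g.val 0 1) h
    simp only [Matrix.SpecialLinearGroup.coe_neg, Matrix.neg_apply] at h1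
    have : (2 : K) * w.val 0 1 = 0 := by linear_combination h1
    rcases mul_eq_zero.mp this with h | h
    · exact absurd h h2
    · exact h
  rw [h00, h01, zero_mul, zero_mul, sub_zero] at hd
  exact zero_ne_one hd

end sl2

section abstract

variable {G : Type*} [Group G]

/-- A group of exponent `2` is commutative. -/
theorem comm_of_sq (Q : Subgroup G) (hQ : ∀ g ∈ Q, g * g = 1) : ∀ a ∈ Q, ∀ b ∈ Q, a * b = b * a := by
  intro a ha b hb
  have h1 := hQ (a * b) (Q.mul_mem ha hb)
  have ha' := hQ a ha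
  have hb' := hQ b hb
  have ha_inv : a⁻¹ = a := inv_eq_of_mul_eq_one_right ha'
  have hb_inv : b⁻¹ = b := inv_eq_of_mul_eq_one_right hb'
  have h2 : (a * b)⁻¹ = a * b := inv_eq_of_mul_eq_one_right h1
  rw [_root_.mul_inv_rev, ha_inv, hb_inv] at h2
  exact h2.symm

/-- A subgroup of order `4` containing the distinct elements `1`, `a`, `b` is generated by them, in the
following weak form: a subgroup containing `a` and `b` contains it. -/
theorem le_of_card_four [Finite G] (Q H : Subgroup G) (hQ4 : Nat.card Q = 4) {a b : G}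
    (haQ : a ∈ Q) (hbQ : b ∈ Q) (ha1 : a ≠ 1) (hb1 : b ≠ 1) (hab : b ≠ a) (haH : a ∈ H) (hbH : b ∈ H) :
    Q ≤ H := by
  have hle : Q ⊓ H ≤ Q := inf_le_left
  have hdvd : Nat.card ↥(Q ⊓ H) ∣ 4 := by
    rw [← hQ4]
    exact Subgroup.card_dvd_of_le hle
  have h4 : (4 : ℕ) = 2 ^ 2 := by norm_num
  rw [h4] at hdvd
  obtain ⟨i, hi, hcard⟩ := (Nat.dvd_prime_pow Nat.prime_two).mp hdvd
  have haI : a ∈ Q ⊓ H := ⟨haQ, haH⟩
  have hbI : b ∈ Q ⊓ H := ⟨hbQ, hbH⟩
  interval_cases i
  · -- order 1
    exfalso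
    rw [pow_zero, Subgroup.card_eq_one] at hcard
    rw [hcard, Subgroup.mem_bot] at haI
    exact ha1 haI
  · -- order 2
    exfalso
    rw [pow_one] at hcard
    obtain ⟨y, -, hy⟩ := (Nat.card_eq_two_iff' (1 : ↥(Q ⊓ H))).mp hcard
    have e1 : (⟨a, haI⟩ : ↥(Q ⊓ H)) = y := hy _ (fun h => ha1 (congrArg Subtype.val h))
    have e2 : (⟨b, hbI⟩ : ↥(Q ⊓ H)) = y := hy _ (fun h => hb1 (congrArg Subtype.val h))
    exact hab (congrArg Subtype.val (e2.trans e1.symm))
  · have : Q ⊓ H = Q := Subgroup.eq_of_le_of_card_ge hle (by rw [hcard, hQ4]; norm_num)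
    rw [← this]
    exact inf_le_right

end abstract

end Cfsg.Agent.Helper7.ReeSolv
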