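import Mathlib
import Cfsg.Agent.Helper7.ReeSolvB

set_option autoImplicit false
set_option linter.unusedSectionVars false
set_option linter.unusedVariables false

/-!
The four-groups of the Ree groups: the normaliser of a four-group normalises a torus of order `q + 1`.
-/

namespace Cfsg.Agent.Helper7.ReeSolv

open Cfsg Cfsg.Lie Matrix Cfsg.Agent.Helper7.Chev Cfsg.Agent.Helper7.ReeAut Cfsg.Agent.Helper7.ReeTor
  Cfsg.Agent.Helper7.ReeCyc Cfsg.Agent.Helper7.ReeLin Cfsg.Agent.Helper7.ReeCnt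

section abstract

theorem comm_of_comm_mul {G : Type*} [Group G] (X c W z₂ : G) (hz : z₂ = c * W) (hXc : X * c = c * X)
    (h4 : X * z₂ = z₂ * X) : X * W = W * X := by
  subst hz
  have : c * (X * W) = c * (W * X) := by rw [← mul_assoc, ← hXc, mul_assoc, h4, mul_assoc]
  exact mul_left_cancel this

end abstract

section ree

variable {K : Type*} [Field K] [Fintype K] [CharP K 3] {m : ℕ}
  (hK : Fintype.card K = 3 ^ (2 * m + 1))

include hK

theorem sq_eq_one_of_card_four (Q : Subgroup ↥(twistedG2 K (3 ^ m))) (hQ4 : Nat.card Q = 4) :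
    ∀ g ∈ Q, g * g = 1 := by
  intro g hg
  apply sq_eq_one_of_two_pow hK g
  refine ⟨2, ?_⟩
  have h1 : (⟨g, hg⟩ : Q) ^ Nat.card Q = 1 := pow_card_eq_one'
  rw [hQ4] at h1
  have h2 : g ^ 4 = 1 := congrArg Subtype.val h1
  have : (2 : ℕ) ^ 2 = 4 := by norm_num
  rw [this]
  exact h2

/-- A four-group containing the standard involution. -/
theorem four_aux (hm : 1 ≤ m) (Q : Subgroup ↥(twistedG2 K (3 ^ m))) (hQ4 : Nat.card Q = 4)
    (haS : aS hK ∈ Q) :
    ∃ (p : ℕ) (x : ↥(twistedG2 K (3 ^ m))), p.Prime ∧ 3 < p ∧ p ∣ Fintype.card K + 1 ∧ x ≠ 1 ∧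
      x ^ p = 1 ∧ Subgroup.normalizer (Q : Set ↥(twistedG2 K (3 ^ m))) ≤
        Subgroup.normalizer (Subgroup.centralizer {x} : Set ↥(twistedG2 K (3 ^ m))) := by
  have h2K := two_ne_zero' K
  have hsq := sq_eq_one_of_card_four hK Q hQ4
  have hQcomm := comm_of_sq Q hsq
  -- a second involution
  obtain ⟨z₂, hz₂Q, hz₂1, hz₂a⟩ : ∃ z₂ ∈ Q, z₂ ≠ 1 ∧ z₂ ≠ aS hK := by
    by_contra hcon
    push_neg at hcon
    have hle : Nat.card Q ≤ 2 := by
      classical
      have hinj : Function.Injective (fun g : Q => decide (g.1 = 1)) := by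
        intro g h hgh
        simp only [decide_eq_decide] at hgh
        apply Subtype.ext
        by_cases hg1 : g.1 = 1
        · rw [hg1, hgh.mp hg1]
        · have hh1 : h.1 ≠ 1 := fun h' => hg1 (hgh.mpr h')
          rw [hcon g.1 g.2 hg1, hcon h.1 h.2 hh1]
      have := Nat.card_le_card_of_injective _ hinj
      simpa using this
    omega
  have hz₂a' : z₂ * aS hK = aS hK * z₂ := hQcomm z₂ hz₂Q _ haS
  obtain ⟨q, hq⟩ := (mem_range_cHom hK z₂).mpr hz₂a'
  have hz₂eq : z₂ = invHom (aS hK) (aS_mul_aS hK) q.1 * rPhi K m q.2 := by rw [← hq, cHom_apply]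
  -- `w * w = -1`
  have hww : q.2 * q.2 = -1 := by
    have h1 : cHom hK (q * q) = 1 := by rw [map_mul, hq]; exact hsq z₂ hz₂Q
    rw [cHom_eq_one_iff] at h1
    rcases h1.2 with h | h
    · exfalso
      have h' : q.2 * q.2 = 1 := h
      have hz : z₂ = invHom (aS hK) (aS_mul_aS hK) q.1 := by
        rcases sl2_eq_of_mul_self_eq_one h2K q.2 h' with hw | hw
        · rw [hz₂eq, hw, map_one, mul_one]
        · rw [hz₂eq, hw, rPhi_neg_one hK, mul_one]
      rcases invHom_cases (aS hK) (aS_mul_aS hK) q.1 with ⟨_, h''⟩ | ⟨_, h''⟩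
      · exact hz₂1 (hz.trans h'')
      · exact hz₂a (hz.trans h'')
    · exact h
  have htr : tr2 q.2 = 0 := (sq_eq_neg_one_iff q.2).mp hww
  have haniso : Aniso q.2 := by
    intro u
    rw [htr, zero_mul, add_zero]
    intro h
    exact neg_one_not_sq hK u (by linear_combination h)
  -- the prime `p`
  have hq27 := ree_card_ge hK hm
  have hq8 := ree_card_mod_eight hK
  have h1 : (Fintype.card K + 1) / 4 ≠ 1 := by omega
  obtain ⟨p, hp, hpd⟩ := Nat.exists_prime_and_dvd h1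
  have hp3 : 3 < p := by
    apply toral_prime_gt_three (m := m) (d := (Fintype.card K + 1) / 4) hm _ hp hpd
    right; left
    rw [hK]
  have hpq : p ∣ Fintype.card K + 1 := hpd.trans (Nat.div_dvd_of_dvd (by omega))
  have hodd : Odd p := hp.odd_of_ne_two (by omega)
  have : Fact p.Prime := ⟨hp⟩
  have hcardT := card_centralizer h2K haniso
  obtain ⟨⟨y, hyT⟩, hyo⟩ := exists_prime_orderOf_dvd_card' (G := Subgroup.centralizer {q.2}) p
    (by rw [hcardT]; exact hpq)
  have hyo' : orderOf y = p := by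
    rw [← hyo]
    exact (Subgroup.orderOf_mk y hyT).symm
  have hy1 : y ≠ 1 := by
    rintro rfl
    rw [orderOf_one] at hyo'
    exact hp.one_lt.ne hyo'
  have hyp : y ^ p = 1 := by rw [← hyo']; exact pow_orderOf_eq_one y
  have hyw : y * q.2 = q.2 * y := Subgroup.mem_centralizer_singleton_iff.mp hyT
  have hxp : rPhi K m y ^ p = 1 := by rw [← map_pow, hyp, map_one]
  have hx1 : rPhi K m y ≠ 1 := by
    intro h
    rcases (rPhi_eq_one_iff hK y).mp h with h | h
    · exact hy1 h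
    · rw [h, Odd.neg_one_pow hodd] at hyp
      exact sl2_one_ne_neg_one hyp.symm
  have hxa : rPhi K m y * aS hK = aS hK * rPhi K m y := by
    have := cHom_comm_aS hK ((1 : Multiplicative (ZMod 2)), y)
    rwa [cHom_one_left] at this
  have hxw : rPhi K m y * rPhi K m q.2 = rPhi K m q.2 * rPhi K m y := by
    rw [← map_mul, ← map_mul, hyw]
  have hcx : ∀ x' : ↥(twistedG2 K (3 ^ m)), x' * aS hK = aS hK * x' →
      x' * invHom (aS hK) (aS_mul_aS hK) q.1 = invHom (aS hK) (aS_mul_aS hK) q.1 * x' := by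
    intro x' hx'
    rcases invHom_cases (aS hK) (aS_mul_aS hK) q.1 with ⟨_, h'⟩ | ⟨_, h'⟩
    · rw [h', mul_one, one_mul]
    · rw [h']
      exact hx'
  have hxz₂ : rPhi K m y * z₂ = z₂ * rPhi K m y := by
    rw [hz₂eq, ← mul_assoc, hcx _ hxa, mul_assoc, hxw, ← mul_assoc]
  have hQC : Q ≤ Subgroup.centralizer {rPhi K m y} :=
    le_of_card_four Q _ hQ4 haS hz₂Q (aS_ne_one hK) hz₂1 hz₂a
      (Subgroup.mem_centralizer_singleton_iff.mpr hxa.symm)
      (Subgroup.mem_centralizer_singleton_iff.mpr hxz₂.symm)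
  refine ⟨p, rPhi K m y, hp, hp3, hpq, hx1, hxp, ?_⟩
  intro n hn
  have hx'1 : n * rPhi K m y * n⁻¹ ≠ 1 := by
    have := conj_ne_one (g := n⁻¹) hx1
    rwa [inv_inv] at this
  have hx'p : (n * rPhi K m y * n⁻¹) ^ p = 1 := by
    rw [conj_pow, hxp, mul_one, mul_inv_cancel]
  have hx'Q : ∀ g ∈ Q, (n * rPhi K m y * n⁻¹) * g = g * (n * rPhi K m y * n⁻¹) := by
    intro g hg
    have hg' : n⁻¹ * g * n ∈ Q := (Subgroup.mem_normalizer_iff''.mp hn g).mp hg
    have h3 := Subgroup.mem_centralizer_singleton_iff.mp (hQC hg')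
    calc n * rPhi K m y * n⁻¹ * g = n * (rPhi K m y * (n⁻¹ * g * n)) * n⁻¹ := by group
      _ = n * ((n⁻¹ * g * n) * rPhi K m y) * n⁻¹ := by rw [h3]
      _ = g * (n * rPhi K m y * n⁻¹) := by group
  obtain ⟨y', hy', hy'p⟩ := exists_rPhi_eq hK hodd (hx'Q _ haS) hx'p
  have hx'w : (n * rPhi K m y * n⁻¹) * rPhi K m q.2 = rPhi K m q.2 * (n * rPhi K m y * n⁻¹) := by
    exact comm_of_comm_mul _ _ _ _ hz₂eq (hcx _ (hx'Q _ haS)) (hx'Q z₂ hz₂Q)
  rw [← hy', ← map_mul, ← map_mul, rPhi_eq_iff hK] at hx'w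
  have hy'w : y' * q.2 = q.2 * y' := by
    rcases hx'w with h | h
    · exact h
    · exfalso
      obtain ⟨j, hj⟩ := hodd
      have h5 := sl2_anticomm_pow y' q.2 h j
      rw [← hj, hy'p, one_mul, mul_one] at h5
      exact sl2_ne_neg_self h2K q.2 h5
  have hyy' : y' * y = y * y' := centralizer_comm haniso.b_ne y' y hy'w hyw
  have hxx' : (n * rPhi K m y * n⁻¹) * rPhi K m y = rPhi K m y * (n * rPhi K m y * n⁻¹) := by
    rw [← hy', ← map_mul, ← map_mul, hyy']
  have e := centralizer_eq_of_comm hK hm hp hp3 hp hp3 hx1 hxp hx'1 hx'p hxx'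
  apply Subgroup.mem_normalizer_fintype
  intro u hu
  have hu' : u * rPhi K m y = rPhi K m y * u := Subgroup.mem_centralizer_singleton_iff.mp hu
  show n * u * n⁻¹ ∈ Subgroup.centralizer {rPhi K m y}
  rw [← e, Subgroup.mem_centralizer_singleton_iff]
  calc n * u * n⁻¹ * (n * rPhi K m y * n⁻¹) = n * (u * rPhi K m y) * n⁻¹ := by group
    _ = n * (rPhi K m y * u) * n⁻¹ := by rw [hu']
    _ = n * rPhi K m y * n⁻¹ * (n * u * n⁻¹) := by group

end ree

end Cfsg.Agent.Helper7.ReeSolv
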