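import Mathlib
import Cfsg.Agent.Helper7.ReeSolvC

set_option autoImplicit false
set_option linter.unusedSectionVars false
set_option linter.unusedVariables false

/-!
Solvable subgroups of the Ree groups.
-/

namespace Cfsg.Agent.Helper7.ReeSolv

open Cfsg Cfsg.Lie Matrix Cfsg.Agent.Helper7.Chev Cfsg.Agent.Helper7.ReeAut Cfsg.Agent.Helper7.ReeTor
  Cfsg.Agent.Helper7.ReeCyc Cfsg.Agent.Helper7.ReeLin Cfsg.Agent.Helper7.ReeCnt

section ree

variable {K : Type*} [Field K] [Fintype K] [CharP K 3] {m : ℕ}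
  (hK : Fintype.card K = 3 ^ (2 * m + 1))

include hK

/-- The normaliser of a four-group normalises a torus of order `q + 1`. -/
theorem four_group (hm : 1 ≤ m) (Q : Subgroup ↥(twistedG2 K (3 ^ m))) (hQ4 : Nat.card Q = 4) :
    ∃ (p : ℕ) (x : ↥(twistedG2 K (3 ^ m))), p.Prime ∧ 3 < p ∧ p ∣ Fintype.card K + 1 ∧ x ≠ 1 ∧
      x ^ p = 1 ∧ Subgroup.normalizer (Q : Set ↥(twistedG2 K (3 ^ m))) ≤
        Subgroup.normalizer (Subgroup.centralizer {x} : Set ↥(twistedG2 K (3 ^ m))) := by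
  have hsq := sq_eq_one_of_card_four hK Q hQ4
  have hQne : Q ≠ ⊥ := by
    intro h
    rw [h, Subgroup.card_bot] at hQ4
    omega
  obtain ⟨⟨z, hzQ⟩, hz1⟩ := Subgroup.ne_bot_iff_exists_ne_one.mp hQne
  have hz1' : z ≠ 1 := fun h => hz1 (Subtype.ext h)
  obtain ⟨k, hk⟩ := involution_conj hK hm hz1' (hsq z hzQ)
  -- the conjugate four-group
  have hcard : Nat.card (Q.map (MulAut.conj k⁻¹).toMonoidHom) = 4 := by
    rw [Subgroup.card_map_of_injective (MulAut.conj k⁻¹).injective, hQ4]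
  have hmem : ∀ g : ↥(twistedG2 K (3 ^ m)), g ∈ Q.map (MulAut.conj k⁻¹).toMonoidHom ↔
      k * g * k⁻¹ ∈ Q := by
    intro g
    constructor
    · rintro ⟨a, ha, rfl⟩
      have : k * (MulAut.conj k⁻¹).toMonoidHom a * k⁻¹ = a := by
        show k * (k⁻¹ * a * k⁻¹⁻¹) * k⁻¹ = a
        group
      rw [this]
      exact ha
    · intro hg
      refine ⟨k * g * k⁻¹, hg, ?_⟩
      show k⁻¹ * (k * g * k⁻¹) * k⁻¹⁻¹ = g
      group
  have haS : aS hK ∈ Q.map (MulAut.conj k⁻¹).toMonoidHom := by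
    rw [hmem, hk]
    exact hzQ
  obtain ⟨p, x', hp, hp3, hpq, hx'1, hx'p, hN⟩ := four_aux hK hm _ hcard haS
  refine ⟨p, k * x' * k⁻¹, hp, hp3, hpq, ?_, ?_, ?_⟩
  · have := conj_ne_one (g := k⁻¹) hx'1
    rwa [inv_inv] at this
  · rw [conj_pow, hx'p, mul_one, mul_inv_cancel]
  · intro n hn
    have hn' : k⁻¹ * n * k ∈ Subgroup.normalizer
        ((Q.map (MulAut.conj k⁻¹).toMonoidHom : Subgroup ↥(twistedG2 K (3 ^ m))) :
          Set ↥(twistedG2 K (3 ^ m))) := by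
      apply Subgroup.mem_normalizer_fintype
      intro g hg
      have hg' : k * g * k⁻¹ ∈ Q := (hmem g).mp hg
      show k⁻¹ * n * k * g * (k⁻¹ * n * k)⁻¹ ∈ Q.map (MulAut.conj k⁻¹).toMonoidHom
      rw [hmem]
      have h1 := (Subgroup.mem_normalizer_iff.mp hn _).mp hg'
      have e : k * (k⁻¹ * n * k * g * (k⁻¹ * n * k)⁻¹) * k⁻¹ = n * (k * g * k⁻¹) * n⁻¹ := by group
      rw [e]
      exact h1
    have h2 := hN hn'
    apply Subgroup.mem_normalizer_fintype
    intro u hu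
    have hu' : u * (k * x' * k⁻¹) = k * x' * k⁻¹ * u := Subgroup.mem_centralizer_singleton_iff.mp hu
    have hu'' : k⁻¹ * u * k ∈ Subgroup.centralizer {x'} := by
      rw [Subgroup.mem_centralizer_singleton_iff]
      calc k⁻¹ * u * k * x' = k⁻¹ * (u * (k * x' * k⁻¹)) * k := by group
        _ = k⁻¹ * (k * x' * k⁻¹ * u) * k := by rw [hu']
        _ = x' * (k⁻¹ * u * k) := by group
    have h3 := (Subgroup.mem_normalizer_iff.mp h2 _).mp hu''
    rw [Subgroup.mem_centralizer_singleton_iff] at h3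
    show n * u * n⁻¹ ∈ Subgroup.centralizer {k * x' * k⁻¹}
    rw [Subgroup.mem_centralizer_singleton_iff]
    calc n * u * n⁻¹ * (k * x' * k⁻¹) =
        k * (k⁻¹ * n * k * (k⁻¹ * u * k) * (k⁻¹ * n * k)⁻¹ * x') * k⁻¹ := by group
      _ = k * (x' * (k⁻¹ * n * k * (k⁻¹ * u * k) * (k⁻¹ * n * k)⁻¹)) * k⁻¹ := by rw [h3]
      _ = k * x' * k⁻¹ * (n * u * n⁻¹) := by group

/-- A subgroup normalising a four-group normalises a cyclic subgroup of order `(q + 1) / 4`. -/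
theorem solv_four (hm : 1 ≤ m) (S N : Subgroup ↥(twistedG2 K (3 ^ m))) (hN4 : Nat.card N = 4)
    (hSN : ∀ s ∈ S, ∀ n ∈ N, s * n * s⁻¹ ∈ N) :
    ∃ A : Subgroup ↥(twistedG2 K (3 ^ m)), IsCyclic A ∧ Nat.card A = (Fintype.card K + 1) / 4 ∧
      S ≤ Subgroup.normalizer (A : Set ↥(twistedG2 K (3 ^ m))) := by
  have hq := ree_card_ge hK hm
  have hq8 := ree_card_mod_eight hK
  have hq3 := ree_card_mod_three hK
  obtain ⟨p, x, hp, hp3, hpq, hx1, hxp, hNN⟩ := four_group hK hm N hN4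
  have hT := (quarter_centralizer hK hm hp hp3 hpq hx1 hxp).2
  have hc := card_sq_quarter hK hm hp hp3 hpq hx1 hxp
  obtain ⟨A, hcyc, hcard, -, -, -, hNA, -⟩ := torus_hall hK hm hp hp3 hx1 hxp
    ((Fintype.card K + 1) / 4) (by rw [hT, hc]; omega) (by omega) (by omega) (by omega)
  refine ⟨A, hcyc, hcard, ?_⟩
  rw [hNA]
  intro s hs
  apply hNN
  apply Subgroup.mem_normalizer_fintype
  intro u hu
  exact hSN s hs u hu

/-- The solvable subgroups of the Ree groups. -/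
theorem ree_solvable (hm : 1 ≤ m) (r : ℕ) (hr : r ^ 2 = 3 * Fintype.card K)
    (S : Subgroup ↥(twistedG2 K (3 ^ m))) (hS : Group.IsSolvable S) :
    ∃ A : Subgroup ↥(twistedG2 K (3 ^ m)),
      S ≤ Subgroup.normalizer (A : Set ↥(twistedG2 K (3 ^ m))) ∧
      ((∃ P : Sylow 2 ↥(twistedG2 K (3 ^ m)), A = P) ∨
       (∃ P : Sylow 3 ↥(twistedG2 K (3 ^ m)), A = P) ∨
       (IsCyclic A ∧ (Nat.card A = (Fintype.card K - 1) / 2 ∨ Nat.card A = (Fintype.card K + 1) / 4 ∨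
          Nat.card A = Fintype.card K - r + 1 ∨ Nat.card A = Fintype.card K + r + 1))) := by
  have h2 : Fact (Nat.Prime 2) := ⟨Nat.prime_two⟩
  -- the general step: a non-trivial subgroup `N` of prime power order normalised by `S`
  have step : ∀ (p : ℕ) (N : Subgroup ↥(twistedG2 K (3 ^ m))), p.Prime → IsPGroup p N → N ≠ ⊥ →
      (∀ s ∈ S, ∀ n ∈ N, s * n * s⁻¹ ∈ N) → (p = 2 → 4 ∣ Nat.card N) →
      ∃ A : Subgroup ↥(twistedG2 K (3 ^ m)),
      S ≤ Subgroup.normalizer (A : Set ↥(twistedG2 K (3 ^ m))) ∧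
      ((∃ P : Sylow 2 ↥(twistedG2 K (3 ^ m)), A = P) ∨
       (∃ P : Sylow 3 ↥(twistedG2 K (3 ^ m)), A = P) ∨
       (IsCyclic A ∧ (Nat.card A = (Fintype.card K - 1) / 2 ∨ Nat.card A = (Fintype.card K + 1) / 4 ∨
          Nat.card A = Fintype.card K - r + 1 ∨ Nat.card A = Fintype.card K + r + 1))) := by
    intro p N hp hNp hN1 hSN h4
    by_cases hp2 : p = 2
    · subst hp2
      obtain ⟨P, hP⟩ := hNp.exists_le_sylow
      have hdvd : Nat.card N ∣ 8 := by
        rw [← (sylow_two_card hK P).1]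
        exact Subgroup.card_dvd_of_le hP
      have h8 : (8 : ℕ) = 2 ^ 3 := by norm_num
      rw [h8] at hdvd
      obtain ⟨i, hi, hcard⟩ := (Nat.dvd_prime_pow Nat.prime_two).mp hdvd
      have h4' := h4 rfl
      rw [hcard] at h4'
      interval_cases i
      · norm_num at h4'
      · norm_num at h4'
      · obtain ⟨A, hcyc, hcardA, hSA⟩ := solv_four hK hm S N (by rw [hcard]; norm_num) hSN
        exact ⟨A, hSA, Or.inr (Or.inr ⟨hcyc, Or.inr (Or.inl hcardA)⟩)⟩
      · obtain ⟨P', hP'⟩ := solv_eight hK S N (by rw [hcard]; norm_num) hSN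
        exact ⟨P', hP', Or.inl ⟨P', rfl⟩⟩
    by_cases hp3 : p = 3
    · subst hp3
      obtain ⟨P', hP'⟩ := solv_three hK S N hNp hN1 hSN
      exact ⟨P', hP', Or.inr (Or.inl ⟨P', rfl⟩)⟩
    · obtain ⟨A, hcyc, hcardA, hSA⟩ := solv_torus hK hm r hr hp (three_lt_of_prime hp hp2 hp3) S N
        hNp hN1 hSN
      exact ⟨A, hSA, Or.inr (Or.inr ⟨hcyc, hcardA⟩)⟩
  -- transport of normal subgroups of `S`
  have transport : ∀ (p : ℕ) (N : Subgroup S), N.Normal → IsPGroup p N →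
      IsPGroup p (N.map S.subtype) ∧ (∀ s ∈ S, ∀ n ∈ N.map S.subtype, s * n * s⁻¹ ∈ N.map S.subtype) ∧
      Nat.card (N.map S.subtype) = Nat.card N := by
    intro p N hN hNp
    refine ⟨hNp.map _, ?_, Subgroup.card_map_of_injective S.subtype_injective⟩
    rintro s hs _ ⟨n, hn, rfl⟩
    exact ⟨⟨s, hs⟩ * n * ⟨s, hs⟩⁻¹, hN.conj_mem n hn ⟨s, hs⟩, rfl⟩
  by_cases hS1 : S = ⊥
  · let P : Sylow 2 ↥(twistedG2 K (3 ^ m)) := default
    refine ⟨P, ?_, Or.inl ⟨P, rfl⟩⟩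
    rw [hS1]
    exact bot_le
  haveI : Nontrivial S := (Subgroup.nontrivial_iff_ne_bot S).mpr hS1
  obtain ⟨p, N, hp, hNn, hNp, hN1⟩ := Cfsg.Agent.Helper7.SolvN.exists_normal_pgroup (G := S)
  obtain ⟨hNp', hSN, hcardN⟩ := transport p N hNn hNp
  have hN1' : N.map S.subtype ≠ ⊥ := by
    rw [Ne, Subgroup.map_eq_bot_iff_of_injective _ S.subtype_injective]
    exact hN1
  by_cases hcase : p = 2 ∧ Nat.card N = 2
  · obtain ⟨rfl, hN2⟩ := hcase
    by_cases hNtop : N = ⊤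
    · -- `S` has order `2`
      have hSp : IsPGroup 2 S := by
        apply IsPGroup.of_card (n := 1)
        rw [← Subgroup.card_top (G := S), ← hNtop, hN2, pow_one]
      have hSp' : IsPGroup 2 (S : Subgroup ↥(twistedG2 K (3 ^ m))) := hSp
      obtain ⟨P, hP⟩ := hSp'.exists_le_sylow
      refine ⟨P, ?_, Or.inl ⟨P, rfl⟩⟩
      intro s hs
      apply Subgroup.mem_normalizer_fintype
      intro u hu
      have hu' : u ∈ (P : Subgroup ↥(twistedG2 K (3 ^ m))) := hu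
      have hcomm := comm_of_sq (P : Subgroup ↥(twistedG2 K (3 ^ m))) (sylow_two_card hK P).2
      show s * u * s⁻¹ ∈ (P : Subgroup ↥(twistedG2 K (3 ^ m)))
      rw [hcomm s (hP hs) u hu', mul_assoc, mul_inv_cancel, mul_one]
      exact hu'
    · haveI := hNn
      obtain ⟨p', N', hp', hN'n, hN'p, hN'⟩ :=
        Cfsg.Agent.Helper7.SolvN.exists_normal_pgroup_of_central N hN2 hNtop
      obtain ⟨hN'p', hSN', hcardN'⟩ := transport p' N' hN'n hN'p
      rcases hN' with ⟨rfl, h4⟩ | ⟨hp'2, hN'1⟩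
      · have hN'1 : N'.map S.subtype ≠ ⊥ := by
          intro h
          rw [← hcardN', h, Subgroup.card_bot] at h4
          norm_num at h4
        exact step 2 _ hp' hN'p' hN'1 hSN' (fun _ => by rw [hcardN']; exact h4)
      · have hN'1' : N'.map S.subtype ≠ ⊥ := by
          rw [Ne, Subgroup.map_eq_bot_iff_of_injective _ S.subtype_injective]
          exact hN'1
        exact step p' _ hp' hN'p' hN'1' hSN' (fun h => absurd h hp'2)
  · apply step p _ hp hNp' hN1' hSN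
    intro hp2
    subst hp2
    rw [hcardN]
    -- the order of `N` is a power of `2` different from `1` and `2`
    obtain ⟨k, hk⟩ := IsPGroup.iff_card.mp hNp
    have hk1 : Nat.card N ≠ 1 := fun h => hN1 (Subgroup.card_eq_one.mp h)
    have hk2 : Nat.card N ≠ 2 := fun h => hcase ⟨rfl, h⟩
    rw [hk] at hk1 hk2 ⊢
    rcases k with _ | _ | k
    · exact absurd (pow_zero 2) hk1
    · exact absurd (pow_one 2) hk2
    · rw [pow_succ, pow_succ]
      exact ⟨2 ^ k, by ring⟩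

end ree

end Cfsg.Agent.Helper7.ReeSolv
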