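import Mathlib
import Cfsg.Prelude.Def_RootSubgroups
import Cfsg.Agent.Helper7.RankOneNormal

set_option autoImplicit false

/-!
Sets of abstract root subgroups: elementary lemmas around rank one partners.
-/

namespace Cfsg.Agent.Helper7.Root

open Cfsg Cfsg.Agent.Helper7.R1

variable {G : Type*} [Group G] {S : Set (Subgroup G)} {A B C D E : Subgroup G}

theorem comm_of_isMulCommutative {A : Subgroup G} (h : IsMulCommutative A) {x y : G}
    (hx : x ∈ A) (hy : y ∈ A) : x * y = y * x := by
  have := h.is_comm.comm ⟨x, hx⟩ ⟨y, hy⟩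
  exact congrArg Subtype.val this

theorem comm_of_commutator_eq_bot (h : ⁅A, B⁆ = ⊥) {a b : G} (ha : a ∈ A) (hb : b ∈ B) :
    a * b = b * a := by
  rw [Subgroup.commutator_eq_bot_iff_le_centralizer] at h
  have := h ha
  rw [Subgroup.mem_centralizer_iff] at this
  exact (this b hb).symm

theorem le_centralizer_zpowers_iff {g : G} :
    E ≤ Subgroup.centralizer ((Subgroup.zpowers g : Subgroup G) : Set G) ↔ ∀ e ∈ E, g * e = e * g := by
  constructor
  · intro h e he
    have := h he
    rw [Subgroup.mem_centralizer_iff] at this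
    exact this g (Subgroup.mem_zpowers g)
  · intro h e he
    rw [Subgroup.mem_centralizer_iff]
    rintro _ ⟨n, rfl⟩
    have : Commute g e := h e he
    exact (this.zpow_left n).eq

/-- If every element of `C` commutes with every element of `B` then elements of `C` normalise `B`. -/
theorem conjBy_of_comm' {c : G} (hc : ∀ b ∈ B, c * b = b * c) : conjBy B c = B :=
  conjBy_of_comm hc

/-- In the commutator case for `(C, B)`, the conjugate `cBc⁻¹` commutes elementwise with `B`. -/
theorem commutator_case_comm (hB : IsMulCommutative B) (hcase : RootCommutatorCase S C B)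
    {c : G} (hc : c ∈ C) : ∀ x ∈ conjBy B c, ∀ b ∈ B, x * b = b * x := by
  obtain ⟨_, hcent, _, _⟩ := hcase
  intro x hx b' hb'
  rw [mem_conjBy] at hx
  set b := c⁻¹ * x * c with hb
  have hx' : x = (c * b * c⁻¹ * b⁻¹) * b := by rw [hb]; group
  have hmem : c * b * c⁻¹ * b⁻¹ ∈ ⁅C, B⁆ := Subgroup.commutator_mem_commutator hc hx
  have h1 := hcent _ hmem b' (Subgroup.mem_sup_right hb')
  rw [hx', mul_assoc, comm_of_isMulCommutative hB hx hb', ← mul_assoc, h1, mul_assoc]

/-- The key lemma: if `c ∈ C#` acts on `B` like some `a ∈ A#`, where `(A, B)` is a rank one pair,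
then `C` is a unipotent subgroup of `⟨A, B⟩`. -/
theorem mem_unipotent_of_conjBy_eq (hS : IsRootSubgroupSet S) (hBS : B ∈ S) (hCS : C ∈ S)
    (h : IsRankOnePair A B) {c a : G} (hc : c ∈ C) (ha : a ∈ A) (ha1 : a ≠ 1)
    (e : conjBy B c = conjBy B a) : C ∈ unipotentSubgroups A B := by
  have hc1 : c ≠ 1 := by
    rintro rfl
    rw [conjBy_one] at e
    exact ha1 (eq_one_of_conjBy_right h ha e.symm)
  obtain ⟨b', hb', hb1', e'⟩ := conjBy_right_of_mem_left h ha ha1
  rcases hS.pair C hCS B hBS with h0 | hr | hcase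
  · exfalso
    apply ha1
    apply eq_one_of_conjBy_right h ha
    rw [← e]
    exact conjBy_of_comm (fun b hb => comm_of_commutator_eq_bot h0 hc hb)
  · have hc1' : c⁻¹ ≠ 1 := by simpa using hc1
    obtain ⟨b, hb, hb1, e2⟩ := hr.cond_left c⁻¹ (C.inv_mem hc) hc1'
    rw [inv_inv, e, e'] at e2
    -- conjBy C b⁻¹ = conjBy A b'
    have : C = conjBy A (b * b') := by
      rw [conjBy_mul, ← e2, conjBy_conjBy, mul_inv_cancel, conjBy_one]
    rw [this]
    exact ⟨b * b', Subgroup.mem_sup_right (B.mul_mem hb hb'), rfl⟩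
  · exfalso
    have hcomm := commutator_case_comm (hS.commutative B hBS) hcase hc
    rw [e, e'] at hcomm
    -- conjBy A b' commutes with B, hence A commutes with B
    apply ha1
    apply eq_one_of_conjBy_right h ha
    apply conjBy_of_comm
    intro b hb
    have h1 : b' * a * b'⁻¹ ∈ conjBy A b' := by
      rw [mem_conjBy]
      have : b'⁻¹ * (b' * a * b'⁻¹) * b' = a := by group
      rwa [this]
    have h2 : b' * b * b'⁻¹ ∈ B := B.mul_mem (B.mul_mem hb' hb) (B.inv_mem hb')
    have h3 := hcomm _ h1 _ h2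
    have h4 : b' * (a * b) * b'⁻¹ = b' * (b * a) * b'⁻¹ := by
      have e1 : b' * (a * b) * b'⁻¹ = b' * a * b'⁻¹ * (b' * b * b'⁻¹) := by group
      have e2 : b' * (b * a) * b'⁻¹ = b' * b * b'⁻¹ * (b' * a * b'⁻¹) := by group
      rw [e1, e2, h3]
    have h5 := mul_right_cancel h4
    exact mul_left_cancel h5

/-- A partner from non-isolatedness. -/
theorem exists_partner (hA : ¬ IsIsolatedIn (FAdj S) S A) (hAS : A ∈ S) :
    ∃ B ∈ S, IsRankOnePair A B := by
  unfold IsIsolatedIn at hA
  push Not at hA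
  obtain ⟨B, hB⟩ := hA hAS
  by_cases h1 : FAdj S A B
  · exact ⟨B, h1.2.1, h1.2.2⟩
  · have h2 := hB h1
    exact ⟨B, h2.1, RankOnePair_symm h2.2.2⟩

/-- A member with a rank one partner meets every other member trivially. -/
theorem inf_eq_bot_of_partner (hS : IsRootSubgroupSet S) (hBS : B ∈ S) (h : IsRankOnePair A B)
    (hCS : C ∈ S) (hne : A ≠ C) : A ⊓ C = ⊥ := by
  rw [eq_bot_iff]
  rintro a ⟨haA, haC⟩
  rw [Subgroup.mem_bot]
  by_contra ha1
  have hC : C ∈ unipotentSubgroups A B :=
    mem_unipotent_of_conjBy_eq hS hBS hCS h haC haA ha1 rfl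
  have hp := (pair_of_unipotent h left_mem_unipotent hC hne).1
  have : a ∈ A ⊓ C := ⟨haA, haC⟩
  rw [inf_eq_bot hp, Subgroup.mem_bot] at this
  exact ha1 this

/-- If `z ≠ 1` centralises `⟨A, B⟩` then `z a` is not a root element, for `a ∈ A#`. -/
theorem central_mul_not_rootElement (hS : IsRootSubgroupSet S) (hBS : B ∈ S)
    (h : IsRankOnePair A B) {z : G} (hz : ∀ x ∈ A ⊔ B, z * x = x * z) (hz1 : z ≠ 1)
    {a : G} (ha : a ∈ A) (ha1 : a ≠ 1) : z * a ∉ rootElements S := by
  rintro ⟨hza1, C, hCS, hzaC⟩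
  have hzB : conjBy B z = B := conjBy_of_comm (fun b hb => hz b (Subgroup.mem_sup_right hb))
  have hzB' : conjBy B z⁻¹ = B := conjBy_inv_of_conjBy hzB
  have e : conjBy B (z * a) = conjBy B a := by
    rw [conjBy_mul]
    apply conjBy_of_comm
    intro x hx
    exact hz x (conjBy_le_of_le le_sup_right (Subgroup.mem_sup_left ha) hx)
  have hC : C ∈ unipotentSubgroups A B := mem_unipotent_of_conjBy_eq hS hBS hCS h hzaC ha ha1 e
  rw [mem_unipotent_iff h] at hC
  rcases hC with rfl | ⟨a'', ha'', rfl⟩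
  · have hzA : z ∈ C := by
      have := C.mul_mem hzaC (C.inv_mem ha)
      simpa using this
    exact hz1 (eq_one_of_conjBy_right h hzA hzB)
  · rw [mem_conjBy] at hzaC
    have hcomm := hz a''⁻¹ (Subgroup.mem_sup_left (A.inv_mem ha''))
    have e1 : a''⁻¹ * (z * a) * a'' = z * (a''⁻¹ * a * a'') := by
      rw [← mul_assoc, ← hcomm]; group
    rw [e1] at hzaC
    set a' := a''⁻¹ * a * a'' with ha'
    have ha'A : a' ∈ A := A.mul_mem (A.mul_mem (A.inv_mem ha'') ha) ha''
    have hfix : conjBy B a' = B := by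
      have : a' = z⁻¹ * (z * a') := by group
      rw [this, conjBy_mul, conjBy_of_mem hzaC, hzB']
    have := eq_one_of_conjBy_right h ha'A hfix
    apply ha1
    have h2 := congrArg (fun t => a'' * t * a''⁻¹) this
    simp only [ha'] at h2
    have e3 : a'' * (a''⁻¹ * a * a'') * a''⁻¹ = a := by group
    rw [e3] at h2
    simpa using h2

end Cfsg.Agent.Helper7.Root
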