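import Mathlib
import Cfsg.Agent.Helper7.S4017Defs

set_option autoImplicit false

namespace Cfsg.Agent.Helper7.S4017

universe u

variable {G : Type u} [Group G] [Finite G] {p a : ℕ}

omit [Finite G] in
theorem h7b_mem_cent {t c : G} : c ∈ Cent t ↔ t * c = c * t := by
  unfold Cent
  rw [Subgroup.mem_centralizer_iff]
  constructor
  · intro h; exact h t rfl
  · intro h x hx; rw [Set.mem_singleton_iff] at hx; subst hx; exact h

omit [Finite G] in
theorem h7b_dsub_le_cent (t : G) : Dsub p t ≤ Cent t := by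
  unfold Dsub
  rw [Subgroup.closure_le]
  intro x hx
  exact hx.1

omit [Finite G] in
theorem h7b_mem_dsub {t w : G} (hw : w ∈ Cent t) (hwp : IsPElt p w) : w ∈ Dsub p t :=
  Subgroup.subset_closure ⟨hw, hwp⟩

theorem h7b_p_ne_two (h : MinCE G p a) : p ≠ 2 := by
  intro hp2
  have := h.hpa
  rw [hp2] at this
  have h4 : 2 ^ 2 ≤ 2 ^ a := Nat.pow_le_pow_right (by norm_num) h.ha
  omega

/-- a proper subgroup containing a Sylow 2 and a Sylow p has order `2^a |P|` -/
theorem h7b_card_of_contains (h : MinCE G p a) (X : Subgroup G) (hX : X ≠ ⊤)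
    (Q : Sylow 2 G) (hQX : (Q : Subgroup G) ≤ X) (P : Sylow p G) (hPX : (P : Subgroup G) ≤ X) :
    Nat.card X = 2 ^ a * Nat.card P := by
  have hp := h.hp
  have : Fact p.Prime := ⟨hp⟩
  have : Fact (Nat.Prime 2) := ⟨Nat.prime_two⟩
  have hQcard : Nat.card (Q : Subgroup G) = 2 ^ a := by
    rw [Q.card_eq_multiplicity, h.h2]
  have h2a : 2 ^ a ∣ Nat.card X := by
    rw [← hQcard]; exact Subgroup.card_dvd_of_le hQX
  have h2 : 2 ∣ Nat.card X := dvd_trans (dvd_pow_self 2 (by have := h.ha; omega)) h2a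
  have hTwoP := h.hH1 X hX h2
  have hPcard : Nat.card (P : Subgroup G) = p ^ (Nat.card G).factorization p := P.card_eq_multiplicity
  have hPdvd : Nat.card (P : Subgroup G) ∣ Nat.card X := Subgroup.card_dvd_of_le hPX
  have hp2 : p ≠ 2 := h7b_p_ne_two h
  have hcop : Nat.Coprime (2 ^ a) (Nat.card (P : Subgroup G)) := by
    rw [hPcard]
    apply Nat.Coprime.pow
    exact (Nat.coprime_primes Nat.prime_two hp).mpr (Ne.symm hp2)
  have hdvd : 2 ^ a * Nat.card (P : Subgroup G) ∣ Nat.card X :=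
    hcop.mul_dvd_of_dvd_of_dvd h2a hPdvd
  obtain ⟨m', hm'⟩ := hdvd
  have hMG : Nat.card X ∣ Nat.card G := Subgroup.card_subgroup_dvd_card _
  have hG0 : Nat.card G ≠ 0 := Nat.card_pos.ne'
  have hm1 : m' = 1 := by
    by_contra hne
    obtain ⟨ℓ, hℓ, hℓm⟩ := Nat.exists_prime_and_dvd hne
    have hℓM : ℓ ∣ Nat.card X := by rw [hm']; exact dvd_mul_of_dvd_right hℓm _
    rcases hTwoP ℓ hℓ hℓM with h2' | hp'
    · subst h2'
      have : 2 ^ (a + 1) ∣ Nat.card G := by
        refine dvd_trans ?_ hMG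
        rw [hm', pow_succ]
        obtain ⟨c, hc⟩ := hℓm
        rw [hc]
        exact ⟨Nat.card (P : Subgroup G) * c, by ring⟩
      have hnot := Nat.pow_succ_factorization_not_dvd hG0 Nat.prime_two
      rw [h.h2] at hnot
      exact hnot this
    · subst hp'
      have : ℓ ^ ((Nat.card G).factorization ℓ + 1) ∣ Nat.card G := by
        refine dvd_trans ?_ hMG
        rw [hm', hPcard, pow_succ]
        obtain ⟨c, hc⟩ := hℓm
        rw [hc]
        exact ⟨2 ^ a * c, by ring⟩
      exact Nat.pow_succ_factorization_not_dvd hG0 hℓ this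
  rw [hm', hm1, mul_one]

/-- an element of odd prime power order which is its own inverse is trivial -/
theorem h7b_eq_one_of_sq (h : MinCE G p a) {w : G} (hwp : IsPElt p w) (hw2 : w * w = 1) : w = 1 := by
  obtain ⟨k, hk⟩ := hwp
  have h1 : orderOf w ∣ 2 := orderOf_dvd_of_pow_eq_one (by rw [pow_two]; exact hw2)
  rw [hk] at h1
  have hp2 := h7b_p_ne_two h
  have hcop : Nat.Coprime (p ^ k) 2 :=
    Nat.Coprime.pow_left k ((Nat.coprime_primes h.hp Nat.prime_two).mpr hp2)
  have h2 : p ^ k = 1 := Nat.Coprime.eq_one_of_dvd hcop h1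
  rw [h2] at hk
  exact orderOf_eq_one_iff.mp hk

omit [Finite G] in
theorem h7b_isInv_conj {s : G} (g : G) (hs : IsInv s) : IsInv (g * s * g⁻¹) := by
  refine ⟨?_, ?_⟩
  · intro h1
    apply hs.1
    have : s = g⁻¹ * (g * s * g⁻¹) * g := by group
    rw [this, h1]; group
  · have : g * s * g⁻¹ * (g * s * g⁻¹) = g * (s * s) * g⁻¹ := by group
    rw [this, hs.2]; group

omit [Finite G] in
theorem h7b_inv_eq {s : G} (hs : IsInv s) : s⁻¹ = s := inv_eq_of_mul_eq_one_left hs.2

omit [Finite G] in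
theorem h7b_isPElt_conj {w : G} (g : G) (hw : IsPElt p w) : IsPElt p (g * w * g⁻¹) := by
  obtain ⟨k, hk⟩ := hw
  refine ⟨k, ?_⟩
  have : g * w * g⁻¹ = MulAut.conj g w := by simp
  rw [this, MulEquiv.orderOf_eq]; exact hk

omit [Finite G] in
/-- an element inverting `u` normalizes `⟨u⟩` -/
theorem h7b_inverts_mem_normalizer {g u : G} (hg : g * u * g⁻¹ = u⁻¹) :
    g ∈ Subgroup.normalizer ((Subgroup.zpowers u : Subgroup G) : Set G) := by
  have h1 : u = g⁻¹ * u⁻¹ * g := by rw [← hg]; group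
  have hg' : g⁻¹ * u * g = u⁻¹ := by
    calc g⁻¹ * u * g = (g⁻¹ * u⁻¹ * g)⁻¹ := by group
      _ = u⁻¹ := by rw [← h1]
  have key : ∀ (e : G), e * u * e⁻¹ = u⁻¹ → ∀ x ∈ Subgroup.zpowers u, e * x * e⁻¹ ∈ Subgroup.zpowers u := by
    intro e he x hx
    obtain ⟨k, rfl⟩ := Subgroup.mem_zpowers_iff.mp hx
    rw [← conj_zpow, he, inv_zpow]
    exact inv_mem (Subgroup.zpow_mem_zpowers u k)
  rw [Subgroup.mem_normalizer_iff]
  intro x
  constructor
  · exact key g hg x
  · intro hx
    have := key g⁻¹ (by simpa using hg') _ hx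
    have e : g⁻¹ * (g * x * g⁻¹) * g⁻¹⁻¹ = x := by group
    rwa [e] at this

omit [Finite G] in
/-- if `s` inverts `w` then conjugation by `s` preserves `C(w)` -/
theorem h7b_conj_mem_cent_of_inverts {s w c : G} (hs : IsInv s) (hinv : s * w * s⁻¹ = w⁻¹)
    (hc : c ∈ Cent w) : s * c * s⁻¹ ∈ Cent w := by
  have hss : s⁻¹ = s := h7b_inv_eq hs
  rw [h7b_mem_cent] at hc ⊢
  have hw' : w = s * w⁻¹ * s⁻¹ := by
    have : s * (s * w * s⁻¹) * s⁻¹ = s * w⁻¹ * s⁻¹ := by rw [hinv]
    rw [← this, hss]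
    have e : s * (s * w * s) * s = (s * s) * w * (s * s) := by group
    rw [e, hs.2]; group
  have hc' : w⁻¹ * c = c * w⁻¹ := by
    calc w⁻¹ * c = w⁻¹ * c * (w * w⁻¹) := by group
      _ = w⁻¹ * (c * w) * w⁻¹ := by group
      _ = w⁻¹ * (w * c) * w⁻¹ := by rw [hc]
      _ = c * w⁻¹ := by group
  calc w * (s * c * s⁻¹) = (s * w⁻¹ * s⁻¹) * (s * c * s⁻¹) := by rw [← hw']
    _ = s * (w⁻¹ * c) * s⁻¹ := by group
    _ = s * (c * w⁻¹) * s⁻¹ := by rw [hc']
    _ = (s * c * s⁻¹) * (s * w⁻¹ * s⁻¹) := by group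
    _ = (s * c * s⁻¹) * w := by rw [← hw']

/-- (P6) case B1: `Q ⊴ M` is impossible -/
theorem caseB1_false (h : MinCE G p a) (fa : FactsA G p a) (fb : FactsB G p a)
    (Q : Sylow 2 G) (y : G)
    (hyN : y ∈ Subgroup.normalizer ((Q : Subgroup G) : Set G)) (hyp : IsPElt p y)
    (htr : ∀ s ∈ Q, s ≠ 1 → ∀ t ∈ Q, t ≠ 1 → ∃ j : ℕ, y ^ j * s * (y ^ j)⁻¹ = t)
    (t : G) (htQ : t ∈ Q) (ht1 : t ≠ 1) (hD : Dsub p t ≠ ⊥)
    (P : Sylow p G) (hDP : Dsub p t ≤ (P : Subgroup G)) (hPM : (P : Subgroup G) ≤ Msub p t)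
    (hCM : Cent t ≤ Msub p t) (hMcard : Nat.card (Msub p t) = 2 ^ a * Nat.card P)
    (hMtop : Msub p t ≠ ⊤)
    (hQn : ∀ g ∈ Msub p t, ∀ x ∈ (Q : Subgroup G), g * x * g⁻¹ ∈ (Q : Subgroup G)) : False := by
  have hp := h.hp
  have hpf : Fact p.Prime := ⟨hp⟩
  have h2f : Fact (Nat.Prime 2) := ⟨Nat.prime_two⟩
  have hp2 : p ≠ 2 := h7b_p_ne_two h
  have hQexp : ∀ x ∈ (Q : Subgroup G), x * x = 1 := fa.two_exp Q Q.isPGroup'
  have hQcomm : ∀ u ∈ (Q : Subgroup G), ∀ v ∈ (Q : Subgroup G), u * v = v * u := by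
    intro u hu v hv
    have h1 := hQexp u hu
    have h2 := hQexp v hv
    have h3 := hQexp (u * v) (mul_mem hu hv)
    have hu' : u⁻¹ = u := inv_eq_of_mul_eq_one_left h1
    have hv' : v⁻¹ = v := inv_eq_of_mul_eq_one_left h2
    have huv : (u * v)⁻¹ = u * v := inv_eq_of_mul_eq_one_left h3
    calc u * v = (u * v)⁻¹ := huv.symm
      _ = v⁻¹ * u⁻¹ := mul_inv_rev u v
      _ = v * u := by rw [hu', hv']
  have htinv : IsInv t := ⟨ht1, hQexp t htQ⟩
  have htt : t⁻¹ = t := h7b_inv_eq htinv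
  have hQC : (Q : Subgroup G) ≤ Cent t := by
    intro x hx
    rw [h7b_mem_cent]
    exact hQcomm t htQ x hx
  have hQM : (Q : Subgroup G) ≤ Msub p t := le_trans hQC hCM
  have hDC : Dsub p t ≤ Cent t := h7b_dsub_le_cent t
  have hDM : Dsub p t ≤ Msub p t := le_trans hDC hCM
  have hDp : IsPGroup p (Dsub p t) := fb.dsub_pgroup t htinv
  -- D is normalized by M
  have hDn : ∀ g ∈ Msub p t, ∀ d ∈ Dsub p t, g * d * g⁻¹ ∈ Dsub p t := by
    intro g hg d hd
    unfold Msub at hg
    rw [Subgroup.mem_normalizer_iff] at hg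
    exact (hg d).mp hd
  -- Q ∩ D = 1
  have hQDdisj : ∀ x, x ∈ (Q : Subgroup G) → x ∈ Dsub p t → x = 1 := by
    intro x hxQ hxD
    have hdis := IsPGroup.disjoint_of_ne 2 p (Ne.symm hp2) (Q : Subgroup G) (Dsub p t) Q.isPGroup' hDp
    have : x ∈ (Q : Subgroup G) ⊓ Dsub p t := ⟨hxQ, hxD⟩
    rw [hdis.eq_bot] at this
    exact Subgroup.mem_bot.mp this
  -- Q centralizes D
  have hQD : ∀ x ∈ (Q : Subgroup G), ∀ d ∈ Dsub p t, x * d = d * x := by
    intro x hx d hd
    have h1 : x * d * x⁻¹ * d⁻¹ ∈ (Q : Subgroup G) := by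
      have : d * x⁻¹ * d⁻¹ ∈ (Q : Subgroup G) := hQn d (hDM hd) x⁻¹ (inv_mem hx)
      have e : x * d * x⁻¹ * d⁻¹ = x * (d * x⁻¹ * d⁻¹) := by group
      rw [e]; exact mul_mem hx this
    have h2 : x * d * x⁻¹ * d⁻¹ ∈ Dsub p t :=
      mul_mem (hDn x (hQM hx) d hd) (inv_mem hd)
    have h3 := hQDdisj _ h1 h2
    have : x * d = (x * d * x⁻¹ * d⁻¹) * (d * x) := by group
    rw [this, h3, one_mul]
  -- P ⊔ Q = M
  have hQcard : Nat.card (Q : Subgroup G) = 2 ^ a := by
    rw [Q.card_eq_multiplicity, h.h2]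
  have hPcard : Nat.card (P : Subgroup G) = p ^ (Nat.card G).factorization p := P.card_eq_multiplicity
  have hcop : Nat.Coprime (2 ^ a) (Nat.card (P : Subgroup G)) := by
    rw [hPcard]
    apply Nat.Coprime.pow
    exact (Nat.coprime_primes Nat.prime_two hp).mpr (Ne.symm hp2)
  have hPQM : (P : Subgroup G) ⊔ (Q : Subgroup G) = Msub p t := by
    have hle : (P : Subgroup G) ⊔ (Q : Subgroup G) ≤ Msub p t := sup_le hPM hQM
    apply Subgroup.eq_of_le_of_card_ge hle
    rw [hMcard]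
    have h1 : 2 ^ a ∣ Nat.card ((P : Subgroup G) ⊔ (Q : Subgroup G) : Subgroup G) := by
      rw [← hQcard]; exact Subgroup.card_dvd_of_le le_sup_right
    have h2 : Nat.card (P : Subgroup G) ∣ Nat.card ((P : Subgroup G) ⊔ (Q : Subgroup G) : Subgroup G) :=
      Subgroup.card_dvd_of_le le_sup_left
    exact Nat.le_of_dvd Nat.card_pos (hcop.mul_dvd_of_dvd_of_dvd h1 h2)
  -- N(M) = M
  have hQbot : (Q : Subgroup G) ≠ ⊥ := by
    intro hb
    apply ht1
    have : t ∈ (⊥ : Subgroup G) := hb ▸ htQ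
    exact Subgroup.mem_bot.mp this
  have hMbot : Msub p t ≠ ⊥ := by
    intro hb
    apply hQbot
    rw [eq_bot_iff, ← hb]; exact hQM
  have hNM : Subgroup.normalizer ((Msub p t : Subgroup G) : Set G) = Msub p t := by
    have hle : Msub p t ≤ Subgroup.normalizer ((Msub p t : Subgroup G) : Set G) := Subgroup.le_normalizer
    have hNtop := fa.norm_ne_top (Msub p t) hMbot hMtop
    have hc := h7b_card_of_contains h _ hNtop Q (le_trans hQM hle) P (le_trans hPM hle)
    symm
    apply Subgroup.eq_of_le_of_card_ge hle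
    rw [hc, hMcard]
  -- every involution of M lies in Q
  have hF0 : ∀ s ∈ Msub p t, IsInv s → s ∈ (Q : Subgroup G) := by
    intro s hs hsinv
    have hz2 : IsPGroup 2 (Subgroup.zpowers s) := by
      apply IsPGroup.of_card (n := 1)
      rw [Nat.card_zpowers, pow_one]
      exact orderOf_eq_prime (by rw [pow_two]; exact hsinv.2) hsinv.1
    have hzN : Subgroup.zpowers s ≤ Subgroup.normalizer ((Q : Subgroup G) : Set G) := by
      rw [Subgroup.zpowers_le]
      rw [Subgroup.mem_normalizer_iff]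
      intro x
      constructor
      · intro hx; exact hQn s hs x hx
      · intro hx
        have := hQn s⁻¹ (inv_mem hs) _ hx
        have e : s⁻¹ * (s * x * s⁻¹) * s⁻¹⁻¹ = x := by group
        rwa [e] at this
    have hsup := hz2.to_sup_of_normal_right' Q.isPGroup' hzN
    have := Q.is_maximal' hsup le_sup_right
    have hsm : s ∈ Subgroup.zpowers s ⊔ (Q : Subgroup G) :=
      (le_sup_left : Subgroup.zpowers s ≤ _) (Subgroup.mem_zpowers s)
    rw [this] at hsm
    exact hsm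
  -- (α) elements of D are not inverted by involutions
  have hF1 : ∀ w ∈ Dsub p t, w ≠ 1 → ∀ s : G, IsInv s → s * w * s⁻¹ ≠ w⁻¹ := by
    intro w hw hw1 s hs hinv
    have hwP : w ∈ (P : Subgroup G) := hDP hw
    -- C(w) = M
    have hPC : (P : Subgroup G) ≤ Cent w := by
      intro x hx
      rw [h7b_mem_cent]
      exact h.hab P w hwP x hx
    have hQCw : (Q : Subgroup G) ≤ Cent w := by
      intro x hx
      rw [h7b_mem_cent]
      exact (hQD x hx w hw).symm
    have hCtop : Cent w ≠ ⊤ := fa.cent_ne_top w hw1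
    have hCcard := h7b_card_of_contains h _ hCtop Q hQCw P hPC
    have hMC : Msub p t = Cent w := by
      apply Subgroup.eq_of_le_of_card_ge
      · rw [← hPQM]; exact sup_le hPC hQCw
      · rw [hCcard, hMcard]
    -- s normalizes C(w)
    have hss : s⁻¹ = s := h7b_inv_eq hs
    have hsN : s ∈ Subgroup.normalizer ((Cent w : Subgroup G) : Set G) := by
      have key : ∀ c ∈ Cent w, s * c * s⁻¹ ∈ Cent w := by
        intro c hc
        rw [h7b_mem_cent] at hc ⊢
        -- w * (s c s⁻¹) = (s c s⁻¹) * w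
        have hw' : w = s * w⁻¹ * s⁻¹ := by
          have : s * (s * w * s⁻¹) * s⁻¹ = s * w⁻¹ * s⁻¹ := by rw [hinv]
          rw [← this, hss]
          have e : s * (s * w * s) * s = (s * s) * w * (s * s) := by group
          rw [e, hs.2]; group
        have hc' : w⁻¹ * c = c * w⁻¹ := by
          have : c = w⁻¹ * (w * c) := by group
          calc w⁻¹ * c = w⁻¹ * c * (w * w⁻¹) := by group
            _ = w⁻¹ * (c * w) * w⁻¹ := by group
            _ = w⁻¹ * (w * c) * w⁻¹ := by rw [hc]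
            _ = c * w⁻¹ := by group
        calc w * (s * c * s⁻¹) = (s * w⁻¹ * s⁻¹) * (s * c * s⁻¹) := by rw [← hw']
          _ = s * (w⁻¹ * c) * s⁻¹ := by group
          _ = s * (c * w⁻¹) * s⁻¹ := by rw [hc']
          _ = (s * c * s⁻¹) * (s * w⁻¹ * s⁻¹) := by group
          _ = (s * c * s⁻¹) * w := by rw [← hw']
      rw [Subgroup.mem_normalizer_iff]
      intro c
      constructor
      · exact key c
      · intro hc
        have := key _ hc
        rw [hss] at this
        have e : s * (s * c * s) * s = (s * s) * c * (s * s) := by group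
        rw [hss] at hc
        rw [e, hs.2] at this
        simpa using this
    rw [← hMC, hNM, hMC, h7b_mem_cent] at hsN
    -- s commutes with w and inverts w
    have : w = w⁻¹ := by
      rw [← hinv, ← hsN]; group
    have hww : w * w = 1 := by
      nth_rewrite 2 [this]; group
    have hwp : IsPElt p w := by
      obtain ⟨k, hk⟩ := (IsPGroup.iff_orderOf.mp hDp) ⟨w, hw⟩
      exact ⟨k, by rw [← hk]; exact (Subgroup.orderOf_mk w hw).symm⟩
    exact hw1 (h7b_eq_one_of_sq h hwp hww)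
  -- (α) for all involutions
  have hF1' : ∀ z : G, IsInv z → ∀ w ∈ Cent z, IsPElt p w → w ≠ 1 → ∀ s : G, IsInv s → s * w * s⁻¹ ≠ w⁻¹ := by
    intro z hz w hw hwp hw1 s hs hinv
    obtain ⟨g, hg⟩ := fa.inv_conj t z htinv hz
    -- w0 = g⁻¹ w g ∈ C(t)
    have hw0C : g⁻¹ * w * g ∈ Cent t := by
      rw [h7b_mem_cent] at hw ⊢
      rw [← hg] at hw
      have : t * (g⁻¹ * w * g) = g⁻¹ * ((g * t * g⁻¹) * w) * g := by group
      rw [this, hw]; group
    have hw0p : IsPElt p (g⁻¹ * w * g) := by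
      have := h7b_isPElt_conj (p := p) g⁻¹ hwp
      simpa using this
    have hw0D := h7b_mem_dsub hw0C hw0p
    have hw01 : g⁻¹ * w * g ≠ 1 := by
      intro h1
      apply hw1
      have : w = g * (g⁻¹ * w * g) * g⁻¹ := by group
      rw [this, h1]; group
    have hs0 : IsInv (g⁻¹ * s * g) := by
      have := h7b_isInv_conj g⁻¹ hs
      simpa using this
    apply hF1 _ hw0D hw01 _ hs0
    have : g⁻¹ * s * g * (g⁻¹ * w * g) * (g⁻¹ * s * g)⁻¹ = g⁻¹ * (s * w * s⁻¹) * g := by group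
    rw [this, hinv]; group
  -- involutions in C(z) commute
  have hF0' : ∀ z : G, IsInv z → ∀ s : G, IsInv s → ∀ s' : G, IsInv s' → s ∈ Cent z → s' ∈ Cent z → s * s' = s' * s := by
    intro z hz s hs s' hs' hsz hs'z
    obtain ⟨g, hg⟩ := fa.inv_conj t z htinv hz
    have conj_mem : ∀ x, IsInv x → x ∈ Cent z → g⁻¹ * x * g ∈ (Q : Subgroup G) := by
      intro x hx hxz
      have hxC : g⁻¹ * x * g ∈ Cent t := by
        rw [h7b_mem_cent] at hxz ⊢
        rw [← hg] at hxz
        have : t * (g⁻¹ * x * g) = g⁻¹ * ((g * t * g⁻¹) * x) * g := by group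
        rw [this, hxz]; group
      have hx0 : IsInv (g⁻¹ * x * g) := by
        have := h7b_isInv_conj g⁻¹ hx
        simpa using this
      exact hF0 _ (hCM hxC) hx0
    have := hQcomm _ (conj_mem s hs hsz) _ (conj_mem s' hs' hs'z)
    have e1 : s * s' = g * ((g⁻¹ * s * g) * (g⁻¹ * s' * g)) * g⁻¹ := by group
    have e2 : s' * s = g * ((g⁻¹ * s' * g) * (g⁻¹ * s * g)) * g⁻¹ := by group
    rw [e1, e2, this]
  -- a non-commuting involution
  have hF2 : ∃ t' : G, IsInv t' ∧ t * t' ≠ t' * t := by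
    by_contra hno
    push Not at hno
    have hQnormal : (Q : Subgroup G).Normal := by
      constructor
      intro x hx g
      by_cases hx1 : x = 1
      · rw [hx1]; simp
      · have hxinv : IsInv x := ⟨hx1, hQexp x hx⟩
        have hgx := h7b_isInv_conj g hxinv
        have hc := hno _ hgx
        have : g * x * g⁻¹ ∈ Cent t := by rw [h7b_mem_cent]; exact hc
        exact hF0 _ (hCM this) hgx
    rcases h.hsimple _ hQnormal with hb | htop
    · exact hQbot hb
    · apply hMtop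
      rw [eq_top_iff, ← htop]; exact hQM
  obtain ⟨t', ht', hnc⟩ := hF2
  have ht't' : t'⁻¹ = t' := h7b_inv_eq ht'
  -- u = t t'
  set u := t * t' with hu
  have hu1 : u ≠ 1 := by
    intro h1
    apply hnc
    have : t' = t⁻¹ := by
      have : t' = t⁻¹ * (t * t') := by group
      rw [this, ← hu, h1, mul_one]
    rw [h1, this]; group
  have htu : t * u * t⁻¹ = u⁻¹ := by
    rw [hu, htt]
    have e1 : t * (t * t') * t = (t * t) * t' * t := by group
    have e2 : (t * t')⁻¹ = t'⁻¹ * t⁻¹ := by group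
    rw [e1, htinv.2, e2, htt, ht't']; group
  have ht'u : t' * u * t'⁻¹ = u⁻¹ := by
    rw [hu, ht't']
    have e1 : t' * (t * t') * t' = t' * t * (t' * t') := by group
    have e2 : (t * t')⁻¹ = t'⁻¹ * t⁻¹ := by group
    rw [e1, ht'.2, e2, htt, ht't']; group
  -- X = N(<u>)
  have htX := h7b_inverts_mem_normalizer htu
  have ht'X := h7b_inverts_mem_normalizer ht'u
  have hzbot : Subgroup.zpowers u ≠ ⊥ := by
    intro hb
    apply hu1
    have : u ∈ (⊥ : Subgroup G) := hb ▸ Subgroup.mem_zpowers u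
    exact Subgroup.mem_bot.mp this
  have hztop : Subgroup.zpowers u ≠ ⊤ := by
    intro htop
    apply fa.cent_ne_top t ht1
    rw [eq_top_iff]
    intro c _
    rw [h7b_mem_cent]
    have hc : c ∈ Subgroup.zpowers u := htop ▸ Subgroup.mem_top c
    have ht0 : t ∈ Subgroup.zpowers u := htop ▸ Subgroup.mem_top t
    obtain ⟨i, rfl⟩ := Subgroup.mem_zpowers_iff.mp hc
    obtain ⟨j, hj⟩ := Subgroup.mem_zpowers_iff.mp ht0
    rw [← hj, ← zpow_add, ← zpow_add, add_comm]
  have hXtop := fa.norm_ne_top _ hzbot hztop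
  have ht2 : orderOf t = 2 := orderOf_eq_prime (by rw [pow_two]; exact htinv.2) ht1
  have hX2 : 2 ∣ Nat.card (Subgroup.normalizer ((Subgroup.zpowers u : Subgroup G) : Set G)) := by
    rw [← ht2]; exact Subgroup.orderOf_dvd_natCard _ htX
  have hXTwoP := h.hH1 _ hXtop hX2
  have huX : u ∈ Subgroup.normalizer ((Subgroup.zpowers u : Subgroup G) : Set G) :=
    Subgroup.le_normalizer (Subgroup.mem_zpowers u)
  have hnX : orderOf u ∣ Nat.card (Subgroup.normalizer ((Subgroup.zpowers u : Subgroup G) : Set G)) :=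
    Subgroup.orderOf_dvd_natCard _ huX
  have hn0 : orderOf u ≠ 0 := (orderOf_pos u).ne'
  -- orderOf u is odd
  have hodd : ¬ 2 ∣ orderOf u := by
    intro h2
    obtain ⟨m, hm⟩ := h2
    have hmpos : 0 < m := by
      rcases Nat.eq_zero_or_pos m with h0 | h0
      · rw [h0] at hm; omega
      · exact h0
    set z := u ^ m with hz
    have hz1 : z ≠ 1 := by
      intro h1
      have := orderOf_dvd_of_pow_eq_one h1
      have := Nat.le_of_dvd hmpos this
      omega
    have hzz : z * z = 1 := by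
      rw [hz, ← pow_add, ← two_mul, ← hm]; exact pow_orderOf_eq_one u
    have hzinv : IsInv z := ⟨hz1, hzz⟩
    have hzz' : z⁻¹ = z := h7b_inv_eq hzinv
    have conj_z : ∀ e : G, e * u * e⁻¹ = u⁻¹ → e ∈ Cent z := by
      intro e he
      rw [h7b_mem_cent]
      have : e * z * e⁻¹ = z := by
        rw [hz, ← conj_pow, he, inv_pow, ← hz, hzz']
      calc z * e = (e * z * e⁻¹) * e := by rw [this]
        _ = e * z := by group
    exact hnc (hF0' z hzinv t htinv t' ht' (conj_z t htu) (conj_z t' ht'u))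
  have hup : IsPElt p u := by
    refine ⟨(orderOf u).primeFactorsList.length, ?_⟩
    apply Nat.eq_prime_pow_of_unique_prime_dvd hn0
    intro d hd hdn
    rcases hXTwoP d hd (dvd_trans hdn hnX) with h2 | hp'
    · exact absurd (h2 ▸ hdn) hodd
    · exact hp'
  -- Sylow p-subgroup containing u
  have hzp : IsPGroup p (Subgroup.zpowers u) := by
    obtain ⟨k, hk⟩ := hup
    apply IsPGroup.of_card (n := k)
    rw [Nat.card_zpowers, hk]
  obtain ⟨P', hP'⟩ := hzp.exists_le_sylow
  have huP' : u ∈ (P' : Subgroup G) := hP' (Subgroup.mem_zpowers u)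
  have hP'C : (P' : Subgroup G) ≤ Cent u := by
    intro x hx
    rw [h7b_mem_cent]
    exact h.hab P' u huP' x hx
  -- C(u) has odd order
  have hCodd : ¬ 2 ∣ Nat.card (Cent u) := by
    intro h2
    obtain ⟨z, hz⟩ := exists_prime_orderOf_dvd_card' (G := Cent u) 2 h2
    have hz1 : (z : G) ≠ 1 := by
      intro h1
      have : z = 1 := Subtype.ext h1
      rw [this, orderOf_one] at hz
      norm_num at hz
    have hzz : (z : G) * (z : G) = 1 := by
      have hpow : z ^ orderOf z = 1 := pow_orderOf_eq_one z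
      rw [hz] at hpow
      have h2' : ((z ^ 2 : Cent u) : G) = 1 := by rw [hpow]; rfl
      simpa [pow_two] using h2'
    have hzinv : IsInv (z : G) := ⟨hz1, hzz⟩
    have huz : u ∈ Cent (z : G) := by
      have := z.2
      rw [h7b_mem_cent] at this ⊢
      exact this.symm
    exact hF1' _ hzinv u huz hup hu1 t htinv htu
  -- C(u) ≤ X so C(u) is a p-group
  have hCX : Cent u ≤ Subgroup.normalizer ((Subgroup.zpowers u : Subgroup G) : Set G) := by
    intro c hc
    rw [h7b_mem_cent] at hc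
    have key : ∀ e : G, u * e = e * u → ∀ x ∈ Subgroup.zpowers u, e * x * e⁻¹ ∈ Subgroup.zpowers u := by
      intro e he x hx
      obtain ⟨k, rfl⟩ := Subgroup.mem_zpowers_iff.mp hx
      have : e * u * e⁻¹ = u := by rw [← he]; group
      rw [← conj_zpow, this]
      exact Subgroup.zpow_mem_zpowers u k
    rw [Subgroup.mem_normalizer_iff]
    intro x
    constructor
    · exact key c hc x
    · intro hx
      have hc' : u * c⁻¹ = c⁻¹ * u := by
        calc u * c⁻¹ = c⁻¹ * (c * u) * c⁻¹ := by group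
          _ = c⁻¹ * (u * c) * c⁻¹ := by rw [hc]
          _ = c⁻¹ * u := by group
      have := key c⁻¹ hc' _ hx
      have e : c⁻¹ * (c * x * c⁻¹) * c⁻¹⁻¹ = x := by group
      rwa [e] at this
  have hCp : IsPGroup p (Cent u) := by
    have hc0 : Nat.card (Cent u) ≠ 0 := Nat.card_pos.ne'
    have hdvd : Nat.card (Cent u) ∣ Nat.card (Subgroup.normalizer ((Subgroup.zpowers u : Subgroup G) : Set G)) :=
      Subgroup.card_dvd_of_le hCX
    have := Nat.eq_prime_pow_of_unique_prime_dvd (p := p) hc0 (by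
      intro d hd hdn
      rcases hXTwoP d hd (dvd_trans hdn hdvd) with h2 | hp'
      · exact absurd (h2 ▸ hdn) hCodd
      · exact hp')
    exact IsPGroup.of_card this
  have hCP' : Cent u = (P' : Subgroup G) := P'.is_maximal' hCp hP'C
  -- t normalizes P'
  have htP' : ∀ x ∈ (P' : Subgroup G), t * x * t⁻¹ ∈ (P' : Subgroup G) := by
    intro x hx
    rw [← hCP'] at hx ⊢
    exact h7b_conj_mem_cent_of_inverts htinv htu hx
  have hP'p : ∀ x ∈ (P' : Subgroup G), IsPElt p x := by
    intro x hx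
    obtain ⟨k, hk⟩ := (IsPGroup.iff_orderOf.mp P'.isPGroup') ⟨x, hx⟩
    exact ⟨k, by rw [← hk]; exact (Subgroup.orderOf_mk x hx).symm⟩
  by_cases hW : ∃ w ∈ (P' : Subgroup G), w ≠ 1 ∧ t * w * t⁻¹ = w
  · obtain ⟨w, hwP', hw1, hwt⟩ := hW
    have hwC : w ∈ Cent t := by
      rw [h7b_mem_cent]
      calc t * w = (t * w * t⁻¹) * t := by group
        _ = w * t := by rw [hwt]
    have hwD : w ∈ Dsub p t := h7b_mem_dsub hwC (hP'p w hwP')
    -- C(w) = M
    have hwP : w ∈ (P : Subgroup G) := hDP hwD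
    have hPC : (P : Subgroup G) ≤ Cent w := by
      intro x hx
      rw [h7b_mem_cent]
      exact h.hab P w hwP x hx
    have hQCw : (Q : Subgroup G) ≤ Cent w := by
      intro x hx
      rw [h7b_mem_cent]
      exact (hQD x hx w hwD).symm
    have hCtop : Cent w ≠ ⊤ := fa.cent_ne_top w hw1
    have hCcard := h7b_card_of_contains h _ hCtop Q hQCw P hPC
    have hMC : Msub p t = Cent w := by
      apply Subgroup.eq_of_le_of_card_ge
      · rw [← hPQM]; exact sup_le hPC hQCw
      · rw [hCcard, hMcard]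
    have hP'M : (P' : Subgroup G) ≤ Msub p t := by
      rw [hMC]
      intro x hx
      rw [h7b_mem_cent]
      exact h.hab P' w hwP' x hx
    -- t centralizes P'
    have hdisj : ∀ x, x ∈ (Q : Subgroup G) → x ∈ (P' : Subgroup G) → x = 1 := by
      intro x hxQ hxP
      have hdis := IsPGroup.disjoint_of_ne 2 p (Ne.symm hp2) (Q : Subgroup G) (P' : Subgroup G)
        Q.isPGroup' P'.isPGroup'
      have : x ∈ (Q : Subgroup G) ⊓ (P' : Subgroup G) := ⟨hxQ, hxP⟩
      rw [hdis.eq_bot] at this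
      exact Subgroup.mem_bot.mp this
    have hc1 : t * u * t⁻¹ * u⁻¹ ∈ (P' : Subgroup G) := mul_mem (htP' u huP') (inv_mem huP')
    have hc2 : t * u * t⁻¹ * u⁻¹ ∈ (Q : Subgroup G) := by
      have : u * t⁻¹ * u⁻¹ ∈ (Q : Subgroup G) := hQn u (hP'M huP') t⁻¹ (inv_mem htQ)
      have e : t * u * t⁻¹ * u⁻¹ = t * (u * t⁻¹ * u⁻¹) := by group
      rw [e]; exact mul_mem htQ this
    have hc3 := hdisj _ hc2 hc1
    rw [htu] at hc3
    have huu : u * u = 1 := by
      have : (u⁻¹ * u⁻¹)⁻¹ = 1 := by rw [hc3, inv_one]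
      simpa using this
    exact hu1 (h7b_eq_one_of_sq h hup huu)
  · push Not at hW
    -- t inverts P'
    have hinvP' : ∀ x ∈ (P' : Subgroup G), t * x * t⁻¹ = x⁻¹ := by
      intro x hx
      have hx' := htP' x hx
      have hfix : t * (x * (t * x * t⁻¹)) * t⁻¹ = x * (t * x * t⁻¹) := by
        have e : t * (x * (t * x * t⁻¹)) * t⁻¹ = (t * x * t⁻¹) * (t * t * x * (t * t)⁻¹) := by group
        rw [e, htinv.2]
        simp only [one_mul, inv_one, mul_one]
        exact h.hab P' _ hx' x hx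
      have hv1 : x * (t * x * t⁻¹) = 1 := by
        by_contra hne
        exact hW _ (mul_mem hx hx') hne hfix
      exact eq_inv_of_mul_eq_one_right hv1
    -- a nontrivial element of D, moved into P'
    obtain ⟨d0, hd0⟩ := Subgroup.ne_bot_iff_exists_ne_one.mp hD
    have hd1 : (d0 : G) ≠ 1 := fun h1 => hd0 (Subtype.ext h1)
    have hdD : (d0 : G) ∈ Dsub p t := d0.2
    have hdP : (d0 : G) ∈ (P : Subgroup G) := hDP hdD
    obtain ⟨g, hg⟩ := MulAction.exists_smul_eq G P P'
    have hgd : g * (d0 : G) * g⁻¹ ∈ (P' : Subgroup G) := by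
      rw [← hg, Sylow.coe_subgroup_smul]
      have := Subgroup.smul_mem_pointwise_smul (d0 : G) (MulAut.conj g) (P : Subgroup G) hdP
      simpa [MulAut.smul_def] using this
    have hz : IsInv (g * t * g⁻¹) := h7b_isInv_conj g htinv
    have hwz : g * (d0 : G) * g⁻¹ ∈ Cent (g * t * g⁻¹) := by
      have hdC : (d0 : G) ∈ Cent t := hDC hdD
      rw [h7b_mem_cent] at hdC ⊢
      have e1 : g * t * g⁻¹ * (g * (d0 : G) * g⁻¹) = g * (t * (d0 : G)) * g⁻¹ := by group
      have e2 : g * (d0 : G) * g⁻¹ * (g * t * g⁻¹) = g * ((d0 : G) * t) * g⁻¹ := by group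
      rw [e1, e2, hdC]
    have hw1 : g * (d0 : G) * g⁻¹ ≠ 1 := by
      intro h1
      apply hd1
      have : (d0 : G) = g⁻¹ * (g * (d0 : G) * g⁻¹) * g := by group
      rw [this, h1]; group
    exact hF1' _ hz _ hwz (hP'p _ hgd) hw1 t htinv (hinvP' _ hgd)

end Cfsg.Agent.Helper7.S4017
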