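import Mathlib
import Cfsg.Agent.Helper7.S4017Defs

set_option autoImplicit false

namespace Cfsg.Agent.Helper7.S4017

universe u

variable {G : Type u} [Group G] [Finite G] {p a : ℕ}

/-- an element normalizing a generating set (together with its inverse) normalizes the closure -/
theorem h7_mem_normalizer_closure (S : Set G) (c : G)
    (h1 : ∀ x ∈ S, c * x * c⁻¹ ∈ S) (h2 : ∀ x ∈ S, c⁻¹ * x * c ∈ S) :
    c ∈ Subgroup.normalizer ((Subgroup.closure S : Subgroup G) : Set G) := by
  have key : ∀ (e : G), (∀ x ∈ S, e * x * e⁻¹ ∈ S) → ∀ d ∈ Subgroup.closure S,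
      e * d * e⁻¹ ∈ Subgroup.closure S := by
    intro e he d hd
    induction hd using Subgroup.closure_induction with
    | mem x hx => exact Subgroup.subset_closure (he x hx)
    | one => simp
    | mul x y _ _ hx hy =>
      have : e * (x * y) * e⁻¹ = (e * x * e⁻¹) * (e * y * e⁻¹) := by group
      rw [this]; exact mul_mem hx hy
    | inv x _ hx =>
      have : e * x⁻¹ * e⁻¹ = (e * x * e⁻¹)⁻¹ := by group
      rw [this]; exact inv_mem hx
  rw [Subgroup.mem_normalizer_iff]
  intro d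
  constructor
  · exact key c h1 d
  · intro hd
    have := key c⁻¹ (by simpa using h2) _ hd
    have e : c⁻¹ * (c * d * c⁻¹) * c⁻¹⁻¹ = d := by group
    rwa [e] at this

/-- `C(t)` normalizes `Dsub p t` -/
theorem h7_cent_le_msub (t : G) : Cent t ≤ Msub p t := by
  intro c hc
  unfold Msub Dsub
  have hcinv : c⁻¹ ∈ Cent t := inv_mem hc
  apply h7_mem_normalizer_closure
  · rintro x ⟨hx, k, hk⟩
    refine ⟨mul_mem (mul_mem hc hx) hcinv, k, ?_⟩
    have : c * x * c⁻¹ = MulAut.conj c x := by simp [MulAut.conj_apply]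
    rw [this, MulEquiv.orderOf_eq]; exact hk
  · rintro x ⟨hx, k, hk⟩
    refine ⟨mul_mem (mul_mem hcinv hx) hc, k, ?_⟩
    have : c⁻¹ * x * c = MulAut.conj c⁻¹ x := by simp [MulAut.conj_apply]
    rw [this, MulEquiv.orderOf_eq]; exact hk

/-- (P3) the Hall `{2,p}`-subgroup `M = N(D_t)` -/
theorem hall (h : MinCE G p a) (fa : FactsA G p a) (fb : FactsB G p a)
    (t : G) (ht : IsInv t) (hD : Dsub p t ≠ ⊥) :
    ∃ P : Sylow p G, Dsub p t ≤ (P : Subgroup G) ∧ (P : Subgroup G) ≤ Msub p t ∧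
      Cent t ≤ Msub p t ∧ Nat.card (Msub p t) = 2 ^ a * Nat.card P ∧ Msub p t ≠ ⊤ := by
  have hp := h.hp
  have : Fact p.Prime := ⟨hp⟩
  have hDp : IsPGroup p (Dsub p t) := fb.dsub_pgroup t ht
  obtain ⟨P, hDP⟩ := hDp.exists_le_sylow
  have hPab := h.hab P
  -- P ≤ M
  have hPM : (P : Subgroup G) ≤ Msub p t := by
    intro x hx
    unfold Msub
    rw [Subgroup.mem_normalizer_iff]
    intro d
    constructor
    · intro hd
      have hdP : d ∈ (P : Subgroup G) := hDP hd
      have hcomm : x * d = d * x := hPab x hx d hdP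
      have : x * d * x⁻¹ = d := by rw [hcomm]; group
      rw [this]; exact hd
    · intro hd
      have hdP : x * d * x⁻¹ ∈ (P : Subgroup G) := hDP hd
      have hcomm : x * (x * d * x⁻¹) = (x * d * x⁻¹) * x := hPab x hx _ hdP
      have e : x * d * x⁻¹ = d := by
        have h1 : x * (x * d * x⁻¹) = x * d := by
          rw [hcomm]; group
        exact mul_left_cancel h1
      rwa [e] at hd
  have hCM : Cent t ≤ Msub p t := h7_cent_le_msub t
  -- D ≠ ⊤
  obtain ⟨r, hr, hr2, hrp, hrG⟩ := h.hr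
  have hDtop : Dsub p t ≠ ⊤ := by
    intro htop
    rw [htop] at hDp
    obtain ⟨k, hk⟩ := (IsPGroup.iff_card).mp hDp
    rw [Subgroup.card_top] at hk
    rw [hk] at hrG
    exact hrp ((Nat.prime_dvd_prime_iff_eq hr hp).mp (hr.dvd_of_dvd_pow hrG))
  have hMtop : Msub p t ≠ ⊤ := fa.norm_ne_top (Dsub p t) hD hDtop
  refine ⟨P, hDP, hPM, hCM, ?_, hMtop⟩
  -- the order
  have hCcard := fb.cent_card t ht
  have h2a : 2 ^ a ∣ Nat.card (Msub p t) := by
    have h1 : Nat.card (Cent t) ∣ Nat.card (Msub p t) := Subgroup.card_dvd_of_le hCM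
    exact dvd_trans ⟨_, hCcard⟩ h1
  have h2 : 2 ∣ Nat.card (Msub p t) := dvd_trans (dvd_pow_self 2 (by have := h.ha; omega)) h2a
  have hTwoP := h.hH1 (Msub p t) hMtop h2
  have hPcard : Nat.card (P : Subgroup G) = p ^ (Nat.card G).factorization p := P.card_eq_multiplicity
  have hPdvd : Nat.card (P : Subgroup G) ∣ Nat.card (Msub p t) := Subgroup.card_dvd_of_le hPM
  have hp2 : p ≠ 2 := by
    intro hp2
    have := h.hpa
    rw [hp2] at this
    have h4 : 2 ^ 2 ≤ 2 ^ a := Nat.pow_le_pow_right (by norm_num) h.ha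
    omega
  have hcop : Nat.Coprime (2 ^ a) (Nat.card (P : Subgroup G)) := by
    rw [hPcard]
    apply Nat.Coprime.pow
    exact (Nat.coprime_primes Nat.prime_two hp).mpr (Ne.symm hp2)
  have hdvd : 2 ^ a * Nat.card (P : Subgroup G) ∣ Nat.card (Msub p t) :=
    hcop.mul_dvd_of_dvd_of_dvd h2a hPdvd
  obtain ⟨m', hm'⟩ := hdvd
  have hMG : Nat.card (Msub p t) ∣ Nat.card G := Subgroup.card_subgroup_dvd_card _
  have hG0 : Nat.card G ≠ 0 := Nat.card_pos.ne'
  have hm1 : m' = 1 := by
    by_contra hne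
    obtain ⟨ℓ, hℓ, hℓm⟩ := Nat.exists_prime_and_dvd hne
    have hℓM : ℓ ∣ Nat.card (Msub p t) := by rw [hm']; exact dvd_mul_of_dvd_right hℓm _
    rcases hTwoP ℓ hℓ hℓM with h2' | hp'
    · subst h2'
      have : 2 ^ (a + 1) ∣ Nat.card G := by
        refine dvd_trans ?_ hMG
        rw [hm', pow_succ]
        obtain ⟨c, hc⟩ := hℓm
        rw [hc]
        exact ⟨Nat.card (P : Subgroup G) * c, by ring⟩
      have hnot := Nat.pow_succ_factorization_not_dvd hG0 Nat.prime_two
      rw [h.h2] at hnot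
      exact hnot this
    · subst hp'
      have : ℓ ^ ((Nat.card G).factorization ℓ + 1) ∣ Nat.card G := by
        refine dvd_trans ?_ hMG
        rw [hm', hPcard, pow_succ]
        obtain ⟨c, hc⟩ := hℓm
        rw [hc]
        exact ⟨2 ^ a * c, by ring⟩
      exact Nat.pow_succ_factorization_not_dvd hG0 hℓ this
  rw [hm', hm1, mul_one]

end Cfsg.Agent.Helper7.S4017
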