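import Mathlib
import Cfsg.Agent.Helper7.S4017Defs

set_option autoImplicit false

namespace Cfsg.Agent.Helper7.S4017

universe u

variable {G : Type u} [Group G] [Finite G] {p q : ℕ}

/-- (P9) the hypotheses of S4017 pass to proper subgroups of order divisible by `q` that are not `q`-groups -/
theorem hyp_subgroup (hyp : Hyp G p q) (H : Subgroup G) (hH : H ≠ ⊤) (hHq : ¬ IsPGroup q H)
    (hqH : q ∣ Nat.card H) : Hyp H p q := by
  obtain ⟨hp, hq, hpq, hp2, hpG, hqG, hmix, hlarge⟩ := hyp
  have hpH : p ∣ Nat.card H := hmix H hH hHq hqH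
  refine ⟨hp, hq, hpq, hp2, hpH, hqH, ?_, ?_⟩
  · intro K hK hKq hqK
    have hcard : Nat.card (K.map H.subtype) = Nat.card K :=
      Subgroup.card_map_of_injective (Subgroup.subtype_injective H)
    have hle : K.map H.subtype ≤ H := by
      intro x hx
      obtain ⟨k, _, rfl⟩ := hx
      exact k.2
    have hne : K.map H.subtype ≠ ⊤ := by
      intro htop
      apply hH
      rw [eq_top_iff, ← htop]
      exact hle
    have hnotq : ¬ IsPGroup q (K.map H.subtype) := by
      intro hq'
      apply hKq
      have e : K ≃* K.map H.subtype := K.equivMapOfInjective H.subtype (Subgroup.subtype_injective H)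
      exact hq'.of_equiv e.symm
    have := hmix (K.map H.subtype) hne hnotq (by rw [hcard]; exact hqK)
    rwa [hcard] at this
  · have hdvd : Nat.card H ∣ Nat.card G := Subgroup.card_subgroup_dvd_card H
    have hH0 : Nat.card H ≠ 0 := Nat.card_pos.ne'
    have hG0 : Nat.card G ≠ 0 := Nat.card_pos.ne'
    have hba : (Nat.card H).factorization q ≤ (Nat.card G).factorization q :=
      (Nat.factorization_le_iff_dvd hH0 hG0).mpr hdvd q
    set b := (Nat.card H).factorization q with hb
    set a := (Nat.card G).factorization q with ha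
    have hqb1 : 1 ≤ q ^ b := Nat.one_le_pow _ _ hq.pos
    have hqba : q ^ b ≤ q ^ a := Nat.pow_le_pow_right hq.pos hba
    rcases hlarge with hlt | ⟨heq, hcomm⟩
    · left; omega
    · rcases lt_or_eq_of_le hba with hlt | heq'
      · left
        have : q ^ b < q ^ a := Nat.pow_lt_pow_right hq.one_lt hlt
        omega
      · right
        refine ⟨by rw [heq']; exact heq, ?_⟩
        intro P
        have hP' : IsPGroup p ((P : Subgroup H).map H.subtype) := by
          have e : (P : Subgroup H) ≃* (P : Subgroup H).map H.subtype :=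
            (P : Subgroup H).equivMapOfInjective H.subtype (Subgroup.subtype_injective H)
          exact P.isPGroup'.of_equiv e
        have : Fact p.Prime := ⟨hp⟩
        obtain ⟨S, hS⟩ := hP'.exists_le_sylow
        refine ⟨⟨fun x y => ?_⟩⟩
        have hx : (x.1.1 : G) ∈ (S : Subgroup G) := hS ⟨x.1, x.2, rfl⟩
        have hy : (y.1.1 : G) ∈ (S : Subgroup G) := hS ⟨y.1, y.2, rfl⟩
        have hc := (hcomm S).is_comm.comm ⟨x.1.1, hx⟩ ⟨y.1.1, hy⟩
        have hc' : (x.1.1 : G) * y.1.1 = y.1.1 * x.1.1 := congrArg Subtype.val hc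
        apply Subtype.ext
        apply Subtype.ext
        exact hc'

end Cfsg.Agent.Helper7.S4017
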