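import Mathlib
import Cfsg.Agent.Helper7.S4017Defs
import Cfsg.Agent.Helper1.S4017_Pelt
import Cfsg.Agent.Helper1.S4017_Dichotomy
import Cfsg.Agent.Helper2.S4017_CaseB2Two
import Cfsg.Agent.Helper3.S4017_SimpleOf
import Cfsg.Agent.Helper3.S4017_NoNormalP
import Cfsg.Agent.Helper4.S4017_FactsA
import Cfsg.Agent.Helper4.S4017_FactsB
import Cfsg.Agent.Helper7.S4017_Hall
import Cfsg.Agent.Helper7.S4017_CaseB1
import Cfsg.Agent.Helper7.S4017_HypSubgroup
import Cfsg.Agent.Lead.S4017_ExistsPelt
import Cfsg.Agent.Helper8.S4017_CaseAFinal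
import Cfsg.Agent.Helper5.S4017_B2D

set_option autoImplicit false

/-!
Assembly of the proof of S4017 from the pieces (see `notes/S4017_blueprint_helper7.md`).
-/

namespace Cfsg.Agent.Helper7.S4017

universe u

section core

variable {G : Type u} [Group G] [Finite G] {p a : ℕ}

theorem minCE_false (h : MinCE G p a) : False := by
  have fa := factsA h
  have fb := factsB h fa
  obtain ⟨Q, y, hyN, hyp, hQexp, htr⟩ := h.hQ
  have hQcard : Nat.card Q = 2 ^ a := by
    have := Q.card_eq_multiplicity
    rw [this, h.h2]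
  have hQnt : (Q : Subgroup G) ≠ ⊥ := by
    intro hbot
    have h1 : Nat.card (Q : Subgroup G) = 1 := by rw [hbot]; exact Subgroup.card_bot
    have h4 : 2 ^ 2 ≤ 2 ^ a := Nat.pow_le_pow_right (by norm_num) h.ha
    have : Nat.card (Q : Subgroup G) = 2 ^ a := hQcard
    omega
  obtain ⟨t, htQ, ht1⟩ : ∃ t : G, t ∈ (Q : Subgroup G) ∧ t ≠ 1 := by
    obtain ⟨x, hx⟩ := Subgroup.ne_bot_iff_exists_ne_one.mp hQnt
    exact ⟨x.1, x.2, fun h1 => hx (Subtype.ext h1)⟩
  have htinv : IsInv t := ⟨ht1, hQexp t htQ⟩
  by_cases hD : Dsub p t = ⊥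
  · exact caseA_false h fa fb t htinv hD
  · obtain ⟨P, hDP, hPM, hCM, hMcard, hMtop⟩ := hall h fa fb t htinv hD
    have hQM : (Q : Subgroup G) ≤ Msub p t := by
      refine le_trans ?_ hCM
      intro x hx
      have hxy : ∀ u ∈ (Q : Subgroup G), ∀ v ∈ (Q : Subgroup G), u * v = v * u := by
        intro u hu v hv
        have h1 := hQexp u hu
        have h2 := hQexp v hv
        have h3 := hQexp (u * v) (mul_mem hu hv)
        have hu' : u⁻¹ = u := inv_eq_of_mul_eq_one_left h1
        have hv' : v⁻¹ = v := inv_eq_of_mul_eq_one_left h2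
        have huv : (u * v)⁻¹ = u * v := inv_eq_of_mul_eq_one_left h3
        calc u * v = (u * v)⁻¹ := huv.symm
          _ = v⁻¹ * u⁻¹ := mul_inv_rev u v
          _ = v * u := by rw [hu', hv']
      rw [Cent, Subgroup.mem_centralizer_iff]
      intro z hz
      rw [Set.mem_singleton_iff] at hz
      subst hz
      exact hxy z htQ x hx
    have hcard' : Nat.card (Msub p t) = Nat.card (Q : Subgroup G) * Nat.card P := by
      rw [hMcard]; congr 1; exact hQcard.symm
    rcases dichotomy h fa (Msub p t) P Q hPM hQM Q.isPGroup' hcard' with hP | ⟨_, hQn⟩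
    · obtain ⟨ha2, hc, hi⟩ := caseB2_two h fa fb Q y hyN hyp htr t htQ ht1 hD P hDP hPM hCM hMcard hMtop hP
      subst ha2
      exact caseB2_false h fa fb (dichotomy h fa) Q t htQ ht1 P hc hi
    · exact caseB1_false h fa fb Q y hyN hyp htr t htQ ht1 hD P hDP hPM hCM hMcard hMtop hQn

end core

section reduction

open Cfsg.Agent.Helper1.S4017 (pelt_acts pelt_transitive)

/-! ## final induction -/

theorem main_aux : ∀ (n : ℕ) (G : Type u) [Group G] [Finite G], Nat.card G = n →
    ∀ (p q : ℕ), Hyp G p q → Concl G p q := by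
  intro n
  induction n using Nat.strong_induction_on with
  | _ n ih =>
    intro G _ _ hn p q hyp
    by_contra hc
    -- (H1)
    have h1 : H1 G p q := by
      intro H hH hqH ℓ hℓ hℓH
      by_cases hHq : IsPGroup q H
      · have : Fact q.Prime := ⟨hyp.2.1⟩
        obtain ⟨k, hk⟩ := (IsPGroup.iff_card).mp hHq
        rw [hk] at hℓH
        right
        exact (Nat.prime_dvd_prime_iff_eq hℓ hyp.2.1).mp (hℓ.dvd_of_dvd_pow hℓH)
      · have hypH := hyp_subgroup hyp H hH hHq hqH
        have hlt : Nat.card H < n := by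
          rw [← hn]
          have hle : Nat.card H ≤ Nat.card G := Subgroup.card_le_card_group H
          rcases lt_or_eq_of_le hle with h | h
          · exact h
          · exact absurd ((Subgroup.card_eq_iff_eq_top H).mp h) hH
        exact ih (Nat.card H) hlt H rfl p q hypH ℓ hℓ hℓH
    obtain ⟨Q, Q0, y, hQ0, hyN, hyC, k, hk⟩ := exists_pelt hyp h1 hc
    have hyp' := hyp
    obtain ⟨hp, hq, hpq, hp2, hpG, hqG, hmix, hlarge⟩ := hyp
    have : Fact q.Prime := ⟨hq⟩
    set a := (Nat.card G).factorization q with ha_def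
    have hQcard : Nat.card (Q : Subgroup G) = q ^ a := Q.card_eq_multiplicity
    -- card Q0 = q^b, b ≤ a
    have hQ0p : IsPGroup q Q0 := Q.isPGroup'.to_le hQ0
    obtain ⟨b, hb⟩ := (IsPGroup.iff_card).mp hQ0p
    have hba : b ≤ a := by
      have hdvd : Nat.card Q0 ∣ Nat.card (Q : Subgroup G) := Subgroup.card_dvd_of_le hQ0
      rw [hb, hQcard] at hdvd
      exact (Nat.pow_dvd_pow_iff_le_right hq.one_lt).mp hdvd
    obtain ⟨d, hd1, hdb, hdvd, hfix⟩ := pelt_acts hp hq hpq Q0 b hb y k hk hyN hyC
    have hqd_pos : 0 < q ^ d - 1 := by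
      have : 2 ^ 1 ≤ q ^ d := le_trans (Nat.pow_le_pow_left hq.two_le 1) (Nat.pow_le_pow_right hq.pos hd1)
      omega
    have hple : p ≤ q ^ d - 1 := Nat.le_of_dvd hqd_pos hdvd
    have hda : q ^ d ≤ q ^ a := Nat.pow_le_pow_right hq.pos (le_trans hdb hba)
    rcases hlarge with hlt | ⟨heq, hcomm⟩
    · omega
    · -- case 2
      have hda' : d = a := by
        by_contra hne
        have hlt' : d < a := lt_of_le_of_ne (le_trans hdb hba) hne
        have : q ^ d < q ^ a := Nat.pow_lt_pow_right hq.one_lt hlt'
        omega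
      have hba' : b = a := le_antisymm hba (hda' ▸ hdb)
      have hdb' : d = b := by omega
      -- Q0 = Q
      have hQ0Q : Q0 = (Q : Subgroup G) := by
        apply Subgroup.eq_of_le_of_card_ge hQ0
        rw [hb, hQcard, hba']
      subst hQ0Q
      -- q = 2
      have hq2 : q = 2 := by
        by_contra hq2
        have hqodd : Odd q := hq.odd_of_ne_two hq2
        have hqa_odd : Odd (q ^ a) := hqodd.pow
        have hpodd : Odd p := hp.odd_of_ne_two hp2
        have h1le : 1 ≤ q ^ a := Nat.one_le_pow _ _ hq.pos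
        have : p + 1 = q ^ a := by omega
        have hev : Even (p + 1) := hpodd.add_one
        rw [this] at hev
        exact (Nat.not_even_iff_odd.mpr hqa_odd) hev
      subst hq2
      have h1le : 1 ≤ 2 ^ a := Nat.one_le_pow _ _ (by norm_num)
      have hpa : p + 1 = 2 ^ a := by omega
      have ha2 : 2 ≤ a := by
        by_contra hlt
        have : a = 0 ∨ a = 1 := by omega
        rcases this with h0 | h0
        · rw [h0] at hpa; have := hp.two_le; omega
        · rw [h0] at hpa; have := hp.two_le; omega
      have hQa : Nat.card (Q : Subgroup G) = p + 1 := by rw [hQcard, hpa]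
      have htr := pelt_transitive hp hq hpq (Q : Subgroup G) a hQcard hpa y k hk hyN hyC
      -- exponent 2
      have hexp : ∀ x ∈ Q, x * x = 1 := by
        intro x hx
        by_cases hx1 : x = 1
        · rw [hx1, mul_one]
        · -- an element of order 2 in Q
          have h2dvd : 2 ∣ Nat.card (Q : Subgroup G) := by
            rw [hQcard]; exact dvd_pow_self 2 (by omega)
          obtain ⟨s, hs⟩ := exists_prime_orderOf_dvd_card' (G := (Q : Subgroup G)) 2 h2dvd
          have hs1 : (s : G) ≠ 1 := by
            intro h1'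
            have : s = 1 := Subtype.ext h1'
            rw [this, orderOf_one] at hs
            norm_num at hs
          have hss : (s : G) * (s : G) = 1 := by
            have hpow : s ^ orderOf s = 1 := pow_orderOf_eq_one s
            have h2' : s ^ 2 = 1 := by
              have := hpow
              rwa [hs] at this
            have h2 : ((s ^ 2 : (Q : Subgroup G)) : G) = 1 := by rw [h2']; rfl
            simpa [pow_two] using h2
          obtain ⟨j, hj⟩ := htr (s : G) s.2 hs1 x hx hx1
          rw [← hj]
          have : y ^ j * ↑s * (y ^ j)⁻¹ * (y ^ j * ↑s * (y ^ j)⁻¹) = y ^ j * (↑s * ↑s) * (y ^ j)⁻¹ := by group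
          rw [this, hss]; group
      -- third prime
      have hr : ∃ r : ℕ, r.Prime ∧ r ≠ 2 ∧ r ≠ p ∧ r ∣ Nat.card G := by
        by_contra hno
        apply hc
        intro r hr hrG
        by_contra hne
        have hne' := not_or.mp hne
        exact hno ⟨r, hr, hne'.2, hne'.1, hrG⟩
      have hnp := no_normal_p hyp' h1 hc (fun N _ hN hypN => by
        have hlt : Nat.card (G ⧸ N) < n := by
          rw [← hn, ← Subgroup.index_eq_card, ← Subgroup.index_mul_card N]
          have hNc : 1 < Nat.card N := by
            have := (Subgroup.one_lt_card_iff_ne_bot N).mpr hN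
            exact this
          have hidx : 0 < N.index := Nat.pos_of_ne_zero (Subgroup.index_ne_zero_of_finite)
          nlinarith
        exact ih _ hlt (G ⧸ N) rfl p 2 hypN)
      have hsimple := simple_of hyp' h1 hc hnp
      have hMin : MinCE G p a :=
        { hp := hp
          ha := ha2
          hpa := hpa
          hsimple := hsimple
          hr := hr
          hpG := hpG
          h2 := rfl
          hH1 := fun H hH h2H ℓ hℓ hℓH => (h1 H hH h2H ℓ hℓ hℓH).symm
          hab := fun P x hx z hz => by
            have := hcomm P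
            have hxz := (this.is_comm.comm ⟨x, hx⟩ ⟨z, hz⟩)
            exact congrArg Subtype.val hxz
          hQ := ⟨Q, y, hyN, ⟨k, hk⟩, hexp, htr⟩ }
      exact minCE_false hMin

end reduction

end Cfsg.Agent.Helper7.S4017
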