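import Cfsg.Agent.Helper7.Batch8
import Mathlib.GroupTheory.Perm.Fin
import Mathlib.GroupTheory.SpecificGroups.Alternating

set_option autoImplicit false

/-!
Every even permutation of eight points preserving the partition into the pairs `{2k, 2k+1}` is an
affine map of the three-dimensional space over the field with two elements: the check, over all
maps at once.
-/

namespace Cfsg.Agent.Helper7.S8Aff

open Cfsg.Agent.Helper7.Batch8 Fm

/-- Evaluate a number before building a formula from it. -/
def forceNat (n : Nat) (f : Nat → Fm) : Fm :=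
  match n with
  | 0 => f 0
  | k + 1 => f (k + 1)

theorem forceNat_eq (n : Nat) (f : Nat → Fm) : forceNat n f = f n := by
  cases n <;> rfl

/-- The bit `k` of the value at `i`. -/
def bitA (i k : Nat) : Fm := forceNat (3 * i + k) atom

theorem evalB_bitA (y : Fin 8 → Fin 8) (i : Fin 8) (k : Nat) (hk : k < 3) :
    (bitA i.val k).evalB (cod y) = (y i).val.testBit k := by
  rw [bitA, forceNat_eq, evalB, testBit_cod y i.val k i.isLt hk]
  have : 3 * i.val + k < 24 := by omega
  simp [this]

/-- The values at `i` and `j` lie in different pairs. -/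
def neqHiF (i j : Nat) : Fm :=
  force8 i fun i => force8 j fun j =>
    or (xor (bitA i 1) (bitA j 1)) (xor (bitA i 2) (bitA j 2))

theorem neqHi_aux : ∀ v w : Fin 8,
    ((v.val.testBit 1 ^^ w.val.testBit 1) || (v.val.testBit 2 ^^ w.val.testBit 2)) =
      decide (v.val / 2 ≠ w.val / 2) := by decide

theorem evalB_neqHiF (y : Fin 8 → Fin 8) (i j : Fin 8) :
    (neqHiF i.val j.val).evalB (cod y) = decide ((y i).val / 2 ≠ (y j).val / 2) := by
  rw [neqHiF, force8_eq, force8_eq, evalB, evalB, evalB, evalB_bitA y i 1 (by norm_num),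
    evalB_bitA y j 1 (by norm_num), evalB_bitA y i 2 (by norm_num), evalB_bitA y j 2 (by norm_num)]
  exact neqHi_aux _ _

/-- The map preserves the partition into pairs. -/
def pairsF : Fm :=
  andL (pairs8.map fun p =>
    if p.1 / 2 = p.2 / 2 then not (neqHiF p.1 p.2) else neqHiF p.1 p.2)

/-- The value at `i` is greater than the value at `j`. -/
def gtF (i j : Nat) : Fm :=
  force8 i fun i => force8 j fun j =>
    or (and (bitA i 2) (not (bitA j 2)))
      (and (not (xor (bitA i 2) (bitA j 2)))
        (or (and (bitA i 1) (not (bitA j 1)))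
          (and (not (xor (bitA i 1) (bitA j 1))) (and (bitA i 0) (not (bitA j 0))))))

theorem gt_aux : ∀ v w : Fin 8,
    ((v.val.testBit 2 && !w.val.testBit 2) ||
      (!(v.val.testBit 2 ^^ w.val.testBit 2) &&
        ((v.val.testBit 1 && !w.val.testBit 1) ||
          (!(v.val.testBit 1 ^^ w.val.testBit 1) && (v.val.testBit 0 && !w.val.testBit 0))))) =
      decide (w < v) := by decide

theorem evalB_gtF (y : Fin 8 → Fin 8) (i j : Fin 8) :
    (gtF i.val j.val).evalB (cod y) = decide (y j < y i) := by
  rw [gtF, force8_eq, force8_eq]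
  simp only [evalB]
  rw [evalB_bitA y i 0 (by norm_num), evalB_bitA y j 0 (by norm_num),
    evalB_bitA y i 1 (by norm_num), evalB_bitA y j 1 (by norm_num),
    evalB_bitA y i 2 (by norm_num), evalB_bitA y j 2 (by norm_num)]
  exact gt_aux _ _

/-- The exclusive disjunction of a list of formulas. -/
def xorL : List Fm → Fm
  | [] => not tt
  | a :: l => xor a (xorL l)

/-- The sign attached to a truth value. -/
def sgnB (b : Bool) : ℤˣ := if b then -1 else 1

theorem sgnB_xor : ∀ a b : Bool, sgnB (a ^^ b) = sgnB a * sgnB b := by decide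

theorem sgnB_evalB_xorL {α : Type} (m : Nat) (f : α → Fm) : ∀ l : List α,
    sgnB ((xorL (l.map f)).evalB m) = (l.map fun a => sgnB ((f a).evalB m)).prod
  | [] => by simp [xorL, evalB, sgnB]
  | a :: l => by
    rw [List.map_cons, xorL, evalB, sgnB_xor, sgnB_evalB_xorL m f l, List.map_cons, List.prod_cons]

/-- The pairs `(j, i)` with `i < j`. -/
def invPairs : List (Σ _ : Fin 8, Fin 8) :=
  (List.finRange 8).flatMap fun j => ((List.finRange 8).filter fun i => i < j).map fun i => ⟨j, i⟩

theorem invPairs_nodup : invPairs.Nodup := by decide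

theorem invPairs_toFinset :
    invPairs.toFinset = (Finset.univ : Finset (Fin 8)).sigma Finset.Iio := by decide

theorem invPairs_lt : ∀ x ∈ invPairs, x.2 < x.1 := by decide

/-- The parity of the number of inversions. -/
def invF : Fm := xorL (invPairs.map fun x => gtF x.2.val x.1.val)

theorem sgnB_invF (y : Equiv.Perm (Fin 8)) :
    sgnB (invF.evalB (cod y)) = Equiv.Perm.sign y := by
  rw [invF, sgnB_evalB_xorL, Equiv.Perm.sign_eq_prod_prod_Iio, Finset.prod_sigma',
    ← invPairs_toFinset, List.prod_toFinset _ invPairs_nodup]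
  congr 1
  apply List.map_congr_left
  intro x hx
  have hlt := invPairs_lt x hx
  rw [evalB_gtF]
  have hne : y x.2 ≠ y x.1 := fun h => (ne_of_lt hlt) (y.injective h)
  by_cases h : y x.2 < y x.1
  · rw [if_pos h, sgnB, if_neg]
    simpa using le_of_lt h
  · rw [if_neg h, sgnB, if_pos]
    have : y x.1 < y x.2 := lt_of_le_of_ne (not_lt.1 h) (Ne.symm hne)
    simpa using this

/-- All triples of two points and a bit position. -/
def triples : List (Fin 8 × Fin 8 × Fin 3) :=
  (List.finRange 8).flatMap fun a => (List.finRange 8).flatMap fun b =>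
    (List.finRange 3).map fun k => (a, b, k)

theorem mem_triples : ∀ (a b : Fin 8) (k : Fin 3), (a, b, k) ∈ triples := by decide

/-- The defect of affinity at two points and a bit position. -/
def defF (a b k : Nat) (ab : Nat) : Fm :=
  force8 a fun a => force8 b fun b => force8 k fun k => force8 ab fun ab =>
    xor (xor (bitA ab k) (bitA a k)) (xor (bitA b k) (bitA 0 k))

/-- The map is affine. -/
def affF : Fm :=
  not (orL (triples.map fun t => defF t.1.val t.2.1.val t.2.2.val (t.1 ^^^ t.2.1).val))

theorem aff_aux : ∀ u v w z : Fin 8,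
    (∀ k : Fin 3, ((u.val.testBit k.val ^^ v.val.testBit k.val) ^^
      (w.val.testBit k.val ^^ z.val.testBit k.val)) = false) → u = v ^^^ w ^^^ z := by
  decide

theorem of_affF (y : Fin 8 → Fin 8) (h : affF.evalB (cod y) = true) (a b : Fin 8) :
    y (a ^^^ b) = y a ^^^ y b ^^^ y 0 := by
  rw [affF, evalB_not, evalB_orL, List.any_eq_true] at h
  apply aff_aux
  intro k
  by_contra hk
  rw [Bool.not_eq_false] at hk
  apply h
  refine ⟨_, List.mem_map.2 ⟨(a, b, k), mem_triples a b k, rfl⟩, ?_⟩
  rw [defF, force8_eq, force8_eq, force8_eq, force8_eq, evalB, evalB, evalB,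
    evalB_bitA y _ _ k.isLt, evalB_bitA y _ _ k.isLt, evalB_bitA y _ _ k.isLt]
  have h0 := evalB_bitA y 0 _ k.isLt
  rw [Fin.val_zero] at h0
  rw [h0]
  exact hk

/-- The permutations preserving the partition into pairs. -/
def P1 : Subgroup (Equiv.Perm (Fin 8)) where
  carrier := {g | ∀ i j : Fin 8, i.val / 2 = j.val / 2 ↔ (g i).val / 2 = (g j).val / 2}
  mul_mem' := by
    intro a b ha hb i j
    have h1 := hb i j
    have h2 := ha (b i) (b j)
    simp only [Equiv.Perm.coe_mul, Function.comp_apply]
    exact h1.trans h2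
  one_mem' := by
    intro i j
    simp
  inv_mem' := by
    intro a ha i j
    have h := ha (a⁻¹ i) (a⁻¹ j)
    simp only [Equiv.Perm.coe_inv, Equiv.apply_symm_apply] at h
    simp only [Equiv.Perm.coe_inv]
    exact h.symm

theorem mem_P1 (g : Equiv.Perm (Fin 8)) : g ∈ P1 ↔
    ∀ i j : Fin 8, i.val / 2 = j.val / 2 ↔ (g i).val / 2 = (g j).val / 2 := Iff.rfl

theorem xor3_aux : ∀ a b c : Fin 8, a ^^^ b ^^^ c = (a ^^^ b ^^^ c) ^^^ 0 ∧
    (a ^^^ b) ^^^ c ^^^ 0 ^^^ 0 = a ^^^ b ^^^ c := by decide

theorem xor_cancel_aux : ∀ a b c d : Fin 8, (a ^^^ b ^^^ d) ^^^ c ^^^ d = a ^^^ b ^^^ c := by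
  decide

/-- The affine permutations. -/
def Aff : Subgroup (Equiv.Perm (Fin 8)) where
  carrier := {g | ∀ a b : Fin 8, g (a ^^^ b) = g a ^^^ g b ^^^ g 0}
  mul_mem' := by
    intro g h hg hh a b
    simp only [Equiv.Perm.coe_mul, Function.comp_apply]
    rw [hh a b, hg (h a ^^^ h b) (h 0), hg (h a) (h b)]
    exact xor_cancel_aux _ _ _ _
  one_mem' := by
    intro a b
    simp only [Equiv.Perm.coe_one, id_eq]
    revert a b
    decide
  inv_mem' := by
    intro g hg a b
    apply g.injective
    rw [hg (g⁻¹ a ^^^ g⁻¹ b) (g⁻¹ 0), hg (g⁻¹ a) (g⁻¹ b)]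
    simp only [Equiv.Perm.coe_inv, Equiv.apply_symm_apply]
    revert a b
    generalize g 0 = c
    revert c
    decide

theorem mem_Aff (g : Equiv.Perm (Fin 8)) : g ∈ Aff ↔
    ∀ a b : Fin 8, g (a ^^^ b) = g a ^^^ g b ^^^ g 0 := Iff.rfl

/-- The map is injective, preserves the pairs, has an even number of inversions, and is not
affine. -/
def badA : Fm := and permF (and pairsF (and (not invF) (not affF)))

set_option maxRecDepth 1000000 in
set_option maxHeartbeats 0 in
theorem badA_zero : badA.evalN = 0 := by decide +kernel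

theorem permF_true' (y : Equiv.Perm (Fin 8)) : permF.evalB (cod y) = true := by
  rw [permF, evalB_andL_map]
  intro p hp
  obtain ⟨h1, h2⟩ := lt_of_mem_pairs8 p hp
  rw [evalB_not, evalB_eqF _ _ _ (by omega) h2, val_cod y _ (by omega), val_cod y _ h2]
  intro h
  have h3 := y.injective (Fin.ext h)
  have h4 := congrArg Fin.val h3
  simp only at h4
  omega

theorem pairsF_true (y : Equiv.Perm (Fin 8)) (hy : y ∈ P1) : pairsF.evalB (cod y) = true := by
  rw [pairsF, evalB_andL_map]
  intro p hp
  obtain ⟨h1, h2⟩ := lt_of_mem_pairs8 p hp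
  have h3 : p.1 < 8 := by omega
  have h := (mem_P1 y).1 hy ⟨p.1, h3⟩ ⟨p.2, h2⟩
  simp only at h
  have hn := evalB_neqHiF y ⟨p.1, h3⟩ ⟨p.2, h2⟩
  simp only at hn
  by_cases hc : p.1 / 2 = p.2 / 2
  · rw [if_pos hc, evalB_not, hn, decide_eq_true_eq]
    exact fun h' => h' (h.1 hc)
  · rw [if_neg hc, hn, decide_eq_true_eq]
    exact fun h' => hc (h.2 h')

theorem invF_false (y : Equiv.Perm (Fin 8)) (hy : Equiv.Perm.sign y = 1) :
    invF.evalB (cod y) = false := by
  have h := sgnB_invF y
  rw [hy] at h
  cases hb : invF.evalB (cod y)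
  · rfl
  · rw [hb] at h
    exact absurd h (by decide)

/-- An even permutation preserving the pairs is affine. -/
theorem mem_Aff_of_even (y : Equiv.Perm (Fin 8)) (hy : y ∈ P1) (hs : Equiv.Perm.sign y = 1) :
    y ∈ Aff := by
  have hb := forall_of_evalN_eq_zero badA badA_zero y
  rw [badA, evalB, permF_true' y, Bool.true_and, evalB, pairsF_true y hy, Bool.true_and, evalB,
    evalB, invF_false y hs, Bool.not_false, Bool.true_and, evalB, Bool.not_eq_false'] at hb
  exact fun a b => of_affF y hb a b

end Cfsg.Agent.Helper7.S8Aff
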