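import Cfsg.Agent.Helper7.Batch8

set_option autoImplicit false

/-!
For every permutation `y` of eight points, one of fifteen fixed involutions of a Sylow `2`-subgroup
of the symmetric group is conjugated by `y` into that Sylow subgroup: the check, over all maps at
once.
-/

namespace Cfsg.Agent.Helper7.S8Bad

open Cfsg.Agent.Helper7.Batch8 Fm

/-- Fifteen involutions preserving the pairs and the quadruples, as lists of values. -/
def ts : List (List Nat) := [[1, 0, 3, 2, 5, 4, 7, 6], [1, 0, 3, 2, 6, 7, 4, 5],
  [1, 0, 3, 2, 7, 6, 5, 4], [0, 1, 2, 3, 4, 5, 7, 6], [0, 1, 2, 3, 5, 4, 6, 7],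
  [0, 1, 3, 2, 4, 5, 6, 7], [1, 0, 2, 3, 4, 5, 6, 7], [4, 5, 6, 7, 0, 1, 2, 3],
  [4, 5, 7, 6, 0, 1, 3, 2], [5, 4, 6, 7, 1, 0, 2, 3], [5, 4, 7, 6, 1, 0, 3, 2],
  [6, 7, 4, 5, 2, 3, 0, 1], [6, 7, 5, 4, 3, 2, 0, 1], [7, 6, 4, 5, 2, 3, 1, 0],
  [7, 6, 5, 4, 3, 2, 1, 0]]

/-- The map given by a list of values. -/
def tfun (tl : List Nat) (v : Nat) : Nat := tl.getD v 0 % 8

theorem tfun_lt (tl : List Nat) (v : Nat) : tfun tl v < 8 := Nat.mod_lt _ (by norm_num)

/-- The value `u` is taken at a place of the `k`th pair. -/
def pairF (u k : Nat) : Fm :=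
  force8 u fun u => force8 k fun k => or (mtC (2 * k) u) (mtC (2 * k + 1) u)

/-- The value `u` is taken at a place of the `k`th quadruple. -/
def quadF (u k : Nat) : Fm :=
  force8 u fun u => force8 k fun k => orL ((List.range 4).map fun a => mtC (4 * k + a) u)

/-- The values `u` and `v` are taken at places of the same pair. -/
def R1F (u v : Nat) : Fm :=
  force8 u fun u => force8 v fun v => orL ((List.range 4).map fun k => and (pairF u k) (pairF v k))

/-- The values `u` and `v` are taken at places of the same quadruple. -/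
def R2F (u v : Nat) : Fm :=
  force8 u fun u => force8 v fun v => orL ((List.range 2).map fun k => and (quadF u k) (quadF v k))

/-- The formula `R1F`, symmetrized. -/
def R1S (u v : Nat) : Fm := R1F (min u v) (max u v)

/-- The formula `R2F`, symmetrized. -/
def R2S (u v : Nat) : Fm := R2F (min u v) (max u v)

/-- The map `t` of values preserves the images of the pairs and of the quadruples. -/
def condF (t : Nat → Nat) : Fm :=
  not (orL (pairs8.map fun p =>
    force8 p.1 fun u => force8 p.2 fun v => force8 (t u) fun a => force8 (t v) fun b =>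
      or (xor (R1S u v) (R1S a b)) (xor (R2S u v) (R2S a b))))

/-- The map is injective, and none of the fifteen involutions preserves the images of the pairs
and the quadruples. -/
def badF : Fm := and permF (not (orL (ts.map fun tl => condF (tfun tl))))

set_option maxRecDepth 1000000 in
set_option maxHeartbeats 0 in
theorem bad_zero : badF.evalN = 0 := by decide +kernel

end Cfsg.Agent.Helper7.S8Bad
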