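import Cfsg.Agent.Helper7.S8Bad

set_option autoImplicit false

/-!
A Sylow `2`-subgroup of the symmetric group on eight points, and the fact that it meets each of
its conjugates.
-/

namespace Cfsg.Agent.Helper7.S8Sylow

open Cfsg.Agent.Helper7.Batch8 Fm Cfsg.Agent.Helper7.S8Bad

/-- The permutations preserving the partitions into pairs and into quadruples. -/
def P0 : Subgroup (Equiv.Perm (Fin 8)) where
  carrier := {g | ∀ i j : Fin 8, (i.val / 2 = j.val / 2 ↔ (g i).val / 2 = (g j).val / 2) ∧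
    (i.val / 4 = j.val / 4 ↔ (g i).val / 4 = (g j).val / 4)}
  mul_mem' := by
    intro a b ha hb i j
    have h1 := hb i j
    have h2 := ha (b i) (b j)
    simp only [Equiv.Perm.coe_mul, Function.comp_apply]
    exact ⟨h1.1.trans h2.1, h1.2.trans h2.2⟩
  one_mem' := by
    intro i j
    simp
  inv_mem' := by
    intro a ha i j
    have h := ha (a⁻¹ i) (a⁻¹ j)
    simp only [Equiv.Perm.coe_inv, Equiv.apply_symm_apply] at h
    simp only [Equiv.Perm.coe_inv]
    exact ⟨h.1.symm, h.2.symm⟩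

theorem mem_P0 (g : Equiv.Perm (Fin 8)) : g ∈ P0 ↔
    ∀ i j : Fin 8, (i.val / 2 = j.val / 2 ↔ (g i).val / 2 = (g j).val / 2) ∧
      (i.val / 4 = j.val / 4 ↔ (g i).val / 4 = (g j).val / 4) := Iff.rfl

theorem sq_quad (g : Equiv.Perm (Fin 8)) (hg : g ∈ P0) (i : Fin 8) :
    ((g * g) i).val / 4 = i.val / 4 := by
  have h := ((mem_P0 g).1 hg i (g i)).2
  rw [Equiv.Perm.mul_apply]
  have h1 := (g (g i)).isLt
  have h2 := (g i).isLt
  have h3 := i.isLt
  omega

theorem sq_pair (g : Equiv.Perm (Fin 8)) (hg : g ∈ P0) (h4 : ∀ i, (g i).val / 4 = i.val / 4)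
    (i : Fin 8) : ((g * g) i).val / 2 = i.val / 2 := by
  have h := ((mem_P0 g).1 hg i (g i)).1
  rw [Equiv.Perm.mul_apply]
  have h1 := h4 i
  have h2 := h4 (g i)
  omega

theorem sq_one (g : Equiv.Perm (Fin 8)) (h2 : ∀ i, (g i).val / 2 = i.val / 2) : g * g = 1 := by
  ext i
  rw [Equiv.Perm.mul_apply, Equiv.Perm.one_apply]
  by_contra hne
  have hne' : (g (g i)).val ≠ i.val := fun h => hne (congrArg Fin.val (Fin.ext h))
  have h1 := h2 i
  have h3 := h2 (g i)
  by_cases hi : g i = i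
  · rw [hi] at hne'
    exact hne' (congrArg Fin.val hi)
  · have hi' : (g i).val ≠ i.val := fun h => hi (Fin.ext h)
    have : (g (g i)).val = (g i).val := by omega
    exact hi (g.injective (Fin.ext this))

theorem isPGroup_P0 : IsPGroup 2 P0 := by
  intro g
  refine ⟨3, Subtype.ext ?_⟩
  have hg := g.2
  have hg2 : (g : Equiv.Perm (Fin 8)) * g ∈ P0 := P0.mul_mem hg hg
  have hg4 : ((g : Equiv.Perm (Fin 8)) * g) * (g * g) ∈ P0 := P0.mul_mem hg2 hg2
  have h8 := sq_one _ (sq_pair _ hg2 (sq_quad _ hg))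
  rw [Subgroup.coe_pow, Subgroup.coe_one]
  have : (g : Equiv.Perm (Fin 8)) ^ 2 ^ 3 = ((g : Equiv.Perm (Fin 8)) * g * (g * g)) *
      (g * g * (g * g)) := by
    norm_num [pow_succ, mul_assoc]
  rw [this]
  exact h8

theorem evalB_xor_false (m : Nat) (a b : Fm) :
    (xor a b).evalB m = false ↔ (a.evalB m = true ↔ b.evalB m = true) := by
  rw [evalB]
  cases a.evalB m <;> cases b.evalB m <;> simp

theorem evalB_or_false (m : Nat) (a b : Fm) :
    (or a b).evalB m = false ↔ a.evalB m = false ∧ b.evalB m = false := by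
  rw [evalB]
  cases a.evalB m <;> cases b.evalB m <;> simp

theorem evalB_pairF (y : Equiv.Perm (Fin 8)) (u : Fin 8) (k : Nat) (hk : k < 4) :
    (pairF u.val k).evalB (cod y) = true ↔ (y.symm u).val / 2 = k := by
  rw [pairF, force8_eq, force8_eq, evalB_or, evalB_mtC _ _ _ (by omega) u.isLt,
    evalB_mtC _ _ _ (by omega) u.isLt, decide_eq_true_eq, decide_eq_true_eq,
    val_cod y _ (by omega), val_cod y _ (by omega)]
  constructor
  · rintro (h | h)
    · have h' : y ⟨2 * k, by omega⟩ = u := Fin.ext h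
      rw [← h', Equiv.symm_apply_apply]
      simp
    · have h' : y ⟨2 * k + 1, by omega⟩ = u := Fin.ext h
      rw [← h', Equiv.symm_apply_apply]
      show (2 * k + 1) / 2 = k
      omega
  · intro h
    have h1 := (y.symm u).isLt
    rcases (by omega : (y.symm u).val = 2 * k ∨ (y.symm u).val = 2 * k + 1) with h2 | h2
    · left
      have h3 : y.symm u = ⟨2 * k, by omega⟩ := Fin.ext h2
      rw [← h3, Equiv.apply_symm_apply]
    · right
      have h3 : y.symm u = ⟨2 * k + 1, by omega⟩ := Fin.ext h2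
      rw [← h3, Equiv.apply_symm_apply]

theorem evalB_quadF (y : Equiv.Perm (Fin 8)) (u : Fin 8) (k : Nat) (hk : k < 2) :
    (quadF u.val k).evalB (cod y) = true ↔ (y.symm u).val / 4 = k := by
  rw [quadF, force8_eq, force8_eq, evalB_orL_range]
  constructor
  · rintro ⟨a, ha, h⟩
    rw [evalB_mtC _ _ _ (by omega) u.isLt, decide_eq_true_eq, val_cod y _ (by omega)] at h
    have h' : y ⟨4 * k + a, by omega⟩ = u := Fin.ext h
    rw [← h', Equiv.symm_apply_apply]
    show (4 * k + a) / 4 = k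
    omega
  · intro h
    have h1 := (y.symm u).isLt
    refine ⟨(y.symm u).val - 4 * k, by omega, ?_⟩
    rw [evalB_mtC _ _ _ (by omega) u.isLt, decide_eq_true_eq, val_cod y _ (by omega)]
    have h3 : y.symm u = ⟨4 * k + ((y.symm u).val - 4 * k), by omega⟩ := Fin.ext (by simp; omega)
    rw [← h3, Equiv.apply_symm_apply]

theorem evalB_R1F (y : Equiv.Perm (Fin 8)) (u v : Fin 8) :
    (R1F u.val v.val).evalB (cod y) = true ↔ (y.symm u).val / 2 = (y.symm v).val / 2 := by
  rw [R1F, force8_eq, force8_eq, evalB_orL_range]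
  constructor
  · rintro ⟨k, hk, h⟩
    rw [evalB_and, evalB_pairF y u k hk, evalB_pairF y v k hk] at h
    rw [h.1, h.2]
  · intro h
    have h1 := (y.symm u).isLt
    have hk : (y.symm u).val / 2 < 4 := by omega
    refine ⟨(y.symm u).val / 2, hk, ?_⟩
    rw [evalB_and, evalB_pairF y u _ hk, evalB_pairF y v _ hk]
    exact ⟨rfl, h.symm⟩

theorem evalB_R2F (y : Equiv.Perm (Fin 8)) (u v : Fin 8) :
    (R2F u.val v.val).evalB (cod y) = true ↔ (y.symm u).val / 4 = (y.symm v).val / 4 := by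
  rw [R2F, force8_eq, force8_eq, evalB_orL_range]
  constructor
  · rintro ⟨k, hk, h⟩
    rw [evalB_and, evalB_quadF y u k hk, evalB_quadF y v k hk] at h
    rw [h.1, h.2]
  · intro h
    have h1 := (y.symm u).isLt
    have hk : (y.symm u).val / 4 < 2 := by omega
    refine ⟨(y.symm u).val / 4, hk, ?_⟩
    rw [evalB_and, evalB_quadF y u _ hk, evalB_quadF y v _ hk]
    exact ⟨rfl, h.symm⟩

theorem evalB_R1S (y : Equiv.Perm (Fin 8)) (u v : Fin 8) :
    (R1S u.val v.val).evalB (cod y) = true ↔ (y.symm u).val / 2 = (y.symm v).val / 2 := by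
  rw [R1S]
  rcases le_total u.val v.val with h | h
  · rw [Nat.min_eq_left h, Nat.max_eq_right h, evalB_R1F]
  · rw [Nat.min_eq_right h, Nat.max_eq_left h, evalB_R1F, eq_comm]

theorem evalB_R2S (y : Equiv.Perm (Fin 8)) (u v : Fin 8) :
    (R2S u.val v.val).evalB (cod y) = true ↔ (y.symm u).val / 4 = (y.symm v).val / 4 := by
  rw [R2S]
  rcases le_total u.val v.val with h | h
  · rw [Nat.min_eq_left h, Nat.max_eq_right h, evalB_R2F]
  · rw [Nat.min_eq_right h, Nat.max_eq_left h, evalB_R2F, eq_comm]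

theorem condF_lt (y T : Equiv.Perm (Fin 8)) (t : Nat → Nat) (ht : ∀ v : Fin 8, t v.val = (T v).val)
    (h : (condF t).evalB (cod y) = true) (u v : Fin 8) (huv : u.val < v.val) :
    ((y.symm u).val / 2 = (y.symm v).val / 2 ↔
        (y.symm (T u)).val / 2 = (y.symm (T v)).val / 2) ∧
      ((y.symm u).val / 4 = (y.symm v).val / 4 ↔
        (y.symm (T u)).val / 4 = (y.symm (T v)).val / 4) := by
  rw [condF, evalB_not, evalB_orL, List.any_eq_true] at h
  have h1 : ¬ (force8 u.val fun a => force8 v.val fun b => force8 (t a) fun c =>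
      force8 (t b) fun d => or (xor (R1S a b) (R1S c d)) (xor (R2S a b) (R2S c d))).evalB (cod y)
        = true := by
    intro h2
    exact h ⟨_, List.mem_map.2 ⟨(u.val, v.val), mem_pairs8 u v huv, rfl⟩, h2⟩
  rw [force8_eq, force8_eq, force8_eq, force8_eq, Bool.not_eq_true, evalB_or_false,
    evalB_xor_false, evalB_xor_false, ht u, ht v, evalB_R1S, evalB_R1S, evalB_R2S, evalB_R2S] at h1
  exact h1

theorem condF_all (y T : Equiv.Perm (Fin 8)) (t : Nat → Nat) (ht : ∀ v : Fin 8, t v.val = (T v).val)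
    (h : (condF t).evalB (cod y) = true) (u v : Fin 8) :
    ((y.symm u).val / 2 = (y.symm v).val / 2 ↔
        (y.symm (T u)).val / 2 = (y.symm (T v)).val / 2) ∧
      ((y.symm u).val / 4 = (y.symm v).val / 4 ↔
        (y.symm (T u)).val / 4 = (y.symm (T v)).val / 4) := by
  rcases lt_trichotomy u.val v.val with huv | huv | huv
  · exact condF_lt y T t ht h u v huv
  · have : u = v := Fin.ext huv
    subst this
    simp
  · have h1 := condF_lt y T t ht h v u huv
    exact ⟨by rw [eq_comm, h1.1, eq_comm], by rw [eq_comm, h1.2, eq_comm]⟩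

theorem conj_mem_P0 (y T : Equiv.Perm (Fin 8)) (t : Nat → Nat)
    (ht : ∀ v : Fin 8, t v.val = (T v).val) (h : (condF t).evalB (cod y) = true) :
    y⁻¹ * T * y ∈ P0 := by
  rw [mem_P0]
  intro i j
  have h1 := condF_all y T t ht h (y i) (y j)
  simp only [Equiv.symm_apply_apply] at h1
  simp only [Equiv.Perm.mul_apply, Equiv.Perm.coe_inv]
  exact h1

/-- The map of the points given by a list of values. -/
def Tof (tl : List Nat) : Fin 8 → Fin 8 := fun v => ⟨tfun tl v.val, tfun_lt _ _⟩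

theorem ts_ok : ∀ tl ∈ ts, (∀ v : Fin 8, Tof tl (Tof tl v) = v) ∧
    (∀ i j : Fin 8, (i.val / 2 = j.val / 2 ↔ (Tof tl i).val / 2 = (Tof tl j).val / 2) ∧
      (i.val / 4 = j.val / 4 ↔ (Tof tl i).val / 4 = (Tof tl j).val / 4)) ∧
    (∃ v : Fin 8, Tof tl v ≠ v) := by
  decide

theorem permF_true (y : Equiv.Perm (Fin 8)) : permF.evalB (cod y) = true := by
  rw [permF, evalB_andL_map]
  intro p hp
  obtain ⟨h1, h2⟩ := lt_of_mem_pairs8 p hp
  rw [evalB_not, evalB_eqF _ _ _ (by omega) h2, val_cod y _ (by omega), val_cod y _ h2]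
  intro h
  have h3 := y.injective (Fin.ext h)
  have h4 := congrArg Fin.val h3
  simp only at h4
  omega

/-- Every conjugate of `P0` meets `P0` in a non-trivial element. -/
theorem exists_conj_mem (y : Equiv.Perm (Fin 8)) :
    ∃ T ∈ P0, T ≠ 1 ∧ y⁻¹ * T * y ∈ P0 := by
  have hb := forall_of_evalN_eq_zero badF bad_zero y
  rw [badF, evalB, permF_true y, Bool.true_and] at hb
  have hb' : (orL (ts.map fun tl => condF (tfun tl))).evalB (cod y) = true := by
    rw [evalB] at hb
    simpa using hb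
  rw [evalB_orL, List.any_eq_true] at hb'
  obtain ⟨a, ha, hay⟩ := hb'
  obtain ⟨tl, htl, rfl⟩ := List.mem_map.1 ha
  obtain ⟨h1, h2, v, hv⟩ := ts_ok tl htl
  let T : Equiv.Perm (Fin 8) := ⟨Tof tl, Tof tl, h1, h1⟩
  refine ⟨T, h2, ?_, conj_mem_P0 y T (tfun tl) (fun v => rfl) hay⟩
  intro h
  apply hv
  have := congrArg (fun f : Equiv.Perm (Fin 8) => f v) h
  exact this

end Cfsg.Agent.Helper7.S8Sylow
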