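import Mathlib
import Cfsg.Agent.Helper7.SLMaxC
import Cfsg.Agent.Helper8.MaxSingular
import Cfsg.Agent.Helper7.WittHerm
import Cfsg.Agent.S0755

set_option autoImplicit false

/-! # Unitary forms given as functions: basic calculus, hyperbolic pairs -/

namespace Cfsg.Agent.Helper7.SLUnit

open Matrix Module Cfsg Cfsg.Geo Cfsg.Agent.Helper7.TGL Cfsg.Agent.Helper7.PMax
  Cfsg.Agent.Helper7.SLMax

variable {ι : Type} [Fintype ι] [DecidableEq ι] {F : Type*} [Field F]
variable {σ : F ≃+* F} {f : (ι → F) → (ι → F) → F}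

theorem fadd_r (hf : IsUnitaryForm σ f) (v x y : ι → F) : f v (x + y) = f v x + f v y := by
  rw [hf.herm v (x + y), hf.add_left, map_add, ← hf.herm, ← hf.herm]

theorem fsmul_r (hf : IsUnitaryForm σ f) (c : F) (v x : ι → F) : f v (c • x) = σ c * f v x := by
  rw [hf.herm v (c • x), hf.smul_left, map_mul, ← hf.herm]

theorem fzero_l (hf : IsUnitaryForm σ f) (v : ι → F) : f 0 v = 0 := by
  have := hf.smul_left 0 0 v
  rw [zero_smul, zero_mul] at this
  exact this

theorem fzero_r (hf : IsUnitaryForm σ f) (v : ι → F) : f v 0 = 0 := by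
  rw [hf.herm, fzero_l hf, map_zero]

theorem fneg_l (hf : IsUnitaryForm σ f) (x v : ι → F) : f (-x) v = -f x v := by
  have := hf.smul_left (-1) x v
  rw [neg_one_smul, neg_one_mul] at this
  exact this

theorem fneg_r (hf : IsUnitaryForm σ f) (v x : ι → F) : f v (-x) = -f v x := by
  rw [hf.herm, fneg_l hf, map_neg, ← hf.herm]

theorem fsub_l (hf : IsUnitaryForm σ f) (x y v : ι → F) : f (x - y) v = f x v - f y v := by
  rw [sub_eq_add_neg, hf.add_left, fneg_l hf, ← sub_eq_add_neg]

theorem fsub_r (hf : IsUnitaryForm σ f) (v x y : ι → F) : f v (x - y) = f v x - f v y := by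
  rw [sub_eq_add_neg, fadd_r hf, fneg_r hf, ← sub_eq_add_neg]

theorem fswap0 (hf : IsUnitaryForm σ f) {v w : ι → F} (h : f v w = 0) : f w v = 0 := by
  rw [hf.herm, h, map_zero]

theorem fswap_ne (hf : IsUnitaryForm σ f) {v w : ι → F} (h : f v w ≠ 0) : f w v ≠ 0 :=
  fun h' => h (fswap0 hf h')

theorem fself (hf : IsUnitaryForm σ f) (v : ι → F) : σ (f v v) = f v v := (hf.herm v v).symm

theorem fswap1 (hf : IsUnitaryForm σ f) {v w : ι → F} (h : f v w = 1) : f w v = 1 := by
  rw [hf.herm, h, map_one]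

/-- The covector of `x ↦ f x u`. -/
theorem cdot (hf : IsUnitaryForm σ f) (u x : ι → F) : cov f u ⬝ᵥ x = f x u := by
  let L : (ι → F) →ₗ[F] F :=
    { toFun := fun x => f x u
      map_add' := fun x y => hf.add_left x y u
      map_smul' := fun c x => hf.smul_left c x u }
  let L' : (ι → F) →ₗ[F] F :=
    { toFun := fun x => cov f u ⬝ᵥ x
      map_add' := fun x y => dotProduct_add _ x y
      map_smul' := fun c x => dotProduct_smul c _ x }
  have : L' = L := by
    apply LinearMap.pi_ext
    intro i c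
    change cov f u ⬝ᵥ Pi.single i c = f (Pi.single i c) u
    rw [dotProduct_single]
    have : (Pi.single i c : ι → F) = c • Pi.single i 1 := by
      rw [← Pi.single_smul, smul_eq_mul, mul_one]
    rw [this, hf.smul_left, mul_comm]
    rfl
  exact LinearMap.congr_fun this x

theorem cadd (hf : IsUnitaryForm σ f) (u u' : ι → F) : cov f (u + u') = cov f u + cov f u' := by
  funext i
  exact fadd_r hf _ u u'

theorem csmul (hf : IsUnitaryForm σ f) (c : F) (u : ι → F) : cov f (c • u) = σ c • cov f u := by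
  funext i
  exact fsmul_r hf c _ u

theorem cneg (hf : IsUnitaryForm σ f) (u : ι → F) : cov f (-u) = -cov f u := by
  funext i
  exact fneg_r hf _ u

theorem csub (hf : IsUnitaryForm σ f) (u u' : ι → F) : cov f (u - u') = cov f u - cov f u' := by
  funext i
  exact fsub_r hf _ u u'

theorem czero (hf : IsUnitaryForm σ f) : cov f (0 : ι → F) = 0 := by
  funext i
  exact fzero_r hf _

/-- Every covector is represented by the form (finite field). -/
theorem exists_cov [Finite F] (hf : IsUnitaryForm σ f) (φ : ι → F) : ∃ w, cov f w = φ := by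
  have hinj : Function.Injective (cov f : (ι → F) → (ι → F)) := by
    intro w w' h
    by_contra hne
    have h0 : w - w' ≠ 0 := sub_ne_zero.mpr hne
    obtain ⟨x, hx⟩ := (hf.nondegenerate _ h0).1
    apply hx
    rw [fsub_r hf, ← cdot hf, ← cdot hf, h, sub_self]
  exact (Finite.injective_iff_surjective.mp hinj) φ

/-- A vector outside a subspace is detected by a vector orthogonal to the subspace. -/
theorem exists_perp [Finite F] (hf : IsUnitaryForm σ f) (S : Submodule F (ι → F)) {u : ι → F}
    (hu : u ∉ S) : ∃ y, (∀ s ∈ S, f s y = 0) ∧ f u y = 1 := by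
  obtain ⟨φ, h1, h2⟩ := exists_covector S hu
  obtain ⟨y, rfl⟩ := exists_cov hf φ
  refine ⟨y, fun s hs => ?_, ?_⟩
  · rw [← cdot hf]; exact h1 s hs
  · rw [← cdot hf]; exact h2

/-- The part of `W` orthogonal to `w`. -/
def cut (hf : IsUnitaryForm σ f) (W : Submodule F (ι → F)) (w : ι → F) : Submodule F (ι → F) where
  carrier := {x | x ∈ W ∧ f x w = 0}
  add_mem' := by
    rintro x y ⟨hx, hx'⟩ ⟨hy, hy'⟩
    exact ⟨W.add_mem hx hy, by rw [hf.add_left, hx', hy', add_zero]⟩
  zero_mem' := ⟨W.zero_mem, fzero_l hf w⟩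
  smul_mem' := by
    rintro c x ⟨hx, hx'⟩
    exact ⟨W.smul_mem c hx, by rw [hf.smul_left, hx', mul_zero]⟩

theorem mem_cut (hf : IsUnitaryForm σ f) (W : Submodule F (ι → F)) (w x : ι → F) :
    x ∈ cut hf W w ↔ x ∈ W ∧ f x w = 0 := Iff.rfl

theorem finrank_le_cut (hf : IsUnitaryForm σ f) (W : Submodule F (ι → F)) (w : ι → F) :
    finrank F W ≤ finrank F (cut hf W w) + 1 := by
  by_cases hall : ∀ x ∈ W, f x w = 0
  · have : W ≤ cut hf W w := fun x hx => ⟨hx, hall x hx⟩
    have := Submodule.finrank_mono this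
    omega
  · push Not at hall
    obtain ⟨x₀, hx₀, hne⟩ := hall
    have hle : W ≤ cut hf W w ⊔ Submodule.span F {x₀} := by
      intro x hx
      have e : x = (x - (f x w / f x₀ w) • x₀) + (f x w / f x₀ w) • x₀ := by abel
      rw [e]
      apply Submodule.add_mem_sup
      · refine ⟨W.sub_mem hx (W.smul_mem _ hx₀), ?_⟩
        rw [fsub_l hf, hf.smul_left, div_mul_cancel₀ _ hne, sub_self]
      · exact Submodule.smul_mem _ _ (Submodule.mem_span_singleton_self x₀)
    have h1 := Submodule.finrank_mono hle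
    have h2 := Submodule.finrank_add_le_finrank_add_finrank (cut hf W w) (Submodule.span F {x₀})
    have h3 : finrank F ↥(Submodule.span F {x₀}) ≤ 1 := by
      by_cases hx0 : x₀ = 0
      · rw [hx0, Submodule.span_zero_singleton, finrank_bot]
        omega
      · rw [finrank_span_singleton hx0]
    omega

/-- The data used throughout: a unitary form over a field where trace and norm are onto the fixed field. -/
structure UD (σ : F ≃+* F) (f : (ι → F) → (ι → F) → F) : Prop where
  hf : IsUnitaryForm σ f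
  tr : ∀ t : F, σ t = t → ∃ c : F, c + σ c = t
  nm : ∀ t : F, σ t = t → ∃ a : F, a * σ a = t
  eps : ∃ ε : F, ε ≠ 0 ∧ σ ε = -ε

/-- Over a finite field the extra data is automatic. -/
theorem UD.of_finite [Finite F] (hf : IsUnitaryForm σ f) : UD σ f := by
  have hσ : (σ : F →+* F) ≠ RingHom.id F := by
    intro h
    apply hf.ne_refl
    ext x
    exact RingHom.congr_fun h x
  have hσ2 : ∀ a : F, (σ : F →+* F) ((σ : F →+* F) a) = a := hf.involutive
  refine ⟨hf, ?_, ?_, ?_⟩
  · intro t ht
    exact Cfsg.Agent.Helper7.WittHerm.exists_trace (σ : F →+* F) hσ hσ2 t ht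
  · intro t ht
    by_cases h0 : t = 0
    · exact ⟨0, by rw [h0, zero_mul]⟩
    · exact Cfsg.Agent.S0755.exists_norm_eq hσ hσ2 h0 ht
  · obtain ⟨e, he⟩ : ∃ e : F, σ e ≠ e := by
      by_contra hcon
      push Not at hcon
      apply hf.ne_refl
      ext x
      exact hcon x
    refine ⟨e - σ e, sub_ne_zero.mpr (Ne.symm he), ?_⟩
    rw [map_sub, hf.involutive]
    ring

end Cfsg.Agent.Helper7.SLUnit
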