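import Mathlib
import Cfsg.Agent.Helper7.SLUnitA

set_option autoImplicit false

/-! # Unitary forms given as functions: hyperbolic pairs and isotropic vectors in general position -/

namespace Cfsg.Agent.Helper7.SLUnit

open Matrix Module Cfsg Cfsg.Geo Cfsg.Agent.Helper7.TGL Cfsg.Agent.Helper7.PMax
  Cfsg.Agent.Helper7.SLMax Cfsg.Agent.Helper8.MaxSingular

variable {ι : Type} [Fintype ι] [DecidableEq ι] {F : Type*} [Field F]
variable {σ : F ≃+* F} {f : (ι → F) → (ι → F) → F}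

/-- A hyperbolic pair orthogonal to four given vectors. -/
theorem exists_hyp [Finite F] (H : UD σ f) (hn : 11 ≤ Fintype.card ι) (a b c d : ι → F) :
    ∃ e g : ι → F, f e e = 0 ∧ f g g = 0 ∧ f e g = 1 ∧
      (f e a = 0 ∧ f e b = 0 ∧ f e c = 0 ∧ f e d = 0) ∧
      (f g a = 0 ∧ f g b = 0 ∧ f g c = 0 ∧ f g d = 0) := by
  have hf := H.hf
  obtain ⟨S, hSdef⟩ : ∃ S : Submodule F (ι → F), S = Submodule.span F {a, b, c, d} := ⟨_, rfl⟩
  have hS : finrank F S ≤ 4 := by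
    classical
    have := finrank_span_finset_le_card (R := F) ({a, b, c, d} : Finset (ι → F))
    rw [Finset.coe_insert, Finset.coe_insert, Finset.coe_insert, Finset.coe_singleton] at this
    rw [hSdef]
    exact this.trans Finset.card_le_four
  have haS : a ∈ S := by rw [hSdef]; exact Submodule.subset_span (by simp)
  have hbS : b ∈ S := by rw [hSdef]; exact Submodule.subset_span (by simp)
  have hcS : c ∈ S := by rw [hSdef]; exact Submodule.subset_span (by simp)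
  have hdS : d ∈ S := by rw [hSdef]; exact Submodule.subset_span (by simp)
  obtain ⟨M, hMdef⟩ : ∃ M : Submodule F (ι → F),
      M = cut hf (cut hf (cut hf (cut hf ⊤ a) b) c) d := ⟨_, rfl⟩
  have hM : Fintype.card ι ≤ finrank F M + 4 := by
    have h1 := finrank_le_cut hf ⊤ a
    have h2 := finrank_le_cut hf (cut hf ⊤ a) b
    have h3 := finrank_le_cut hf (cut hf (cut hf ⊤ a) b) c
    have h4 := finrank_le_cut hf (cut hf (cut hf (cut hf ⊤ a) b) c) d
    rw [finrank_top, Module.finrank_pi] at h1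
    rw [hMdef]
    omega
  have hMperp : ∀ x ∈ M, f x a = 0 ∧ f x b = 0 ∧ f x c = 0 ∧ f x d = 0 := by
    intro x hx
    rw [hMdef] at hx
    obtain ⟨⟨⟨⟨_, h1⟩, h2⟩, h3⟩, h4⟩ := hx
    exact ⟨h1, h2, h3, h4⟩
  have he : ∃ e ∈ M, e ∉ S ∧ f e e = 0 := by
    obtain ⟨x, hxM, hxS⟩ := exists_mem_not_mem (A := S) (C := M) (by omega)
    by_cases hxx : f x x = 0
    · exact ⟨x, hxM, hxS, hxx⟩
    have h5 := finrank_le_cut hf M x
    have hS' : finrank F ↥(S ⊔ Submodule.span F {x}) ≤ 5 := by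
      rw [finrank_sup_span_singleton S hxS]; omega
    obtain ⟨x₂, hx₂M, hx₂S⟩ :=
      exists_mem_not_mem (A := S ⊔ Submodule.span F {x}) (C := cut hf M x) (by omega)
    have hx₂x : f x₂ x = 0 := hx₂M.2
    have hxx₂ : f x x₂ = 0 := fswap0 hf hx₂x
    by_cases hx₂ : f x₂ x₂ = 0
    · exact ⟨x₂, hx₂M.1, fun h => hx₂S (Submodule.mem_sup_left h), hx₂⟩
    obtain ⟨β, hβ⟩ := H.nm (-f x x / f x₂ x₂) (by rw [map_div₀, map_neg, fself hf, fself hf])
    have hβ0 : β ≠ 0 := by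
      rintro rfl
      rw [zero_mul] at hβ
      have : -f x x / f x₂ x₂ ≠ 0 := div_ne_zero (neg_ne_zero.mpr hxx) hx₂
      exact this hβ.symm
    refine ⟨x + β • x₂, M.add_mem hxM (M.smul_mem _ hx₂M.1), ?_, ?_⟩
    · intro h
      apply hx₂S
      have : x₂ = β⁻¹ • ((x + β • x₂) - x) := by
        rw [add_sub_cancel_left, smul_smul, inv_mul_cancel₀ hβ0, one_smul]
      rw [this]
      exact Submodule.smul_mem _ _ (Submodule.sub_mem _ (Submodule.mem_sup_left h)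
        (Submodule.mem_sup_right (Submodule.mem_span_singleton_self x)))
    · rw [hf.add_left, fadd_r hf, fadd_r hf, hf.smul_left, hf.smul_left, fsmul_r hf, fsmul_r hf,
        hxx₂, hx₂x]
      have : β * σ β * f x₂ x₂ = - f x x := by rw [hβ]; field_simp
      linear_combination this
  obtain ⟨e, heM, heS, hee⟩ := he
  obtain ⟨y, hyS, hey⟩ := exists_perp hf S heS
  have hye : f y e = 1 := fswap1 hf hey
  obtain ⟨k, hk⟩ := H.tr (-f y y) (by rw [map_neg, fself hf])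
  obtain ⟨ha, hb, hc, hd⟩ := hMperp e heM
  refine ⟨e, y + k • e, hee, ?_, ?_, ⟨ha, hb, hc, hd⟩, ?_, ?_, ?_, ?_⟩
  · rw [hf.add_left, fadd_r hf, fadd_r hf, hf.smul_left, hf.smul_left, fsmul_r hf, fsmul_r hf,
      hee, hye, hey]
    linear_combination hk
  · rw [fadd_r hf, fsmul_r hf, hee, hey, mul_zero, add_zero]
  · rw [hf.add_left, hf.smul_left, ha, fswap0 hf (hyS a haS), mul_zero, add_zero]
  · rw [hf.add_left, hf.smul_left, hb, fswap0 hf (hyS b hbS), mul_zero, add_zero]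
  · rw [hf.add_left, hf.smul_left, hc, fswap0 hf (hyS c hcS), mul_zero, add_zero]
  · rw [hf.add_left, hf.smul_left, hd, fswap0 hf (hyS d hdS), mul_zero, add_zero]

/-- A vector of norm one orthogonal to three given vectors. -/
theorem exists_aniso [Finite F] (H : UD σ f) (hn : 11 ≤ Fintype.card ι) (a b c : ι → F) :
    ∃ z : ι → F, f z z = 1 ∧ f z a = 0 ∧ f z b = 0 ∧ f z c = 0 := by
  have hf := H.hf
  obtain ⟨e, g, hee, hgg, heg, ⟨ha, hb, hc, -⟩, ⟨ha', hb', hc', -⟩⟩ := exists_hyp H hn a b c 0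
  have hge : f g e = 1 := fswap1 hf heg
  obtain ⟨k, hk⟩ := H.tr 1 (map_one σ)
  refine ⟨e + k • g, ?_, ?_, ?_, ?_⟩
  · rw [hf.add_left, fadd_r hf, fadd_r hf, hf.smul_left, hf.smul_left, fsmul_r hf, fsmul_r hf,
      hee, hgg, heg, hge]
    linear_combination hk
  · rw [hf.add_left, hf.smul_left, ha, ha', mul_zero, add_zero]
  · rw [hf.add_left, hf.smul_left, hb, hb', mul_zero, add_zero]
  · rw [hf.add_left, hf.smul_left, hc, hc', mul_zero, add_zero]

/-- An isotropic vector orthogonal to `p` and not orthogonal to two given vectors outside `⟨p⟩`. -/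
theorem exists_mid [Finite F] (H : UD σ f) (hn : 11 ≤ Fintype.card ι) (p : ι → F) {y₁ y₂ : ι → F}
    (h₁ : y₁ ∉ Submodule.span F {p}) (h₂ : y₂ ∉ Submodule.span F {p}) :
    ∃ w : ι → F, f w w = 0 ∧ f p w = 0 ∧ f y₁ w ≠ 0 ∧ f y₂ w ≠ 0 := by
  have hf := H.hf
  obtain ⟨x₁, hx₁p, hx₁⟩ := exists_perp hf _ h₁
  obtain ⟨x₂, hx₂p, hx₂⟩ := exists_perp hf _ h₂
  have hpx₁ : f p x₁ = 0 := hx₁p p (Submodule.mem_span_singleton_self p)
  have hpx₂ : f p x₂ = 0 := hx₂p p (Submodule.mem_span_singleton_self p)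
  have hx : ∃ x, f p x = 0 ∧ f y₁ x ≠ 0 ∧ f y₂ x ≠ 0 := by
    by_cases c1 : f y₂ x₁ ≠ 0
    · exact ⟨x₁, hpx₁, by rw [hx₁]; exact one_ne_zero, c1⟩
    push Not at c1
    by_cases c2 : f y₁ x₂ ≠ 0
    · exact ⟨x₂, hpx₂, c2, by rw [hx₂]; exact one_ne_zero⟩
    push Not at c2
    refine ⟨x₁ + x₂, ?_, ?_, ?_⟩
    · rw [fadd_r hf, hpx₁, hpx₂, add_zero]
    · rw [fadd_r hf, hx₁, c2, add_zero]; exact one_ne_zero
    · rw [fadd_r hf, hx₂, c1, zero_add]; exact one_ne_zero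
  obtain ⟨x, hpx, hy₁x, hy₂x⟩ := hx
  obtain ⟨e, g, hee, hgg, heg, ⟨hep, hey₁, hey₂, hex⟩, ⟨hgp, hgy₁, hgy₂, hgx⟩⟩ :=
    exists_hyp H hn p y₁ y₂ x
  have hge : f g e = 1 := fswap1 hf heg
  obtain ⟨k, hk⟩ := H.tr (-f x x) (by rw [map_neg, fself hf])
  refine ⟨x + e + k • g, ?_, ?_, ?_, ?_⟩
  · simp only [hf.add_left, fadd_r hf, hf.smul_left, fsmul_r hf, hee, hgg, heg, hge, hex, hgx,
      fswap0 hf hex, fswap0 hf hgx]
    linear_combination hk
  · rw [fadd_r hf, fadd_r hf, fsmul_r hf, hpx, fswap0 hf hep, fswap0 hf hgp, mul_zero, add_zero,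
      add_zero]
  · rw [fadd_r hf, fadd_r hf, fsmul_r hf, fswap0 hf hey₁, fswap0 hf hgy₁, mul_zero, add_zero,
      add_zero]
    exact hy₁x
  · rw [fadd_r hf, fadd_r hf, fsmul_r hf, fswap0 hf hey₂, fswap0 hf hgy₂, mul_zero, add_zero,
      add_zero]
    exact hy₂x

/-- The same without `p`. -/
theorem exists_mid0 [Finite F] (H : UD σ f) (hn : 11 ≤ Fintype.card ι) {y₁ y₂ : ι → F}
    (h₁ : y₁ ≠ 0) (h₂ : y₂ ≠ 0) :
    ∃ w : ι → F, f w w = 0 ∧ f y₁ w ≠ 0 ∧ f y₂ w ≠ 0 := by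
  have e : Submodule.span F {(0 : ι → F)} = ⊥ := Submodule.span_zero_singleton F
  obtain ⟨w, h1, -, h3, h4⟩ := exists_mid H hn (0 : ι → F) (y₁ := y₁) (y₂ := y₂)
    (by rw [e, Submodule.mem_bot]; exact h₁) (by rw [e, Submodule.mem_bot]; exact h₂)
  exact ⟨w, h1, h3, h4⟩

end Cfsg.Agent.Helper7.SLUnit
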