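import Mathlib
import Cfsg.Agent.Helper7.SLUnitB

set_option autoImplicit false

/-! # Non-dependent transvections, unitary transvections and Siegel elements of a unitary form -/

namespace Cfsg.Agent.Helper7.SLUnit

open Matrix Module Cfsg Cfsg.Geo Cfsg.Agent.Helper7.TGL Cfsg.Agent.Helper7.PMax
  Cfsg.Agent.Helper7.SLMax

variable {ι : Type} [Fintype ι] [DecidableEq ι] {F : Type*} [Field F]
variable {σ : F ≃+* F} {f : (ι → F) → (ι → F) → F}

/-- The transvection `x ↦ x + (φ ⬝ᵥ x) • v` when `φ ⬝ᵥ v = 0`, and `1` otherwise. -/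
noncomputable def tv (v φ : ι → F) : GL ι F :=
  open Classical in if h : φ ⬝ᵥ v = 0 then tau v φ h else 1

theorem tv_eq {v φ : ι → F} (h : φ ⬝ᵥ v = 0) : tv v φ = tau v φ h := by
  unfold tv
  rw [dif_pos h]

theorem tv_mulVec {v φ : ι → F} (h : φ ⬝ᵥ v = 0) (x : ι → F) :
    (tv v φ : Matrix ι ι F) *ᵥ x = x + (φ ⬝ᵥ x) • v := by
  rw [tv_eq h, tau_mulVec]

theorem tv_mem_SL (v φ : ι → F) : tv v φ ∈ specialLinear ι F := by
  by_cases h : φ ⬝ᵥ v = 0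
  · rw [tv_eq h]; exact tau_mem_specialLinear _ _ _
  · unfold tv
    rw [dif_neg h]
    exact Subgroup.one_mem _

theorem tv_zero_right (v : ι → F) : tv v (0 : ι → F) = 1 := by
  apply gl_ext
  intro x
  rw [tv_mulVec (zero_dotProduct v), zero_dotProduct, zero_smul, add_zero, Units.val_one, one_mulVec]

theorem tv_mul {v φ ψ : ι → F} (h : φ ⬝ᵥ v = 0) (h' : ψ ⬝ᵥ v = 0) :
    tv v φ * tv v ψ = tv v (φ + ψ) := by
  have h'' : (φ + ψ) ⬝ᵥ v = 0 := by rw [add_dotProduct, h, h', add_zero]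
  rw [tv_eq h, tv_eq h', tv_eq h'', tau_mul_tau]

theorem tv_inv {v φ : ι → F} (h : φ ⬝ᵥ v = 0) : (tv v φ)⁻¹ = tv v (-φ) := by
  have h'' : (-φ) ⬝ᵥ v = 0 := by rw [neg_dotProduct, h, neg_zero]
  rw [tv_eq h, tv_eq h'', tau_inv]

theorem tv_comm {a φ b ψ : ι → F} (h : φ ⬝ᵥ a = 0) (h' : ψ ⬝ᵥ b = 0) (hψa : ψ ⬝ᵥ a = 0) :
    tv a φ * tv b ψ * (tv a φ)⁻¹ * (tv b ψ)⁻¹ = tv a ((φ ⬝ᵥ b) • ψ) := by
  have h'' : ((φ ⬝ᵥ b) • ψ) ⬝ᵥ a = 0 := by rw [smul_dotProduct, hψa, smul_zero]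
  rw [tv_eq h, tv_eq h', tv_eq h'', tau_comm a φ b ψ h h' hψa]

theorem tv_conj (M : GL ι F) {a φ : ι → F} (h : φ ⬝ᵥ a = 0) :
    M * tv a φ * M⁻¹ = tv ((M : Matrix ι ι F) *ᵥ a) (φ ᵥ* ((M⁻¹ : GL ι F) : Matrix ι ι F)) := by
  have h'' : (φ ᵥ* ((M⁻¹ : GL ι F) : Matrix ι ι F)) ⬝ᵥ ((M : Matrix ι ι F) *ᵥ a) = 0 := by
    rw [← dotProduct_mulVec, gl_inv_mulVec, h]
  rw [tv_eq h, tv_eq h'', tau_conj']

theorem tv_smul {v φ : ι → F} (h : φ ⬝ᵥ v = 0) (c : F) : tv (c • v) φ = tv v (c • φ) := by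
  have h1 : φ ⬝ᵥ (c • v) = 0 := by rw [dotProduct_smul, h, smul_zero]
  have h2 : (c • φ) ⬝ᵥ v = 0 := by rw [smul_dotProduct, h, smul_zero]
  apply gl_ext
  intro x
  rw [tv_mulVec h1, tv_mulVec h2, smul_dotProduct, smul_smul, smul_eq_mul, mul_comm]

/-- The unitary transvection `x ↦ x + s f(x,v) v`. -/
theorem ut_dot (hf : IsUnitaryForm σ f) {v : ι → F} (hv : f v v = 0) (s : F) :
    (s • cov f v) ⬝ᵥ v = 0 := by
  rw [smul_dotProduct, cdot hf, hv, smul_zero]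

theorem ut_mulVec (hf : IsUnitaryForm σ f) {v : ι → F} (hv : f v v = 0) (s : F) (x : ι → F) :
    (tv v (s • cov f v) : Matrix ι ι F) *ᵥ x = x + (s * f x v) • v := by
  rw [tv_mulVec (ut_dot hf hv s), smul_dotProduct, cdot hf, smul_eq_mul]

theorem ut_mem (hf : IsUnitaryForm σ f) {v : ι → F} (hv : f v v = 0) {s : F} (hs : σ s = -s) :
    tv v (s • cov f v) ∈ similarityGroup f ⊓ specialLinear ι F := by
  refine ⟨⟨1, fun u w => ?_⟩, tv_mem_SL _ _⟩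
  rw [ut_mulVec hf hv, ut_mulVec hf hv, Units.val_one, one_mul]
  simp only [hf.add_left, fadd_r hf, hf.smul_left, fsmul_r hf, hv, map_mul, hs,
    fun a b => (hf.herm a b).symm]
  ring

/-- The Siegel element `x ↦ x + f(x,a)(b + c a) - f(x,b) a`. -/
noncomputable def sgl (f : (ι → F) → (ι → F) → F) (a b : ι → F) (c : F) : GL ι F :=
  tv (b + c • a) (cov f a) * tv (-a) (cov f b)

theorem sgl_mulVec (hf : IsUnitaryForm σ f) {a b : ι → F} (haa : f a a = 0) (hba : f b a = 0)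
    (c : F) (x : ι → F) :
    (sgl f a b c : Matrix ι ι F) *ᵥ x = x + f x a • (b + c • a) - f x b • a := by
  have h1 : cov f a ⬝ᵥ (b + c • a) = 0 := by
    rw [cdot hf, hf.add_left, hf.smul_left, hba, haa, mul_zero, add_zero]
  have h2 : cov f b ⬝ᵥ (-a) = 0 := by
    rw [cdot hf, fneg_l hf, fswap0 hf hba, neg_zero]
  unfold sgl
  rw [gl_mul_mulVec, tv_mulVec h2, tv_mulVec h1, cdot hf, cdot hf, hf.add_left, hf.smul_left,
    fneg_l hf, haa]
  module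

theorem sgl_mem (hf : IsUnitaryForm σ f) {a b : ι → F} (haa : f a a = 0) (hba : f b a = 0)
    {c : F} (hc : c + σ c + f b b = 0) :
    sgl f a b c ∈ similarityGroup f ⊓ specialLinear ι F := by
  refine ⟨⟨1, fun u w => ?_⟩, Subgroup.mul_mem _ (tv_mem_SL _ _) (tv_mem_SL _ _)⟩
  rw [sgl_mulVec hf haa hba, sgl_mulVec hf haa hba, Units.val_one, one_mul]
  have hab : f a b = 0 := fswap0 hf hba
  simp only [hf.add_left, fadd_r hf, fsub_l hf, fsub_r hf, hf.smul_left, fsmul_r hf, haa, hba, hab,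
    map_mul, fun a b => (hf.herm a b).symm]
  linear_combination (f u a * f a w) * hc

theorem sgl_isom (hf : IsUnitaryForm σ f) {a b : ι → F} (haa : f a a = 0) (hba : f b a = 0)
    {c : F} (hc : c + σ c + f b b = 0) (u w : ι → F) :
    f ((sgl f a b c : Matrix ι ι F) *ᵥ u) ((sgl f a b c : Matrix ι ι F) *ᵥ w) = f u w := by
  rw [sgl_mulVec hf haa hba, sgl_mulVec hf haa hba]
  have hab : f a b = 0 := fswap0 hf hba
  simp only [hf.add_left, fadd_r hf, fsub_l hf, fsub_r hf, hf.smul_left, fsmul_r hf, haa, hba, hab,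
    map_mul, fun a b => (hf.herm a b).symm]
  linear_combination (f u a * f a w) * hc

end Cfsg.Agent.Helper7.SLUnit
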