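import Mathlib
import Cfsg.Agent.Helper7.SLUnitC

set_option autoImplicit false

/-! # Transvections with a fixed centre in an overgroup of the unitary similarities -/

namespace Cfsg.Agent.Helper7.SLUnit

open Matrix Module Cfsg Cfsg.Geo Cfsg.Agent.Helper7.TGL Cfsg.Agent.Helper7.PMax
  Cfsg.Agent.Helper7.SLMax

variable {ι : Type} [Fintype ι] [DecidableEq ι] {F : Type*} [Field F]
variable {σ : F ≃+* F} {f : (ι → F) → (ι → F) → F}

/-- The transvection with centre `p` and covector `x ↦ f x y` lies in `X`. -/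
def InU (f : (ι → F) → (ι → F) → F) (X : Subgroup (GL ι F)) (p y : ι → F) : Prop :=
  f p y = 0 ∧ tv p (cov f y) ∈ X

variable {X : Subgroup (GL ι F)} {p : ι → F}

theorem InU.dot (hf : IsUnitaryForm σ f) {y : ι → F} (h : InU f X p y) : cov f y ⬝ᵥ p = 0 := by
  rw [cdot hf]; exact h.1

theorem InU.zero (hf : IsUnitaryForm σ f) : InU f X p 0 := by
  refine ⟨fzero_r hf p, ?_⟩
  rw [czero hf, tv_zero_right]
  exact X.one_mem

theorem InU.add (hf : IsUnitaryForm σ f) {y y' : ι → F} (h : InU f X p y) (h' : InU f X p y') :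
    InU f X p (y + y') := by
  refine ⟨by rw [fadd_r hf, h.1, h'.1, add_zero], ?_⟩
  rw [cadd hf, ← tv_mul (h.dot hf) (h'.dot hf)]
  exact X.mul_mem h.2 h'.2

theorem InU.neg (hf : IsUnitaryForm σ f) {y : ι → F} (h : InU f X p y) : InU f X p (-y) := by
  refine ⟨by rw [fneg_r hf, h.1, neg_zero], ?_⟩
  rw [cneg hf, ← tv_inv (h.dot hf)]
  exact X.inv_mem h.2

theorem InU.sub (hf : IsUnitaryForm σ f) {y y' : ι → F} (h : InU f X p y) (h' : InU f X p y') :
    InU f X p (y - y') := by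
  rw [sub_eq_add_neg]
  exact h.add hf (h'.neg hf)

/-- Commutators with unitary transvections. -/
theorem InU.star (hf : IsUnitaryForm σ f) (hX : similarityGroup f ⊓ specialLinear ι F ≤ X)
    {y : ι → F} (h : InU f X p y) {w : ι → F} (hww : f w w = 0) (hpw : f p w = 0) {s : F}
    (hs : σ s = -s) : InU f X p ((s * f y w) • w) := by
  refine ⟨by rw [fsmul_r hf, hpw, mul_zero], ?_⟩
  have hs' : σ (-s) = -(-s) := by rw [map_neg, hs]
  have hcomm := tv_comm (a := p) (φ := cov f y) (b := w) (ψ := (-s) • cov f w) (h.dot hf)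
    (ut_dot hf hww (-s)) (by rw [smul_dotProduct, cdot hf, hpw, smul_zero])
  have hB : tv w ((-s) • cov f w) ∈ X := hX (ut_mem hf hww hs')
  have hmem : tv p ((cov f y ⬝ᵥ w) • (-s) • cov f w) ∈ X := by
    rw [← hcomm]
    exact X.mul_mem (X.mul_mem (X.mul_mem h.2 hB) (X.inv_mem h.2)) (X.inv_mem hB)
  have e : (cov f y ⬝ᵥ w) • (-s) • cov f w = cov f ((s * f y w) • w) := by
    rw [csmul hf, cdot hf, smul_smul, map_mul, hs, ← hf.herm w y]
    congr 1
    ring
  rw [e] at hmem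
  exact hmem

/-- Conjugation by isometries fixing the centre. -/
theorem InU.conj (hf : IsUnitaryForm σ f) {y : ι → F} (h : InU f X p y) {S : GL ι F} (hS : S ∈ X)
    (hiso : ∀ u w, f ((S : Matrix ι ι F) *ᵥ u) ((S : Matrix ι ι F) *ᵥ w) = f u w)
    (hSp : (S : Matrix ι ι F) *ᵥ p = p) : InU f X p ((S : Matrix ι ι F) *ᵥ y) := by
  refine ⟨?_, ?_⟩
  · have := hiso p y
    rw [hSp] at this
    rw [this]; exact h.1
  · have hc := tv_conj S (h.dot hf)
    have e : cov f y ᵥ* ((S⁻¹ : GL ι F) : Matrix ι ι F) = cov f ((S : Matrix ι ι F) *ᵥ y) := by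
      apply covec_ext
      intro x
      rw [← dotProduct_mulVec, cdot hf, cdot hf, ← hiso, gl_mulVec_inv]
    rw [hSp, e] at hc
    rw [← hc]
    exact X.mul_mem (X.mul_mem hS h.2) (X.inv_mem hS)

/-- Conjugation by Siegel elements. -/
theorem InU.siegel (H : UD σ f) (hX : similarityGroup f ⊓ specialLinear ι F ≤ X)
    (hpp : f p p = 0) {y : ι → F} (h : InU f X p y) {b : ι → F} (hbp : f b p = 0) :
    InU f X p (f y b • p) := by
  have hf := H.hf
  obtain ⟨c, hc⟩ := H.tr (-f b b) (by rw [map_neg, fself hf])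
  have hc' : c + σ c + f b b = 0 := by rw [hc]; ring
  have hS : sgl f p b c ∈ X := hX (sgl_mem hf hpp hbp hc')
  have hSp : (sgl f p b c : Matrix ι ι F) *ᵥ p = p := by
    rw [sgl_mulVec hf hpp hbp, hpp, fswap0 hf hbp, zero_smul, zero_smul, add_zero, sub_zero]
  have h1 := h.conj hf hS (sgl_isom hf hpp hbp hc') hSp
  rw [sgl_mulVec hf hpp hbp, fswap0 hf h.1, zero_smul, add_zero] at h1
  have h2 := h.sub hf h1
  rw [sub_sub_cancel] at h2
  exact h2

/-- Spreading from one isotropic vector to a non-orthogonal one. -/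
theorem InU.prop [Finite F] (H : UD σ f) (hn : 11 ≤ Fintype.card ι)
    (hX : similarityGroup f ⊓ specialLinear ι F ≤ X) {w₀ w₁ : ι → F} {c₀ : F}
    (h : InU f X p (c₀ • w₀)) (hc₀ : c₀ ≠ 0) (h00 : f w₀ w₀ = 0) (hpw₀ : f p w₀ = 0)
    (h11 : f w₁ w₁ = 0) (hpw₁ : f p w₁ = 0) (hα : f w₀ w₁ ≠ 0) (x : F) :
    InU f X p (x • w₁) := by
  have hf := H.hf
  obtain ⟨ε, hε0, hε⟩ := H.eps
  obtain ⟨r₀, hr₀⟩ := H.tr (-1) (by rw [map_neg, map_one])
  obtain ⟨z, hzz, hzp, hz0, hz1⟩ := exists_aniso H hn p w₀ w₁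
  obtain ⟨α, hαdef⟩ : ∃ α : F, α = f w₀ w₁ := ⟨_, rfl⟩
  rw [← hαdef] at hα
  have h10 : f w₁ w₀ = σ α := by rw [hαdef, ← hf.herm]
  have e1 : r₀ / α * α = r₀ := div_mul_cancel₀ _ hα
  have e2 : σ (r₀ / α) * σ α = σ r₀ := by rw [← map_mul, e1]
  obtain ⟨w₂, hw₂def⟩ : ∃ w₂ : ι → F, w₂ = (r₀ / α) • w₀ + w₁ + z := ⟨_, rfl⟩
  have h22 : f w₂ w₂ = 0 := by
    rw [hw₂def]
    simp only [hf.add_left, fadd_r hf, hf.smul_left, fsmul_r hf, h00, h11, hzz, hz0, hz1,
      fswap0 hf hz0, fswap0 hf hz1, h10, ← hαdef]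
    linear_combination hr₀ + e1 + e2
  have hpw₂ : f p w₂ = 0 := by
    rw [hw₂def, fadd_r hf, fadd_r hf, fsmul_r hf, hpw₀, hpw₁, fswap0 hf hzp, mul_zero, add_zero,
      add_zero]
  have h02 : f w₀ w₂ = α := by
    rw [hw₂def, fadd_r hf, fadd_r hf, fsmul_r hf, h00, fswap0 hf hz0, mul_zero, zero_add, add_zero,
      hαdef]
  have h21 : f w₂ w₁ = r₀ := by
    rw [hw₂def, hf.add_left, hf.add_left, hf.smul_left, h11, hz1, add_zero, add_zero, ← hαdef, e1]
  -- the direct path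
  have path1 : ∀ s : F, σ s = -s → InU f X p ((s * (c₀ * α)) • w₁) := by
    intro s hs
    have := h.star hf hX h11 hpw₁ hs
    rw [hf.smul_left, ← hαdef] at this
    exact this
  -- the path through `w₂`
  have hmid : InU f X p ((ε * (c₀ * α)) • w₂) := by
    have := h.star hf hX h22 hpw₂ hε
    rw [hf.smul_left, h02] at this
    exact this
  have path2 : ∀ s : F, σ s = -s → InU f X p ((s * (ε * (c₀ * α) * r₀)) • w₁) := by
    intro s hs
    have := hmid.star hf hX h11 hpw₁ hs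
    rw [hf.smul_left, h21] at this
    exact this
  -- decomposition of the scalar
  obtain ⟨x', hx'def⟩ : ∃ x' : F, x' = x / (c₀ * α) := ⟨_, rfl⟩
  obtain ⟨t₀, ht₀def⟩ : ∃ t₀ : F, t₀ = -(x' + σ x') := ⟨_, rfl⟩
  have ht₀ : σ t₀ = t₀ := by rw [ht₀def, map_neg, map_add, hf.involutive]; ring
  have hk : σ (x' - t₀ * r₀) = -(x' - t₀ * r₀) := by
    have : σ r₀ = -1 - r₀ := by linear_combination hr₀
    rw [map_sub, map_mul, ht₀, this, ht₀def]
    ring
  have hs2 : σ (t₀ / ε) = -(t₀ / ε) := by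
    rw [map_div₀, ht₀, hε]
    field_simp
  have m1 := path1 _ hk
  have m2 := path2 _ hs2
  have m3 := m1.add hf m2
  rw [← add_smul] at m3
  have e : (x' - t₀ * r₀) * (c₀ * α) + t₀ / ε * (ε * (c₀ * α) * r₀) = x := by
    rw [hx'def]
    field_simp
    ring
  rw [e] at m3
  exact m3

end Cfsg.Agent.Helper7.SLUnit
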