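import Mathlib
import Cfsg.Agent.Helper7.SLUnitD

set_option autoImplicit false

/-! # Full transvection groups in an overgroup of the unitary similarities -/

namespace Cfsg.Agent.Helper7.SLUnit

open Matrix Module Cfsg Cfsg.Geo Cfsg.Agent.Helper7.TGL Cfsg.Agent.Helper7.PMax
  Cfsg.Agent.Helper7.SLMax

variable {ι : Type} [Fintype ι] [DecidableEq ι] {F : Type*} [Field F]
variable {σ : F ≃+* F} {f : (ι → F) → (ι → F) → F}
variable {X : Subgroup (GL ι F)} {p : ι → F}

/-- One transvection with centre `p` whose covector is not of unitary type gives all of them. -/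
theorem full_of_InU [Finite F] (H : UD σ f) (hn : 11 ≤ Fintype.card ι)
    (hX : similarityGroup f ⊓ specialLinear ι F ≤ X) {y₀ : ι → F} (h₀ : InU f X p y₀)
    (hy₀ : y₀ ∉ Submodule.span F {p}) (hp : f p p = 0 → ∀ c : F, InU f X p (c • p)) :
    ∀ y, f p y = 0 → InU f X p y := by
  have hf := H.hf
  obtain ⟨ε, hε0, hε⟩ := H.eps
  obtain ⟨w₀, h00, hpw₀, hy₀w₀⟩ : ∃ w₀, f w₀ w₀ = 0 ∧ f p w₀ = 0 ∧ f y₀ w₀ ≠ 0 := by
    obtain ⟨w, h1, h2, h3, -⟩ := exists_mid H hn p hy₀ hy₀
    exact ⟨w, h1, h2, h3⟩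
  have h1 : InU f X p ((ε * f y₀ w₀) • w₀) := h₀.star hf hX h00 hpw₀ hε
  have hc₀ : ε * f y₀ w₀ ≠ 0 := mul_ne_zero hε0 hy₀w₀
  have hw₀p : w₀ ∉ Submodule.span F {p} := by
    intro hmem
    obtain ⟨c, rfl⟩ := Submodule.mem_span_singleton.mp hmem
    apply hy₀w₀
    rw [fsmul_r hf, fswap0 hf h₀.1, mul_zero]
  -- multiples of `p`
  have hspan : ∀ y ∈ Submodule.span F {p}, f p y = 0 → InU f X p y := by
    intro y hy hpy
    obtain ⟨c, rfl⟩ := Submodule.mem_span_singleton.mp hy
    by_cases hc : c = 0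
    · rw [hc, zero_smul]; exact InU.zero hf
    · rw [fsmul_r hf] at hpy
      have hσc : σ c ≠ 0 := fun h => hc ((map_eq_zero σ).mp h)
      exact hp ((mul_eq_zero.mp hpy).resolve_left hσc) c
  -- isotropic vectors
  have hiso : ∀ w, f w w = 0 → f p w = 0 → InU f X p w := by
    intro w hww hpw
    by_cases hw : w ∈ Submodule.span F {p}
    · exact hspan w hw hpw
    obtain ⟨w₁, h11, hpw₁, h01, hw1⟩ := exists_mid H hn p hw₀p hw
    have h2 : ∀ x : F, InU f X p (x • w₁) := InU.prop H hn hX h1 hc₀ h00 hpw₀ h11 hpw₁ h01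
    have h3 := InU.prop H hn hX (h2 1) one_ne_zero h11 hpw₁ hww hpw (fswap_ne hf hw1) 1
    rw [one_smul] at h3
    exact h3
  intro y hpy
  by_cases hy : y ∈ Submodule.span F {p}
  · exact hspan y hy hpy
  obtain ⟨w, hww, hpw, hyw, -⟩ := exists_mid H hn p hy hy
  have hwy : f w y ≠ 0 := fswap_ne hf hyw
  obtain ⟨k, hk⟩ := H.tr (-f y y) (by rw [map_neg, fself hf])
  obtain ⟨a, hadef⟩ : ∃ a : F, a = k / f w y := ⟨_, rfl⟩
  have ha : a * f w y = k := by rw [hadef, div_mul_cancel₀ _ hwy]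
  have ha' : σ a * f y w = σ k := by rw [hf.herm y w, ← map_mul, ha]
  have m1 : InU f X p (y + a • w) := by
    apply hiso
    · simp only [hf.add_left, fadd_r hf, hf.smul_left, fsmul_r hf, hww]
      linear_combination hk + ha + ha'
    · rw [fadd_r hf, fsmul_r hf, hpy, hpw, mul_zero, add_zero]
  have m2 : InU f X p (a • w) := by
    apply hiso
    · rw [hf.smul_left, fsmul_r hf, hww, mul_zero, mul_zero]
    · rw [fsmul_r hf, hpw, mul_zero]
  have m3 := m1.sub hf m2
  rw [add_sub_cancel_right] at m3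
  exact m3

/-- All transvections with centre `v` lie in `X`. -/
def InC (X : Subgroup (GL ι F)) (v : ι → F) : Prop := ∀ φ : ι → F, φ ⬝ᵥ v = 0 → tv v φ ∈ X

/-- The general criterion. -/
theorem InC_of_InU [Finite F] (H : UD σ f) (hn : 11 ≤ Fintype.card ι)
    (hX : similarityGroup f ⊓ specialLinear ι F ≤ X) {y₀ : ι → F} (h₀ : InU f X p y₀)
    (hy₀ : y₀ ∉ Submodule.span F {p}) : InC X p := by
  have hf := H.hf
  have hall : ∀ y, f p y = 0 → InU f X p y := by
    apply full_of_InU H hn hX h₀ hy₀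
    intro hpp c
    obtain ⟨b, hb, hb1⟩ := exists_perp hf _ hy₀
    have hpb : f p b = 0 := hb p (Submodule.mem_span_singleton_self p)
    have hbp : f (σ c • b) p = 0 := by rw [hf.smul_left, fswap0 hf hpb, mul_zero]
    have := h₀.siegel H hX hpp hbp
    rw [fsmul_r hf, hb1, mul_one, hf.involutive] at this
    exact this
  intro φ hφ
  obtain ⟨y, rfl⟩ := exists_cov hf φ
  rw [cdot hf] at hφ
  exact (hall y hφ).2

theorem InC.map {v : ι → F} (hv : InC X v) {h : GL ι F} (hh : h ∈ X) :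
    InC X ((h : Matrix ι ι F) *ᵥ v) := by
  intro φ hφ
  have h0 : (φ ᵥ* (h : Matrix ι ι F)) ⬝ᵥ v = 0 := by rw [← dotProduct_mulVec]; exact hφ
  have m := hv _ h0
  have hc := tv_conj h h0
  have e : (φ ᵥ* (h : Matrix ι ι F)) ᵥ* ((h⁻¹ : GL ι F) : Matrix ι ι F) = φ := by
    rw [vecMul_vecMul, ← Units.val_mul, mul_inv_cancel, Units.val_one, vecMul_one]
  rw [e] at hc
  rw [← hc]
  exact X.mul_mem (X.mul_mem hh m) (X.inv_mem hh)

theorem InC.smul {v : ι → F} (hv : InC X v) {c : F} (hc : c ≠ 0) : InC X (c • v) := by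
  intro φ hφ
  have h0 : φ ⬝ᵥ v = 0 := by
    rw [dotProduct_smul, smul_eq_mul] at hφ
    exact (mul_eq_zero.mp hφ).resolve_left hc
  rw [tv_smul h0]
  apply hv
  rw [smul_dotProduct, h0, smul_zero]

theorem InC.add_smul {v v' : ι → F} (hv : InC X v) (hv' : InC X v')
    (hind : v' ∉ Submodule.span F {v}) (t : F) : InC X (v' + t • v) := by
  obtain ⟨φ, h1, h2⟩ := exists_covector _ hind
  have h0 : (t • φ) ⬝ᵥ v = 0 := by
    rw [smul_dotProduct, h1 v (Submodule.mem_span_singleton_self v), smul_zero]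
  have := hv'.map (hv _ h0)
  rw [tv_mulVec h0, smul_dotProduct, h2, smul_eq_mul, mul_one] at this
  exact this

theorem InC.iso (H : UD σ f) (hX : similarityGroup f ⊓ specialLinear ι F ≤ X) {v w : ι → F}
    (hv : InC X v) (hww : f w w = 0) (hvw : f v w ≠ 0) : InC X w := by
  have hf := H.hf
  obtain ⟨ε, hε0, hε⟩ := H.eps
  by_cases hw : w ∈ Submodule.span F {v}
  · obtain ⟨c, rfl⟩ := Submodule.mem_span_singleton.mp hw
    apply hv.smul
    rintro rfl
    rw [zero_smul] at hvw
    exact hvw (fzero_r hf v)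
  have hc : ε * f v w ≠ 0 := mul_ne_zero hε0 hvw
  have m1 := hv.map (hX (ut_mem hf hww hε))
  rw [ut_mulVec hf hww] at m1
  have hind : v + (ε * f v w) • w ∉ Submodule.span F {v} := by
    intro hmem
    apply hw
    have : w = (ε * f v w)⁻¹ • ((v + (ε * f v w) • w) - v) := by
      rw [add_sub_cancel_left, smul_smul, inv_mul_cancel₀ hc, one_smul]
    rw [this]
    exact Submodule.smul_mem _ _ (Submodule.sub_mem _ hmem (Submodule.mem_span_singleton_self v))
  have m2 := hv.add_smul m1 hind (-1)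
  have e : v + (ε * f v w) • w + (-1 : F) • v = (ε * f v w) • w := by
    rw [neg_one_smul]; abel
  rw [e] at m2
  have m3 := m2.smul (inv_ne_zero hc)
  rw [smul_smul, inv_mul_cancel₀ hc, one_smul] at m3
  exact m3

/-- One full transvection group gives all transvections. -/
theorem specialLinear_le_of_InC [Finite F] [Nontrivial ι] (H : UD σ f)
    (hn : 11 ≤ Fintype.card ι) (hX : similarityGroup f ⊓ specialLinear ι F ≤ X) {p : ι → F}
    (hp0 : p ≠ 0) (hp : InC X p) : specialLinear ι F ≤ X := by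
  have hf := H.hf
  -- isotropic vectors
  obtain ⟨w₀, h00, hpw₀, -⟩ := exists_mid0 H hn hp0 hp0
  have hw₀ : InC X w₀ := hp.iso H hX h00 hpw₀
  have hw₀0 : w₀ ≠ 0 := by
    rintro rfl
    exact hpw₀ (fzero_r hf p)
  have hiso : ∀ w, w ≠ 0 → f w w = 0 → InC X w := by
    intro w hw0 hww
    obtain ⟨u, huu, h0u, hwu⟩ := exists_mid0 H hn hw₀0 hw0
    exact (hw₀.iso H hX huu h0u).iso H hX hww (fswap_ne hf hwu)
  -- all vectors
  have hall : ∀ x, x ≠ 0 → InC X x := by
    intro x hx0
    obtain ⟨w, hww, hxw, -⟩ := exists_mid0 H hn hx0 hx0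
    have hwx : f w x ≠ 0 := fswap_ne hf hxw
    have hw0 : w ≠ 0 := by
      rintro rfl
      exact hxw (fzero_r hf x)
    have hxspan : x ∉ Submodule.span F {w} := by
      intro hmem
      obtain ⟨c, rfl⟩ := Submodule.mem_span_singleton.mp hmem
      apply hxw
      rw [hf.smul_left, hww, mul_zero]
    obtain ⟨k, hk⟩ := H.tr (f x x) (fself hf x)
    obtain ⟨a, hadef⟩ : ∃ a : F, a = k / f w x := ⟨_, rfl⟩
    have ha : a * f w x = k := by rw [hadef, div_mul_cancel₀ _ hwx]
    have ha' : σ a * f x w = σ k := by rw [hf.herm x w, ← map_mul, ha]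
    have hiso1 : f (x - a • w) (x - a • w) = 0 := by
      simp only [fsub_l hf, fsub_r hf, hf.smul_left, fsmul_r hf, hww]
      linear_combination -hk - ha - ha'
    by_cases ha0 : a = 0
    · rw [ha0, zero_smul, sub_zero] at hiso1
      exact hiso x hx0 hiso1
    have m1 : InC X (a • w) := (hiso w hw0 hww).smul ha0
    have hne : x - a • w ≠ 0 := by
      intro h
      apply hxspan
      rw [sub_eq_zero.mp h]
      exact Submodule.smul_mem _ _ (Submodule.mem_span_singleton_self w)
    have m2 : InC X (x - a • w) := hiso _ hne hiso1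
    have hind : x - a • w ∉ Submodule.span F {a • w} := by
      intro hmem
      obtain ⟨c, hc⟩ := Submodule.mem_span_singleton.mp hmem
      apply hxspan
      have : x = (c * a + a) • w := by
        rw [add_smul, ← smul_smul, hc]; abel
      rw [this]
      exact Submodule.smul_mem _ _ (Submodule.mem_span_singleton_self w)
    have m3 := m1.add_smul m2 hind 1
    rw [one_smul, sub_add_cancel] at m3
    exact m3
  apply specialLinear_le_of_tau_mem
  intro v φ h
  by_cases hv : v = 0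
  · subst hv
    have : tau (0 : ι → F) φ h = 1 := by
      apply gl_ext
      intro x
      rw [tau_mulVec, smul_zero, add_zero, Units.val_one, one_mulVec]
    rw [this]
    exact X.one_mem
  · have := hall v hv φ h
    rwa [tv_eq h] at this

end Cfsg.Agent.Helper7.SLUnit
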