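import Mathlib
import Cfsg.Agent.Helper7.SLUnitE

set_option autoImplicit false

/-! # The normaliser of the unitary group is maximal in `SL_n(F)` -/

namespace Cfsg.Agent.Helper7.SLUnit

open Matrix Module Cfsg Cfsg.Geo Cfsg.Agent.Helper7.TGL Cfsg.Agent.Helper7.PMax
  Cfsg.Agent.Helper7.SLMax

variable {ι : Type} [Fintype ι] [DecidableEq ι] {F : Type*} [Field F]
variable {σ : F ≃+* F} {f : (ι → F) → (ι → F) → F}
variable {X : Subgroup (GL ι F)}

/-- If no full transvection group lies in `X`, an element of `X` scales the form along isotropic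
vectors. -/
theorem scale_of_not_InC [Finite F] (H : UD σ f) (hn : 11 ≤ Fintype.card ι)
    (hX : similarityGroup f ⊓ specialLinear ι F ≤ X) (hcon : ∀ p : ι → F, p ≠ 0 → ¬ InC X p)
    {g : GL ι F} (hg : g ∈ X) {v : ι → F} (hv0 : v ≠ 0) (hvv : f v v = 0) :
    ∃ c : F, c ≠ 0 ∧ ∀ y, f y v =
      c * f ((g : Matrix ι ι F) *ᵥ y) ((g : Matrix ι ι F) *ᵥ v) := by
  have hf := H.hf
  obtain ⟨ε, hε0, hε⟩ := H.eps
  have hT : g * tv v (ε • cov f v) * g⁻¹ ∈ X :=
    X.mul_mem (X.mul_mem hg (hX (ut_mem hf hvv hε))) (X.inv_mem hg)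
  rw [tv_conj g (ut_dot hf hvv ε)] at hT
  obtain ⟨y₀, hy₀⟩ := exists_cov hf ((ε • cov f v) ᵥ* ((g⁻¹ : GL ι F) : Matrix ι ι F))
  have hψ : ∀ x, f x y₀ = ε * f (((g⁻¹ : GL ι F) : Matrix ι ι F) *ᵥ x) v := by
    intro x
    rw [← cdot hf, hy₀, ← dotProduct_mulVec, smul_dotProduct, cdot hf, smul_eq_mul]
  have hp0 : (g : Matrix ι ι F) *ᵥ v ≠ 0 := by
    intro h
    apply hv0
    have := gl_inv_mulVec g v
    rw [h, mulVec_zero] at this
    exact this.symm
  have hIn : InU f X ((g : Matrix ι ι F) *ᵥ v) y₀ := by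
    refine ⟨?_, ?_⟩
    · rw [hψ, gl_inv_mulVec, hvv, mul_zero]
    · rw [hy₀]; exact hT
  have hmem : y₀ ∈ Submodule.span F {(g : Matrix ι ι F) *ᵥ v} := by
    by_contra hnot
    exact hcon _ hp0 (InC_of_InU H hn hX hIn hnot)
  obtain ⟨c, hc⟩ := Submodule.mem_span_singleton.mp hmem
  have key : ∀ y, ε * f y v = σ c * f ((g : Matrix ι ι F) *ᵥ y) ((g : Matrix ι ι F) *ᵥ v) := by
    intro y
    have := hψ ((g : Matrix ι ι F) *ᵥ y)
    rw [gl_inv_mulVec, ← hc, fsmul_r hf] at this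
    exact this.symm
  refine ⟨σ c / ε, ?_, fun y => ?_⟩
  · apply div_ne_zero _ hε0
    intro h0
    obtain ⟨y, hy⟩ := (hf.nondegenerate v hv0).1
    have := key y
    rw [h0, zero_mul] at this
    exact hy ((mul_eq_zero.mp this).resolve_left hε0)
  · have := key y
    field_simp
    linear_combination this

/-- An element of `X` that is not a similarity produces a full transvection group. -/
theorem exists_InC_of_not_sim [Finite F] (H : UD σ f) (hn : 11 ≤ Fintype.card ι)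
    (hX : similarityGroup f ⊓ specialLinear ι F ≤ X) {g : GL ι F} (hg : g ∈ X)
    (hgs : g ∉ similarityGroup f) : ∃ p : ι → F, p ≠ 0 ∧ InC X p := by
  have hf := H.hf
  by_contra hcon
  push Not at hcon
  have key := fun v hv0 hvv => scale_of_not_InC H hn hX hcon hg (v := v) hv0 hvv
  -- comparison of the scalars
  have hQ : ∀ v w : ι → F, ∀ cv cw : F,
      (∀ y, f y v = cv * f ((g : Matrix ι ι F) *ᵥ y) ((g : Matrix ι ι F) *ᵥ v)) →
      (∀ y, f y w = cw * f ((g : Matrix ι ι F) *ᵥ y) ((g : Matrix ι ι F) *ᵥ w)) →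
      f v w ≠ 0 → cv = σ cw := by
    intro v w cv cw hcv hcw hvw
    have e1 := hcv w
    have e2 := hcw v
    have e3 : f w v = σ cw * f ((g : Matrix ι ι F) *ᵥ w) ((g : Matrix ι ι F) *ᵥ v) := by
      rw [hf.herm w v, e2, map_mul, ← hf.herm]
    have hne : f ((g : Matrix ι ι F) *ᵥ w) ((g : Matrix ι ι F) *ᵥ v) ≠ 0 := by
      intro h0
      rw [h0, mul_zero] at e1
      exact fswap_ne hf hvw e1
    rw [e1] at e3
    exact mul_right_cancel₀ hne e3
  have hsame : ∀ v w : ι → F, v ≠ 0 → w ≠ 0 → f v v = 0 → f w w = 0 → ∀ cv cw : F,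
      (∀ y, f y v = cv * f ((g : Matrix ι ι F) *ᵥ y) ((g : Matrix ι ι F) *ᵥ v)) →
      (∀ y, f y w = cw * f ((g : Matrix ι ι F) *ᵥ y) ((g : Matrix ι ι F) *ᵥ w)) → cv = cw := by
    intro v w hv0 hw0 hvv hww cv cw hcv hcw
    obtain ⟨u, huu, hvu, hwu⟩ := exists_mid0 H hn hv0 hw0
    have hu0 : u ≠ 0 := by
      rintro rfl
      exact hvu (fzero_r hf v)
    obtain ⟨cu, -, hcu⟩ := key u hu0 huu
    rw [hQ v u cv cu hcv hcu hvu, hQ w u cw cu hcw hcu hwu]
  -- a base isotropic vector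
  obtain ⟨e, e', hee, -, hee', -, -⟩ := exists_hyp H hn (0 : ι → F) 0 0 0
  have he0 : e ≠ 0 := by
    rintro rfl
    rw [fzero_l hf] at hee'
    exact zero_ne_one hee'
  obtain ⟨c₁, hc₁0, hc₁⟩ := key e he0 hee
  have hiso : ∀ v : ι → F, f v v = 0 → ∀ y, f y v =
      c₁ * f ((g : Matrix ι ι F) *ᵥ y) ((g : Matrix ι ι F) *ᵥ v) := by
    intro v hvv y
    by_cases hv0 : v = 0
    · rw [hv0, mulVec_zero, fzero_r hf, fzero_r hf, mul_zero]
    obtain ⟨cv, -, hcv⟩ := key v hv0 hvv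
    rw [← hsame v e hv0 he0 hvv hee cv c₁ hcv hc₁]
    exact hcv y
  have hall : ∀ x y : ι → F, f y x =
      c₁ * f ((g : Matrix ι ι F) *ᵥ y) ((g : Matrix ι ι F) *ᵥ x) := by
    intro x y
    by_cases hx0 : x = 0
    · rw [hx0, mulVec_zero, fzero_r hf, fzero_r hf, mul_zero]
    obtain ⟨w, hww, hxw, -⟩ := exists_mid0 H hn hx0 hx0
    have hwx : f w x ≠ 0 := fswap_ne hf hxw
    obtain ⟨k, hk⟩ := H.tr (f x x) (fself hf x)
    obtain ⟨a, hadef⟩ : ∃ a : F, a = k / f w x := ⟨_, rfl⟩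
    have ha : a * f w x = k := by rw [hadef, div_mul_cancel₀ _ hwx]
    have ha' : σ a * f x w = σ k := by rw [hf.herm x w, ← map_mul, ha]
    have hiso1 : f (x - a • w) (x - a • w) = 0 := by
      simp only [fsub_l hf, fsub_r hf, hf.smul_left, fsmul_r hf, hww]
      linear_combination -hk - ha - ha'
    have hiso2 : f (a • w) (a • w) = 0 := by
      rw [hf.smul_left, fsmul_r hf, hww, mul_zero, mul_zero]
    have e1 := hiso _ hiso1 y
    have e2 := hiso _ hiso2 y
    have e3 : x = (x - a • w) + a • w := by abel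
    rw [e3, mulVec_add, fadd_r hf, fadd_r hf, e1, e2, mul_add]
  apply hgs
  refine ⟨Units.mk0 c₁⁻¹ (inv_ne_zero hc₁0), fun u v => ?_⟩
  rw [Units.val_mk0, hall v u]
  field_simp

/-- The main lemma: a subgroup containing the determinant-one similarities of `f` and an element that
is not a similarity contains the special linear group. -/
theorem specialLinear_le_of_not_sim [Finite F] [Nontrivial ι] (H : UD σ f)
    (hn : 11 ≤ Fintype.card ι) (X : Subgroup (GL ι F))
    (hX : similarityGroup f ⊓ specialLinear ι F ≤ X) {g : GL ι F} (hg : g ∈ X)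
    (hgs : g ∉ similarityGroup f) : specialLinear ι F ≤ X := by
  obtain ⟨p, hp0, hp⟩ := exists_InC_of_not_sim H hn hX hg hgs
  exact specialLinear_le_of_InC H hn hX hp0 hp

/-- Some element of the special linear group is not a similarity of `f`. -/
theorem exists_not_sim [Finite F] (H : UD σ f) (hn : 11 ≤ Fintype.card ι) :
    ∃ τ ∈ specialLinear ι F, τ ∉ similarityGroup f := by
  have hf := H.hf
  obtain ⟨e, g, hee, hgg, heg, -, -⟩ := exists_hyp H hn (0 : ι → F) 0 0 0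
  obtain ⟨e', g', hee', hgg', heg', ⟨he'e, he'g, -, -⟩, ⟨hg'e, hg'g, -, -⟩⟩ :=
    exists_hyp H hn e g 0 0
  have h0 : cov f e' ⬝ᵥ e = 0 := by rw [cdot hf]; exact fswap0 hf he'e
  refine ⟨tv e (cov f e'), tv_mem_SL _ _, ?_⟩
  rintro ⟨c, hc⟩
  have e2 := hc g' g
  rw [tv_mulVec h0, tv_mulVec h0, cdot hf, cdot hf, fswap0 hf he'g, zero_smul, add_zero,
    fswap1 hf heg', one_smul, hf.add_left, hg'g, heg, zero_add, mul_zero] at e2
  exact one_ne_zero e2

end Cfsg.Agent.Helper7.SLUnit
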