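import Mathlib
import Cfsg.Agent.Helper7.SLUnitF
import Cfsg.Agent.S0756

set_option autoImplicit false

/-! # Symmetric bilinear forms given as functions (odd characteristic): hyperbolic pairs -/

namespace Cfsg.Agent.Helper7.SLOrth

open Matrix Module Cfsg Cfsg.Geo Cfsg.Agent.Helper7.TGL Cfsg.Agent.Helper7.PMax
  Cfsg.Agent.Helper7.SLMax Cfsg.Agent.Helper8.MaxSingular

variable {ι : Type} [Fintype ι] [DecidableEq ι] {F : Type*} [Field F]
variable {f : (ι → F) → (ι → F) → F}

/-- A non-degenerate symmetric bilinear form in characteristic not two. -/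
structure SF (f : (ι → F) → (ι → F) → F) : Prop where
  bil : IsBilinearForm f
  symm : ∀ v w, f v w = f w v
  nondeg : IsNondegenerateForm f
  two_ne : (2 : F) ≠ 0

theorem swap0 (H : SF f) {v w : ι → F} (h : f v w = 0) : f w v = 0 := by rw [H.symm, h]

theorem swap_ne (H : SF f) {v w : ι → F} (h : f v w ≠ 0) : f w v ≠ 0 := by rw [H.symm]; exact h

theorem swap1 (H : SF f) {v w : ι → F} (h : f v w = 1) : f w v = 1 := by rw [H.symm, h]

theorem csub (hb : IsBilinearForm f) (u u' : ι → F) : cov f (u - u') = cov f u - cov f u' := by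
  funext i
  exact form_sub_right hb _ u u'

theorem czero (hb : IsBilinearForm f) : cov f (0 : ι → F) = 0 := by
  funext i
  exact form_zero_right hb _

/-- Every covector is represented by the form (finite field). -/
theorem exists_cov [Finite F] (H : SF f) (φ : ι → F) : ∃ w, cov f w = φ := by
  have hb := H.bil
  have hinj : Function.Injective (cov f : (ι → F) → (ι → F)) := by
    intro w w' h
    by_contra hne
    have h0 : w - w' ≠ 0 := sub_ne_zero.mpr hne
    obtain ⟨x, hx⟩ := (H.nondeg _ h0).1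
    apply hx
    rw [form_sub_right hb, ← cov_dot hb, ← cov_dot hb, h, sub_self]
  exact (Finite.injective_iff_surjective.mp hinj) φ

theorem cov_inj (H : SF f) {w w' : ι → F} (h : cov f w = cov f w') : w = w' := by
  have hb := H.bil
  by_contra hne
  have h0 : w - w' ≠ 0 := sub_ne_zero.mpr hne
  obtain ⟨x, hx⟩ := (H.nondeg _ h0).1
  apply hx
  rw [form_sub_right hb, ← cov_dot hb, ← cov_dot hb, h, sub_self]

/-- A vector outside a subspace is detected by a vector orthogonal to the subspace. -/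
theorem exists_perp [Finite F] (H : SF f) (S : Submodule F (ι → F)) {u : ι → F}
    (hu : u ∉ S) : ∃ y, (∀ s ∈ S, f s y = 0) ∧ f u y = 1 := by
  have hb := H.bil
  obtain ⟨φ, h1, h2⟩ := exists_covector S hu
  obtain ⟨y, rfl⟩ := exists_cov H φ
  refine ⟨y, fun s hs => ?_, ?_⟩
  · rw [← cov_dot hb]; exact h1 s hs
  · rw [← cov_dot hb]; exact h2

/-- The part of `W` orthogonal to `w`. -/
def cut (hb : IsBilinearForm f) (W : Submodule F (ι → F)) (w : ι → F) : Submodule F (ι → F) where
  carrier := {x | x ∈ W ∧ f x w = 0}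
  add_mem' := by
    rintro x y ⟨hx, hx'⟩ ⟨hy, hy'⟩
    exact ⟨W.add_mem hx hy, by rw [hb.add_left, hx', hy', add_zero]⟩
  zero_mem' := ⟨W.zero_mem, form_zero_left hb w⟩
  smul_mem' := by
    rintro c x ⟨hx, hx'⟩
    exact ⟨W.smul_mem c hx, by rw [hb.smul_left, hx', mul_zero]⟩

theorem finrank_le_cut (hb : IsBilinearForm f) (W : Submodule F (ι → F)) (w : ι → F) :
    finrank F W ≤ finrank F (cut hb W w) + 1 := by
  by_cases hall : ∀ x ∈ W, f x w = 0
  · have : W ≤ cut hb W w := fun x hx => ⟨hx, hall x hx⟩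
    have := Submodule.finrank_mono this
    omega
  · push Not at hall
    obtain ⟨x₀, hx₀, hne⟩ := hall
    have hle : W ≤ cut hb W w ⊔ Submodule.span F {x₀} := by
      intro x hx
      have e : x = (x - (f x w / f x₀ w) • x₀) + (f x w / f x₀ w) • x₀ := by abel
      rw [e]
      apply Submodule.add_mem_sup
      · refine ⟨W.sub_mem hx (W.smul_mem _ hx₀), ?_⟩
        rw [form_sub_left hb, hb.smul_left, div_mul_cancel₀ _ hne, sub_self]
      · exact Submodule.smul_mem _ _ (Submodule.mem_span_singleton_self x₀)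
    have h1 := Submodule.finrank_mono hle
    have h2 := Submodule.finrank_add_le_finrank_add_finrank (cut hb W w) (Submodule.span F {x₀})
    have h3 : finrank F ↥(Submodule.span F {x₀}) ≤ 1 := by
      by_cases hx0 : x₀ = 0
      · rw [hx0, Submodule.span_zero_singleton, finrank_bot]
        omega
      · rw [finrank_span_singleton hx0]
    omega

theorem exists_ne_zero_mem {W : Submodule F (ι → F)} (h : 1 ≤ finrank F W) : ∃ x ∈ W, x ≠ 0 := by
  obtain ⟨x, hx, hx'⟩ := exists_mem_not_mem (A := (⊥ : Submodule F (ι → F))) (C := W)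
    (by rw [finrank_bot]; omega)
  exact ⟨x, hx, fun h0 => hx' (by rw [h0]; exact Submodule.zero_mem _)⟩

/-- An isotropic vector in a subspace of dimension at least three. -/
theorem exists_iso_mem [Finite F] (H : SF f) {W : Submodule F (ι → F)} (h : 3 ≤ finrank F W) :
    ∃ e ∈ W, e ≠ 0 ∧ f e e = 0 := by
  have hb := H.bil
  obtain ⟨x, hxW, hx0⟩ := exists_ne_zero_mem (W := W) (by omega)
  by_cases hxx : f x x = 0
  · exact ⟨x, hxW, hx0, hxx⟩
  have h1 := finrank_le_cut hb W x
  obtain ⟨x₂, hx₂W, hx₂0⟩ := exists_ne_zero_mem (W := cut hb W x) (by omega)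
  by_cases hx₂ : f x₂ x₂ = 0
  · exact ⟨x₂, hx₂W.1, hx₂0, hx₂⟩
  have h2 := finrank_le_cut hb (cut hb W x) x₂
  obtain ⟨x₃, hx₃W, hx₃0⟩ := exists_ne_zero_mem (W := cut hb (cut hb W x) x₂) (by omega)
  by_cases hx₃ : f x₃ x₃ = 0
  · exact ⟨x₃, hx₃W.1.1, hx₃0, hx₃⟩
  have e21 : f x₂ x = 0 := hx₂W.2
  have e31 : f x₃ x = 0 := hx₃W.1.2
  have e32 : f x₃ x₂ = 0 := hx₃W.2
  obtain ⟨s, t, hst⟩ := Cfsg.Agent.S0756.exists_sq_add_sq_eq_one H.two_ne
    (a := -f x₂ x₂ / f x x) (b := -f x₃ x₃ / f x x)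
    (div_ne_zero (neg_ne_zero.mpr hx₂) hxx) (div_ne_zero (neg_ne_zero.mpr hx₃) hxx)
  have hst' : f x x + s ^ 2 * f x₂ x₂ + t ^ 2 * f x₃ x₃ = 0 := by
    field_simp at hst
    linear_combination -hst
  refine ⟨x + s • x₂ + t • x₃, W.add_mem (W.add_mem hxW (W.smul_mem _ hx₂W.1))
    (W.smul_mem _ hx₃W.1.1), ?_, ?_⟩
  · intro h0
    have : f (x + s • x₂ + t • x₃) x = f x x := by
      rw [hb.add_left, hb.add_left, hb.smul_left, hb.smul_left, e21, e31, mul_zero, mul_zero,
        add_zero, add_zero]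
    rw [h0, form_zero_left hb] at this
    exact hxx this.symm
  · simp only [hb.add_left, hb.add_right, hb.smul_left, hb.smul_right, e21, e31, e32, swap0 H e21,
      swap0 H e31, swap0 H e32]
    linear_combination hst'

/-- A hyperbolic pair orthogonal to five given vectors. -/
theorem exists_hyp [Finite F] (H : SF f) (hn : 13 ≤ Fintype.card ι) (a b c d e₀ : ι → F) :
    ∃ e g : ι → F, f e e = 0 ∧ f g g = 0 ∧ f e g = 1 ∧
      (f e a = 0 ∧ f e b = 0 ∧ f e c = 0 ∧ f e d = 0 ∧ f e e₀ = 0) ∧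
      (f g a = 0 ∧ f g b = 0 ∧ f g c = 0 ∧ f g d = 0 ∧ f g e₀ = 0) := by
  have hb' := H.bil
  obtain ⟨S, hSdef⟩ : ∃ S : Submodule F (ι → F), S = Submodule.span F {a, b, c, d, e₀} := ⟨_, rfl⟩
  have hS : finrank F S ≤ 5 := by
    classical
    have := finrank_span_finset_le_card (R := F) ({a, b, c, d, e₀} : Finset (ι → F))
    rw [Finset.coe_insert, Finset.coe_insert, Finset.coe_insert, Finset.coe_insert,
      Finset.coe_singleton] at this
    rw [hSdef]
    exact this.trans Finset.card_le_five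
  have haS : a ∈ S := by rw [hSdef]; exact Submodule.subset_span (by simp)
  have hbS : b ∈ S := by rw [hSdef]; exact Submodule.subset_span (by simp)
  have hcS : c ∈ S := by rw [hSdef]; exact Submodule.subset_span (by simp)
  have hdS : d ∈ S := by rw [hSdef]; exact Submodule.subset_span (by simp)
  have heS : e₀ ∈ S := by rw [hSdef]; exact Submodule.subset_span (by simp)
  obtain ⟨M, hMdef⟩ : ∃ M : Submodule F (ι → F),
      M = cut hb' (cut hb' (cut hb' (cut hb' (cut hb' ⊤ a) b) c) d) e₀ := ⟨_, rfl⟩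
  have hM : Fintype.card ι ≤ finrank F M + 5 := by
    have h1 := finrank_le_cut hb' ⊤ a
    have h2 := finrank_le_cut hb' (cut hb' ⊤ a) b
    have h3 := finrank_le_cut hb' (cut hb' (cut hb' ⊤ a) b) c
    have h4 := finrank_le_cut hb' (cut hb' (cut hb' (cut hb' ⊤ a) b) c) d
    have h5 := finrank_le_cut hb' (cut hb' (cut hb' (cut hb' (cut hb' ⊤ a) b) c) d) e₀
    rw [finrank_top, Module.finrank_pi] at h1
    rw [hMdef]
    omega
  have hMperp : ∀ x ∈ M, f x a = 0 ∧ f x b = 0 ∧ f x c = 0 ∧ f x d = 0 ∧ f x e₀ = 0 := by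
    intro x hx
    rw [hMdef] at hx
    obtain ⟨⟨⟨⟨⟨_, h1⟩, h2⟩, h3⟩, h4⟩, h5⟩ := hx
    exact ⟨h1, h2, h3, h4, h5⟩
  obtain ⟨W, hW⟩ := Submodule.exists_isCompl S
  have hSW : finrank F S + finrank F W = Fintype.card ι := by
    rw [Submodule.finrank_add_eq_of_isCompl hW, Module.finrank_pi]
  have hWM : 3 ≤ finrank F ↥(W ⊓ M) := by
    have h1 := Submodule.finrank_sup_add_finrank_inf_eq W M
    have h2 : finrank F ↥(W ⊔ M) ≤ Fintype.card ι := by
      have := Submodule.finrank_le (W ⊔ M)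
      rwa [Module.finrank_pi] at this
    omega
  obtain ⟨e, heWM, he0, hee⟩ := exists_iso_mem H hWM
  have heS' : e ∉ S := by
    intro h
    apply he0
    have : e ∈ S ⊓ W := ⟨h, heWM.1⟩
    rw [hW.inf_eq_bot] at this
    exact (Submodule.mem_bot F).mp this
  obtain ⟨y, hyS, hey⟩ := exists_perp H S heS'
  have hye : f y e = 1 := swap1 H hey
  obtain ⟨ha, hb, hc, hd, he⟩ := hMperp e heWM.2
  refine ⟨e, y + (-f y y / 2) • e, hee, ?_, ?_, ⟨ha, hb, hc, hd, he⟩, ?_, ?_, ?_, ?_, ?_⟩
  · simp only [hb'.add_left, hb'.add_right, hb'.smul_left, hb'.smul_right, hee, hye, hey]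
    have := H.two_ne
    field_simp
    ring
  · rw [hb'.add_right, hb'.smul_right, hee, hey, mul_zero, add_zero]
  · rw [hb'.add_left, hb'.smul_left, ha, swap0 H (hyS a haS), mul_zero, add_zero]
  · rw [hb'.add_left, hb'.smul_left, hb, swap0 H (hyS b hbS), mul_zero, add_zero]
  · rw [hb'.add_left, hb'.smul_left, hc, swap0 H (hyS c hcS), mul_zero, add_zero]
  · rw [hb'.add_left, hb'.smul_left, hd, swap0 H (hyS d hdS), mul_zero, add_zero]
  · rw [hb'.add_left, hb'.smul_left, he, swap0 H (hyS e₀ heS), mul_zero, add_zero]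

end Cfsg.Agent.Helper7.SLOrth
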