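import Mathlib
import Cfsg.Agent.Helper7.SLOrthA

set_option autoImplicit false

/-! # Symmetric bilinear forms given as functions: singular vectors in general position, Siegel elements -/

namespace Cfsg.Agent.Helper7.SLOrth

open Matrix Module Cfsg Cfsg.Geo Cfsg.Agent.Helper7.TGL Cfsg.Agent.Helper7.PMax
  Cfsg.Agent.Helper7.SLMax
open Cfsg.Agent.Helper7.SLUnit (tv tv_eq tv_mulVec tv_mem_SL tv_zero_right tv_mul tv_inv tv_comm
  tv_conj tv_smul sgl InU InC)

variable {ι : Type} [Fintype ι] [DecidableEq ι] {F : Type*} [Field F]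
variable {f : (ι → F) → (ι → F) → F}

/-- A singular vector orthogonal to `p` and `b` and not orthogonal to two given vectors outside
`⟨p, b⟩`. -/
theorem exists_mid2 [Finite F] (H : SF f) (hn : 13 ≤ Fintype.card ι) (p b : ι → F) {y₁ y₂ : ι → F}
    (h₁ : y₁ ∉ Submodule.span F {p, b}) (h₂ : y₂ ∉ Submodule.span F {p, b}) :
    ∃ w : ι → F, f w w = 0 ∧ f p w = 0 ∧ f b w = 0 ∧ f y₁ w ≠ 0 ∧ f y₂ w ≠ 0 := by
  have hb := H.bil
  obtain ⟨x₁, hx₁p, hx₁⟩ := exists_perp H _ h₁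
  obtain ⟨x₂, hx₂p, hx₂⟩ := exists_perp H _ h₂
  have hpS : p ∈ Submodule.span F {p, b} := Submodule.subset_span (by simp)
  have hbS : b ∈ Submodule.span F {p, b} := Submodule.subset_span (by simp)
  have hx : ∃ x, f p x = 0 ∧ f b x = 0 ∧ f y₁ x ≠ 0 ∧ f y₂ x ≠ 0 := by
    by_cases c1 : f y₂ x₁ ≠ 0
    · exact ⟨x₁, hx₁p p hpS, hx₁p b hbS, by rw [hx₁]; exact one_ne_zero, c1⟩
    push Not at c1
    by_cases c2 : f y₁ x₂ ≠ 0
    · exact ⟨x₂, hx₂p p hpS, hx₂p b hbS, c2, by rw [hx₂]; exact one_ne_zero⟩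
    push Not at c2
    refine ⟨x₁ + x₂, ?_, ?_, ?_, ?_⟩
    · rw [hb.add_right, hx₁p p hpS, hx₂p p hpS, add_zero]
    · rw [hb.add_right, hx₁p b hbS, hx₂p b hbS, add_zero]
    · rw [hb.add_right, hx₁, c2, add_zero]; exact one_ne_zero
    · rw [hb.add_right, hx₂, c1, zero_add]; exact one_ne_zero
  obtain ⟨x, hpx, hbx, hy₁x, hy₂x⟩ := hx
  obtain ⟨e, g, hee, hgg, heg, ⟨hep, heb, hey₁, hey₂, hex⟩, ⟨hgp, hgb, hgy₁, hgy₂, hgx⟩⟩ :=
    exists_hyp H hn p b y₁ y₂ x
  have hge : f g e = 1 := swap1 H heg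
  refine ⟨x + e + (-f x x / 2) • g, ?_, ?_, ?_, ?_, ?_⟩
  · simp only [hb.add_left, hb.add_right, hb.smul_left, hb.smul_right, hee, hgg, heg, hge, hex, hgx,
      swap0 H hex, swap0 H hgx]
    have := H.two_ne
    field_simp
    ring
  · rw [hb.add_right, hb.add_right, hb.smul_right, hpx, swap0 H hep, swap0 H hgp, mul_zero,
      add_zero, add_zero]
  · rw [hb.add_right, hb.add_right, hb.smul_right, hbx, swap0 H heb, swap0 H hgb, mul_zero,
      add_zero, add_zero]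
  · rw [hb.add_right, hb.add_right, hb.smul_right, swap0 H hey₁, swap0 H hgy₁, mul_zero, add_zero,
      add_zero]
    exact hy₁x
  · rw [hb.add_right, hb.add_right, hb.smul_right, swap0 H hey₂, swap0 H hgy₂, mul_zero, add_zero,
      add_zero]
    exact hy₂x

theorem exists_mid [Finite F] (H : SF f) (hn : 13 ≤ Fintype.card ι) (p : ι → F) {y₁ y₂ : ι → F}
    (h₁ : y₁ ∉ Submodule.span F {p}) (h₂ : y₂ ∉ Submodule.span F {p}) :
    ∃ w : ι → F, f w w = 0 ∧ f p w = 0 ∧ f y₁ w ≠ 0 ∧ f y₂ w ≠ 0 := by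
  have e : ({p, p} : Set (ι → F)) = {p} := Set.pair_eq_singleton p
  obtain ⟨w, h1, h2, -, h3, h4⟩ := exists_mid2 H hn p p (y₁ := y₁) (y₂ := y₂)
    (by rw [e]; exact h₁) (by rw [e]; exact h₂)
  exact ⟨w, h1, h2, h3, h4⟩

theorem exists_mid0 [Finite F] (H : SF f) (hn : 13 ≤ Fintype.card ι) {y₁ y₂ : ι → F}
    (h₁ : y₁ ≠ 0) (h₂ : y₂ ≠ 0) :
    ∃ w : ι → F, f w w = 0 ∧ f y₁ w ≠ 0 ∧ f y₂ w ≠ 0 := by
  have e : Submodule.span F {(0 : ι → F)} = ⊥ := Submodule.span_zero_singleton F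
  obtain ⟨w, h1, -, h3, h4⟩ := exists_mid H hn (0 : ι → F) (y₁ := y₁) (y₂ := y₂)
    (by rw [e, Submodule.mem_bot]; exact h₁) (by rw [e, Submodule.mem_bot]; exact h₂)
  exact ⟨w, h1, h3, h4⟩

/-- Every vector is a difference of two singular vectors. -/
theorem exists_decomp [Finite F] (H : SF f) (hn : 13 ≤ Fintype.card ι) {x : ι → F} (hx0 : x ≠ 0) :
    ∃ (w : ι → F) (a : F), f w w = 0 ∧ f x w ≠ 0 ∧ f (x - a • w) (x - a • w) = 0 := by
  have hb := H.bil
  obtain ⟨w, hww, hxw, -⟩ := exists_mid0 H hn hx0 hx0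
  refine ⟨w, f x x / (2 * f x w), hww, hxw, ?_⟩
  simp only [form_sub_left hb, form_sub_right hb, hb.smul_left, hb.smul_right, hww, H.symm w x]
  have := H.two_ne
  field_simp
  ring

/-! ### Siegel elements -/

theorem sgl_mulVec (H : SF f) {a b : ι → F} (haa : f a a = 0) (hba : f b a = 0)
    (c : F) (x : ι → F) :
    (sgl f a b c : Matrix ι ι F) *ᵥ x = x + f x a • (b + c • a) - f x b • a := by
  have hb := H.bil
  have h1 : cov f a ⬝ᵥ (b + c • a) = 0 := by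
    rw [cov_dot hb, hb.add_left, hb.smul_left, hba, haa, mul_zero, add_zero]
  have h2 : cov f b ⬝ᵥ (-a) = 0 := by
    rw [cov_dot hb, form_neg_left hb, swap0 H hba, neg_zero]
  unfold sgl
  rw [gl_mul_mulVec, tv_mulVec h2, tv_mulVec h1, cov_dot hb, cov_dot hb, hb.add_left, hb.smul_left,
    form_neg_left hb, haa]
  module

theorem sgl_isom (H : SF f) {a b : ι → F} (haa : f a a = 0) (hba : f b a = 0)
    {c : F} (hc : 2 * c + f b b = 0) (u w : ι → F) :
    f ((sgl f a b c : Matrix ι ι F) *ᵥ u) ((sgl f a b c : Matrix ι ι F) *ᵥ w) = f u w := by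
  have hb := H.bil
  rw [sgl_mulVec H haa hba, sgl_mulVec H haa hba]
  have hab : f a b = 0 := swap0 H hba
  simp only [hb.add_left, hb.add_right, form_sub_left hb, form_sub_right hb, hb.smul_left,
    hb.smul_right, haa, hba, hab, H.symm a w, H.symm b w]
  linear_combination (f u a * f w a) * hc

theorem sgl_mem (H : SF f) {a b : ι → F} (haa : f a a = 0) (hba : f b a = 0)
    {c : F} (hc : 2 * c + f b b = 0) :
    sgl f a b c ∈ similarityGroup f ⊓ specialLinear ι F := by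
  refine ⟨⟨1, fun u w => ?_⟩, Subgroup.mul_mem _ (tv_mem_SL _ _) (tv_mem_SL _ _)⟩
  rw [sgl_isom H haa hba hc, Units.val_one, one_mul]

/-- The Siegel element attached to a totally singular pair. -/
theorem sgl0_mulVec (H : SF f) {a b : ι → F} (haa : f a a = 0) (hba : f b a = 0) (x : ι → F) :
    (sgl f a b 0 : Matrix ι ι F) *ᵥ x = x + f x a • b - f x b • a := by
  rw [sgl_mulVec H haa hba, zero_smul, add_zero]

theorem sgl0_mem (H : SF f) {a b : ι → F} (haa : f a a = 0) (hbb : f b b = 0) (hba : f b a = 0) :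
    sgl f a b 0 ∈ similarityGroup f ⊓ specialLinear ι F :=
  sgl_mem H haa hba (by rw [hbb, mul_zero, add_zero])

end Cfsg.Agent.Helper7.SLOrth
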