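import Mathlib
import Cfsg.Agent.Helper7.SLOrthB

set_option autoImplicit false

/-! # Transvections with a singular centre in an overgroup of the orthogonal similarities -/

namespace Cfsg.Agent.Helper7.SLOrth

open Matrix Module Cfsg Cfsg.Geo Cfsg.Agent.Helper7.TGL Cfsg.Agent.Helper7.PMax
  Cfsg.Agent.Helper7.SLMax
open Cfsg.Agent.Helper7.SLUnit (tv tv_eq tv_mulVec tv_mem_SL tv_zero_right tv_mul tv_inv tv_comm
  tv_conj tv_smul sgl InU InC)

variable {ι : Type} [Fintype ι] [DecidableEq ι] {F : Type*} [Field F]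
variable {f : (ι → F) → (ι → F) → F}
variable {X : Subgroup (GL ι F)} {p : ι → F}

theorem U_dot (hb : IsBilinearForm f) {y : ι → F} (h : InU f X p y) : cov f y ⬝ᵥ p = 0 := by
  rw [cov_dot hb]; exact h.1

theorem U_zero (hb : IsBilinearForm f) : InU f X p 0 := by
  refine ⟨form_zero_right hb p, ?_⟩
  rw [czero hb, tv_zero_right]
  exact X.one_mem

theorem U_add (hb : IsBilinearForm f) {y y' : ι → F} (h : InU f X p y) (h' : InU f X p y') :
    InU f X p (y + y') := by
  refine ⟨by rw [hb.add_right, h.1, h'.1, add_zero], ?_⟩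
  rw [cov_add hb, ← tv_mul (U_dot hb h) (U_dot hb h')]
  exact X.mul_mem h.2 h'.2

theorem U_neg (hb : IsBilinearForm f) {y : ι → F} (h : InU f X p y) : InU f X p (-y) := by
  refine ⟨by rw [form_neg_right hb, h.1, neg_zero], ?_⟩
  rw [cov_neg hb, ← tv_inv (U_dot hb h)]
  exact X.inv_mem h.2

theorem U_sub (hb : IsBilinearForm f) {y y' : ι → F} (h : InU f X p y) (h' : InU f X p y') :
    InU f X p (y - y') := by
  rw [sub_eq_add_neg]
  exact U_add hb h (U_neg hb h')

/-- Conjugation by isometries fixing the centre. -/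
theorem U_conj (hb : IsBilinearForm f) {y : ι → F} (h : InU f X p y) {S : GL ι F} (hS : S ∈ X)
    (hiso : ∀ u w, f ((S : Matrix ι ι F) *ᵥ u) ((S : Matrix ι ι F) *ᵥ w) = f u w)
    (hSp : (S : Matrix ι ι F) *ᵥ p = p) : InU f X p ((S : Matrix ι ι F) *ᵥ y) := by
  refine ⟨?_, ?_⟩
  · have := hiso p y
    rw [hSp] at this
    rw [this]; exact h.1
  · have hc := tv_conj S (U_dot hb h)
    have e : cov f y ᵥ* ((S⁻¹ : GL ι F) : Matrix ι ι F) = cov f ((S : Matrix ι ι F) *ᵥ y) := by
      apply covec_ext
      intro x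
      rw [← dotProduct_mulVec, cov_dot hb, cov_dot hb, ← hiso, gl_mulVec_inv]
    rw [hSp, e] at hc
    rw [← hc]
    exact X.mul_mem (X.mul_mem hS h.2) (X.inv_mem hS)

/-- One transvection with singular centre `p` whose covector is not a multiple of `f(·,p)` gives all
transvections with centre `p`. -/
theorem InC_of_InU [Finite F] (H : SF f) (hn : 13 ≤ Fintype.card ι)
    (hX : similarityGroup f ⊓ specialLinear ι F ≤ X) {y₀ : ι → F} (hpp : f p p = 0)
    (h₀ : InU f X p y₀) (hy₀ : y₀ ∉ Submodule.span F {p}) : InC X p := by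
  have hb := H.bil
  have h2 := H.two_ne
  -- multiples of `p`
  have hFp : ∀ c : F, InU f X p (c • p) := by
    intro c
    obtain ⟨b, hbS, hb1⟩ := exists_perp H _ hy₀
    have hpb : f p b = 0 := hbS p (Submodule.mem_span_singleton_self p)
    have hbp : f (c • b) p = 0 := by rw [hb.smul_left, swap0 H hpb, mul_zero]
    have hk : 2 * (-f (c • b) (c • b) / 2) + f (c • b) (c • b) = 0 := by
      field_simp
      ring
    have hS : sgl f p (c • b) (-f (c • b) (c • b) / 2) ∈ X := hX (sgl_mem H hpp hbp hk)
    have hSp : (sgl f p (c • b) (-f (c • b) (c • b) / 2) : Matrix ι ι F) *ᵥ p = p := by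
      rw [sgl_mulVec H hpp hbp, hpp, swap0 H hbp, zero_smul, zero_smul, add_zero, sub_zero]
    have h1 := U_conj hb h₀ hS (sgl_isom H hpp hbp hk) hSp
    rw [sgl_mulVec H hpp hbp, swap0 H h₀.1, zero_smul, add_zero, hb.smul_right, hb1, mul_one] at h1
    have h3 := U_sub hb h₀ h1
    rw [sub_sub_cancel] at h3
    exact h3
  -- the spreading step
  have hS2 : ∀ y b : ι → F, InU f X p y → f b b = 0 → f p b = 0 → f y b = 0 →
      y ∉ Submodule.span F {p, b} → ∀ t : F, InU f X p (t • b) := by
    intro y b hy hbb hpb hyb hspan t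
    obtain ⟨a, haa, hpa, hba, hya, -⟩ := exists_mid2 H hn p b hspan hspan
    have hb'a : f ((t / f y a) • b) a = 0 := by rw [hb.smul_left, hba, mul_zero]
    have hb'b' : f ((t / f y a) • b) ((t / f y a) • b) = 0 := by
      rw [hb.smul_left, hb.smul_right, hbb, mul_zero, mul_zero]
    have hS : sgl f a ((t / f y a) • b) 0 ∈ X := hX (sgl0_mem H haa hb'b' hb'a)
    have hSp : (sgl f a ((t / f y a) • b) 0 : Matrix ι ι F) *ᵥ p = p := by
      rw [sgl0_mulVec H haa hb'a, hpa, hb.smul_right, hpb, mul_zero, zero_smul, zero_smul, add_zero,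
        sub_zero]
    have h1 := U_conj hb hy hS (sgl_isom H haa hb'a (by rw [hb'b', mul_zero, add_zero])) hSp
    rw [sgl0_mulVec H haa hb'a, hb.smul_right, hyb, mul_zero, zero_smul, sub_zero, smul_smul,
      mul_div_cancel₀ _ hya] at h1
    have h3 := U_sub hb h1 hy
    rw [add_sub_cancel_left] at h3
    exact h3
  -- singular vectors
  have hsing : ∀ w : ι → F, f w w = 0 → f p w = 0 → InU f X p w := by
    intro w hww hpw
    obtain ⟨e, g, hee, hgg, heg, ⟨hep, hey₀, hew, -, -⟩, ⟨hgp, hgy₀, hgw, -, -⟩⟩ :=
      exists_hyp H hn p y₀ w 0 0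
    have he : InU f X p e := by
      have := hS2 y₀ e h₀ hee (swap0 H hep) (swap0 H hey₀) ?_ 1
      · rwa [one_smul] at this
      · intro hmem
        obtain ⟨α, β, hαβ⟩ := Submodule.mem_span_pair.mp hmem
        apply hy₀
        have h1 : f y₀ g = β := by
          rw [← hαβ, hb.add_left, hb.smul_left, hb.smul_left, swap0 H hgp, heg, mul_zero, zero_add,
            mul_one]
        rw [swap0 H hgy₀] at h1
        rw [← hαβ, ← h1, zero_smul, add_zero]
        exact Submodule.smul_mem _ _ (Submodule.mem_span_singleton_self p)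
    have := hS2 e w he hww hpw hew ?_ 1
    · rwa [one_smul] at this
    · intro hmem
      obtain ⟨α, β, hαβ⟩ := Submodule.mem_span_pair.mp hmem
      have h1 : f e g = 0 := by
        rw [← hαβ, hb.add_left, hb.smul_left, hb.smul_left, swap0 H hgp, swap0 H hgw, mul_zero,
          mul_zero, add_zero]
      rw [heg] at h1
      exact one_ne_zero h1
  -- all vectors orthogonal to `p`
  have hall : ∀ y : ι → F, f p y = 0 → InU f X p y := by
    intro y hpy
    by_cases hy : y ∈ Submodule.span F {p}
    · obtain ⟨c, rfl⟩ := Submodule.mem_span_singleton.mp hy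
      exact hFp c
    obtain ⟨w, hww, hpw, hyw, -⟩ := exists_mid H hn p hy hy
    have hwy : f w y = f y w := H.symm w y
    have m1 : InU f X p (y + (-f y y / (2 * f y w)) • w) := by
      apply hsing
      · simp only [hb.add_left, hb.add_right, hb.smul_left, hb.smul_right, hww, hwy]
        field_simp
        ring
      · rw [hb.add_right, hb.smul_right, hpy, hpw, mul_zero, add_zero]
    have m2 : InU f X p ((-f y y / (2 * f y w)) • w) := by
      apply hsing
      · rw [hb.smul_left, hb.smul_right, hww, mul_zero, mul_zero]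
      · rw [hb.smul_right, hpw, mul_zero]
    have m3 := U_sub hb m1 m2
    rw [add_sub_cancel_right] at m3
    exact m3
  intro φ hφ
  obtain ⟨y, rfl⟩ := exists_cov H φ
  rw [cov_dot hb] at hφ
  exact (hall y hφ).2

/-- Moving along orthogonal singular vectors. -/
theorem InC_perp [Finite F] (H : SF f) (hn : 13 ≤ Fintype.card ι)
    (hX : similarityGroup f ⊓ specialLinear ι F ≤ X) {v b : ι → F} (hv : InC X v) (hv0 : v ≠ 0)
    (hbb : f b b = 0) (hvb : f v b = 0) (hbv : b ∉ Submodule.span F {v}) : InC X b := by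
  have hb := H.bil
  have hvspan : v ∉ Submodule.span F {b} := by
    intro hmem
    obtain ⟨c, hc⟩ := Submodule.mem_span_singleton.mp hmem
    apply hbv
    have hc0 : c ≠ 0 := by
      rintro rfl
      rw [zero_smul] at hc
      exact hv0 hc.symm
    have : b = c⁻¹ • v := by rw [← hc, smul_smul, inv_mul_cancel₀ hc0, one_smul]
    rw [this]
    exact Submodule.smul_mem _ _ (Submodule.mem_span_singleton_self v)
  obtain ⟨a, haa, hba, hva, -⟩ := exists_mid H hn b hvspan hvspan
  have m1 := hv.map (hX (sgl0_mem H haa hbb hba))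
  rw [sgl0_mulVec H haa hba, hvb, zero_smul, sub_zero] at m1
  have hind : v + f v a • b ∉ Submodule.span F {v} := by
    intro hmem
    apply hbv
    have : b = (f v a)⁻¹ • ((v + f v a • b) - v) := by
      rw [add_sub_cancel_left, smul_smul, inv_mul_cancel₀ hva, one_smul]
    rw [this]
    exact Submodule.smul_mem _ _ (Submodule.sub_mem _ hmem (Submodule.mem_span_singleton_self v))
  have m2 := hv.add_smul m1 hind (-1)
  have e : v + f v a • b + (-1 : F) • v = f v a • b := by
    rw [neg_one_smul]; abel
  rw [e] at m2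
  have m3 := m2.smul (inv_ne_zero hva)
  rw [smul_smul, inv_mul_cancel₀ hva, one_smul] at m3
  exact m3

/-- One full transvection group with singular centre gives all transvections. -/
theorem specialLinear_le_of_InC [Finite F] [Nontrivial ι] (H : SF f)
    (hn : 13 ≤ Fintype.card ι) (hX : similarityGroup f ⊓ specialLinear ι F ≤ X) {p : ι → F}
    (hp0 : p ≠ 0) (hpp : f p p = 0) (hp : InC X p) : specialLinear ι F ≤ X := by
  have hb := H.bil
  -- singular vectors
  have hsing : ∀ w : ι → F, w ≠ 0 → f w w = 0 → InC X w := by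
    intro w hw0 hww
    obtain ⟨e, g, hee, hgg, heg, ⟨hep, hew, -, -, -⟩, ⟨hgp, hgw, -, -, -⟩⟩ :=
      exists_hyp H hn p w 0 0 0
    have he0 : e ≠ 0 := by
      rintro rfl
      rw [form_zero_left hb] at heg
      exact zero_ne_one heg
    have he : InC X e := by
      apply InC_perp H hn hX hp hp0 hee (swap0 H hep)
      intro hmem
      obtain ⟨c, hc⟩ := Submodule.mem_span_singleton.mp hmem
      rw [← hc, hb.smul_left, swap0 H hgp, mul_zero] at heg
      exact zero_ne_one heg
    by_cases hwe : w ∈ Submodule.span F {e}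
    · obtain ⟨c, rfl⟩ := Submodule.mem_span_singleton.mp hwe
      apply he.smul
      rintro rfl
      exact hw0 (zero_smul _ _)
    · exact InC_perp H hn hX he he0 hww hew hwe
  -- all vectors
  have hall : ∀ x : ι → F, x ≠ 0 → InC X x := by
    intro x hx0
    obtain ⟨w, a, hww, hxw, hiso1⟩ := exists_decomp H hn hx0
    have hw0 : w ≠ 0 := by
      rintro rfl
      exact hxw (form_zero_right hb x)
    have hxspan : x ∉ Submodule.span F {w} := by
      intro hmem
      obtain ⟨c, rfl⟩ := Submodule.mem_span_singleton.mp hmem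
      apply hxw
      rw [hb.smul_left, hww, mul_zero]
    by_cases ha0 : a = 0
    · rw [ha0, zero_smul, sub_zero] at hiso1
      exact hsing x hx0 hiso1
    have m1 : InC X (a • w) := (hsing w hw0 hww).smul ha0
    have hne : x - a • w ≠ 0 := by
      intro h
      apply hxspan
      rw [sub_eq_zero.mp h]
      exact Submodule.smul_mem _ _ (Submodule.mem_span_singleton_self w)
    have m2 : InC X (x - a • w) := hsing _ hne hiso1
    have hind : x - a • w ∉ Submodule.span F {a • w} := by
      intro hmem
      obtain ⟨c, hc⟩ := Submodule.mem_span_singleton.mp hmem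
      apply hxspan
      have : x = (c * a + a) • w := by
        rw [add_smul, ← smul_smul, hc]; abel
      rw [this]
      exact Submodule.smul_mem _ _ (Submodule.mem_span_singleton_self w)
    have m3 := m1.add_smul m2 hind 1
    rw [one_smul, sub_add_cancel] at m3
    exact m3
  apply specialLinear_le_of_tau_mem
  intro v φ h
  by_cases hv : v = 0
  · subst hv
    have : tau (0 : ι → F) φ h = 1 := by
      apply gl_ext
      intro x
      rw [tau_mulVec, smul_zero, add_zero, Units.val_one, one_mulVec]
    rw [this]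
    exact X.one_mem
  · have := hall v hv φ h
    rwa [tv_eq h] at this

end Cfsg.Agent.Helper7.SLOrth
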