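import Mathlib
import Cfsg.Agent.Helper7.SLOrthC

set_option autoImplicit false

/-! # Producing a transvection from a non-similarity of a symmetric form -/

namespace Cfsg.Agent.Helper7.SLOrth

open Matrix Module Cfsg Cfsg.Geo Cfsg.Agent.Helper7.TGL Cfsg.Agent.Helper7.PMax
  Cfsg.Agent.Helper7.SLMax
open Cfsg.Agent.Helper7.SLUnit (tv tv_eq tv_mulVec tv_mem_SL tv_zero_right tv_mul tv_inv tv_comm
  tv_conj tv_smul sgl InU InC)

variable {ι : Type} [Fintype ι] [DecidableEq ι] {F : Type*} [Field F]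
variable {f f' : (ι → F) → (ι → F) → F}
variable {X : Subgroup (GL ι F)}

theorem pull_SF (H : SF f) (g : GL ι F) : SF (pull f g) := by
  have hb := H.bil
  have hne : ∀ v : ι → F, v ≠ 0 → ((g⁻¹ : GL ι F) : Matrix ι ι F) *ᵥ v ≠ 0 := by
    intro v hv h
    apply hv
    have := gl_mulVec_inv g v
    rw [h, mulVec_zero] at this
    exact this.symm
  refine ⟨⟨?_, ?_, ?_, ?_⟩, ?_, ?_, H.two_ne⟩
  · intro x y v
    unfold pull
    rw [mulVec_add, hb.add_left]
  · intro c x v
    unfold pull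
    rw [mulVec_smul, hb.smul_left]
  · intro v x y
    unfold pull
    rw [mulVec_add, hb.add_right]
  · intro c v x
    unfold pull
    rw [mulVec_smul, hb.smul_right]
  · intro v w
    exact H.symm _ _
  · intro v hv
    obtain ⟨⟨x, hx⟩, ⟨y, hy⟩⟩ := H.nondeg _ (hne v hv)
    refine ⟨⟨(g : Matrix ι ι F) *ᵥ x, ?_⟩, ⟨(g : Matrix ι ι F) *ᵥ y, ?_⟩⟩
    · unfold pull
      rw [gl_inv_mulVec]
      exact hx
    · unfold pull
      rw [gl_inv_mulVec]
      exact hy

/-- The Siegel elements of the transported form are conjugates. -/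
theorem sgl_pull (H : SF f) (g : GL ι F) {c d : ι → F} (hcc : pull f g c c = 0)
    (hdc : pull f g d c = 0) :
    sgl (pull f g) c d 0 = g * sgl f (((g⁻¹ : GL ι F) : Matrix ι ι F) *ᵥ c)
      (((g⁻¹ : GL ι F) : Matrix ι ι F) *ᵥ d) 0 * g⁻¹ := by
  apply gl_ext
  intro x
  rw [gl_mul_mulVec, gl_mul_mulVec, sgl0_mulVec (pull_SF H g) hcc hdc, sgl0_mulVec H hcc hdc,
    mulVec_sub, mulVec_add, mulVec_smul, mulVec_smul, gl_mulVec_inv, gl_mulVec_inv, gl_mulVec_inv]
  rfl

theorem sgl_pull_mem (H : SF f) (hX : similarityGroup f ⊓ specialLinear ι F ≤ X) {g : GL ι F}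
    (hg : g ∈ X) {c d : ι → F} (hcc : pull f g c c = 0) (hdd : pull f g d d = 0)
    (hdc : pull f g d c = 0) : sgl (pull f g) c d 0 ∈ X := by
  rw [sgl_pull H g hcc hdc]
  exact X.mul_mem (X.mul_mem hg (hX (sgl0_mem H hcc hdd hdc))) (X.inv_mem hg)

/-- The commutator of suitable Siegel elements of two forms is a transvection. -/
theorem comm_sgl (H : SF f) (H' : SF f') {a b c d : ι → F}
    (haa : f a a = 0) (hba : f b a = 0)
    (hcc : f' c c = 0) (hdc : f' d c = 0)
    (hac : f' a c = 0) (had : f' a d = 0) (hbc : f' b c = 0) (hbd : f' b d = 0)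
    (hca : f c a = 0) (hcb : f c b = 0) :
    sgl f a b 0 * sgl f' c d 0 * (sgl f a b 0)⁻¹ * (sgl f' c d 0)⁻¹ =
      tv (f d a • b - f d b • a) (cov f' c) := by
  have hb := H.bil
  have hb' := H'.bil
  have h0 : cov f' c ⬝ᵥ (f d a • b - f d b • a) = 0 := by
    rw [cov_dot hb', form_sub_left hb', hb'.smul_left, hb'.smul_left, hbc, hac, mul_zero, mul_zero,
      sub_zero]
  have key : sgl f a b 0 * sgl f' c d 0 =
      tv (f d a • b - f d b • a) (cov f' c) * sgl f' c d 0 * sgl f a b 0 := by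
    apply gl_ext
    intro x
    simp only [gl_mul_mulVec, sgl0_mulVec H haa hba, sgl0_mulVec H' hcc hdc, tv_mulVec h0,
      cov_dot hb', hb.add_left, form_sub_left hb, hb.smul_left, hb'.add_left, form_sub_left hb',
      hb'.smul_left, hcc, hdc, hac, had, hbc, hbd, hca, hcb]
    module
  rw [key]
  group

/-- Two symmetric forms such that orthogonality to singular vectors for the first implies it for
the second are proportional. -/
theorem exists_witness [Finite F] (H : SF f) (H' : SF f') (hn : 13 ≤ Fintype.card ι)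
    (hnp : ¬ ∃ c : F, c ≠ 0 ∧ ∀ x y, f' x y = c * f x y) :
    ∃ a y : ι → F, f a a = 0 ∧ f a y = 0 ∧ f' a y ≠ 0 := by
  have hb := H.bil
  have hb' := H'.bil
  by_contra hcon
  push Not at hcon
  have key : ∀ a : ι → F, a ≠ 0 → f a a = 0 → ∃ c : F, ∀ y, f' a y = c * f a y := by
    intro a ha0 haa
    obtain ⟨y₁, hy₁⟩ := (H.nondeg a ha0).2
    refine ⟨f' a ((f a y₁)⁻¹ • y₁), fun y => ?_⟩
    have h1 : f a (y - f a y • (f a y₁)⁻¹ • y₁) = 0 := by
      rw [form_sub_right hb, hb.smul_right, hb.smul_right, inv_mul_cancel₀ hy₁, mul_one, sub_self]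
    have h2 := hcon a _ haa h1
    rw [form_sub_right hb', hb'.smul_right] at h2
    linear_combination h2
  have hsame : ∀ a b : ι → F, a ≠ 0 → b ≠ 0 → f a a = 0 → f b b = 0 → ∀ ca cb : F,
      (∀ y, f' a y = ca * f a y) → (∀ y, f' b y = cb * f b y) → ca = cb := by
    intro a b ha0 hb0 haa hbb ca cb hca hcb
    obtain ⟨u, huu, hau, hbu⟩ := exists_mid0 H hn ha0 hb0
    have hu0 : u ≠ 0 := by
      rintro rfl
      exact hau (form_zero_right hb a)
    obtain ⟨cu, hcu⟩ := key u hu0 huu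
    have e1 : ca = cu := by
      have h1 := hca u
      have h2 := hcu a
      rw [H'.symm u a, H.symm u a, h1] at h2
      exact mul_right_cancel₀ hau h2
    have e2 : cb = cu := by
      have h1 := hcb u
      have h2 := hcu b
      rw [H'.symm u b, H.symm u b, h1] at h2
      exact mul_right_cancel₀ hbu h2
    rw [e1, e2]
  obtain ⟨e, e', hee, -, hee', -, -⟩ := exists_hyp H hn (0 : ι → F) 0 0 0 0
  have he0 : e ≠ 0 := by
    rintro rfl
    rw [form_zero_left hb] at hee'
    exact zero_ne_one hee'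
  obtain ⟨c₁, hc₁⟩ := key e he0 hee
  have hiso : ∀ v : ι → F, f v v = 0 → ∀ y, f' v y = c₁ * f v y := by
    intro v hvv y
    by_cases hv0 : v = 0
    · rw [hv0, form_zero_left hb, form_zero_left hb', mul_zero]
    obtain ⟨cv, hcv⟩ := key v hv0 hvv
    rw [← hsame v e hv0 he0 hvv hee cv c₁ hcv hc₁]
    exact hcv y
  apply hnp
  refine ⟨c₁, ?_, fun x y => ?_⟩
  · rintro rfl
    obtain ⟨y, hy⟩ := (H'.nondeg e he0).2
    apply hy
    rw [hc₁, zero_mul]
  · by_cases hx0 : x = 0
    · rw [hx0, form_zero_left hb, form_zero_left hb', mul_zero]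
    obtain ⟨w, a, hww, -, hiso1⟩ := exists_decomp H hn hx0
    have hiso2 : f (a • w) (a • w) = 0 := by
      rw [hb.smul_left, hb.smul_right, hww, mul_zero, mul_zero]
    have e1 := hiso _ hiso1 y
    have e2 := hiso _ hiso2 y
    have e3 : x = (x - a • w) + a • w := by abel
    rw [e3, hb'.add_left, hb.add_left, e1, e2, mul_add]

end Cfsg.Agent.Helper7.SLOrth
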