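import Mathlib
import Cfsg.Agent.Helper7.SLOrthD

set_option autoImplicit false

/-! # The normaliser of the orthogonal group is maximal in `SL_n(F)` (odd characteristic) -/

namespace Cfsg.Agent.Helper7.SLOrth

open Matrix Module Cfsg Cfsg.Geo Cfsg.Agent.Helper7.TGL Cfsg.Agent.Helper7.PMax
  Cfsg.Agent.Helper7.SLMax
open Cfsg.Agent.Helper7.SLUnit (tv tv_eq tv_mulVec tv_mem_SL tv_zero_right tv_mul tv_inv tv_comm
  tv_conj tv_smul sgl InU InC)

variable {ι : Type} [Fintype ι] [DecidableEq ι] {F : Type*} [Field F]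
variable {f : (ι → F) → (ι → F) → F}
variable {X : Subgroup (GL ι F)}

/-- An element of `X` that is not a similarity produces a full transvection group with singular
centre. -/
theorem exists_InC_of_not_sim [Finite F] (H : SF f) (hn : 13 ≤ Fintype.card ι)
    (hX : similarityGroup f ⊓ specialLinear ι F ≤ X) {g : GL ι F} (hg : g ∈ X)
    (hgs : g ∉ similarityGroup f) : ∃ p : ι → F, p ≠ 0 ∧ f p p = 0 ∧ InC X p := by
  have hb := H.bil
  have H' : SF (pull f g) := pull_SF H g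
  have hb' := H'.bil
  obtain ⟨f', hf'def⟩ : ∃ f' : (ι → F) → (ι → F) → F, f' = pull f g := ⟨_, rfl⟩
  rw [← hf'def] at H' hb'
  have hnp : ¬ ∃ c : F, c ≠ 0 ∧ ∀ x y, f' x y = c * f x y := by
    rintro ⟨c, hc0, hc⟩
    apply hgs
    refine ⟨Units.mk0 c⁻¹ (inv_ne_zero hc0), fun u v => ?_⟩
    have := hc ((g : Matrix ι ι F) *ᵥ u) ((g : Matrix ι ι F) *ᵥ v)
    rw [hf'def] at this
    unfold pull at this
    rw [gl_inv_mulVec, gl_inv_mulVec] at this
    rw [Units.val_mk0, this]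
    field_simp
  obtain ⟨a, y, haa, hay, hay'⟩ := exists_witness H H' hn hnp
  have ha0 : a ≠ 0 := by
    rintro rfl
    exact hay' (form_zero_left hb' y)
  -- the vector representing `f(·,a)` for `f'`
  obtain ⟨a', ha'⟩ := exists_cov H' (cov f a)
  have ha'x : ∀ x, f' x a' = f x a := by
    intro x
    rw [← cov_dot hb', ha', cov_dot hb]
  have ha'a : a' ∉ Submodule.span F {a} := by
    intro hmem
    obtain ⟨s, hs⟩ := Submodule.mem_span_singleton.mp hmem
    have h1 := ha'x y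
    rw [← hs, hb'.smul_right, H.symm y a, hay, H'.symm y a] at h1
    have hs0 : s = 0 := (mul_eq_zero.mp h1).resolve_right hay'
    rw [hs0, zero_smul] at hs
    obtain ⟨x, hx⟩ := (H.nondeg a ha0).1
    apply hx
    rw [← ha'x, ← hs, form_zero_right hb']
  -- two candidates for `b`
  obtain ⟨e₁, g₁, he₁e₁, -, he₁g₁, ⟨he₁a, -, -, -, -⟩, ⟨hg₁a, -, -, -, -⟩⟩ :=
    exists_hyp H hn a 0 0 0 0
  obtain ⟨e₂, g₂, he₂e₂, -, he₂g₂, ⟨he₂a, -, he₂g₁, -, -⟩, ⟨hg₂a, -, -, -, -⟩⟩ :=
    exists_hyp H hn a e₁ g₁ 0 0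
  have hb_ex : ∃ b gb : ι → F, f b b = 0 ∧ f b a = 0 ∧ f b gb = 1 ∧ f a gb = 0 ∧
      a' ∉ Submodule.span F {a, b} := by
    by_cases h1 : a' ∈ Submodule.span F {a, e₁}
    · by_cases h2 : a' ∈ Submodule.span F {a, e₂}
      · exfalso
        obtain ⟨s₁, t₁, h1'⟩ := Submodule.mem_span_pair.mp h1
        obtain ⟨s₂, t₂, h2'⟩ := Submodule.mem_span_pair.mp h2
        have e1 : f a' g₁ = t₁ := by
          rw [← h1', hb.add_left, hb.smul_left, hb.smul_left, swap0 H hg₁a, he₁g₁, mul_zero, zero_add,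
            mul_one]
        have e2 : f a' g₁ = 0 := by
          rw [← h2', hb.add_left, hb.smul_left, hb.smul_left, swap0 H hg₁a, he₂g₁, mul_zero, mul_zero,
            add_zero]
        rw [e2] at e1
        apply ha'a
        rw [← h1', ← e1, zero_smul, add_zero]
        exact Submodule.smul_mem _ _ (Submodule.mem_span_singleton_self a)
      · exact ⟨e₂, g₂, he₂e₂, he₂a, he₂g₂, swap0 H hg₂a, h2⟩
    · exact ⟨e₁, g₁, he₁e₁, he₁a, he₁g₁, swap0 H hg₁a, h1⟩
  obtain ⟨b, gb, hbb, hba, hbgb, hagb, ha'ab⟩ := hb_ex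
  -- the vector `d`
  obtain ⟨d₀, hd₀S, hd₀a'⟩ := exists_perp H' _ ha'ab
  have had₀ : f' a d₀ = 0 := hd₀S a (Submodule.subset_span (by simp))
  have hbd₀ : f' b d₀ = 0 := hd₀S b (Submodule.subset_span (by simp))
  obtain ⟨e, g', hee, hg'g', heg', ⟨hea, heb, hed₀, hea', -⟩, ⟨hg'a, hg'b, hg'd₀, hg'a', -⟩⟩ :=
    exists_hyp H' hn a b d₀ a' 0
  have hg'e : f' g' e = 1 := swap1 H' heg'
  obtain ⟨d, hddef⟩ : ∃ d : ι → F, d = d₀ + e + (-f' d₀ d₀ / 2) • g' := ⟨_, rfl⟩
  have hdd : f' d d = 0 := by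
    rw [hddef]
    simp only [hb'.add_left, hb'.add_right, hb'.smul_left, hb'.smul_right, hee, hg'g', heg', hg'e,
      hed₀, hg'd₀, swap0 H' hed₀, swap0 H' hg'd₀]
    have := H.two_ne
    field_simp
    ring
  have hda' : f' d a = 0 := by
    rw [hddef, hb'.add_left, hb'.add_left, hb'.smul_left, swap0 H' had₀, hea, hg'a, mul_zero,
      add_zero, add_zero]
  have hdb' : f' d b = 0 := by
    rw [hddef, hb'.add_left, hb'.add_left, hb'.smul_left, swap0 H' hbd₀, heb, hg'b, mul_zero,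
      add_zero, add_zero]
  have hda : f d a = 1 := by
    rw [← ha'x, hddef, hb'.add_left, hb'.add_left, hb'.smul_left, swap1 H' hd₀a', hea', hg'a',
      mul_zero, add_zero, add_zero]
  -- the centre
  obtain ⟨u, hudef⟩ : ∃ u : ι → F, u = f d a • b - f d b • a := ⟨_, rfl⟩
  have hab : f a b = 0 := swap0 H hba
  have huu : f u u = 0 := by
    rw [hudef]
    simp only [form_sub_left hb, form_sub_right hb, hb.smul_left, hb.smul_right, haa, hbb, hba, hab]
    ring
  have hu0 : u ≠ 0 := by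
    intro h0
    have h1 : f u gb = 1 := by
      rw [hudef, form_sub_left hb, hb.smul_left, hb.smul_left, hbgb, hagb, hda]
      ring
    rw [h0, form_zero_left hb] at h1
    exact zero_ne_one h1
  -- the vectors representing `f(·,b)` and `f(·,u)` for `f'`
  obtain ⟨b', hb'v⟩ := exists_cov H' (cov f b)
  have hb'x : ∀ x, f' x b' = f x b := by
    intro x
    rw [← cov_dot hb', hb'v, cov_dot hb]
  obtain ⟨u', hu'def⟩ : ∃ u' : ι → F, u' = f d a • b' - f d b • a' := ⟨_, rfl⟩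
  have hu'v : cov f' u' = cov f u := by
    rw [hu'def, hudef, csub hb', csub hb, cov_smul hb', cov_smul hb', cov_smul hb, cov_smul hb, ha',
      hb'v]
  -- the vector `c`
  obtain ⟨e₃, g₃, he₃e₃, hg₃g₃, he₃g₃, ⟨he₃a, he₃b, he₃d, he₃a', he₃b'⟩,
    ⟨hg₃a, hg₃b, hg₃d, hg₃a', hg₃b'⟩⟩ := exists_hyp H' hn a b d a' b'
  have hc_ex : ∃ c : ι → F, f' c c = 0 ∧ f' c a = 0 ∧ f' c b = 0 ∧ f' c d = 0 ∧ f' c a' = 0 ∧
      f' c b' = 0 ∧ c ∉ Submodule.span F {u'} := by
    by_cases h1 : e₃ ∈ Submodule.span F {u'}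
    · refine ⟨g₃, hg₃g₃, hg₃a, hg₃b, hg₃d, hg₃a', hg₃b', ?_⟩
      intro h2
      obtain ⟨s, hs⟩ := Submodule.mem_span_singleton.mp h1
      obtain ⟨t, ht⟩ := Submodule.mem_span_singleton.mp h2
      have e1 : s * s * f' u' u' = 0 := by
        have := he₃e₃
        rw [← hs, hb'.smul_left, hb'.smul_right] at this
        linear_combination this
      have e2 : s * t * f' u' u' = 1 := by
        have := he₃g₃
        rw [← hs, ← ht, hb'.smul_left, hb'.smul_right] at this
        linear_combination this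
      have e3 : s * (s * t * f' u' u') = 0 := by linear_combination t * e1
      rw [e2, mul_one] at e3
      rw [e3, zero_mul, zero_mul] at e2
      exact zero_ne_one e2
    · exact ⟨e₃, he₃e₃, he₃a, he₃b, he₃d, he₃a', he₃b', h1⟩
  obtain ⟨c, hcc, hca', hcb', hcd', hca'', hcb'', hcu'⟩ := hc_ex
  have hca : f c a = 0 := by rw [← ha'x]; exact hca''
  have hcb : f c b = 0 := by rw [← hb'x]; exact hcb''
  -- the transvection
  have hA : sgl f a b 0 ∈ X := hX (sgl0_mem H haa hbb hba)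
  have hB : sgl f' c d 0 ∈ X := by
    rw [hf'def]
    rw [hf'def] at hcc hdd hcd'
    exact sgl_pull_mem H hX hg hcc hdd (swap0 (pull_SF H g) hcd')
  have hT : tv (f d a • b - f d b • a) (cov f' c) ∈ X := by
    rw [← comm_sgl H H' haa hba hcc (swap0 H' hcd') (swap0 H' hca') (swap0 H' hda')
      (swap0 H' hcb') (swap0 H' hdb') hca hcb]
    exact X.mul_mem (X.mul_mem (X.mul_mem hA hB) (X.inv_mem hA)) (X.inv_mem hB)
  rw [← hudef] at hT
  obtain ⟨y₀, hy₀⟩ := exists_cov H (cov f' c)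
  have hIn : InU f X u y₀ := by
    refine ⟨?_, ?_⟩
    · rw [← cov_dot hb, hy₀, cov_dot hb', hudef, form_sub_left hb', hb'.smul_left, hb'.smul_left,
        swap0 H' hcb', swap0 H' hca', mul_zero, mul_zero, sub_zero]
    · rw [hy₀]; exact hT
  have hy₀u : y₀ ∉ Submodule.span F {u} := by
    intro hmem
    obtain ⟨t, ht⟩ := Submodule.mem_span_singleton.mp hmem
    apply hcu'
    have : cov f' c = cov f' (t • u') := by
      rw [cov_smul hb', hu'v, ← cov_smul hb, ht, hy₀]
    rw [cov_inj H' this]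
    exact Submodule.smul_mem _ _ (Submodule.mem_span_singleton_self u')
  exact ⟨u, hu0, huu, InC_of_InU H hn hX huu hIn hy₀u⟩

/-- The main lemma: a subgroup containing the determinant-one similarities of `f` and an element that
is not a similarity contains the special linear group. -/
theorem specialLinear_le_of_not_sim [Finite F] [Nontrivial ι] (H : SF f)
    (hn : 13 ≤ Fintype.card ι) (X : Subgroup (GL ι F))
    (hX : similarityGroup f ⊓ specialLinear ι F ≤ X) {g : GL ι F} (hg : g ∈ X)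
    (hgs : g ∉ similarityGroup f) : specialLinear ι F ≤ X := by
  obtain ⟨p, hp0, hpp, hp⟩ := exists_InC_of_not_sim H hn hX hg hgs
  exact specialLinear_le_of_InC H hn hX hp0 hpp hp

/-- Some element of the special linear group is not a similarity of `f`. -/
theorem exists_not_sim [Finite F] (H : SF f) (hn : 13 ≤ Fintype.card ι) :
    ∃ τ ∈ specialLinear ι F, τ ∉ similarityGroup f := by
  have hb := H.bil
  obtain ⟨e, g, hee, hgg, heg, -, -⟩ := exists_hyp H hn (0 : ι → F) 0 0 0 0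
  obtain ⟨e', g', hee', hgg', heg', ⟨he'e, he'g, -, -, -⟩, ⟨hg'e, hg'g, -, -, -⟩⟩ :=
    exists_hyp H hn e g 0 0 0
  have h0 : cov f e' ⬝ᵥ e = 0 := by rw [cov_dot hb]; exact swap0 H he'e
  refine ⟨tv e (cov f e'), tv_mem_SL _ _, ?_⟩
  rintro ⟨c, hc⟩
  have e2 := hc g' g
  rw [tv_mulVec h0, tv_mulVec h0, cov_dot hb, cov_dot hb, swap0 H he'g, zero_smul, add_zero,
    swap1 H heg', one_smul, hb.add_left, hg'g, heg, zero_add, mul_zero] at e2
  exact one_ne_zero e2

end Cfsg.Agent.Helper7.SLOrth
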