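import Mathlib
import Cfsg.Agent.Helper7.SLSpD
import Cfsg.Agent.Helper7.SingerJ

set_option autoImplicit false
set_option linter.unusedSectionVars false

/-! Diagonal elements of order `r ∣ q - 1` that are similarities of no symplectic form (helper7). -/

namespace Cfsg.Agent.Helper7.SLSp

open Matrix Module Cfsg Cfsg.Geo Cfsg.Agent.Helper7.SLMax

variable {F : Type*} [Field F] {n : ℕ}

theorem diag_noSim_big {i0 i1 i2 : Fin n} (h01 : i0 ≠ i1) (h12 : i1 ≠ i2) (h02 : i0 ≠ i2)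
    (he : Even n) (hn4 : 4 ≤ n) (ω : F) (h0 : ω ≠ 0) (h1 : ω ≠ 1) (h2 : ω ^ 2 ≠ 1)
    (h3 : ω ^ 3 ≠ 1) (h4 : ω ^ 4 ≠ 1) (h6 : ω ^ 6 ≠ 1) :
    NoSim (diagonal (dAB {i0, i1} {i2} ω (ω⁻¹ * ω⁻¹)) : Matrix (Fin n) (Fin n) F) := by
  intro f' hf' c hc
  have hab : ω ≠ ω⁻¹ * ω⁻¹ := by
    intro h
    apply h3
    have : ω ^ 3 = ω ^ 2 * (ω⁻¹ * ω⁻¹) := by rw [← h]; ring
    rw [this]
    field_simp
  have hb1 : ω⁻¹ * ω⁻¹ ≠ 1 := by
    intro h
    apply h2
    have : ω ^ 2 = ω ^ 2 * (ω⁻¹ * ω⁻¹) := by rw [h, mul_one]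
    rw [this]
    field_simp
  have hb0 : ω⁻¹ * ω⁻¹ ≠ 0 := mul_ne_zero (inv_ne_zero h0) (inv_ne_zero h0)
  have hdisj : Disjoint ({i0, i1} : Finset (Fin n)) {i2} := by
    rw [Finset.disjoint_singleton_right, Finset.mem_insert, Finset.mem_singleton, not_or]
    exact ⟨Ne.symm h02, Ne.symm h12⟩
  have hcA : ({i0, i1} : Finset (Fin n)).card = 2 := Finset.card_pair h01
  have hcB : ({i2} : Finset (Fin n)).card = 1 := Finset.card_singleton i2
  have hcAB : (({i0, i1} : Finset (Fin n)) ∪ {i2}).card = 3 := by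
    rw [Finset.card_union_of_disjoint hdisj, hcA, hcB]
  have ca := cnt_a ({i0, i1} : Finset (Fin n)) {i2} ω (ω⁻¹ * ω⁻¹) hab h1
  have cb := cnt_b ({i0, i1} : Finset (Fin n)) {i2} ω (ω⁻¹ * ω⁻¹) hdisj hab hb1
  have c1 := cnt_one ({i0, i1} : Finset (Fin n)) {i2} ω (ω⁻¹ * ω⁻¹) h1 hb1
  rw [hcA] at ca
  rw [hcB] at cb
  rw [hcAB] at c1
  have sym := cnt_symm hf' _ c hc
  -- step 1
  have s1 := sym ω h0
  rw [ca] at s1
  have hcω : (c : F) / ω = ω := by
    by_contra hne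
    by_cases hb : (c : F) / ω = ω⁻¹ * ω⁻¹
    · rw [hb, cb] at s1
      omega
    by_cases h1' : (c : F) / ω = 1
    · rw [h1', c1] at s1
      obtain ⟨k, hk⟩ := he
      omega
    · rw [cnt_other _ _ _ _ _ hne hb h1'] at s1
      omega
  have hcval : (c : F) = ω * ω := by
    rw [div_eq_iff h0] at hcω
    exact hcω
  -- step 2
  have s2 := sym (ω⁻¹ * ω⁻¹) hb0
  rw [cb, hcval] at s2
  have e4 : ω * ω / (ω⁻¹ * ω⁻¹) = ω ^ 4 := by
    field_simp
  rw [e4] at s2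
  have n1 : ω ^ 4 ≠ ω := by
    intro h
    apply h3
    have : ω ^ 3 * ω = 1 * ω := by
      rw [one_mul]
      calc ω ^ 3 * ω = ω ^ 4 := by ring
        _ = ω := h
    exact mul_right_cancel₀ h0 this
  have n2 : ω ^ 4 ≠ ω⁻¹ * ω⁻¹ := by
    intro h
    apply h6
    have : ω ^ 6 = ω ^ 2 * ω ^ 4 := by ring
    rw [this, h]
    field_simp
  rw [cnt_other _ _ _ _ _ n1 n2 h4] at s2
  omega

theorem diag_noSim_three {i0 i1 i2 : Fin n} (h01 : i0 ≠ i1) (h12 : i1 ≠ i2) (h02 : i0 ≠ i2)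
    (hn4 : 4 ≤ n) (hn6 : n ≠ 6) (ω : F) (h0 : ω ≠ 0) (h1 : ω ≠ 1) (h2 : ω ^ 2 ≠ 1) :
    NoSim (diagonal (dAB {i0, i1, i2} ∅ ω (ω * ω)) : Matrix (Fin n) (Fin n) F) := by
  intro f' hf' c hc
  have hab : ω ≠ ω * ω := by
    intro h
    apply h1
    have : ω * 1 = ω * ω := by rw [mul_one]; exact h
    exact (mul_left_cancel₀ h0 this).symm
  have hb1 : ω * ω ≠ 1 := by
    rw [← pow_two]
    exact h2
  have hdisj : Disjoint ({i0, i1, i2} : Finset (Fin n)) ∅ := Finset.disjoint_empty_right _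
  have hcA : ({i0, i1, i2} : Finset (Fin n)).card = 3 := by
    rw [Finset.card_insert_of_notMem, Finset.card_pair h12]
    rw [Finset.mem_insert, Finset.mem_singleton, not_or]
    exact ⟨h01, h02⟩
  have hcAB : (({i0, i1, i2} : Finset (Fin n)) ∪ ∅).card = 3 := by
    rw [Finset.union_empty, hcA]
  have ca := cnt_a ({i0, i1, i2} : Finset (Fin n)) ∅ ω (ω * ω) hab h1
  have cb := cnt_b ({i0, i1, i2} : Finset (Fin n)) ∅ ω (ω * ω) hdisj hab hb1
  have c1 := cnt_one ({i0, i1, i2} : Finset (Fin n)) ∅ ω (ω * ω) h1 hb1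
  rw [hcA] at ca
  rw [Finset.card_empty] at cb
  rw [hcAB] at c1
  have sym := cnt_symm hf' _ c hc
  have s1 := sym ω h0
  rw [ca] at s1
  have hcω : (c : F) / ω = ω := by
    by_contra hne
    by_cases hb : (c : F) / ω = ω * ω
    · rw [hb, cb] at s1
      omega
    by_cases h1' : (c : F) / ω = 1
    · rw [h1', c1] at s1
      omega
    · rw [cnt_other _ _ _ _ _ hne hb h1'] at s1
      omega
  have hcval : (c : F) = ω * ω := by
    rw [div_eq_iff h0] at hcω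
    exact hcω
  have s2 := sym 1 one_ne_zero
  rw [c1, div_one, hcval, cb] at s2
  omega

/-- the case `r ∣ q - 1`. -/
theorem exists_case_dvd [Fintype F] (hn : 4 ≤ n) (he : Even n) (r : ℕ) [hr : Fact r.Prime]
    (hr2 : r ≠ 2) (hgap : ¬ (n = 6 ∧ r = 3)) (hrq : r ∣ Fintype.card F - 1) :
    ∃ x : SpecialLinearGroup (Fin n) F,
      (x : Matrix (Fin n) (Fin n) F) ^ r = 1 ∧
      (∀ z : F, (x : Matrix (Fin n) (Fin n) F) ≠ z • (1 : Matrix (Fin n) (Fin n) F)) ∧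
      NoSim (x : Matrix (Fin n) (Fin n) F) := by
  obtain ⟨ζ, hζ⟩ := Cfsg.Agent.Helper7.Singer.exists_unit_of_order (F := F) r hrq
  have hpow : ∀ k : ℕ, (ζ : F) ^ k = 1 ↔ r ∣ k := by
    intro k
    rw [← hζ, orderOf_dvd_iff_pow_eq_one, ← Units.val_pow_eq_pow_val, Units.val_eq_one]
  have h0 : (ζ : F) ≠ 0 := ζ.ne_zero
  have hr1 : ¬ r ∣ 1 := fun h => hr.out.one_lt.ne' (Nat.dvd_one.mp h)
  have hr2' : ¬ r ∣ 2 := fun h => hr2 ((Nat.prime_dvd_prime_iff_eq hr.out Nat.prime_two).mp h)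
  have h1 : (ζ : F) ≠ 1 := by
    intro h
    apply hr1
    rw [← hpow, pow_one]
    exact h
  have h2 : (ζ : F) ^ 2 ≠ 1 := fun h => hr2' ((hpow 2).mp h)
  set i0 : Fin n := ⟨0, by omega⟩ with hi0
  set i1 : Fin n := ⟨1, by omega⟩ with hi1
  set i2 : Fin n := ⟨2, by omega⟩ with hi2
  set j0 : Fin n := ⟨3, by omega⟩ with hj0
  have h01 : i0 ≠ i1 := by rw [hi0, hi1, Ne, Fin.mk.injEq]; omega
  have h12 : i1 ≠ i2 := by rw [hi1, hi2, Ne, Fin.mk.injEq]; omega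
  have h02 : i0 ≠ i2 := by rw [hi0, hi2, Ne, Fin.mk.injEq]; omega
  have h03 : j0 ≠ i0 := by rw [hi0, hj0, Ne, Fin.mk.injEq]; omega
  have h13 : j0 ≠ i1 := by rw [hi1, hj0, Ne, Fin.mk.injEq]; omega
  have h23 : j0 ≠ i2 := by rw [hi2, hj0, Ne, Fin.mk.injEq]; omega
  have hζr : (ζ : F) ^ r = 1 := (hpow r).mpr dvd_rfl
  by_cases hr3 : r = 3
  · -- `r = 3`
    have hn6 : n ≠ 6 := fun h => hgap ⟨h, hr3⟩
    have h3 : (ζ : F) ^ 3 = 1 := by rw [← hr3]; exact hζr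
    have hdisj : Disjoint ({i0, i1, i2} : Finset (Fin n)) ∅ := Finset.disjoint_empty_right _
    have hcA : ({i0, i1, i2} : Finset (Fin n)).card = 3 := by
      rw [Finset.card_insert_of_notMem, Finset.card_pair h12]
      rw [Finset.mem_insert, Finset.mem_singleton, not_or]
      exact ⟨h01, h02⟩
    refine ⟨⟨diagonal (dAB {i0, i1, i2} ∅ (ζ : F) ((ζ : F) * ζ)), ?_⟩, ?_, ?_, ?_⟩
    · rw [det_diagonal, dAB_prod _ _ _ _ hdisj, hcA, Finset.card_empty, pow_zero, mul_one, h3]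
    · apply dAB_pow
      · exact hζr
      · rw [mul_pow, hζr, one_mul]
    · intro z
      apply dAB_not_scalar _ _ _ _ h1 (i0 := i0) (j0 := j0)
      · simp
      · rw [Finset.union_empty, Finset.mem_insert, Finset.mem_insert, Finset.mem_singleton]
        push_neg
        exact ⟨h03, h13, h23⟩
    · exact diag_noSim_three h01 h12 h02 hn hn6 _ h0 h1 h2
  · -- `r > 3`
    have hr5 : ∀ k, 0 < k → k ≤ 6 → k ≠ 5 → ¬ r ∣ k := by
      intro k hk0 hk6 hk5 hdvd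
      have hle := Nat.le_of_dvd hk0 hdvd
      have hr1' := hr.out.two_le
      have : r = 4 ∨ r = 5 ∨ r = 6 := by omega
      rcases this with h | h | h
      · rw [h] at hr; exact absurd hr.out (by norm_num)
      · rw [h] at hdvd
        have : k = 5 := by
          obtain ⟨t, ht⟩ := hdvd
          omega
        exact hk5 this
      · rw [h] at hr; exact absurd hr.out (by norm_num)
    have h3 : (ζ : F) ^ 3 ≠ 1 := fun h => hr5 3 (by norm_num) (by norm_num) (by norm_num) ((hpow 3).mp h)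
    have h4 : (ζ : F) ^ 4 ≠ 1 := fun h => hr5 4 (by norm_num) (by norm_num) (by norm_num) ((hpow 4).mp h)
    have h6 : (ζ : F) ^ 6 ≠ 1 := fun h => hr5 6 (by norm_num) (by norm_num) (by norm_num) ((hpow 6).mp h)
    have hdisj : Disjoint ({i0, i1} : Finset (Fin n)) {i2} := by
      rw [Finset.disjoint_singleton_right, Finset.mem_insert, Finset.mem_singleton, not_or]
      exact ⟨Ne.symm h02, Ne.symm h12⟩
    have hcA : ({i0, i1} : Finset (Fin n)).card = 2 := Finset.card_pair h01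
    have hcB : ({i2} : Finset (Fin n)).card = 1 := Finset.card_singleton i2
    refine ⟨⟨diagonal (dAB {i0, i1} {i2} (ζ : F) ((ζ : F)⁻¹ * (ζ : F)⁻¹)), ?_⟩, ?_, ?_, ?_⟩
    · rw [det_diagonal, dAB_prod _ _ _ _ hdisj, hcA, hcB]
      field_simp
    · apply dAB_pow
      · exact hζr
      · rw [mul_pow, inv_pow, hζr, inv_one, one_mul]
    · intro z
      apply dAB_not_scalar _ _ _ _ h1 (i0 := i0) (j0 := j0)
      · simp
      · rw [Finset.mem_union, Finset.mem_insert, Finset.mem_singleton, Finset.mem_singleton]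
        push_neg
        exact ⟨⟨h03, h13⟩, h23⟩
    · exact diag_noSim_big h01 h12 h02 he hn _ h0 h1 h2 h3 h4 h6

end Cfsg.Agent.Helper7.SLSp
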