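import Mathlib
import Cfsg.Prelude.Def_Classical

set_option autoImplicit false
open Cfsg

namespace Cfsg.Agent.Helper7.SO33

open Matrix

/-- The index type. -/
abbrev I3 := Unit ⊕ (Fin 1 ⊕ Fin 1)
/-- The vectors over the field with three elements. -/
abbrev V3 := I3 → ZMod 3

/-- The quadratic form over `ZMod 3`. -/
def Q3 : V3 → ZMod 3 := quadFormOdd 1 (ZMod 3)

/-- The polar form. -/
def pol (u v : V3) : ZMod 3 := Q3 (u + v) - Q3 u - Q3 v

/-- The leading coefficient. -/
def lead (v : V3) : ZMod 3 :=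
  if v (.inl ()) ≠ 0 then v (.inl ()) else
    if v (.inr (.inl 0)) ≠ 0 then v (.inr (.inl 0)) else v (.inr (.inr 0))

/-- The normalised multiple. -/
def nrm (v : V3) : V3 := lead v • v

/-- Normalised nonzero singular vectors. -/
def IsNrm (v : V3) : Prop := v ≠ 0 ∧ Q3 v = 0 ∧ lead v = 1

instance decIsNrm : DecidablePred IsNrm := fun v =>
  inferInstanceAs (Decidable (v ≠ 0 ∧ Q3 v = 0 ∧ lead v = 1))

/-- The axis of the half-turn interchanging two singular points. -/
def axis (s t : V3) : V3 := if Q3 (s + t) = 1 then s + t else s - t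

/-- The half-turn interchanging two singular points. -/
def T (s t : V3) : Matrix I3 I3 (ZMod 3) :=
  Matrix.of fun i j => -((if i = j then 1 else 0) -
    pol (Pi.single j 1) (axis s t) * Q3 (axis s t) * axis s t i)

/-- A matrix with given entries. -/
def mk9 (a b c d e f g h i : ZMod 3) : Matrix I3 I3 (ZMod 3) :=
  Matrix.of fun r s => Sum.elim (fun _ => Sum.elim (fun _ => a) (Sum.elim (fun _ => b) (fun _ => c)) s)
    (Sum.elim (fun _ => Sum.elim (fun _ => d) (Sum.elim (fun _ => e) (fun _ => f)) s)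
      (fun _ => Sum.elim (fun _ => g) (Sum.elim (fun _ => h) (fun _ => i)) s)) r

/-- The four singular points. -/
def x1 : V3 := Sum.elim (fun _ => 0) (Sum.elim (fun _ => 0) (fun _ => 1))
/-- The four singular points. -/
def x2 : V3 := Sum.elim (fun _ => 0) (Sum.elim (fun _ => 1) (fun _ => 0))
/-- The four singular points. -/
def x3 : V3 := Sum.elim (fun _ => 1) (Sum.elim (fun _ => 1) (fun _ => 2))
/-- The four singular points. -/
def x4 : V3 := Sum.elim (fun _ => 1) (Sum.elim (fun _ => 2) (fun _ => 1))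

set_option maxRecDepth 1000000 in
theorem nrm_smul : ∀ (v : V3) (c : ZMod 3), c ≠ 0 → nrm (c • v) = nrm v := by
  decide +kernel

set_option maxRecDepth 1000000 in
theorem isNrm_nrm : ∀ v : V3, (v ≠ 0 ∧ Q3 v = 0) → IsNrm (nrm v) := by
  decide +kernel

set_option maxRecDepth 1000000 in
theorem nrm_self : ∀ v : V3, IsNrm v → nrm v = v := by
  decide +kernel

set_option maxRecDepth 1000000 in
theorem lead_ne : ∀ v : V3, v ≠ 0 → lead v ≠ 0 := by
  decide +kernel

set_option maxRecDepth 1000000 in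
theorem isNrm_cases : ∀ v : V3, IsNrm v → v = x1 ∨ v = x2 ∨ v = x3 ∨ v = x4 := by
  decide +kernel

set_option maxRecDepth 1000000 in
theorem isNrm_x : IsNrm x1 ∧ IsNrm x2 ∧ IsNrm x3 ∧ IsNrm x4 := by
  decide +kernel

set_option maxRecDepth 1000000 in
theorem T_mul_self : ∀ s t : V3, (IsNrm s ∧ IsNrm t ∧ s ≠ t) → T s t * T s t = 1 := by
  decide +kernel

set_option maxRecDepth 1000000 in
theorem T_iso : ∀ s t v : V3, (IsNrm s ∧ IsNrm t ∧ s ≠ t) → Q3 (T s t *ᵥ v) = Q3 v := by
  decide +kernel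

set_option maxRecDepth 1000000 in
theorem T_det : ∀ s t : V3, (IsNrm s ∧ IsNrm t ∧ s ≠ t) → (T s t).det = 1 := by
  decide +kernel

/-- The transposition of two vectors. -/
def sw (s t x : V3) : V3 := if x = s then t else if x = t then s else x

/-- The hypothesis of `T_act`. -/
def Hyp (s t x : V3) : Prop := IsNrm s ∧ IsNrm t ∧ IsNrm x ∧ s ≠ t

instance decHyp (s t x : V3) : Decidable (Hyp s t x) :=
  inferInstanceAs (Decidable (IsNrm s ∧ IsNrm t ∧ IsNrm x ∧ s ≠ t))

set_option maxRecDepth 1000000 in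
theorem T_act : ∀ s t x : V3, Hyp s t x → nrm (T s t *ᵥ x) = sw s t x := by
  decide +kernel

set_option maxRecDepth 1000000 in
theorem ker_aux : ∀ a b c d e f g h i : ZMod 3,
    (nrm (mk9 a b c d e f g h i *ᵥ x1) = x1 ∧ nrm (mk9 a b c d e f g h i *ᵥ x2) = x2 ∧
      nrm (mk9 a b c d e f g h i *ᵥ x3) = x3 ∧ nrm (mk9 a b c d e f g h i *ᵥ x4) = x4 ∧
      (mk9 a b c d e f g h i).det = 1) → mk9 a b c d e f g h i = 1 := by
  decide +kernel

end Cfsg.Agent.Helper7.SO33
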