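import Mathlib
import Cfsg.Prelude.Def_GeometricClasses
import Cfsg.Agent.Helper7.Hermitian

set_option autoImplicit false

/-! The standard hermitian form over a field with `q²` elements (helper7): the conjugate transpose
is the adjoint; involutive automorphisms of finite fields. -/

namespace Cfsg.Agent.Helper7.SingerU

open Matrix Cfsg.Agent.Helper7.Herm

variable {F : Type*} [Field F] [Fintype F] {n q : ℕ}

/-- the conjugate transpose. -/
def adjq (q : ℕ) (k : Matrix (Fin n) (Fin n) F) : Matrix (Fin n) (Fin n) F :=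
  fun i j => (k j i) ^ q

theorem adjq_apply (k : Matrix (Fin n) (Fin n) F) (i j : Fin n) : adjq q k i j = (k j i) ^ q := rfl

theorem adjq_add (hF : Fintype.card F = q ^ 2) (k l : Matrix (Fin n) (Fin n) F) :
    adjq q (k + l) = adjq q k + adjq q l := by
  ext i j
  simp only [adjq_apply, Matrix.add_apply, add_pow_q hF]

theorem adjq_mul (hF : Fintype.card F = q ^ 2) (k l : Matrix (Fin n) (Fin n) F) :
    adjq q (k * l) = adjq q l * adjq q k := by
  ext i j
  simp only [adjq_apply, Matrix.mul_apply, sum_pow_q hF, mul_pow]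
  exact Finset.sum_congr rfl (fun m _ => mul_comm _ _)

theorem adjq_one (hF : Fintype.card F = q ^ 2) : adjq q (1 : Matrix (Fin n) (Fin n) F) = 1 := by
  have hq := one_le_q hF
  ext i j
  rw [adjq_apply, Matrix.one_apply, Matrix.one_apply]
  by_cases h : i = j
  · subst h; simp
  · rw [if_neg h, if_neg (Ne.symm h)]; exact zero_pow (by omega)

theorem adjq_adjq (hF : Fintype.card F = q ^ 2) (k : Matrix (Fin n) (Fin n) F) :
    adjq q (adjq q k) = k := by
  ext i j
  rw [adjq_apply, adjq_apply]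
  exact pow_q_pow_q hF _

theorem adjq_smul (c : F) (k : Matrix (Fin n) (Fin n) F) : adjq q (c • k) = c ^ q • adjq q k := by
  ext i j
  simp [adjq_apply, mul_pow]

theorem adjq_pow (hF : Fintype.card F = q ^ 2) (k : Matrix (Fin n) (Fin n) F) (m : ℕ) :
    adjq q (k ^ m) = adjq q k ^ m := by
  induction m with
  | zero => rw [pow_zero, pow_zero, adjq_one hF]
  | succ m ih => rw [pow_succ, adjq_mul hF, ih, ← pow_succ']

theorem trace_adjq (hF : Fintype.card F = q ^ 2) (k : Matrix (Fin n) (Fin n) F) :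
    trace (adjq q k) = (trace k) ^ q := by
  simp only [Matrix.trace, Matrix.diag, adjq_apply, sum_pow_q hF]

/-- the conjugate transpose is the adjoint. -/
theorem herm_adjq (hF : Fintype.card F = q ^ 2) (k : Matrix (Fin n) (Fin n) F) (u v : Fin n → F) :
    Cfsg.hermForm n F q (k *ᵥ u) v = Cfsg.hermForm n F q u (adjq q k *ᵥ v) := by
  unfold Cfsg.hermForm
  simp only [Matrix.mulVec, dotProduct, adjq_apply, sum_pow_q hF, mul_pow, pow_q_pow_q hF,
    Finset.sum_mul, Finset.mul_sum]
  rw [Finset.sum_comm]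
  refine Finset.sum_congr rfl (fun j _ => Finset.sum_congr rfl (fun i _ => ?_))
  ring

/-- moving a matrix from the right to the left. -/
theorem herm_adjq' (hF : Fintype.card F = q ^ 2) (k : Matrix (Fin n) (Fin n) F) (u v : Fin n → F) :
    Cfsg.hermForm n F q u (k *ᵥ v) = Cfsg.hermForm n F q (adjq q k *ᵥ u) v := by
  rw [herm_adjq hF, adjq_adjq hF]

theorem herm_right_inj (hF : Fintype.card F = q ^ 2) {v w : Fin n → F}
    (h : ∀ u, Cfsg.hermForm n F q u v = Cfsg.hermForm n F q u w) : v = w := by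
  funext i
  have h1 := h (Pi.single i 1)
  unfold Cfsg.hermForm at h1
  simp only [Pi.single_apply, ite_mul, one_mul, zero_mul, Finset.sum_ite_eq', Finset.mem_univ,
    if_true] at h1
  have h4 : ((v i) ^ q) ^ q = ((w i) ^ q) ^ q := by rw [h1]
  rwa [pow_q_pow_q hF, pow_q_pow_q hF] at h4

/-- uniqueness of the adjoint. -/
theorem eq_adjq_of (hF : Fintype.card F = q ^ 2) {k k' : Matrix (Fin n) (Fin n) F}
    (h : ∀ u v, Cfsg.hermForm n F q (k *ᵥ u) v = Cfsg.hermForm n F q u (k' *ᵥ v)) :
    k' = adjq q k := by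
  apply Matrix.mulVec_injective
  funext v
  exact herm_right_inj hF (fun u => by rw [← h, herm_adjq hF])

theorem adjq_mem (hF : Fintype.card F = q ^ 2) (K : Subalgebra F (Matrix (Fin n) (Fin n) F))
    (hadj : Cfsg.Geo.IsAdjointClosedFor (Cfsg.hermForm n F q) K)
    {k : Matrix (Fin n) (Fin n) F} (hk : k ∈ K) : adjq q k ∈ K := by
  obtain ⟨k', hk', h⟩ := hadj k hk
  rwa [eq_adjq_of hF h] at hk'

theorem adjq_mul_self_of_preserves (hF : Fintype.card F = q ^ 2) {a : Matrix (Fin n) (Fin n) F}
    (h : ∀ u v, Cfsg.hermForm n F q (a *ᵥ u) (a *ᵥ v) = Cfsg.hermForm n F q u v) :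
    adjq q a * a = 1 := by
  apply Matrix.mulVec_injective
  funext v
  rw [Matrix.one_mulVec, ← Matrix.mulVec_mulVec]
  exact herm_right_inj hF (fun u => by rw [← herm_adjq hF, h])

theorem preserves_of_adjq_mul_self (hF : Fintype.card F = q ^ 2) {a : Matrix (Fin n) (Fin n) F}
    (h : adjq q a * a = 1) (u v : Fin n → F) :
    Cfsg.hermForm n F q (a *ᵥ u) (a *ᵥ v) = Cfsg.hermForm n F q u v := by
  rw [herm_adjq hF, Matrix.mulVec_mulVec, h, Matrix.one_mulVec]

/-- the form in terms of the conjugate transpose: the Gram matrix of the columns. -/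
theorem herm_mulVec_mulVec (hF : Fintype.card F = q ^ 2) (A B : Matrix (Fin n) (Fin n) F)
    (u v : Fin n → F) :
    Cfsg.hermForm n F q (A *ᵥ u) (B *ᵥ v) = Cfsg.hermForm n F q u ((adjq q A * B) *ᵥ v) := by
  rw [herm_adjq hF, Matrix.mulVec_mulVec]

/-- the value of the form at a basis vector. -/
theorem herm_single (hF : Fintype.card F = q ^ 2) (i j : Fin n) (m : Matrix (Fin n) (Fin n) F) :
    Cfsg.hermForm n F q (m *ᵥ Pi.single j 1) (Pi.single i 1) = m i j := by
  have hq := one_le_q hF
  unfold Cfsg.hermForm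
  rw [Matrix.mulVec_single_one]
  simp only [Pi.single_apply, ite_pow, one_pow, mul_ite, mul_one, Matrix.col_apply,
    zero_pow (show q ≠ 0 by omega), mul_zero]
  simp

end Cfsg.Agent.Helper7.SingerU
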