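import Mathlib
import Cfsg.Agent.Helper5.GF9
import Cfsg.Agent.Helper7.SingerUA

/-!
# `SU₃(3)`: explicit data for `7:3 < L₂(7) < SU₃(3)` (helper7)

Over the model field `F9` with nine elements: the companion matrix `Cm` of a cubic factor
`x³ + a2 x² + a1 x + a0` of `x⁷ − 1`, the Gram matrix `Gam` of the trace form in the basis `1, ζ, ζ²`,
the Frobenius `phi`, an extra involution `tm` (so that `Cm, phi, tm` generate a group of order 168),
an orbit `Olist` of 21 non-isotropic points of that group and a unitary transvection `um` moving a point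
out of that orbit.  All facts are checked by `decide`.
-/

set_option autoImplicit false

namespace Cfsg.Agent.Helper7.SU3E1

open Cfsg.Agent.Helper5.GF9 Matrix Cfsg.Agent.Helper7.SingerU

/-- a `3 × 3` matrix over the model field from a table of numbers. -/
def mk3 (l : List (List ℕ)) : Matrix (Fin 3) (Fin 3) F9 :=
  fun i j => F9.ofN ((l.getD i.val []).getD j.val 0)

/-- a vector from a list of numbers. -/
def mkv (l : List ℕ) : Fin 3 → F9 := fun i => F9.ofN (l.getD i.val 0)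

/-- the constant coefficient. -/
def a0 : F9 := F9.ofN 2
/-- the linear coefficient. -/
def a1 : F9 := F9.ofN 4
/-- the quadratic coefficient. -/
def a2 : F9 := F9.ofN 5

/-- the companion matrix. -/
def Cm : Matrix (Fin 3) (Fin 3) F9 := !![0, 0, -a0; 1, 0, -a1; 0, 1, -a2]

/-- its inverse. -/
def Cinv : Matrix (Fin 3) (Fin 3) F9 :=
  mk3 [[4, 1, 0], [5, 0, 1], [1, 0, 0]]

/-- the Gram matrix of the trace form. -/
def Gam : Matrix (Fin 3) (Fin 3) F9 :=
  mk3 [[0, 7, 7], [4, 0, 7], [4, 4, 0]]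

/-- the Frobenius. -/
def phi : Matrix (Fin 3) (Fin 3) F9 :=
  mk3 [[1, 0, 7], [0, 0, 2], [0, 1, 2]]

/-- its inverse. -/
def phiinv : Matrix (Fin 3) (Fin 3) F9 :=
  mk3 [[1, 7, 0], [0, 2, 1], [0, 2, 0]]

/-- the extra involution. -/
def tm : Matrix (Fin 3) (Fin 3) F9 :=
  mk3 [[2, 1, 6], [0, 6, 8], [0, 5, 3]]

/-- its inverse. -/
def tinv : Matrix (Fin 3) (Fin 3) F9 :=
  mk3 [[2, 1, 6], [0, 6, 8], [0, 5, 3]]

/-- a unitary transvection. -/
def um : Matrix (Fin 3) (Fin 3) F9 :=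
  mk3 [[1, 0, 0], [0, 1, 0], [5, 5, 1]]

/-- its inverse. -/
def uinv : Matrix (Fin 3) (Fin 3) F9 :=
  mk3 [[1, 0, 0], [0, 1, 0], [7, 7, 1]]

/-- the orbit of 21 points (as number tables). -/
def Olist : List (List ℕ) :=
  [[0, 1, 6],
   [1, 0, 6],
   [1, 3, 1],
   [1, 6, 0],
   [1, 6, 3],
   [1, 6, 1],
   [1, 6, 4],
   [1, 1, 2],
   [1, 4, 2],
   [1, 7, 3],
   [1, 7, 6],
   [1, 7, 5],
   [1, 7, 8],
   [1, 2, 3],
   [1, 2, 7],
   [1, 2, 2],
   [1, 5, 3],
   [1, 5, 6],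
   [1, 5, 1],
   [1, 5, 2],
   [1, 8, 1]]

/-- the points of the orbit. -/
def Sv (a : Fin 21) : Fin 3 → F9 := mkv (Olist.getD a.val [])

/-- the orbit of 21 points. -/
def Slist : List (Fin 3 → F9) := List.ofFn Sv

theorem mem_Slist {s : Fin 3 → F9} : s ∈ Slist ↔ ∃ a, Sv a = s := by
  unfold Slist
  rw [List.mem_ofFn]

set_option maxRecDepth 100000 in
theorem Cm_e0 : Cm *ᵥ ![1, 0, 0] = ![0, 1, 0] := by
  decide +kernel

set_option maxRecDepth 100000 in
theorem Cm_e1 : Cm *ᵥ ![0, 1, 0] = ![0, 0, 1] := by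
  decide +kernel

set_option maxRecDepth 100000 in
theorem Cm_mul_Cinv : Cm * Cinv = 1 := by
  decide +kernel

set_option maxRecDepth 100000 in
theorem Cinv_mul_Cm : Cinv * Cm = 1 := by
  decide +kernel

set_option maxRecDepth 100000 in
theorem Cm_unitary : adjq 3 Cm * Gam * Cm = Gam := by
  decide +kernel

set_option maxRecDepth 100000 in
theorem Cm_det : Cm.det = 1 := by
  rw [Matrix.det_fin_three]
  decide +kernel

set_option maxRecDepth 100000 in
theorem phi_mul_phiinv : phi * phiinv = 1 := by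
  decide +kernel

set_option maxRecDepth 100000 in
theorem phiinv_mul_phi : phiinv * phi = 1 := by
  decide +kernel

set_option maxRecDepth 100000 in
theorem phi_unitary : adjq 3 phi * Gam * phi = Gam := by
  decide +kernel

set_option maxRecDepth 100000 in
theorem phi_det : phi.det = 1 := by
  rw [Matrix.det_fin_three]
  decide +kernel

set_option maxRecDepth 100000 in
theorem tm_mul_tinv : tm * tinv = 1 := by
  decide +kernel

set_option maxRecDepth 100000 in
theorem tinv_mul_tm : tinv * tm = 1 := by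
  decide +kernel

set_option maxRecDepth 100000 in
theorem tm_unitary : adjq 3 tm * Gam * tm = Gam := by
  decide +kernel

set_option maxRecDepth 100000 in
theorem tm_det : tm.det = 1 := by
  rw [Matrix.det_fin_three]
  decide +kernel

set_option maxRecDepth 100000 in
theorem um_mul_uinv : um * uinv = 1 := by
  decide +kernel

set_option maxRecDepth 100000 in
theorem uinv_mul_um : uinv * um = 1 := by
  decide +kernel

set_option maxRecDepth 100000 in
theorem um_unitary : adjq 3 um * Gam * um = Gam := by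
  decide +kernel

set_option maxRecDepth 100000 in
theorem um_det : um.det = 1 := by
  rw [Matrix.det_fin_three]
  decide +kernel

set_option maxRecDepth 100000 in
theorem phi_Cm : phi * Cm * phiinv = Cm ^ (3 ^ 2) := by
  decide +kernel

set_option maxRecDepth 100000 in
theorem tm_Cm : tm * Cm * tinv * Cm ≠ Cm * (tm * Cm * tinv) := by
  decide +kernel

set_option maxRecDepth 100000 in
theorem Cm_S' : ∀ a : Fin 21, ∃ c : F9, c ≠ 0 ∧ ∃ b : Fin 21, Cm *ᵥ Sv a = c • Sv b := by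
  decide +kernel

theorem Cm_S : ∀ s ∈ Slist, ∃ c : F9, c ≠ 0 ∧ ∃ s' ∈ Slist, Cm *ᵥ s = c • s' := by
  intro s hs
  obtain ⟨a, rfl⟩ := mem_Slist.mp hs
  obtain ⟨c, hc, b, hb⟩ := Cm_S' a
  exact ⟨c, hc, Sv b, mem_Slist.mpr ⟨b, rfl⟩, hb⟩

set_option maxRecDepth 100000 in
theorem phi_S' : ∀ a : Fin 21, ∃ c : F9, c ≠ 0 ∧ ∃ b : Fin 21, phi *ᵥ Sv a = c • Sv b := by
  decide +kernel

theorem phi_S : ∀ s ∈ Slist, ∃ c : F9, c ≠ 0 ∧ ∃ s' ∈ Slist, phi *ᵥ s = c • s' := by
  intro s hs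
  obtain ⟨a, rfl⟩ := mem_Slist.mp hs
  obtain ⟨c, hc, b, hb⟩ := phi_S' a
  exact ⟨c, hc, Sv b, mem_Slist.mpr ⟨b, rfl⟩, hb⟩

set_option maxRecDepth 100000 in
theorem tm_S' : ∀ a : Fin 21, ∃ c : F9, c ≠ 0 ∧ ∃ b : Fin 21, tm *ᵥ Sv a = c • Sv b := by
  decide +kernel

theorem tm_S : ∀ s ∈ Slist, ∃ c : F9, c ≠ 0 ∧ ∃ s' ∈ Slist, tm *ᵥ s = c • s' := by
  intro s hs
  obtain ⟨a, rfl⟩ := mem_Slist.mp hs
  obtain ⟨c, hc, b, hb⟩ := tm_S' a
  exact ⟨c, hc, Sv b, mem_Slist.mpr ⟨b, rfl⟩, hb⟩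

set_option maxRecDepth 100000 in
theorem um_S' : ∃ a : Fin 21, ∀ b : Fin 21, ∃ i j, (um *ᵥ Sv a) i * Sv b j ≠ (um *ᵥ Sv a) j * Sv b i := by
  decide +kernel

theorem um_S : ∃ s ∈ Slist, ∀ s' ∈ Slist, ∃ i j, (um *ᵥ s) i * s' j ≠ (um *ᵥ s) j * s' i := by
  obtain ⟨a, ha⟩ := um_S'
  refine ⟨Sv a, mem_Slist.mpr ⟨a, rfl⟩, fun s' hs' => ?_⟩
  obtain ⟨b, rfl⟩ := mem_Slist.mp hs'
  exact ha b

set_option maxRecDepth 100000 in
theorem Gam_eq : ∀ p : Fin 3 × Fin 3, Gam p.1 p.2 = (Cm ^ ((p.2 : ℕ) + 6 * (p.1 : ℕ))).trace := by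
  decide +kernel

set_option maxRecDepth 100000 in
theorem coef1 : a0 * a2 + a1 = a0 := by
  decide +kernel

set_option maxRecDepth 100000 in
theorem coef2 : a0 * a1 + a1 * a2 + a2 = a0 := by
  decide +kernel

set_option maxRecDepth 100000 in
theorem coef3 : a0 * a0 + a1 * a1 + a2 * a2 + 1 = a0 := by
  decide +kernel

end Cfsg.Agent.Helper7.SU3E1
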