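import Mathlib
import Cfsg.Prelude.Def_GeometricClasses
import Cfsg.Agent.Helper7.FExA

set_option autoImplicit false

/-! Field subalgebras of full degree of a matrix algebra (helper7): the natural module is free of
rank one over the field; trace and determinant are the trace and norm of the field extension; the
centraliser of the field is the field. -/

namespace Cfsg.Agent.Helper7.SingerGen

open Matrix Module

variable {F : Type*} [Field F] {ι : Type} [Fintype ι] [DecidableEq ι]

/-- the orbit map `k ↦ k x`. -/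
def orb (K : Subalgebra F (Matrix ι ι F)) (x : ι → F) : ↥K →ₗ[F] (ι → F) where
  toFun k := k.1 *ᵥ x
  map_add' k l := by rw [Subalgebra.coe_add, Matrix.add_mulVec]
  map_smul' c k := by rw [Subalgebra.coe_smul, Matrix.smul_mulVec, RingHom.id_apply]

theorem orb_apply (K : Subalgebra F (Matrix ι ι F)) (x : ι → F) (k : ↥K) :
    orb K x k = k.1 *ᵥ x := rfl

theorem orb_injective {n : ℕ} (K : Subalgebra F (Matrix ι ι F))
    (hK : Cfsg.Geo.IsFieldSubalgebra n K) {x : ι → F} (hx : x ≠ 0) :
    Function.Injective (orb K x) := by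
  rw [← LinearMap.ker_eq_bot, LinearMap.ker_eq_bot']
  intro k hk
  by_contra hne
  have hne' : k.1 ≠ 0 := fun h => hne (Subtype.ext h)
  exact hx (FEx.mulVec_eq_zero hK k.2 hne' hk)

/-- the natural module is free of rank one over a field subalgebra of full degree. -/
noncomputable def orbEquiv (K : Subalgebra F (Matrix ι ι F))
    (hK : Cfsg.Geo.IsFieldSubalgebra (Fintype.card ι) K) [Nonempty ι] {x : ι → F} (hx : x ≠ 0) :
    ↥K ≃ₗ[F] (ι → F) :=
  haveI : FiniteDimensional F ↥K := FEx.finrank_pos_of Fintype.card_pos hK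
  LinearMap.linearEquivOfInjective (orb K x) (orb_injective K hK hx)
    (by rw [hK.finrank_eq, Module.finrank_fintype_fun_eq_card])

theorem orbEquiv_apply (K : Subalgebra F (Matrix ι ι F))
    (hK : Cfsg.Geo.IsFieldSubalgebra (Fintype.card ι) K) [Nonempty ι] {x : ι → F} (hx : x ≠ 0)
    (k : ↥K) : orbEquiv K hK hx k = k.1 *ᵥ x := by
  haveI : FiniteDimensional F ↥K := FEx.finrank_pos_of Fintype.card_pos hK
  exact LinearMap.linearEquivOfInjective_apply _ _ k

/-- every vector is a multiple of a given non-zero vector. -/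
theorem exists_mulVec_eq (K : Subalgebra F (Matrix ι ι F))
    (hK : Cfsg.Geo.IsFieldSubalgebra (Fintype.card ι) K) [Nonempty ι] {x : ι → F} (hx : x ≠ 0)
    (v : ι → F) : ∃ k ∈ K, k *ᵥ x = v := by
  obtain ⟨k, hk⟩ := (orbEquiv K hK hx).surjective v
  rw [orbEquiv_apply] at hk
  exact ⟨k.1, k.2, hk⟩

/-- the centraliser of the field is the field. -/
theorem mem_of_commute (K : Subalgebra F (Matrix ι ι F))
    (hK : Cfsg.Geo.IsFieldSubalgebra (Fintype.card ι) K) [Nonempty ι] (g : Matrix ι ι F)
    (hg : ∀ k ∈ K, g * k = k * g) : g ∈ K := by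
  classical
  obtain ⟨i⟩ := ‹Nonempty ι›
  haveI : Nonempty ι := ⟨i⟩
  have hx : (Pi.single i 1 : ι → F) ≠ 0 := by
    intro h
    have := congrFun h i
    rw [Pi.single_eq_same, Pi.zero_apply] at this
    exact one_ne_zero this
  obtain ⟨k₀, hk₀, hk₀x⟩ := exists_mulVec_eq K hK hx (g *ᵥ Pi.single i 1)
  have : g = k₀ := by
    apply Matrix.mulVec_injective
    funext v
    obtain ⟨l, hl, rfl⟩ := exists_mulVec_eq K hK hx v
    rw [Matrix.mulVec_mulVec, hg l hl, ← Matrix.mulVec_mulVec, ← hk₀x, Matrix.mulVec_mulVec,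
      Matrix.mulVec_mulVec, hK.comm l hl k₀ hk₀]
  rw [this]; exact hk₀

section traceNorm

variable (K : Subalgebra F (Matrix ι ι F)) (hK : Cfsg.Geo.IsFieldSubalgebra (Fintype.card ι) K)
  [Nonempty ι]

/-- multiplication by `k` on the natural module is conjugate to multiplication by `k` on the
field. -/
theorem toLin'_eq_conj {x : ι → F} (hx : x ≠ 0) (k : ↥K) :
    letI := FEx.fieldOfSub K hK
    Matrix.toLin' k.1 = (orbEquiv K hK hx).conj (LinearMap.mul F ↥K k) := by
  letI := FEx.fieldOfSub K hK
  apply LinearMap.ext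
  intro v
  obtain ⟨l, rfl⟩ := (orbEquiv K hK hx).surjective v
  rw [LinearEquiv.conj_apply, LinearMap.comp_apply, LinearMap.comp_apply,
    LinearEquiv.coe_coe, LinearEquiv.coe_coe, LinearEquiv.symm_apply_apply, LinearMap.mul_apply_apply,
    orbEquiv_apply, orbEquiv_apply, Matrix.toLin'_apply, Matrix.mulVec_mulVec]
  rfl

theorem exists_ne_zero : ∃ x : ι → F, x ≠ 0 := by
  classical
  obtain ⟨i⟩ := ‹Nonempty ι›
  refine ⟨Pi.single i 1, fun h => ?_⟩
  have := congrFun h i
  rw [Pi.single_eq_same, Pi.zero_apply] at this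
  exact one_ne_zero this

/-- the trace of an element of the field is its trace over the base field. -/
theorem trace_eq (k : ↥K) :
    letI := FEx.fieldOfSub K hK
    Matrix.trace k.1 = Algebra.trace F ↥K k := by
  letI := FEx.fieldOfSub K hK
  obtain ⟨x, hx⟩ := exists_ne_zero (F := F) (ι := ι)
  rw [Algebra.trace_apply, ← Matrix.trace_toLin'_eq, toLin'_eq_conj K hK hx k,
    LinearMap.trace_conj']
  rfl

include hK in
/-- the determinant of an element of the field is its norm over the base field. -/
theorem det_eq (k : ↥K) : Matrix.det k.1 = Algebra.norm F k := by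
  letI := FEx.fieldOfSub K hK
  obtain ⟨x, hx⟩ := exists_ne_zero (F := F) (ι := ι)
  rw [Algebra.norm_apply, ← LinearMap.det_toLin', toLin'_eq_conj K hK hx k]
  exact LinearMap.det_conj (LinearMap.mul F ↥K k) (orbEquiv K hK hx)

end traceNorm

end Cfsg.Agent.Helper7.SingerGen
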