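import Mathlib
import Cfsg.Prelude.Def_GeometricClasses
import Cfsg.Agent.Helper7.SingerGenA

set_option autoImplicit false

/-! Field subalgebras of full degree of a matrix algebra over a finite field (helper7): the
normaliser of the field is generated by the field and any element inducing the Frobenius
automorphism. -/

namespace Cfsg.Agent.Helper7.SingerGen

open Matrix Module

variable {F : Type*} [Field F] [Fintype F] {ι : Type} [Fintype ι] [DecidableEq ι]

/-- powers of an element inducing the Frobenius automorphism. -/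
theorem conj_pow (K : Subalgebra F (Matrix ι ι F)) (φ : GL ι F)
    (hφ : ∀ k ∈ K, (φ : Matrix ι ι F) * k * ((φ⁻¹ : GL ι F) : Matrix ι ι F) = k ^ Fintype.card F)
    (j : ℕ) : ∀ k ∈ K, ((φ ^ j : GL ι F) : Matrix ι ι F) * k *
      (((φ ^ j)⁻¹ : GL ι F) : Matrix ι ι F) = k ^ (Fintype.card F ^ j) := by
  induction j with
  | zero =>
    intro k _
    rw [pow_zero, pow_zero, pow_one, inv_one, Units.val_one, one_mul, mul_one]
  | succ j ih =>
    intro k hk
    have h1 : ((φ ^ (j + 1) : GL ι F) : Matrix ι ι F) * k *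
        (((φ ^ (j + 1))⁻¹ : GL ι F) : Matrix ι ι F) =
        (φ : Matrix ι ι F) * (((φ ^ j : GL ι F) : Matrix ι ι F) * k *
          (((φ ^ j)⁻¹ : GL ι F) : Matrix ι ι F)) * ((φ⁻¹ : GL ι F) : Matrix ι ι F) := by
      rw [pow_succ', _root_.mul_inv_rev, Units.val_mul, Units.val_mul]
      simp only [mul_assoc]
    rw [h1, ih k hk, hφ _ (K.pow_mem hk _), ← pow_mul, pow_succ]

/-- The normaliser of a field subalgebra of full degree: every element is the product of an
element of the field and a power of a given element inducing the Frobenius automorphism. -/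
theorem normalizer_decomp [Nonempty ι] (K : Subalgebra F (Matrix ι ι F))
    (hK : Cfsg.Geo.IsFieldSubalgebra (Fintype.card ι) K) (φ : GL ι F)
    (hφ : ∀ k ∈ K, (φ : Matrix ι ι F) * k * ((φ⁻¹ : GL ι F) : Matrix ι ι F) = k ^ Fintype.card F)
    (g : GL ι F) (hg : g ∈ Cfsg.Geo.subalgebraNormalizer K) :
    ∃ j : ℕ, ∃ k ∈ K, (g : Matrix ι ι F) = k * ((φ ^ j : GL ι F) : Matrix ι ι F) := by
  classical
  letI := FEx.fieldOfSub K hK
  haveI : Finite (Matrix ι ι F) := inferInstanceAs (Finite (ι → ι → F))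
  haveI : Finite ↥K := Subtype.finite
  have hgK : ∀ k : Matrix ι ι F, k ∈ K ↔
      (g : Matrix ι ι F) * k * ((g⁻¹ : GL ι F) : Matrix ι ι F) ∈ K := hg
  have hginv : ∀ k : Matrix ι ι F, k ∈ K →
      ((g⁻¹ : GL ι F) : Matrix ι ι F) * k * (g : Matrix ι ι F) ∈ K := by
    intro k hk
    rw [hgK]
    have : (g : Matrix ι ι F) * (((g⁻¹ : GL ι F) : Matrix ι ι F) * k * (g : Matrix ι ι F)) *
        ((g⁻¹ : GL ι F) : Matrix ι ι F) = k := by
      have h1 : (g : Matrix ι ι F) * ((g⁻¹ : GL ι F) : Matrix ι ι F) = 1 := by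
        rw [← Units.val_mul, mul_inv_cancel, Units.val_one]
      calc _ = ((g : Matrix ι ι F) * ((g⁻¹ : GL ι F) : Matrix ι ι F)) * k *
          ((g : Matrix ι ι F) * ((g⁻¹ : GL ι F) : Matrix ι ι F)) := by simp only [mul_assoc]
        _ = k := by rw [h1, one_mul, mul_one]
    rw [this]; exact hk
  have h1 : (g : Matrix ι ι F) * ((g⁻¹ : GL ι F) : Matrix ι ι F) = 1 := by
    rw [← Units.val_mul, mul_inv_cancel, Units.val_one]
  have h2 : ((g⁻¹ : GL ι F) : Matrix ι ι F) * (g : Matrix ι ι F) = 1 := by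
    rw [← Units.val_mul, inv_mul_cancel, Units.val_one]
  let α : ↥K ≃ₐ[F] ↥K :=
    { toFun := fun k => ⟨(g : Matrix ι ι F) * k.1 * ((g⁻¹ : GL ι F) : Matrix ι ι F), (hgK k.1).mp k.2⟩
      invFun := fun k => ⟨((g⁻¹ : GL ι F) : Matrix ι ι F) * k.1 * (g : Matrix ι ι F), hginv k.1 k.2⟩
      left_inv := fun k => Subtype.ext (by
        show ((g⁻¹ : GL ι F) : Matrix ι ι F) * ((g : Matrix ι ι F) * k.1 *
          ((g⁻¹ : GL ι F) : Matrix ι ι F)) * (g : Matrix ι ι F) = k.1
        calc _ = (((g⁻¹ : GL ι F) : Matrix ι ι F) * (g : Matrix ι ι F)) * k.1 *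
            (((g⁻¹ : GL ι F) : Matrix ι ι F) * (g : Matrix ι ι F)) := by simp only [mul_assoc]
          _ = k.1 := by rw [h2, one_mul, mul_one])
      right_inv := fun k => Subtype.ext (by
        show (g : Matrix ι ι F) * (((g⁻¹ : GL ι F) : Matrix ι ι F) * k.1 * (g : Matrix ι ι F)) *
          ((g⁻¹ : GL ι F) : Matrix ι ι F) = k.1
        calc _ = ((g : Matrix ι ι F) * ((g⁻¹ : GL ι F) : Matrix ι ι F)) * k.1 *
            ((g : Matrix ι ι F) * ((g⁻¹ : GL ι F) : Matrix ι ι F)) := by simp only [mul_assoc]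
          _ = k.1 := by rw [h1, one_mul, mul_one])
      map_mul' := fun k l => Subtype.ext (by
        show (g : Matrix ι ι F) * (k.1 * l.1) * ((g⁻¹ : GL ι F) : Matrix ι ι F) =
          ((g : Matrix ι ι F) * k.1 * ((g⁻¹ : GL ι F) : Matrix ι ι F)) *
            ((g : Matrix ι ι F) * l.1 * ((g⁻¹ : GL ι F) : Matrix ι ι F))
        calc _ = (g : Matrix ι ι F) * k.1 * 1 * l.1 * ((g⁻¹ : GL ι F) : Matrix ι ι F) := by
              rw [mul_one]; simp only [mul_assoc]
          _ = _ := by rw [← h2]; simp only [mul_assoc])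
      map_add' := fun k l => Subtype.ext (by
        show (g : Matrix ι ι F) * (k.1 + l.1) * ((g⁻¹ : GL ι F) : Matrix ι ι F) =
          ((g : Matrix ι ι F) * k.1 * ((g⁻¹ : GL ι F) : Matrix ι ι F)) +
            ((g : Matrix ι ι F) * l.1 * ((g⁻¹ : GL ι F) : Matrix ι ι F))
        rw [mul_add, add_mul])
      commutes' := fun c => Subtype.ext (by
        show (g : Matrix ι ι F) * ((algebraMap F ↥K c : ↥K) : Matrix ι ι F) *
          ((g⁻¹ : GL ι F) : Matrix ι ι F) = ((algebraMap F ↥K c : ↥K) : Matrix ι ι F)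
        rw [Subalgebra.coe_algebraMap, Algebra.algebraMap_eq_smul_one, mul_smul_comm, mul_one,
          smul_mul_assoc, h1]) }
  have hα : ∀ k : ↥K, ((α k : ↥K) : Matrix ι ι F) =
      (g : Matrix ι ι F) * k.1 * ((g⁻¹ : GL ι F) : Matrix ι ι F) := fun k => rfl
  obtain ⟨⟨j, hj⟩, hjα⟩ := (FiniteField.bijective_frobeniusAlgEquivOfAlgebraic_pow F ↥K).2 α
  simp only at hjα
  have hαpow : ∀ k : ↥K, α k = k ^ (Fintype.card F ^ j) := by
    intro k
    rw [← hjα, AlgEquiv.coe_pow, FiniteField.coe_frobeniusAlgEquivOfAlgebraic_iterate]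
  have hφj := conj_pow K φ hφ j
  -- the element `(φ^j)⁻¹ g` centralises the field
  set c : Matrix ι ι F := (((φ ^ j)⁻¹ : GL ι F) : Matrix ι ι F) * (g : Matrix ι ι F) with hc
  have hp1 : ((φ ^ j : GL ι F) : Matrix ι ι F) * (((φ ^ j)⁻¹ : GL ι F) : Matrix ι ι F) = 1 := by
    rw [← Units.val_mul, mul_inv_cancel, Units.val_one]
  have hp2 : (((φ ^ j)⁻¹ : GL ι F) : Matrix ι ι F) * ((φ ^ j : GL ι F) : Matrix ι ι F) = 1 := by
    rw [← Units.val_mul, inv_mul_cancel, Units.val_one]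
  have hcK : c ∈ K := by
    apply mem_of_commute K hK
    intro k hk
    -- g k = (k^(Q^j)) g  and  φ^j k = k^(Q^j) φ^j
    have e1 : (g : Matrix ι ι F) * k = k ^ (Fintype.card F ^ j) * (g : Matrix ι ι F) := by
      have := congrArg Subtype.val (hαpow ⟨k, hk⟩)
      rw [hα, SubmonoidClass.coe_pow] at this
      calc (g : Matrix ι ι F) * k = (g : Matrix ι ι F) * k * 1 := by rw [mul_one]
        _ = (g : Matrix ι ι F) * k * (((g⁻¹ : GL ι F) : Matrix ι ι F) * (g : Matrix ι ι F)) := by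
            rw [h2]
        _ = ((g : Matrix ι ι F) * k * ((g⁻¹ : GL ι F) : Matrix ι ι F)) * (g : Matrix ι ι F) := by
            simp only [mul_assoc]
        _ = _ := by rw [this]
    have e2 : (((φ ^ j)⁻¹ : GL ι F) : Matrix ι ι F) * k ^ (Fintype.card F ^ j) =
        k * (((φ ^ j)⁻¹ : GL ι F) : Matrix ι ι F) := by
      rw [← hφj k hk]
      calc _ = ((((φ ^ j)⁻¹ : GL ι F) : Matrix ι ι F) * ((φ ^ j : GL ι F) : Matrix ι ι F)) * k *
            (((φ ^ j)⁻¹ : GL ι F) : Matrix ι ι F) := by simp only [mul_assoc]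
        _ = _ := by rw [hp2, one_mul]
    rw [hc, mul_assoc, e1, ← mul_assoc, e2, mul_assoc]
  refine ⟨j, ((φ ^ j : GL ι F) : Matrix ι ι F) * c * (((φ ^ j)⁻¹ : GL ι F) : Matrix ι ι F), ?_, ?_⟩
  · rw [hφj c hcK]; exact K.pow_mem hcK _
  · rw [mul_assoc, mul_assoc, hp2, mul_one, hc, ← mul_assoc, hp1, one_mul]

end Cfsg.Agent.Helper7.SingerGen
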