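import Mathlib
import Cfsg.Prelude.Def_GeometricClasses
import Cfsg.Agent.Helper7.SingerUA

set_option autoImplicit false
set_option linter.unusedSectionVars false

/-! Transport of matrices from a model field along a ring homomorphism and conjugation by a frame
(helper7). -/

namespace Cfsg.Agent.Helper7.SingerU

open Matrix Cfsg.Agent.Helper7.Herm

variable {F : Type*} [Field F] [Fintype F] {n q : ℕ} {F₀ : Type} [Field F₀] (ι : F₀ →+* F)

/-- transport of a model matrix. -/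
def tr (X : Matrix (Fin n) (Fin n) F₀) : Matrix (Fin n) (Fin n) F := X.map ι

theorem tr_apply (X : Matrix (Fin n) (Fin n) F₀) (i j : Fin n) : tr ι X i j = ι (X i j) := rfl

theorem tr_mul (X Y : Matrix (Fin n) (Fin n) F₀) : tr ι (X * Y) = tr ι X * tr ι Y := Matrix.map_mul

theorem tr_one : tr ι (1 : Matrix (Fin n) (Fin n) F₀) = 1 :=
  Matrix.map_one ι (map_zero ι) (map_one ι)

theorem tr_pow (X : Matrix (Fin n) (Fin n) F₀) (k : ℕ) : tr ι (X ^ k) = tr ι X ^ k := by
  induction k with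
  | zero => rw [pow_zero, pow_zero, tr_one]
  | succ k ih => rw [pow_succ, pow_succ, tr_mul, ih]

theorem tr_adjq (X : Matrix (Fin n) (Fin n) F₀) : tr ι (adjq q X) = adjq q (tr ι X) := by
  ext i j
  show ι ((X j i) ^ q) = (ι (X j i)) ^ q
  exact map_pow ι _ _

theorem tr_mulVec (X : Matrix (Fin n) (Fin n) F₀) (x : Fin n → F₀) :
    tr ι X *ᵥ (ι ∘ x) = ι ∘ (X *ᵥ x) := by
  funext i
  exact (RingHom.map_mulVec ι X x i).symm

theorem tr_trace (X : Matrix (Fin n) (Fin n) F₀) : (tr ι X).trace = ι X.trace := by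
  unfold Matrix.trace
  rw [map_sum]; rfl

theorem tr_det (X : Matrix (Fin n) (Fin n) F₀) : (tr ι X).det = ι X.det :=
  (RingHom.map_det ι X).symm

theorem tr_injective : Function.Injective (tr (n := n) ι) := Matrix.map_injective ι.injective

theorem tr_smul (c : F₀) (x : Fin n → F₀) : ι ∘ (c • x) = ι c • (ι ∘ x) := by
  funext i
  simp [Function.comp, map_mul]

/-- frame data: `ζ ∈ K` acts as the model matrix `C₀` in the basis given by the columns of `P`, in
which the hermitian form has Gram matrix `Γ₀`. -/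
structure Frame (q : ℕ) (ι : F₀ →+* F) (K : Subalgebra F (Matrix (Fin n) (Fin n) F))
    (C₀ Γ₀ : Matrix (Fin n) (Fin n) F₀) where
  /-- the generator. -/
  ζ : Matrix (Fin n) (Fin n) F
  /-- the matrix of the basis. -/
  P : Matrix (Fin n) (Fin n) F
  /-- its inverse. -/
  Pinv : Matrix (Fin n) (Fin n) F
  hPP : P * Pinv = 1
  hPP' : Pinv * P = 1
  hζK : ζ ∈ K
  hζP : ζ * P = P * tr ι C₀
  hgram : adjq q P * P = tr ι Γ₀

section frame

variable {ι} {K : Subalgebra F (Matrix (Fin n) (Fin n) F)} {C₀ Γ₀ : Matrix (Fin n) (Fin n) F₀}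
  (fr : Frame q ι K C₀ Γ₀)

/-- conjugated transport of a model matrix. -/
def cj (X : Matrix (Fin n) (Fin n) F₀) : Matrix (Fin n) (Fin n) F := fr.P * tr ι X * fr.Pinv

theorem cj_mul (X Y : Matrix (Fin n) (Fin n) F₀) : cj fr (X * Y) = cj fr X * cj fr Y := by
  unfold cj
  rw [tr_mul]
  have h := fr.hPP'
  calc fr.P * (tr ι X * tr ι Y) * fr.Pinv
      = fr.P * tr ι X * (1 : Matrix (Fin n) (Fin n) F) * tr ι Y * fr.Pinv := by
        rw [Matrix.mul_one]; simp only [Matrix.mul_assoc]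
    _ = fr.P * tr ι X * fr.Pinv * (fr.P * tr ι Y * fr.Pinv) := by
        rw [← h]; simp only [Matrix.mul_assoc]

theorem cj_one : cj fr 1 = 1 := by
  unfold cj
  rw [tr_one, Matrix.mul_one, fr.hPP]

theorem cj_pow (X : Matrix (Fin n) (Fin n) F₀) (k : ℕ) : cj fr (X ^ k) = cj fr X ^ k := by
  induction k with
  | zero => rw [pow_zero, pow_zero, cj_one]
  | succ k ih => rw [pow_succ, pow_succ, cj_mul, ih]

theorem cj_C : cj fr C₀ = fr.ζ := by
  unfold cj
  rw [← fr.hζP, Matrix.mul_assoc, fr.hPP, Matrix.mul_one]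

theorem cj_injective : Function.Injective (cj fr) := by
  intro X Y h
  apply tr_injective ι
  have h1 : fr.Pinv * (cj fr X) * fr.P = fr.Pinv * (cj fr Y) * fr.P := by rw [h]
  unfold cj at h1
  have e : ∀ A : Matrix (Fin n) (Fin n) F, fr.Pinv * (fr.P * A * fr.Pinv) * fr.P = A := by
    intro A
    calc fr.Pinv * (fr.P * A * fr.Pinv) * fr.P = (fr.Pinv * fr.P) * A * (fr.Pinv * fr.P) := by
          simp only [Matrix.mul_assoc]
      _ = A := by rw [fr.hPP', Matrix.one_mul, Matrix.mul_one]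
  rwa [e, e] at h1

theorem cj_mulVec (X : Matrix (Fin n) (Fin n) F₀) (x : Fin n → F₀) :
    cj fr X *ᵥ (fr.P *ᵥ (ι ∘ x)) = fr.P *ᵥ (ι ∘ (X *ᵥ x)) := by
  unfold cj
  rw [Matrix.mulVec_mulVec, Matrix.mul_assoc, Matrix.mul_assoc, fr.hPP', Matrix.mul_one,
    ← Matrix.mulVec_mulVec, tr_mulVec]

theorem cj_det (X : Matrix (Fin n) (Fin n) F₀) : (cj fr X).det = ι X.det := by
  unfold cj
  rw [Matrix.det_mul, Matrix.det_mul, mul_comm, ← mul_assoc, ← Matrix.det_mul, fr.hPP',
    Matrix.det_one, one_mul, tr_det]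

theorem P_mulVec_injective : Function.Injective (fun v : Fin n → F => fr.P *ᵥ v) := by
  intro v w h
  have := congrArg (fun x => fr.Pinv *ᵥ x) h
  simp only [Matrix.mulVec_mulVec, fr.hPP', Matrix.one_mulVec] at this
  exact this

/-- conjugated model matrices that are unitary for `Γ₀` preserve the standard hermitian form. -/
theorem cj_unitary (hF : Fintype.card F = q ^ 2) {X : Matrix (Fin n) (Fin n) F₀}
    (hX : adjq q X * Γ₀ * X = Γ₀) : adjq q (cj fr X) * cj fr X = 1 := by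
  have hXF : adjq q (tr ι X) * tr ι Γ₀ * tr ι X = tr ι Γ₀ := by
    rw [← tr_adjq, ← tr_mul, ← tr_mul, hX]
  have hPi : adjq q fr.Pinv * adjq q fr.P = 1 := by
    rw [← adjq_mul hF, fr.hPP, adjq_one hF]
  unfold cj
  rw [adjq_mul hF, adjq_mul hF]
  calc adjq q fr.Pinv * (adjq q (tr ι X) * adjq q fr.P) * (fr.P * tr ι X * fr.Pinv)
      = adjq q fr.Pinv * (adjq q (tr ι X) * (adjq q fr.P * fr.P) * tr ι X) * fr.Pinv := by
        simp only [Matrix.mul_assoc]
    _ = adjq q fr.Pinv * (adjq q fr.P * fr.P) * fr.Pinv := by rw [fr.hgram, hXF]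
    _ = (adjq q fr.Pinv * adjq q fr.P) * (fr.P * fr.Pinv) := by simp only [Matrix.mul_assoc]
    _ = 1 := by rw [hPi, fr.hPP, Matrix.one_mul]

/-- the unit of a conjugated model matrix. -/
def glc (X X' : Matrix (Fin n) (Fin n) F₀) (h : X * X' = 1) (h' : X' * X = 1) :
    Matrix.GeneralLinearGroup (Fin n) F :=
  ⟨cj fr X, cj fr X', by rw [← cj_mul, h, cj_one], by rw [← cj_mul, h', cj_one]⟩

theorem glc_val (X X' : Matrix (Fin n) (Fin n) F₀) (h : X * X' = 1) (h' : X' * X = 1) :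
    ((glc fr X X' h h' : Matrix.GeneralLinearGroup (Fin n) F) : Matrix (Fin n) (Fin n) F) =
      cj fr X := rfl

theorem glc_inv_val (X X' : Matrix (Fin n) (Fin n) F₀) (h : X * X' = 1) (h' : X' * X = 1) :
    (((glc fr X X' h h')⁻¹ : Matrix.GeneralLinearGroup (Fin n) F) : Matrix (Fin n) (Fin n) F) =
      cj fr X' := rfl

end frame

theorem mem_GU_iff (g : Matrix.GeneralLinearGroup (Fin n) F) :
    g ∈ Cfsg.GU n F q ↔ ∀ u v, Cfsg.hermForm n F q ((g : Matrix (Fin n) (Fin n) F) *ᵥ u)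
      ((g : Matrix (Fin n) (Fin n) F) *ᵥ v) = Cfsg.hermForm n F q u v := Iff.rfl

theorem mem_SL_iff (g : Matrix.GeneralLinearGroup (Fin n) F) :
    g ∈ Cfsg.Geo.specialLinear (Fin n) F ↔ (g : Matrix (Fin n) (Fin n) F).det = 1 := by
  unfold Cfsg.Geo.specialLinear
  rw [MonoidHom.mem_ker]
  constructor
  · intro h
    have := congrArg Units.val h
    simpa using this
  · intro h
    apply Units.ext
    simpa using h

section frame2

variable {ι} {K : Subalgebra F (Matrix (Fin n) (Fin n) F)} {C₀ Γ₀ : Matrix (Fin n) (Fin n) F₀}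
  (fr : Frame q ι K C₀ Γ₀)

theorem glc_mem_G (hF : Fintype.card F = q ^ 2) {X X' : Matrix (Fin n) (Fin n) F₀}
    (h : X * X' = 1) (h' : X' * X = 1) (hX : adjq q X * Γ₀ * X = Γ₀) (hdet : X.det = 1) :
    glc fr X X' h h' ∈ Cfsg.GU n F q ⊓ Cfsg.Geo.specialLinear (Fin n) F := by
  refine Subgroup.mem_inf.mpr ⟨?_, ?_⟩
  · rw [mem_GU_iff]
    intro u v
    rw [glc_val]
    exact preserves_of_adjq_mul_self hF (cj_unitary fr hF hX) u v
  · rw [mem_SL_iff, glc_val, cj_det, hdet, map_one]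

end frame2

end Cfsg.Agent.Helper7.SingerU
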