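import Mathlib
import Cfsg.Prelude.Def_GeometricClasses
import Cfsg.Agent.Helper7.SingerUD
import Cfsg.Agent.Helper7.FExA

set_option autoImplicit false
set_option linter.unusedSectionVars false

/-! Dimension three: a field subalgebra of degree three with a frame in which a generator is a
companion matrix is spanned by the powers of the generator; an element conjugating the generator
to its `q²`-th power induces the Frobenius automorphism of the field (helper7). -/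

namespace Cfsg.Agent.Helper7.SingerU

open Matrix Cfsg.Agent.Helper7.Herm

variable {F : Type*} [Field F] [Fintype F] {q : ℕ} {F₀ : Type} [Field F₀] {ι : F₀ →+* F}
  {K : Subalgebra F (Matrix (Fin 3) (Fin 3) F)} {C₀ Γ₀ : Matrix (Fin 3) (Fin 3) F₀}
  (fr : Frame q ι K C₀ Γ₀)

theorem iota_e0 : ι ∘ (![1, 0, 0] : Fin 3 → F₀) = ![1, 0, 0] := by
  funext i; fin_cases i <;> simp

theorem iota_e1 : ι ∘ (![0, 1, 0] : Fin 3 → F₀) = ![0, 1, 0] := by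
  funext i; fin_cases i <;> simp

theorem iota_e2 : ι ∘ (![0, 0, 1] : Fin 3 → F₀) = ![0, 0, 1] := by
  funext i; fin_cases i <;> simp

/-- the first frame vector. -/
def x0 : Fin 3 → F := fr.P *ᵥ ![1, 0, 0]

theorem x0_ne_zero : x0 fr ≠ 0 := by
  intro h
  have h1 : fr.P *ᵥ (![1, 0, 0] : Fin 3 → F) = fr.P *ᵥ 0 := by
    rw [Matrix.mulVec_zero]; exact h
  have h2 := P_mulVec_injective fr h1
  have := congrFun h2 0
  simp at this

theorem zeta_x0 (hC0 : C₀ *ᵥ ![1, 0, 0] = ![0, 1, 0]) :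
    fr.ζ *ᵥ x0 fr = fr.P *ᵥ ![0, 1, 0] := by
  unfold x0
  rw [Matrix.mulVec_mulVec, fr.hζP, ← Matrix.mulVec_mulVec, ← iota_e0 (ι := ι), tr_mulVec, hC0,
    iota_e1]

theorem zeta_sq_x0 (hC0 : C₀ *ᵥ ![1, 0, 0] = ![0, 1, 0]) (hC1 : C₀ *ᵥ ![0, 1, 0] = ![0, 0, 1]) :
    (fr.ζ ^ 2) *ᵥ x0 fr = fr.P *ᵥ ![0, 0, 1] := by
  rw [pow_two, ← Matrix.mulVec_mulVec, zeta_x0 fr hC0, Matrix.mulVec_mulVec, fr.hζP,
    ← Matrix.mulVec_mulVec, ← iota_e1 (ι := ι), tr_mulVec, hC1, iota_e2]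

/-- the field is spanned by the powers of the generator. -/
theorem mem_span_zeta (hK : Cfsg.Geo.IsFieldSubalgebra 3 K)
    (hC0 : C₀ *ᵥ ![1, 0, 0] = ![0, 1, 0]) (hC1 : C₀ *ᵥ ![0, 1, 0] = ![0, 0, 1])
    {k : Matrix (Fin 3) (Fin 3) F} (hk : k ∈ K) :
    ∃ a₀ a₁ a₂ : F, k = a₀ • 1 + a₁ • fr.ζ + a₂ • fr.ζ ^ 2 := by
  set a : Fin 3 → F := fr.Pinv *ᵥ (k *ᵥ x0 fr) with ha
  refine ⟨a 0, a 1, a 2, ?_⟩
  have hPa : fr.P *ᵥ a = k *ᵥ x0 fr := by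
    rw [ha, Matrix.mulVec_mulVec, fr.hPP, Matrix.one_mulVec]
  have hadec : a = a 0 • ![1, 0, 0] + a 1 • ![0, 1, 0] + a 2 • ![0, 0, 1] := by
    funext i; fin_cases i <;> simp
  have hmem : a 0 • (1 : Matrix (Fin 3) (Fin 3) F) + a 1 • fr.ζ + a 2 • fr.ζ ^ 2 ∈ K :=
    K.add_mem (K.add_mem (K.smul_mem K.one_mem _) (K.smul_mem fr.hζK _))
      (K.smul_mem (K.pow_mem fr.hζK _) _)
  have hPa' : fr.P *ᵥ a = a 0 • fr.P *ᵥ ![1, 0, 0] + a 1 • fr.P *ᵥ ![0, 1, 0] +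
      a 2 • fr.P *ᵥ ![0, 0, 1] := by
    conv_lhs => rw [hadec]
    rw [Matrix.mulVec_add, Matrix.mulVec_add, Matrix.mulVec_smul, Matrix.mulVec_smul,
      Matrix.mulVec_smul]
  have hsame : (k - (a 0 • (1 : Matrix (Fin 3) (Fin 3) F) + a 1 • fr.ζ + a 2 • fr.ζ ^ 2)) *ᵥ
      x0 fr = 0 := by
    rw [Matrix.sub_mulVec, Matrix.add_mulVec, Matrix.add_mulVec, Matrix.smul_mulVec,
      Matrix.smul_mulVec, Matrix.smul_mulVec, Matrix.one_mulVec, zeta_x0 fr hC0,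
      zeta_sq_x0 fr hC0 hC1, ← hPa, hPa']
    unfold x0
    exact sub_self _
  by_contra hne
  have hne' : k - (a 0 • (1 : Matrix (Fin 3) (Fin 3) F) + a 1 • fr.ζ + a 2 • fr.ζ ^ 2) ≠ 0 :=
    fun h => hne (sub_eq_zero.mp h)
  exact x0_ne_zero fr (FEx.mulVec_eq_zero hK (K.sub_mem hk hmem) hne' hsame)

/-- an element conjugating the generator to its `q²`-th power induces the Frobenius automorphism
of the field. -/
theorem frob_conj (hF : Fintype.card F = q ^ 2) (hK : Cfsg.Geo.IsFieldSubalgebra 3 K)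
    (hC0 : C₀ *ᵥ ![1, 0, 0] = ![0, 1, 0]) (hC1 : C₀ *ᵥ ![0, 1, 0] = ![0, 0, 1])
    {A A' : Matrix (Fin 3) (Fin 3) F} (hAA : A * A' = 1) (hA'A : A' * A = 1)
    (hAζ : A * fr.ζ * A' = fr.ζ ^ (q ^ 2))
    {k : Matrix (Fin 3) (Fin 3) F} (hk : k ∈ K) : A * k * A' = k ^ (q ^ 2) := by
  obtain ⟨p, e, hp, hc, hqe⟩ := exists_char_pow hF
  haveI : Fact p.Prime := ⟨hp⟩
  haveI := hc
  obtain ⟨a₀, a₁, a₂, rfl⟩ := mem_span_zeta fr hK hC0 hC1 hk
  have hQ : q ^ 2 = p ^ (2 * e) := by rw [hqe, ← pow_mul, mul_comm]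
  have hpowa : ∀ a : F, a ^ (q ^ 2) = a := by
    intro a
    rw [← hF]; exact FiniteField.pow_card a
  have hconj : ∀ m : ℕ, A * fr.ζ ^ m * A' = (fr.ζ ^ (q ^ 2)) ^ m := by
    intro m
    induction m with
    | zero => rw [pow_zero, pow_zero, Matrix.mul_one, hAA]
    | succ m ih =>
      rw [pow_succ, pow_succ, ← ih, ← hAζ]
      calc A * (fr.ζ ^ m * fr.ζ) * A' = A * fr.ζ ^ m * 1 * fr.ζ * A' := by
            rw [Matrix.mul_one]; simp only [Matrix.mul_assoc]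
        _ = _ := by rw [← hA'A]; simp only [Matrix.mul_assoc]
  have hc1 : Commute (a₀ • (1 : Matrix (Fin 3) (Fin 3) F) + a₁ • fr.ζ) (a₂ • fr.ζ ^ 2) :=
    hK.comm _ (K.add_mem (K.smul_mem K.one_mem _) (K.smul_mem fr.hζK _)) _
      (K.smul_mem (K.pow_mem fr.hζK _) _)
  have hc2 : Commute (a₀ • (1 : Matrix (Fin 3) (Fin 3) F)) (a₁ • fr.ζ) :=
    hK.comm _ (K.smul_mem K.one_mem _) _ (K.smul_mem fr.hζK _)
  rw [hQ, add_pow_char_pow_of_commute _ _ hc1, add_pow_char_pow_of_commute _ _ hc2, ← hQ,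
    smul_pow, smul_pow, smul_pow, hpowa, hpowa, hpowa, one_pow]
  rw [Matrix.mul_add, Matrix.mul_add, Matrix.add_mul, Matrix.add_mul, Matrix.mul_smul,
    Matrix.mul_smul, Matrix.mul_smul, Matrix.smul_mul, Matrix.smul_mul, Matrix.smul_mul,
    Matrix.mul_one, hAA, hAζ, hconj 2, ← pow_mul, ← pow_mul, mul_comm 2]

end Cfsg.Agent.Helper7.SingerU
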