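import Mathlib
import Cfsg.Prelude.Def_GeometricClasses
import Cfsg.Agent.Helper7.SingerUE
import Cfsg.Agent.Helper7.SingerGenB

set_option autoImplicit false
set_option linter.unusedSectionVars false
set_option maxHeartbeats 1000000

/-! Dimension three: the normaliser of an adjoint-closed field of degree three is not maximal in the
special unitary group, from a frame and explicit model data: an overgroup is the stabiliser of a
set of points (helper7). -/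

namespace Cfsg.Agent.Helper7.SingerU

open Matrix Cfsg.Agent.Helper7.Herm

variable {F : Type*} [Field F] [Fintype F] {q : ℕ} {F₀ : Type} [Field F₀] {ι : F₀ →+* F}
  {K : Subalgebra F (Matrix (Fin 3) (Fin 3) F)} {C₀ Γ₀ : Matrix (Fin 3) (Fin 3) F₀}
  (fr : Frame q ι K C₀ Γ₀)

/-- the transported set of points. -/
def ptSet (S₀ : List (Fin 3 → F₀)) : Set (Fin 3 → F) :=
  {v | ∃ c : F, c ≠ 0 ∧ ∃ s ∈ S₀, v = c • (fr.P *ᵥ (ι ∘ s))}

theorem smul_mem_ptSet (S₀ : List (Fin 3 → F₀)) {c : F} (hc : c ≠ 0) {v : Fin 3 → F}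
    (hv : v ∈ ptSet fr S₀) : c • v ∈ ptSet fr S₀ := by
  obtain ⟨c', hc', s, hs, rfl⟩ := hv
  exact ⟨c * c', mul_ne_zero hc hc', s, hs, by rw [smul_smul]⟩

theorem smul_mem_ptSet_iff (S₀ : List (Fin 3 → F₀)) {c : F} (hc : c ≠ 0) (v : Fin 3 → F) :
    v ∈ ptSet fr S₀ ↔ c • v ∈ ptSet fr S₀ := by
  refine ⟨smul_mem_ptSet fr S₀ hc, fun h => ?_⟩
  have := smul_mem_ptSet fr S₀ (inv_ne_zero hc) h
  rwa [smul_smul, inv_mul_cancel₀ hc, one_smul] at this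

/-- a model matrix permuting the model points, conjugated, maps the set of points to itself. -/
theorem cj_maps (S₀ : List (Fin 3 → F₀)) {X : Matrix (Fin 3) (Fin 3) F₀}
    (hS : ∀ s ∈ S₀, ∃ c : F₀, c ≠ 0 ∧ ∃ s' ∈ S₀, X *ᵥ s = c • s') {v : Fin 3 → F}
    (hv : v ∈ ptSet fr S₀) : cj fr X *ᵥ v ∈ ptSet fr S₀ := by
  obtain ⟨c, hc, s, hs, rfl⟩ := hv
  obtain ⟨c₀, hc₀, s', hs', hXs⟩ := hS s hs
  refine ⟨c * ι c₀, mul_ne_zero hc ((map_ne_zero ι).mpr hc₀), s', hs', ?_⟩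
  rw [Matrix.mulVec_smul, cj_mulVec, hXs, tr_smul, Matrix.mulVec_smul, smul_smul]

/-- an invertible matrix mapping the set of points into itself permutes it. -/
theorem maps_iff (S : Set (Fin 3 → F)) (g : GL (Fin 3) F)
    (h : ∀ v ∈ S, (g : Matrix (Fin 3) (Fin 3) F) *ᵥ v ∈ S) (v : Fin 3 → F) :
    v ∈ S ↔ (g : Matrix (Fin 3) (Fin 3) F) *ᵥ v ∈ S := by
  refine ⟨h v, fun hgv => ?_⟩
  haveI : Finite ↥S := Subtype.finite
  let f : ↥S → ↥S := fun w => ⟨(g : Matrix (Fin 3) (Fin 3) F) *ᵥ w.1, h w.1 w.2⟩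
  have hginj : Function.Injective (fun w : Fin 3 → F => (g : Matrix (Fin 3) (Fin 3) F) *ᵥ w) := by
    intro a b hab
    have := congrArg (fun x => ((g⁻¹ : GL (Fin 3) F) : Matrix (Fin 3) (Fin 3) F) *ᵥ x) hab
    simp only [Matrix.mulVec_mulVec] at this
    rw [← Units.val_mul, inv_mul_cancel, Units.val_one, Matrix.one_mulVec, Matrix.one_mulVec] at this
    exact this
  have hf : Function.Injective f := by
    intro a b hab
    apply Subtype.ext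
    exact hginj (congrArg Subtype.val hab)
  obtain ⟨w, hw⟩ := (Finite.injective_iff_surjective.mp hf) ⟨_, hgv⟩
  have : w.1 = v := hginj (congrArg Subtype.val hw)
  rw [← this]; exact w.2

theorem not_maximal_of_frame (hF : Fintype.card F = q ^ 2) (hK : Cfsg.Geo.IsFieldSubalgebra 3 K)
    (hC0 : C₀ *ᵥ ![1, 0, 0] = ![0, 1, 0]) (hC1 : C₀ *ᵥ ![0, 1, 0] = ![0, 0, 1])
    {C₀' Φ₀ Φ₀' T₀ T₀' U₀ U₀' : Matrix (Fin 3) (Fin 3) F₀}
    (hCC : C₀ * C₀' = 1) (hCC' : C₀' * C₀ = 1) (hCu : adjq q C₀ * Γ₀ * C₀ = Γ₀) (hCd : C₀.det = 1)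
    (hΦΦ : Φ₀ * Φ₀' = 1) (hΦΦ' : Φ₀' * Φ₀ = 1) (hΦu : adjq q Φ₀ * Γ₀ * Φ₀ = Γ₀) (hΦd : Φ₀.det = 1)
    (hΦC : Φ₀ * C₀ * Φ₀' = C₀ ^ (q ^ 2))
    (hTT : T₀ * T₀' = 1) (hTT' : T₀' * T₀ = 1) (hTu : adjq q T₀ * Γ₀ * T₀ = Γ₀) (hTd : T₀.det = 1)
    (hTC : T₀ * C₀ * T₀' * C₀ ≠ C₀ * (T₀ * C₀ * T₀'))
    (hUU : U₀ * U₀' = 1) (hUU' : U₀' * U₀ = 1) (hUu : adjq q U₀ * Γ₀ * U₀ = Γ₀) (hUd : U₀.det = 1)
    (S₀ : List (Fin 3 → F₀))
    (hSC : ∀ s ∈ S₀, ∃ c : F₀, c ≠ 0 ∧ ∃ s' ∈ S₀, C₀ *ᵥ s = c • s')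
    (hSΦ : ∀ s ∈ S₀, ∃ c : F₀, c ≠ 0 ∧ ∃ s' ∈ S₀, Φ₀ *ᵥ s = c • s')
    (hST : ∀ s ∈ S₀, ∃ c : F₀, c ≠ 0 ∧ ∃ s' ∈ S₀, T₀ *ᵥ s = c • s')
    (hSU : ∃ s ∈ S₀, ∀ s' ∈ S₀, ∃ i j, (U₀ *ᵥ s) i * s' j ≠ (U₀ *ᵥ s) j * s' i)
    (hKG : ∀ k ∈ K, (∀ u v, Cfsg.hermForm 3 F q (k *ᵥ u) (k *ᵥ v) = Cfsg.hermForm 3 F q u v) →
      k.det = 1 → ∃ (c : F) (i : ℕ), k = c • fr.ζ ^ i) :
    ¬ Cfsg.Geo.IsMaximalIn (Cfsg.GU 3 F q ⊓ Cfsg.Geo.specialLinear (Fin 3) F)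
      (Cfsg.Geo.subalgebraNormalizer K ⊓ (Cfsg.GU 3 F q ⊓ Cfsg.Geo.specialLinear (Fin 3) F)) := by
  classical
  intro hmax
  set G := Cfsg.GU 3 F q ⊓ Cfsg.Geo.specialLinear (Fin 3) F with hG
  set S := ptSet fr S₀ with hS
  -- the stabiliser of the set of points
  let M : Subgroup (GL (Fin 3) F) :=
    { carrier := {g | g ∈ G ∧ ∀ v, v ∈ S ↔ (g : Matrix (Fin 3) (Fin 3) F) *ᵥ v ∈ S}
      mul_mem' := by
        rintro a b ⟨ha, ha'⟩ ⟨hb, hb'⟩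
        refine ⟨G.mul_mem ha hb, fun v => ?_⟩
        rw [Units.val_mul, ← Matrix.mulVec_mulVec, ← ha', ← hb']
      one_mem' := ⟨G.one_mem, fun v => by rw [Units.val_one, Matrix.one_mulVec]⟩
      inv_mem' := by
        rintro a ⟨ha, ha'⟩
        refine ⟨G.inv_mem ha, fun v => ?_⟩
        rw [ha' (((a⁻¹ : GL (Fin 3) F) : Matrix (Fin 3) (Fin 3) F) *ᵥ v), Matrix.mulVec_mulVec,
          ← Units.val_mul, mul_inv_cancel, Units.val_one, Matrix.one_mulVec] }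
  have hmemM : ∀ g : GL (Fin 3) F, g ∈ M ↔
      g ∈ G ∧ ∀ v, v ∈ S ↔ (g : Matrix (Fin 3) (Fin 3) F) *ᵥ v ∈ S := fun g => Iff.rfl
  -- the distinguished elements
  set ζg := glc fr C₀ C₀' hCC hCC' with hζg
  set φg := glc fr Φ₀ Φ₀' hΦΦ hΦΦ' with hφg
  set tg := glc fr T₀ T₀' hTT hTT' with htg
  set ug := glc fr U₀ U₀' hUU hUU' with hug
  have hζM : ζg ∈ M := ⟨glc_mem_G fr hF hCC hCC' hCu hCd,
    maps_iff S ζg (fun v hv => cj_maps fr S₀ hSC hv)⟩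
  have hφM : φg ∈ M := ⟨glc_mem_G fr hF hΦΦ hΦΦ' hΦu hΦd,
    maps_iff S φg (fun v hv => cj_maps fr S₀ hSΦ hv)⟩
  have htM : tg ∈ M := ⟨glc_mem_G fr hF hTT hTT' hTu hTd,
    maps_iff S tg (fun v hv => cj_maps fr S₀ hST hv)⟩
  have huG : ug ∈ G := glc_mem_G fr hF hUU hUU' hUu hUd
  have hζval : (ζg : Matrix (Fin 3) (Fin 3) F) = fr.ζ := by rw [hζg, glc_val, cj_C]
  -- `φg` induces the Frobenius automorphism
  have hφconj : ∀ k ∈ K, (φg : Matrix (Fin 3) (Fin 3) F) * k *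
      ((φg⁻¹ : GL (Fin 3) F) : Matrix (Fin 3) (Fin 3) F) = k ^ Fintype.card F := by
    intro k hk
    rw [hF, hφg, glc_val, glc_inv_val]
    refine frob_conj fr hF hK hC0 hC1 ?_ ?_ ?_ hk
    · rw [← cj_mul, hΦΦ, cj_one]
    · rw [← cj_mul, hΦΦ', cj_one]
    · rw [← cj_C fr, ← cj_mul, ← cj_mul, hΦC, cj_pow]
  have hK' : Cfsg.Geo.IsFieldSubalgebra (Fintype.card (Fin 3)) K := by
    rw [Fintype.card_fin]; exact hK
  -- the normaliser lies in the stabiliser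
  have hNM : Cfsg.Geo.subalgebraNormalizer K ⊓ G ≤ M := by
    intro g hg
    obtain ⟨hgN, hgG⟩ := Subgroup.mem_inf.mp hg
    obtain ⟨j, k, hkK, hgk⟩ := SingerGen.normalizer_decomp K hK' φg hφconj g hgN
    have hφjG : φg ^ j ∈ G := G.pow_mem hφM.1 j
    have hφjM : φg ^ j ∈ M := M.pow_mem hφM j
    set kg : GL (Fin 3) F := g * (φg ^ j)⁻¹ with hkg
    have hkgG : kg ∈ G := G.mul_mem hgG (G.inv_mem hφjG)
    have hkgv : (kg : Matrix (Fin 3) (Fin 3) F) = k := by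
      rw [hkg, Units.val_mul, hgk, Matrix.mul_assoc, ← Units.val_mul, mul_inv_cancel,
        Units.val_one, Matrix.mul_one]
    have hkU : ∀ u v, Cfsg.hermForm 3 F q (k *ᵥ u) (k *ᵥ v) = Cfsg.hermForm 3 F q u v := by
      have := (mem_GU_iff kg).mp (Subgroup.mem_inf.mp hkgG).1
      rwa [hkgv] at this
    have hkd : k.det = 1 := by
      have := (mem_SL_iff kg).mp (Subgroup.mem_inf.mp hkgG).2
      rwa [hkgv] at this
    obtain ⟨c, i, hki⟩ := hKG k hkK hkU hkd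
    have hc : c ≠ 0 := by
      intro h0
      rw [hki, h0, zero_smul, Matrix.det_zero] at hkd
      exact zero_ne_one hkd
    refine ⟨hgG, fun v => ?_⟩
    have hζiM : ζg ^ i ∈ M := M.pow_mem hζM i
    rw [hgk, hki, ← Matrix.mulVec_mulVec, Matrix.smul_mulVec,
      ← smul_mem_ptSet_iff fr S₀ hc, ← hζval, ← Units.val_pow_eq_pow_val, ← hζiM.2, ← hφjM.2]
  have hMG : M ≤ G := fun g hg => hg.1
  rcases hmax.2 M hNM hMG with h1 | h2
  · -- `tg` does not normalise the field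
    have htN : tg ∈ Cfsg.Geo.subalgebraNormalizer K := by
      have : tg ∈ Cfsg.Geo.subalgebraNormalizer K ⊓ G := by rw [← h1]; exact htM
      exact (Subgroup.mem_inf.mp this).1
    have h3 : (tg : Matrix (Fin 3) (Fin 3) F) * fr.ζ *
        ((tg⁻¹ : GL (Fin 3) F) : Matrix (Fin 3) (Fin 3) F) ∈ K := (htN fr.ζ).mp fr.hζK
    have h4 := hK.comm _ h3 _ fr.hζK
    rw [htg, glc_val, glc_inv_val, ← cj_C fr, ← cj_mul, ← cj_mul, ← cj_mul, ← cj_mul] at h4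
    exact hTC (cj_injective fr h4)
  · -- `ug` does not stabilise the set of points
    have huM : ug ∈ M := by rw [h2]; exact huG
    obtain ⟨s, hs, hsU⟩ := hSU
    have hv : fr.P *ᵥ (ι ∘ s) ∈ S := ⟨1, one_ne_zero, s, hs, by rw [one_smul]⟩
    have h3 := (huM.2 _).mp hv
    rw [hug, glc_val, cj_mulVec] at h3
    obtain ⟨c, hc, s', hs', h4⟩ := h3
    rw [← Matrix.mulVec_smul] at h4
    have h5 := P_mulVec_injective fr h4
    obtain ⟨i, j, hij⟩ := hsU s' hs'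
    apply hij
    apply ι.injective
    have e1 : ∀ r, ι ((U₀ *ᵥ s) r) = c * ι (s' r) := fun r => by
      have := congrFun h5 r
      simpa [Function.comp] using this
    rw [map_mul, map_mul, e1, e1]
    ring

end Cfsg.Agent.Helper7.SingerU
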