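import Mathlib

set_option autoImplicit false

/-! Finite fields (helper7): an involutive automorphism of a field with `p ^ (2 d)` elements is
`x ↦ x ^ (p ^ d)`; the norm to the fixed field is surjective. -/

namespace Cfsg.Agent.Helper7.SingerU

/-- the characteristic of a field with `p ^ m` elements. -/
theorem charP_of_card {L : Type*} [Field L] [Finite L] {p m : ℕ} (hp : p.Prime)
    (hL : Nat.card L = p ^ m) : CharP L p := by
  classical
  haveI : Fintype L := Fintype.ofFinite L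
  obtain ⟨r, hr⟩ := CharP.exists L
  obtain ⟨k, hrp, hk⟩ := FiniteField.card L r
  rw [← Nat.card_eq_fintype_card, hL] at hk
  have hdvd : r ∣ p ^ m := by
    rw [hk]; exact dvd_pow_self r k.ne_zero
  have : r = p := (Nat.prime_dvd_prime_iff_eq hrp hp).mp (hrp.dvd_of_dvd_pow hdvd)
  rw [← this]; exact hr

/-- An involutive ring automorphism, not the identity, of a field with `p ^ (2 d)` elements is
`x ↦ x ^ (p ^ d)`. -/
theorem sigma_eq_pow' {L : Type*} [Field L] [Finite L] {p d : ℕ} (hp : p.Prime)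
    (hL : Nat.card L = p ^ (2 * d))
    (σ : L ≃+* L) (hσ2 : ∀ x, σ (σ x) = x) (hσ1 : ∃ x, σ x ≠ x) : ∀ x, σ x = x ^ (p ^ d) := by
  classical
  haveI : Fintype L := Fintype.ofFinite L
  haveI : Fact p.Prime := ⟨hp⟩
  haveI : CharP L p := charP_of_card hp hL
  letI : Algebra (ZMod p) L := ZMod.algebra L p
  have hfr : Module.finrank (ZMod p) L = 2 * d := by
    have h1 : Fintype.card L = Fintype.card (ZMod p) ^ Module.finrank (ZMod p) L :=
      Module.card_eq_pow_finrank
    rw [← Nat.card_eq_fintype_card, hL, ZMod.card] at h1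
    exact (Nat.pow_right_injective hp.two_le h1).symm
  let σ' : L ≃ₐ[ZMod p] L := AlgEquiv.ofRingEquiv (f := σ) (fun r => by
    have : (σ : L →+* L).comp (algebraMap (ZMod p) L) = algebraMap (ZMod p) L :=
      Subsingleton.elim _ _
    exact RingHom.congr_fun this r)
  have hσ' : ∀ x, σ' x = σ x := fun x => rfl
  obtain ⟨⟨i, hi⟩, hi'⟩ :=
    (FiniteField.bijective_frobeniusAlgEquivOfAlgebraic_pow (ZMod p) L).2 σ'
  simp only at hi'
  rw [hfr] at hi
  set φ := FiniteField.frobeniusAlgEquivOfAlgebraic (ZMod p) L with hφ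
  have hord : orderOf φ = 2 * d := by
    rw [hφ, FiniteField.orderOf_frobeniusAlgEquivOfAlgebraic, hfr]
  have hsq : φ ^ (2 * i) = 1 := by
    rw [mul_comm, pow_mul, hi']
    ext x
    rw [pow_two, AlgEquiv.mul_apply, hσ', hσ', hσ2]; rfl
  have hdvd : 2 * d ∣ 2 * i := by
    rw [← hord]; exact orderOf_dvd_of_pow_eq_one hsq
  have hdi : d ∣ i := by
    obtain ⟨c, hc⟩ := hdvd
    exact ⟨c, by nlinarith⟩
  have hid : i = d := by
    obtain ⟨c, hc⟩ := hdi
    have hc01 : c = 0 ∨ c = 1 := by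
      rcases Nat.lt_or_ge c 2 with h | h
      · omega
      · exfalso
        have : d * 2 ≤ d * c := Nat.mul_le_mul_left d h
        omega
    rcases hc01 with h0 | h1
    · exfalso
      obtain ⟨x, hx⟩ := hσ1
      apply hx
      rw [← hσ', ← hi', hc, h0, mul_zero, pow_zero]; rfl
    · rw [hc, h1, mul_one]
  intro x
  rw [← hσ', ← hi', hid, AlgEquiv.coe_pow, hφ,
    FiniteField.coe_frobeniusAlgEquivOfAlgebraic_iterate, ZMod.card]

/-- In a field with `Q²` elements, every non-zero element fixed by `x ↦ x ^ Q` is of the form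
`a ^ (Q + 1)`. -/
theorem exists_pow_succ_eq {L : Type*} [Field L] [Finite L] {Q : ℕ} (hQ : 1 ≤ Q)
    (hL : Nat.card L = Q ^ 2) {c : L} (hc0 : c ≠ 0) (hc : c ^ Q = c) :
    ∃ a : L, a ≠ 0 ∧ a ^ (Q + 1) = c := by
  classical
  haveI : Fintype L := Fintype.ofFinite L
  obtain ⟨g, hg⟩ := IsCyclic.exists_monoid_generator (α := Lˣ)
  have hord : orderOf g = Q ^ 2 - 1 := by
    have h1 : orderOf g = Nat.card Lˣ := by
      apply orderOf_eq_card_of_forall_mem_zpowers
      intro x
      obtain ⟨s, hs⟩ := hg x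
      exact ⟨s, by simpa using hs⟩
    rw [h1, Nat.card_units, hL]
  obtain ⟨s, hs⟩ := hg (Units.mk0 c hc0)
  simp only at hs
  have hcu : (Units.mk0 c hc0) ^ (Q - 1) = 1 := by
    apply Units.ext
    rw [Units.val_pow_eq_pow_val, Units.val_mk0, Units.val_one]
    have : c * c ^ (Q - 1) = c * 1 := by
      rw [mul_one, ← pow_succ', Nat.sub_add_cancel hQ, hc]
    exact mul_left_cancel₀ hc0 this
  rw [← hs, ← pow_mul] at hcu
  have hdvd : Q ^ 2 - 1 ∣ s * (Q - 1) := by
    rw [← hord]; exact orderOf_dvd_of_pow_eq_one hcu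
  have hfac : Q ^ 2 - 1 = (Q + 1) * (Q - 1) := by
    obtain ⟨m, rfl⟩ : ∃ m, Q = m + 1 := ⟨Q - 1, by omega⟩
    simp only [Nat.add_sub_cancel]
    have : (m + 1) ^ 2 = (m + 1 + 1) * m + 1 := by ring
    rw [this, Nat.add_sub_cancel]
  rcases Nat.eq_or_lt_of_le hQ with h1 | h1
  · -- Q = 1: the field has one element, impossible
    exfalso
    rw [← h1, one_pow] at hL
    have := Fintype.one_lt_card (α := L)
    rw [← Nat.card_eq_fintype_card, hL] at this
    omega
  have hQ1 : 0 < Q - 1 := by omega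
  rw [hfac] at hdvd
  have hdvd' : Q + 1 ∣ s := Nat.dvd_of_mul_dvd_mul_right hQ1 hdvd
  obtain ⟨s', hs'⟩ := hdvd'
  refine ⟨((g ^ s' : Lˣ) : L), Units.ne_zero _, ?_⟩
  have : (g ^ s') ^ (Q + 1) = Units.mk0 c hc0 := by
    rw [← pow_mul, mul_comm, ← hs', hs]
  have := congrArg Units.val this
  rwa [Units.val_pow_eq_pow_val, Units.val_mk0] at this

end Cfsg.Agent.Helper7.SingerU
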