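import Mathlib
import Cfsg.Prelude.Def_GeometricClasses
import Cfsg.Agent.Helper7.SingerUA
import Cfsg.Agent.Helper7.SingerUB
import Cfsg.Agent.Helper7.SingerGenA
import Cfsg.Agent.Helper3.AschOm10Dual

set_option autoImplicit false
set_option maxHeartbeats 800000

/-! A field subalgebra of full degree `n` of the `n × n` matrices over the field with `q²`
elements, closed under adjoints for the standard hermitian form (helper7): the adjoint is the power
map `k ↦ k ^ (q ^ n)`; isometries in the field; a vector whose form with its multiples is the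
trace. -/

namespace Cfsg.Agent.Helper7.SingerU

open Matrix Cfsg.Agent.Helper7.Herm

variable {F : Type*} [Field F] [Fintype F] {n q : ℕ}

section
variable (hF : Fintype.card F = q ^ 2) (hn : 0 < n)
  (K : Subalgebra F (Matrix (Fin n) (Fin n) F)) (hK : Cfsg.Geo.IsFieldSubalgebra n K)
  (hadj : Cfsg.Geo.IsAdjointClosedFor (Cfsg.hermForm n F q) K)

include hF hn hK in
theorem card_K : Nat.card ↥K = (q ^ n) ^ 2 := by
  classical
  haveI : Nonempty (Fin n) := ⟨⟨0, hn⟩⟩
  haveI : Finite (Matrix (Fin n) (Fin n) F) := inferInstanceAs (Finite (Fin n → Fin n → F))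
  haveI : Finite ↥K := Subtype.finite
  haveI : FiniteDimensional F ↥K := FEx.finrank_pos_of hn hK
  haveI : Fintype ↥K := Fintype.ofFinite _
  have h1 : Fintype.card ↥K = Fintype.card F ^ Module.finrank F ↥K := Module.card_eq_pow_finrank
  rw [Nat.card_eq_fintype_card, h1, hF, hK.finrank_eq, ← pow_mul, ← pow_mul, mul_comm]

include hF in
/-- a scalar not fixed by the Frobenius `x ↦ x ^ q`. -/
theorem exists_pow_ne : ∃ c : F, c ^ q ≠ c := by
  classical
  by_contra hcon
  push Not at hcon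
  have hq := one_le_q hF
  -- all `q²` elements are roots of `X^q - X`
  have hq2 : 2 ≤ q := by
    by_contra h
    have : q = 1 := by omega
    rw [this] at hF
    have := Fintype.one_lt_card (α := F)
    omega
  have hle : Fintype.card F ≤ q := by
    have hdeg : (Polynomial.X ^ q - Polynomial.X : Polynomial F).natDegree = q := by
      have : (Polynomial.X ^ q - Polynomial.X : Polynomial F) =
          Polynomial.X ^ q - Polynomial.C 1 * Polynomial.X ^ 1 := by simp
      rw [this, Polynomial.natDegree_sub_eq_left_of_natDegree_lt]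
      · exact Polynomial.natDegree_X_pow q
      · rw [Polynomial.natDegree_X_pow]
        calc _ ≤ 1 := Polynomial.natDegree_C_mul_X_pow_le _ _
          _ < q := by omega
    have hne : (Polynomial.X ^ q - Polynomial.X : Polynomial F) ≠ 0 := by
      intro h0
      rw [h0, Polynomial.natDegree_zero] at hdeg
      omega
    have := Polynomial.card_le_degree_of_subset_roots (p := Polynomial.X ^ q - Polynomial.X)
      (Z := (Finset.univ : Finset F)) (fun x _ => by
        rw [Polynomial.mem_roots hne, Polynomial.IsRoot, Polynomial.eval_sub, Polynomial.eval_pow,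
          Polynomial.eval_X, hcon x, sub_self])
    rw [hdeg] at this
    exact this
  rw [hF] at hle
  nlinarith

include hF hn hK hadj in
/-- on the field, the adjoint is the power map `k ↦ k ^ (q ^ n)`. -/
theorem adjq_eq_pow : ∀ k ∈ K, adjq q k = k ^ (q ^ n) := by
  classical
  haveI : Nonempty (Fin n) := ⟨⟨0, hn⟩⟩
  letI := FEx.fieldOfSub K hK
  haveI : Finite (Matrix (Fin n) (Fin n) F) := inferInstanceAs (Finite (Fin n → Fin n → F))
  haveI : Finite ↥K := Subtype.finite
  obtain ⟨p, e, hp, hc, hqe⟩ := exists_char_pow hF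
  have hcardK : Nat.card ↥K = p ^ (2 * (e * n)) := by
    rw [card_K hF hn K hK, hqe, ← pow_mul, ← pow_mul]
    congr 1; ring
  let σ : ↥K ≃+* ↥K :=
    { toFun := fun k => ⟨adjq q k.1, adjq_mem hF K hadj k.2⟩
      invFun := fun k => ⟨adjq q k.1, adjq_mem hF K hadj k.2⟩
      left_inv := fun k => Subtype.ext (adjq_adjq hF _)
      right_inv := fun k => Subtype.ext (adjq_adjq hF _)
      map_mul' := fun k l => Subtype.ext (by
        show adjq q (k.1 * l.1) = adjq q k.1 * adjq q l.1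
        rw [adjq_mul hF]
        exact hK.comm _ (adjq_mem hF K hadj l.2) _ (adjq_mem hF K hadj k.2))
      map_add' := fun k l => Subtype.ext (adjq_add hF _ _) }
  have hσv : ∀ k : ↥K, ((σ k : ↥K) : Matrix (Fin n) (Fin n) F) = adjq q k.1 := fun k => rfl
  have hσ2 : ∀ x, σ (σ x) = x := fun x => Subtype.ext (adjq_adjq hF _)
  obtain ⟨c₀, hc₀⟩ := exists_pow_ne hF
  set ω : ↥K := algebraMap F ↥K c₀ with hωdef
  have hωv : (ω : Matrix (Fin n) (Fin n) F) = c₀ • (1 : Matrix (Fin n) (Fin n) F) := by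
    rw [hωdef, Subalgebra.coe_algebraMap, Algebra.algebraMap_eq_smul_one]
  have hσω : σ ω ≠ ω := by
    intro h
    have h1 := congrArg Subtype.val h
    rw [hσv, hωv, adjq_smul, adjq_one hF] at h1
    have h2 := congrFun (congrFun h1 ⟨0, hn⟩) ⟨0, hn⟩
    simp only [Matrix.smul_apply, Matrix.one_apply_eq, smul_eq_mul, mul_one] at h2
    exact hc₀ h2
  have hσpow := sigma_eq_pow' hp hcardK σ hσ2 ⟨ω, hσω⟩
  intro k hk
  have := congrArg Subtype.val (hσpow ⟨k, hk⟩)
  rw [hσv, SubmonoidClass.coe_pow] at this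
  rw [this, hqe, ← pow_mul]

include hF hn hK hadj in
/-- the isometries in the field. -/
theorem preserves_iff {k : Matrix (Fin n) (Fin n) F} (hk : k ∈ K) :
    (∀ u v, Cfsg.hermForm n F q (k *ᵥ u) (k *ᵥ v) = Cfsg.hermForm n F q u v) ↔
      k ^ (q ^ n + 1) = 1 := by
  rw [pow_succ', ← adjq_eq_pow hF hn K hK hadj k hk, hK.comm k hk _ (adjq_mem hF K hadj hk)]
  exact ⟨adjq_mul_self_of_preserves hF, preserves_of_adjq_mul_self hF⟩

include hn hK in
/-- the trace does not vanish on the field. -/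
theorem exists_trace_ne_zero : ∃ k ∈ K, Matrix.trace k ≠ 0 := by
  classical
  haveI : Nonempty (Fin n) := ⟨⟨0, hn⟩⟩
  have hK' : Cfsg.Geo.IsFieldSubalgebra (Fintype.card (Fin n)) K := by rw [Fintype.card_fin]; exact hK
  letI := FEx.fieldOfSub K hK
  haveI : Finite (Matrix (Fin n) (Fin n) F) := inferInstanceAs (Finite (Fin n → Fin n → F))
  haveI : Finite ↥K := Subtype.finite
  haveI : FiniteDimensional F ↥K := FEx.finrank_pos_of hn hK
  obtain ⟨k, hk⟩ := Algebra.trace_surjective F ↥K 1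
  refine ⟨k.1, k.2, ?_⟩
  have h1 := SingerGen.trace_eq K hK' k
  rw [h1]
  show Algebra.trace F ↥K k ≠ 0
  rw [hk]; exact one_ne_zero

include hF hn hK hadj in
/-- a vector whose form with its multiples is the trace. -/
theorem exists_frame_vec :
    ∃ x₀ : Fin n → F, ∀ k ∈ K, Cfsg.hermForm n F q (k *ᵥ x₀) x₀ = Matrix.trace k := by
  classical
  haveI : Nonempty (Fin n) := ⟨⟨0, hn⟩⟩
  letI := FEx.fieldOfSub K hK
  haveI : Finite (Matrix (Fin n) (Fin n) F) := inferInstanceAs (Finite (Fin n → Fin n → F))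
  haveI : Finite ↥K := Subtype.finite
  haveI : FiniteDimensional F ↥K := FEx.finrank_pos_of hn hK
  have hq := one_le_q hF
  have hpowv : ∀ (k : ↥K) (m : ℕ), ((k ^ m : ↥K) : Matrix (Fin n) (Fin n) F) = k.1 ^ m :=
    fun k m => SubmonoidClass.coe_pow k m
  have hadjpow := adjq_eq_pow hF hn K hK hadj
  set i0 : Fin n := ⟨0, hn⟩ with hi0
  let T : ↥K →ₗ[F] F :=
    { toFun := fun k => k.1 i0 i0
      map_add' := fun _ _ => rfl
      map_smul' := fun _ _ => rfl }
  let θ : ↥K →ₗ[F] F := (Matrix.traceLinearMap (Fin n) F F).comp K.val.toLinearMap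
  have hT : ∀ k : ↥K, T k = k.1 i0 i0 := fun k => rfl
  have hθ : ∀ k : ↥K, θ k = Matrix.trace k.1 := fun k => rfl
  have hθ0 : θ ≠ 0 := by
    intro h
    obtain ⟨k, hk, hkt⟩ := exists_trace_ne_zero hn K hK
    apply hkt
    have : θ ⟨k, hk⟩ = 0 := by rw [h]; rfl
    rwa [hθ] at this
  obtain ⟨b, hb⟩ := Cfsg.Agent.Helper3.AschOm10.exists_dual θ hθ0 T
  -- `b` is fixed by the adjoint
  have hadjb : adjq q b.1 = b.1 := by
    have hmem : adjq q b.1 ∈ K := adjq_mem hF K hadj b.2
    have : (⟨adjq q b.1, hmem⟩ : ↥K) = b := by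
      apply Cfsg.Agent.Helper3.AschOm10.dual_unique θ hθ0
      intro x
      have hxm : adjq q x.1 ∈ K := adjq_mem hF K hadj x.2
      have h1 : ((x * ⟨adjq q b.1, hmem⟩ : ↥K) : Matrix (Fin n) (Fin n) F) =
          adjq q (((⟨adjq q x.1, hxm⟩ : ↥K) * b : ↥K) : Matrix (Fin n) (Fin n) F) := by
        show x.1 * adjq q b.1 = adjq q (adjq q x.1 * b.1)
        rw [adjq_mul hF, adjq_adjq hF, hK.comm _ hmem _ x.2]
      rw [hθ, h1, trace_adjq hF, ← hθ, ← hb, hT, ← hb, hT]
      show ((adjq q x.1) i0 i0) ^ q = x.1 i0 i0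
      rw [adjq_apply]
      exact pow_q_pow_q hF _
    exact congrArg Subtype.val this
  have hb0 : b ≠ 0 := by
    intro h
    have h1 := hb 1
    rw [h, mul_zero, map_zero, hT, OneMemClass.coe_one, Matrix.one_apply_eq] at h1
    exact one_ne_zero h1
  -- an element of norm `b⁻¹`
  have hbinv : (b⁻¹) ^ (q ^ n) = b⁻¹ := by
    rw [inv_pow]
    congr 1
    apply Subtype.ext
    rw [hpowv, ← hadjpow b.1 b.2, hadjb]
  obtain ⟨a, -, ha⟩ := exists_pow_succ_eq (L := ↥K) (Q := q ^ n) (Nat.one_le_pow _ _ hq)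
    (card_K hF hn K hK) (inv_ne_zero hb0) hbinv
  have haa : adjq q a.1 * a.1 = (b⁻¹ : ↥K).1 := by
    rw [hadjpow a.1 a.2, ← pow_succ, ← hpowv, ha]
  refine ⟨a.1 *ᵥ Pi.single i0 1, ?_⟩
  intro k hk
  have h1 : Cfsg.hermForm n F q (k *ᵥ (a.1 *ᵥ Pi.single i0 1)) (a.1 *ᵥ Pi.single i0 1) =
      Cfsg.hermForm n F q ((adjq q a.1 * (k * a.1)) *ᵥ Pi.single i0 1) (Pi.single i0 1) := by
    rw [herm_adjq' hF a.1, Matrix.mulVec_mulVec, Matrix.mulVec_mulVec, mul_assoc]
  rw [h1, herm_single hF]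
  have h3 : adjq q a.1 * (k * a.1) = ((⟨k, hk⟩ * b⁻¹ : ↥K) : Matrix (Fin n) (Fin n) F) := by
    show adjq q a.1 * (k * a.1) = k * (b⁻¹ : ↥K).1
    rw [← haa, ← mul_assoc, hK.comm _ (adjq_mem hF K hadj a.2) k hk, mul_assoc]
  rw [h3, ← hT, hb, mul_assoc, inv_mul_cancel₀ hb0, mul_one, hθ]

end

end Cfsg.Agent.Helper7.SingerU
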