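import Mathlib
import Cfsg.Prelude.Def_GeometricClasses
import Cfsg.Agent.Helper7.SingerUC
import Cfsg.Agent.Helper7.SingerUD

set_option autoImplicit false
set_option linter.unusedSectionVars false
set_option maxHeartbeats 1000000

/-! Dimension three: existence of a frame for an adjoint-closed field of degree three, from a root
of a cubic in the field (helper7). -/

namespace Cfsg.Agent.Helper7.SingerU

open Matrix Polynomial Cfsg.Agent.Helper7.Herm

variable {F : Type*} [Field F] [Fintype F] {q : ℕ} {F₀ : Type} [Field F₀] {ι : F₀ →+* F}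
  {K : Subalgebra F (Matrix (Fin 3) (Fin 3) F)}

/-- the powers `1, θ, θ²` of a non-scalar element of a field of degree three are linearly
independent. -/
theorem pow_indep3 (hK : Cfsg.Geo.IsFieldSubalgebra 3 K) {θ : Matrix (Fin 3) (Fin 3) F}
    (hθK : θ ∈ K) (hθ : ∀ a : F, θ ≠ a • (1 : Matrix (Fin 3) (Fin 3) F)) {v0 v1 v2 : F}
    (h : v0 • (1 : Matrix (Fin 3) (Fin 3) F) + v1 • θ + v2 • θ ^ 2 = 0) :
    v0 = 0 ∧ v1 = 0 ∧ v2 = 0 := by
  letI := FEx.fieldOfSub K hK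
  haveI : FiniteDimensional F ↥K := FEx.finrank_pos_of (by norm_num) hK
  set θ' : ↥K := ⟨θ, hθK⟩ with hθ'
  have hint : IsIntegral F θ' := Algebra.IsIntegral.isIntegral θ'
  have hd : (minpoly F θ').natDegree = 3 := by
    have h1 : (minpoly F θ').natDegree ∣ 3 := by
      have := minpoly.degree_dvd hint
      rwa [hK.finrank_eq] at this
    rcases (Nat.dvd_prime Nat.prime_three).mp h1 with h | h
    · exfalso
      obtain ⟨a, ha⟩ := minpoly.natDegree_eq_one_iff.mp h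
      apply hθ a
      have := congrArg Subtype.val ha
      rw [Subalgebra.coe_algebraMap, Algebra.algebraMap_eq_smul_one] at this
      exact this.symm
    · exact h
  have h' : v0 • (1 : ↥K) + v1 • θ' + v2 • θ' ^ 2 = 0 := Subtype.ext h
  have key : ∀ d : ℕ, d = 3 → LinearIndependent F (fun i : Fin d => θ' ^ (i : ℕ)) →
      v0 = 0 ∧ v1 = 0 ∧ v2 = 0 := by
    intro d hd3 li
    subst hd3
    rw [Fintype.linearIndependent_iff] at li
    have := li ![v0, v1, v2] (by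
      rw [Fin.sum_univ_three]
      simpa using h')
    exact ⟨this 0, this 1, this 2⟩
  exact key _ hd (linearIndependent_pow θ')

/-- the matrix whose columns are `x, ζ x, ζ² x`. -/
def frameMat (ζ : Matrix (Fin 3) (Fin 3) F) (x : Fin 3 → F) : Matrix (Fin 3) (Fin 3) F :=
  Matrix.of fun r c => ((ζ ^ (c : ℕ)) *ᵥ x) r

theorem frameMat_mulVec (ζ : Matrix (Fin 3) (Fin 3) F) (x v : Fin 3 → F) :
    frameMat ζ x *ᵥ v = (v 0 • (1 : Matrix (Fin 3) (Fin 3) F) + v 1 • ζ + v 2 • ζ ^ 2) *ᵥ x := by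
  funext r
  simp only [frameMat, Matrix.mulVec, dotProduct, Fin.sum_univ_three, Matrix.of_apply,
    Matrix.add_apply, Matrix.smul_apply, smul_eq_mul, Fin.val_zero, Fin.val_one, Fin.val_two,
    pow_zero, pow_one]
  simp only [Matrix.one_apply]
  ring_nf

theorem frameMat_col (ζ : Matrix (Fin 3) (Fin 3) F) (x : Fin 3 → F) (c : Fin 3) :
    (fun r => frameMat ζ x r c) = (ζ ^ (c : ℕ)) *ᵥ x := rfl

/-- the Gram matrix of the columns. -/
theorem adjq_mul_frameMat (ζ : Matrix (Fin 3) (Fin 3) F) (x : Fin 3 → F) (i j : Fin 3) :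
    (adjq q (frameMat ζ x) * frameMat ζ x) i j =
      Cfsg.hermForm 3 F q ((ζ ^ (j : ℕ)) *ᵥ x) ((ζ ^ (i : ℕ)) *ᵥ x) := by
  unfold Cfsg.hermForm
  rw [Matrix.mul_apply]
  refine Finset.sum_congr rfl (fun r _ => ?_)
  rw [adjq_apply, mul_comm]
  rfl

/-- existence of a frame. -/
theorem exists_frame3 (hF : Fintype.card F = q ^ 2) (hK : Cfsg.Geo.IsFieldSubalgebra 3 K)
    (hadj : Cfsg.Geo.IsAdjointClosedFor (Cfsg.hermForm 3 F q) K)
    (a₀ a₁ a₂ : F₀) {C₀ Γ₀ : Matrix (Fin 3) (Fin 3) F₀}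
    (hC₀ : C₀ = !![0, 0, -a₀; 1, 0, -a₁; 0, 1, -a₂])
    {ζ : Matrix (Fin 3) (Fin 3) F} (hζK : ζ ∈ K) (hζns : ∀ a : F, ζ ≠ a • (1 : Matrix (Fin 3) (Fin 3) F))
    (hroot : ζ ^ 3 + ι a₂ • ζ ^ 2 + ι a₁ • ζ + ι a₀ • (1 : Matrix (Fin 3) (Fin 3) F) = 0)
    {N : ℕ} (hN : ζ ^ (N + 1) = 1) (hζu : adjq q ζ * ζ = 1)
    (hΓ : ∀ i j : Fin 3, Γ₀ i j = (C₀ ^ ((j : ℕ) + N * (i : ℕ))).trace) :
    ∃ fr : Frame q ι K C₀ Γ₀, fr.ζ = ζ := by
  classical
  obtain ⟨x₀, hx₀⟩ := exists_frame_vec hF (by norm_num) K hK hadj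
  have hx₀0 : x₀ ≠ 0 := by
    intro h0
    obtain ⟨k, hk, hkt⟩ := exists_trace_ne_zero (by norm_num) K hK
    apply hkt
    rw [← hx₀ k hk, h0, Matrix.mulVec_zero]
    unfold Cfsg.hermForm
    simp
  set P := frameMat ζ x₀ with hP
  -- `P` is invertible
  have hPinj : Function.Injective P.mulVec := by
    intro v w hvw
    have h1 : P *ᵥ (v - w) = 0 := by rw [Matrix.mulVec_sub]; exact sub_eq_zero.mpr hvw
    rw [hP, frameMat_mulVec] at h1
    set k := (v - w) 0 • (1 : Matrix (Fin 3) (Fin 3) F) + (v - w) 1 • ζ + (v - w) 2 • ζ ^ 2 with hk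
    have hkK : k ∈ K := K.add_mem (K.add_mem (K.smul_mem K.one_mem _) (K.smul_mem hζK _))
      (K.smul_mem (K.pow_mem hζK _) _)
    have hk0 : k = 0 := by
      by_contra hne
      exact hx₀0 (FEx.mulVec_eq_zero hK hkK hne h1)
    obtain ⟨e0, e1, e2⟩ := pow_indep3 hK hζK hζns hk0
    have : v - w = 0 := by
      funext i; fin_cases i
      · exact e0
      · exact e1
      · exact e2
    exact sub_eq_zero.mp this
  have hPunit : IsUnit P := Matrix.mulVec_injective_iff_isUnit.mp hPinj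
  have hPdet : IsUnit P.det := (Matrix.isUnit_iff_isUnit_det P).mp hPunit
  have hPP : P * P⁻¹ = 1 := Matrix.mul_nonsing_inv P hPdet
  have hPP' : P⁻¹ * P = 1 := Matrix.nonsing_inv_mul P hPdet
  -- the generator acts as the companion matrix
  have hζ3 : ζ ^ 3 = -(ι a₂ • ζ ^ 2 + ι a₁ • ζ + ι a₀ • (1 : Matrix (Fin 3) (Fin 3) F)) := by
    rw [eq_neg_iff_add_eq_zero, ← hroot]
    simp only [add_assoc]
  have hζP : ζ * P = P * tr ι C₀ := by
    apply Matrix.mulVec_injective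
    funext v
    rw [← Matrix.mulVec_mulVec, ← Matrix.mulVec_mulVec, hP, frameMat_mulVec, frameMat_mulVec,
      Matrix.mulVec_mulVec]
    congr 1
    have hc : ∀ r : Fin 3, (tr ι C₀ *ᵥ v) r =
        (![-(ι a₀) * v 2, v 0 - ι a₁ * v 2, v 1 - ι a₂ * v 2] : Fin 3 → F) r := by
      intro r
      rw [hC₀]
      fin_cases r <;>
        simp [tr, Matrix.mulVec, dotProduct, Fin.sum_univ_three, Matrix.map_apply] <;> ring
    rw [hc 0, hc 1, hc 2]
    simp only [Matrix.cons_val_zero, Matrix.cons_val_one, Matrix.cons_val_two, Matrix.head_cons,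
      Matrix.tail_cons]
    have e3 : ζ * (v 0 • (1 : Matrix (Fin 3) (Fin 3) F) + v 1 • ζ + v 2 • ζ ^ 2) =
        v 0 • ζ + v 1 • ζ ^ 2 + v 2 • ζ ^ 3 := by
      rw [Matrix.mul_add, Matrix.mul_add, Matrix.mul_smul, Matrix.mul_smul, Matrix.mul_smul,
        Matrix.mul_one, ← pow_succ', pow_two]
    rw [e3, hζ3]
    module
  refine ⟨⟨ζ, P, P⁻¹, hPP, hPP', hζK, hζP, ?_⟩, rfl⟩
  -- the Gram matrix
  have hζinv : adjq q ζ = ζ ^ N := by
    have h1 : adjq q ζ * ζ * ζ ^ N = ζ ^ N := by rw [hζu, Matrix.one_mul]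
    rw [Matrix.mul_assoc, ← pow_succ', hN, Matrix.mul_one] at h1
    exact h1
  have hζm : ∀ m : ℕ, ζ ^ m = P * tr ι (C₀ ^ m) * P⁻¹ := by
    intro m
    induction m with
    | zero => rw [pow_zero, pow_zero, tr_one, Matrix.mul_one, hPP]
    | succ m ih =>
      rw [pow_succ, ih, pow_succ, tr_mul]
      have : ζ = P * tr ι C₀ * P⁻¹ := by rw [← hζP, Matrix.mul_assoc, hPP, Matrix.mul_one]
      conv_lhs => rw [this]
      calc P * tr ι (C₀ ^ m) * P⁻¹ * (P * tr ι C₀ * P⁻¹)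
          = P * tr ι (C₀ ^ m) * (P⁻¹ * P) * tr ι C₀ * P⁻¹ := by simp only [Matrix.mul_assoc]
        _ = _ := by rw [hPP', Matrix.mul_one]; simp only [Matrix.mul_assoc]
  ext i j
  rw [adjq_mul_frameMat, herm_adjq' hF, Matrix.mulVec_mulVec, hx₀ _
    (K.mul_mem (adjq_mem hF K hadj (K.pow_mem hζK _)) (K.pow_mem hζK _)), adjq_pow hF, hζinv,
    ← pow_mul, ← pow_add, hζm, Matrix.trace_mul_cycle, hPP', Matrix.one_mul, tr_trace, tr_apply,
    hΓ i j]
  congr 2
  ring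

end Cfsg.Agent.Helper7.SingerU
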