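import Mathlib
import Cfsg.Prelude.Def_GeometricClasses
import Cfsg.Agent.Helper7.SingerUF
import Cfsg.Agent.Helper7.SingerUG

set_option autoImplicit false
set_option linter.unusedSectionVars false
set_option maxHeartbeats 1000000

/-! Dimension three, elements of order seven: an adjoint-closed field of degree three over the field
with `q²` elements, `7 ∣ q³ + 1`, contains a root of a given cubic factor of `x⁷ - 1`; the isometries of
determinant one in the field; the normaliser is not maximal, from explicit model data (helper7). -/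

namespace Cfsg.Agent.Helper7.SingerU

open Matrix Cfsg.Agent.Helper7.Herm

variable {F : Type*} [Field F] [Fintype F] {q : ℕ} {F₀ : Type} [Field F₀] (ι : F₀ →+* F)
  (K : Subalgebra F (Matrix (Fin 3) (Fin 3) F))

/-- an element of order seven. -/
theorem exists_order7 (hF : Fintype.card F = q ^ 2) (hK : Cfsg.Geo.IsFieldSubalgebra 3 K)
    (h7 : 7 ∣ q ^ 6 - 1) : ∃ ζ ∈ K, ζ ^ 7 = 1 ∧ ζ ≠ 1 := by
  classical
  letI := FEx.fieldOfSub K hK
  haveI : Finite (Matrix (Fin 3) (Fin 3) F) := inferInstanceAs (Finite (Fin 3 → Fin 3 → F))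
  haveI : Finite ↥K := Subtype.finite
  haveI : Fact (Nat.Prime 7) := ⟨by norm_num⟩
  have hc : Nat.card (↥K)ˣ = q ^ 6 - 1 := by
    rw [Nat.card_units, card_K hF (by norm_num) K hK, ← pow_mul]
  obtain ⟨x, hx⟩ := exists_prime_orderOf_dvd_card' (G := (↥K)ˣ) 7 (by rw [hc]; exact h7)
  refine ⟨((x : ↥K) : Matrix (Fin 3) (Fin 3) F), (x : ↥K).2, ?_, ?_⟩
  · have h1 : x ^ 7 = 1 := by rw [← hx]; exact pow_orderOf_eq_one x
    have h2 : ((x : ↥K)) ^ 7 = 1 := by rw [← Units.val_pow_eq_pow_val, h1, Units.val_one]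
    have h3 := congrArg Subtype.val h2
    rwa [SubmonoidClass.coe_pow] at h3
  · intro h1
    have h2 : (x : ↥K) = 1 := Subtype.ext h1
    have h3 : x = 1 := Units.ext h2
    rw [h3, orderOf_one] at hx
    omega

/-- a root of the cubic, of order seven. -/
theorem exists_root7 (hK : Cfsg.Geo.IsFieldSubalgebra 3 K) (a₀ a₁ a₂ : F₀)
    (h1 : a₀ * a₂ + a₁ = a₀) (h2 : a₀ * a₁ + a₁ * a₂ + a₂ = a₀)
    (h3 : a₀ * a₀ + a₁ * a₁ + a₂ * a₂ + 1 = a₀) (h0 : a₀ ≠ 0)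
    {ζ : Matrix (Fin 3) (Fin 3) F} (hζK : ζ ∈ K) (hζ7 : ζ ^ 7 = 1) (hζ1 : ζ ≠ 1) :
    ∃ ζ' ∈ K, ζ' ^ 7 = 1 ∧ ζ' ≠ 1 ∧
      ζ' ^ 3 + ι a₂ • ζ' ^ 2 + ι a₁ • ζ' + ι a₀ • (1 : Matrix (Fin 3) (Fin 3) F) = 0 := by
  classical
  letI := FEx.fieldOfSub K hK
  set z : ↥K := ⟨ζ, hζK⟩ with hz
  have hz7 : z ^ 7 = 1 := Subtype.ext (by rw [SubmonoidClass.coe_pow]; exact hζ7)
  have hz1 : z ≠ 1 := fun h => hζ1 (congrArg Subtype.val h)
  set A₀ : ↥K := algebraMap F ↥K (ι a₀) with hA₀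
  set A₁ : ↥K := algebraMap F ↥K (ι a₁) with hA₁
  set A₂ : ↥K := algebraMap F ↥K (ι a₂) with hA₂
  have e1 : A₀ * A₂ + A₁ = A₀ := by
    rw [hA₀, hA₁, hA₂, ← map_mul, ← map_mul, ← map_add, ← map_add, h1]
  have e2 : A₀ * A₁ + A₁ * A₂ + A₂ = A₀ := by
    rw [hA₀, hA₁, hA₂, ← map_mul, ← map_mul, ← map_mul, ← map_mul, ← map_add, ← map_add, ← map_add,
      ← map_add, h2]
  have e3 : A₀ * A₀ + A₁ * A₁ + A₂ * A₂ + 1 = A₀ := by
    have : (1 : ↥K) = algebraMap F ↥K (ι 1) := by rw [map_one, map_one]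
    rw [this, hA₀, hA₁, hA₂, ← map_mul, ← map_mul, ← map_mul, ← map_mul, ← map_mul, ← map_mul,
      ← map_add, ← map_add, ← map_add, ← map_add, ← map_add, ← map_add, h3]
  have hA₀0 : A₀ ≠ 0 := by
    rw [hA₀]
    exact (map_ne_zero _).mpr ((map_ne_zero ι).mpr h0)
  have key : (z - 1) * (z ^ 3 + A₂ * z ^ 2 + A₁ * z + A₀) * (A₀ * z ^ 3 + A₁ * z ^ 2 + A₂ * z + 1) = 0 := by
    have : (z - 1) * (z ^ 3 + A₂ * z ^ 2 + A₁ * z + A₀) * (A₀ * z ^ 3 + A₁ * z ^ 2 + A₂ * z + 1)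
        = A₀ * (z ^ 7 - 1) + (z - 1) * ((A₀ * A₂ + A₁ - A₀) * (z ^ 5 + z)
          + (A₀ * A₁ + A₁ * A₂ + A₂ - A₀) * (z ^ 4 + z ^ 2)
          + (A₀ * A₀ + A₁ * A₁ + A₂ * A₂ + 1 - A₀) * z ^ 3) := by ring
    rw [this, hz7, e1, e2, e3]; ring
  have hcoe : ∀ w : ↥K, w ^ 3 + A₂ * w ^ 2 + A₁ * w + A₀ = 0 →
      (w : Matrix (Fin 3) (Fin 3) F) ^ 3 + ι a₂ • (w : Matrix (Fin 3) (Fin 3) F) ^ 2
        + ι a₁ • (w : Matrix (Fin 3) (Fin 3) F) + ι a₀ • (1 : Matrix (Fin 3) (Fin 3) F) = 0 := by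
    intro w hw
    have := congrArg Subtype.val hw
    simpa [hA₀, hA₁, hA₂, Algebra.algebraMap_eq_smul_one] using this
  rcases mul_eq_zero.mp key with h | h
  · rcases mul_eq_zero.mp h with h | h
    · exact absurd (sub_eq_zero.mp h) hz1
    · exact ⟨ζ, hζK, hζ7, hζ1, hcoe z h⟩
  · -- the inverse is a root
    have hz67 : (z ^ 6) ^ 7 = 1 := by rw [← pow_mul, mul_comm, pow_mul, hz7, one_pow]
    have hz61 : z ^ 6 ≠ 1 := by
      intro h6
      apply hz1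
      calc z = z ^ 7 * z := by rw [hz7, one_mul]
        _ = z ^ 6 * z ^ 2 := by ring
        _ = z ^ 2 := by rw [h6, one_mul]
        _ = 1 := by
          have : z ^ 7 = z ^ 6 * z := by ring
          rw [hz7, h6, one_mul] at this
          rw [pow_two, ← this, one_mul]
    have hroot : (z ^ 6) ^ 3 + A₂ * (z ^ 6) ^ 2 + A₁ * z ^ 6 + A₀ = 0 := by
      have : (z ^ 6) ^ 3 + A₂ * (z ^ 6) ^ 2 + A₁ * z ^ 6 + A₀
          = z ^ 4 * (A₀ * z ^ 3 + A₁ * z ^ 2 + A₂ * z + 1)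
            + (z ^ 7 - 1) * (z ^ 11 + z ^ 4 + A₂ * z ^ 5 - A₀) := by ring
      rw [this, h, hz7]; ring
    refine ⟨(z ^ 6 : ↥K), (z ^ 6).2, ?_, ?_, hcoe _ hroot⟩
    · have := congrArg Subtype.val hz67
      rwa [SubmonoidClass.coe_pow] at this
    · intro h1
      exact hz61 (Subtype.ext h1)

end Cfsg.Agent.Helper7.SingerU
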