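import Mathlib
import Cfsg.Prelude.Def_GeometricClasses
import Cfsg.Agent.Helper7.SingerUH

set_option autoImplicit false
set_option linter.unusedSectionVars false
set_option maxHeartbeats 1000000

/-! Dimension three, elements of order seven: the isometries of determinant one in an
adjoint-closed field of degree three (helper7). -/

namespace Cfsg.Agent.Helper7.SingerU

open Matrix Cfsg.Agent.Helper7.Herm

variable {F : Type*} [Field F] [Fintype F] {q : ℕ}
  (K : Subalgebra F (Matrix (Fin 3) (Fin 3) F))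

/-- an element of order seven is not a scalar. -/
theorem not_scalar_of_order7 (hF : Fintype.card F = q ^ 2) (hcop : Nat.Coprime 7 (q ^ 2 - 1))
    {ζ : Matrix (Fin 3) (Fin 3) F} (hζ7 : ζ ^ 7 = 1) (hζ1 : ζ ≠ 1) :
    ∀ a : F, ζ ≠ a • (1 : Matrix (Fin 3) (Fin 3) F) := by
  classical
  intro a ha
  apply hζ1
  have h7 : a ^ 7 = 1 := by
    have h := hζ7
    rw [ha, smul_pow, one_pow] at h
    have := congrFun (congrFun h 0) 0
    simpa using this
  have ha0 : a ≠ 0 := by
    intro h0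
    rw [h0, zero_pow (by norm_num)] at h7
    exact zero_ne_one h7
  have h8 : a ^ (q ^ 2 - 1) = 1 := by
    rw [← hF]; exact FiniteField.pow_card_sub_one_eq_one a ha0
  have hd1 : orderOf a ∣ 7 := orderOf_dvd_of_pow_eq_one h7
  have hd2 : orderOf a ∣ q ^ 2 - 1 := orderOf_dvd_of_pow_eq_one h8
  have hd : orderOf a ∣ 1 := by
    have := Nat.dvd_gcd hd1 hd2
    rwa [hcop] at this
  have : a = 1 := orderOf_eq_one_iff.mp (Nat.dvd_one.mp hd)
  rw [ha, this, one_smul]

/-- the isometries of determinant one in the field. -/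
theorem isom_det_one (hF : Fintype.card F = q ^ 2) (hK : Cfsg.Geo.IsFieldSubalgebra 3 K)
    (hadj : Cfsg.Geo.IsAdjointClosedFor (Cfsg.hermForm 3 F q) K)
    {ζ : Matrix (Fin 3) (Fin 3) F} (hζK : ζ ∈ K) (hζ7 : ζ ^ 7 = 1) (hζ1 : ζ ≠ 1)
    (c₀ : F) (d : ℕ) (hd : Nat.Coprime d 7) (hc₀ : orderOf c₀ = d)
    (hg : Nat.gcd (q ^ 3 + 1) ((q ^ 6 - 1) / (q ^ 2 - 1)) = d * 7) :
    ∀ k ∈ K, (∀ u v, Cfsg.hermForm 3 F q (k *ᵥ u) (k *ᵥ v) = Cfsg.hermForm 3 F q u v) →
      k.det = 1 → ∃ (c : F) (i : ℕ), k = c • ζ ^ i := by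
  classical
  intro k hk hpres hdet
  have hK' : Cfsg.Geo.IsFieldSubalgebra (Fintype.card (Fin 3)) K := by
    rw [Fintype.card_fin]; exact hK
  letI := FEx.fieldOfSub K hK
  haveI : Finite (Matrix (Fin 3) (Fin 3) F) := inferInstanceAs (Finite (Fin 3 → Fin 3 → F))
  haveI : Finite ↥K := Subtype.finite
  haveI : Fact (Nat.Prime 7) := ⟨by norm_num⟩
  set kk : ↥K := ⟨k, hk⟩ with hkk
  set z : ↥K := ⟨ζ, hζK⟩ with hz
  have hz7 : z ^ 7 = 1 := Subtype.ext (by rw [SubmonoidClass.coe_pow]; exact hζ7)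
  have hz1 : z ≠ 1 := fun h => hζ1 (congrArg Subtype.val h)
  -- first power
  have hp1 : kk ^ (q ^ 3 + 1) = 1 := by
    apply Subtype.ext
    rw [SubmonoidClass.coe_pow]
    exact (preserves_iff hF (by norm_num) K hK hadj hk).mp hpres
  -- second power
  have hp2 : kk ^ ((q ^ 6 - 1) / (q ^ 2 - 1)) = 1 := by
    have h1 : Algebra.norm F kk = 1 := by
      rw [← SingerGen.det_eq K hK' kk]; exact hdet
    have h2 := FiniteField.algebraMap_norm_eq_pow (K := F) (K' := ↥K) (x := kk)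
    rw [h1, map_one, card_K hF (by norm_num) K hK, Nat.card_eq_fintype_card, hF, ← pow_mul] at h2
    exact h2.symm
  have hord : orderOf kk ∣ d * 7 := by
    rw [← hg]
    exact Nat.dvd_gcd (orderOf_dvd_of_pow_eq_one hp1) (orderOf_dvd_of_pow_eq_one hp2)
  have hpd : kk ^ (d * 7) = 1 := orderOf_dvd_iff_pow_eq_one.mp hord
  -- the primitive root
  set w : ↥K := algebraMap F ↥K c₀ with hw
  have how : orderOf w = d := by
    rw [hw, ← hc₀]
    exact orderOf_injective (algebraMap F ↥K : F →* ↥K) (algebraMap F ↥K).injective c₀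
  have hoz : orderOf z = 7 := orderOf_eq_prime hz7 hz1
  have howz : orderOf (w * z) = d * 7 := by
    rw [(Commute.all w z).orderOf_mul_eq_mul_orderOf_of_coprime (by rw [how, hoz]; exact hd), how, hoz]
  have hd0 : d ≠ 0 := by
    rintro rfl
    simp at hd
  haveI : NeZero (d * 7) := ⟨by positivity⟩
  have hprim : IsPrimitiveRoot (w * z) (d * 7) := by
    rw [← howz]; exact IsPrimitiveRoot.orderOf _
  obtain ⟨i, _, hi⟩ := hprim.eq_pow_of_pow_eq_one hpd
  refine ⟨c₀ ^ i, i, ?_⟩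
  have := congrArg Subtype.val hi
  rw [mul_pow] at this
  simp only [hw, hz, hkk, Subalgebra.coe_mul, SubmonoidClass.coe_pow, Subalgebra.coe_algebraMap,
    Algebra.algebraMap_eq_smul_one, Subalgebra.coe_smul, OneMemClass.coe_one] at this
  rw [← this, smul_pow, one_pow, smul_mul_assoc, one_mul]

end Cfsg.Agent.Helper7.SingerU
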