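import Mathlib
import Cfsg.Prelude.Def_GeometricClasses
import Cfsg.Agent.Helper7.SingerUI

set_option autoImplicit false
set_option linter.unusedSectionVars false
set_option maxHeartbeats 1000000

/-! Dimension three, elements of order seven: the normaliser of an adjoint-closed field of degree
three is not maximal in the special unitary group, from explicit model data over a model `F₀` of the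
field with `q²` elements (helper7). -/

namespace Cfsg.Agent.Helper7.SingerU

open Matrix Cfsg.Agent.Helper7.Herm

variable {F : Type*} [Field F] [Fintype F] {q : ℕ} {F₀ : Type} [Field F₀]

theorem not_maximal_of_data (hF : Fintype.card F = q ^ 2) (ι : F₀ →+* F)
    (K : Subalgebra F (Matrix (Fin 3) (Fin 3) F)) (hK : Cfsg.Geo.IsFieldSubalgebra 3 K)
    (hadj : Cfsg.Geo.IsAdjointClosedFor (Cfsg.hermForm 3 F q) K)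
    (h7 : 7 ∣ q ^ 6 - 1) (h7' : 7 ∣ q ^ 3 + 1) (hcop : Nat.Coprime 7 (q ^ 2 - 1))
    (c₀ : F) (d : ℕ) (hd : Nat.Coprime d 7) (hc₀ : orderOf c₀ = d)
    (hg : Nat.gcd (q ^ 3 + 1) ((q ^ 6 - 1) / (q ^ 2 - 1)) = d * 7)
    (a₀ a₁ a₂ : F₀) (h1 : a₀ * a₂ + a₁ = a₀) (h2 : a₀ * a₁ + a₁ * a₂ + a₂ = a₀)
    (h3 : a₀ * a₀ + a₁ * a₁ + a₂ * a₂ + 1 = a₀) (h0 : a₀ ≠ 0)
    {C₀ Γ₀ C₀' Φ₀ Φ₀' T₀ T₀' U₀ U₀' : Matrix (Fin 3) (Fin 3) F₀}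
    (hC₀ : C₀ = !![0, 0, -a₀; 1, 0, -a₁; 0, 1, -a₂])
    (hΓ : ∀ i j : Fin 3, Γ₀ i j = (C₀ ^ ((j : ℕ) + 6 * (i : ℕ))).trace)
    (hC0 : C₀ *ᵥ ![1, 0, 0] = ![0, 1, 0]) (hC1 : C₀ *ᵥ ![0, 1, 0] = ![0, 0, 1])
    (hCC : C₀ * C₀' = 1) (hCC' : C₀' * C₀ = 1) (hCu : adjq q C₀ * Γ₀ * C₀ = Γ₀) (hCd : C₀.det = 1)
    (hΦΦ : Φ₀ * Φ₀' = 1) (hΦΦ' : Φ₀' * Φ₀ = 1) (hΦu : adjq q Φ₀ * Γ₀ * Φ₀ = Γ₀) (hΦd : Φ₀.det = 1)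
    (hΦC : Φ₀ * C₀ * Φ₀' = C₀ ^ (q ^ 2))
    (hTT : T₀ * T₀' = 1) (hTT' : T₀' * T₀ = 1) (hTu : adjq q T₀ * Γ₀ * T₀ = Γ₀) (hTd : T₀.det = 1)
    (hTC : T₀ * C₀ * T₀' * C₀ ≠ C₀ * (T₀ * C₀ * T₀'))
    (hUU : U₀ * U₀' = 1) (hUU' : U₀' * U₀ = 1) (hUu : adjq q U₀ * Γ₀ * U₀ = Γ₀) (hUd : U₀.det = 1)
    (S₀ : List (Fin 3 → F₀))
    (hSC : ∀ s ∈ S₀, ∃ c : F₀, c ≠ 0 ∧ ∃ s' ∈ S₀, C₀ *ᵥ s = c • s')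
    (hSΦ : ∀ s ∈ S₀, ∃ c : F₀, c ≠ 0 ∧ ∃ s' ∈ S₀, Φ₀ *ᵥ s = c • s')
    (hST : ∀ s ∈ S₀, ∃ c : F₀, c ≠ 0 ∧ ∃ s' ∈ S₀, T₀ *ᵥ s = c • s')
    (hSU : ∃ s ∈ S₀, ∀ s' ∈ S₀, ∃ i j, (U₀ *ᵥ s) i * s' j ≠ (U₀ *ᵥ s) j * s' i) :
    ¬ Cfsg.Geo.IsMaximalIn (Cfsg.GU 3 F q ⊓ Cfsg.Geo.specialLinear (Fin 3) F)
      (Cfsg.Geo.subalgebraNormalizer K ⊓ (Cfsg.GU 3 F q ⊓ Cfsg.Geo.specialLinear (Fin 3) F)) := by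
  classical
  obtain ⟨ζ₁, hζ₁K, hζ₁7, hζ₁1⟩ := exists_order7 K hF hK h7
  obtain ⟨ζ, hζK, hζ7, hζ1, hroot⟩ := exists_root7 ι K hK a₀ a₁ a₂ h1 h2 h3 h0 hζ₁K hζ₁7 hζ₁1
  have hns := not_scalar_of_order7 hF hcop hζ7 hζ1
  have hζu : adjq q ζ * ζ = 1 := by
    rw [adjq_eq_pow hF (by norm_num) K hK hadj ζ hζK, ← pow_succ]
    obtain ⟨m, hm⟩ := h7'
    rw [hm, pow_mul, hζ7, one_pow]
  obtain ⟨fr, hfr⟩ := exists_frame3 (ι := ι) hF hK hadj a₀ a₁ a₂ hC₀ hζK hns hroot (N := 6) hζ7 hζu hΓ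
  refine not_maximal_of_frame fr hF hK hC0 hC1 hCC hCC' hCu hCd hΦΦ hΦΦ' hΦu hΦd hΦC hTT hTT' hTu hTd
    hTC hUU hUU' hUu hUd S₀ hSC hSΦ hST hSU ?_
  rw [hfr]
  exact isom_det_one K hF hK hadj hζK hζ7 hζ1 c₀ d hd hc₀ hg

end Cfsg.Agent.Helper7.SingerU
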