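import Mathlib
import Cfsg.Prelude.Def_GeometricClasses
import Cfsg.Agent.Helper7.SingerUJ
import Cfsg.Agent.Helper7.SU3E1Data

set_option autoImplicit false

/-! `SU₃(3)`: the normaliser `7:3` of a field of degree three is not maximal (it lies in `L₂(7)`)
(helper7). -/

namespace Cfsg.Agent.Helper7.SU3E1

open Cfsg.Agent.Helper5.GF9 Matrix Cfsg.Agent.Helper7.SingerU

theorem field_three_not_maximal {F : Type*} [Field F] [Fintype F] (hF : Fintype.card F = 3 ^ 2)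
    (K : Subalgebra F (Matrix (Fin 3) (Fin 3) F)) (hK : Cfsg.Geo.IsFieldSubalgebra 3 K)
    (hadj : Cfsg.Geo.IsAdjointClosedFor (Cfsg.hermForm 3 F 3) K) :
    ¬ Cfsg.Geo.IsMaximalIn (Cfsg.GU 3 F 3 ⊓ Cfsg.Geo.specialLinear (Fin 3) F)
      (Cfsg.Geo.subalgebraNormalizer K ⊓ (Cfsg.GU 3 F 3 ⊓ Cfsg.Geo.specialLinear (Fin 3) F)) := by
  classical
  let ι : F9 →+* F :=
    (FiniteField.ringEquivOfCardEq (by rw [F9.card_eq, hF]; norm_num) : F9 ≃+* F).toRingHom
  exact not_maximal_of_data hF ι K hK hadj (by norm_num) (by norm_num) (by norm_num)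
    1 1 (by norm_num) orderOf_one (by norm_num)
    a0 a1 a2 coef1 coef2 coef3 (by decide) rfl (fun i j => Gam_eq (i, j)) Cm_e0 Cm_e1
    Cm_mul_Cinv Cinv_mul_Cm Cm_unitary Cm_det
    phi_mul_phiinv phiinv_mul_phi phi_unitary phi_det phi_Cm
    tm_mul_tinv tinv_mul_tm tm_unitary tm_det tm_Cm
    um_mul_uinv uinv_mul_um um_unitary um_det
    Slist Cm_S phi_S tm_S um_S

end Cfsg.Agent.Helper7.SU3E1
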