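import Mathlib
import Cfsg.Agent.Helper9.U35.GF25
import Cfsg.Agent.Helper7.SingerUA

/-!
# `SU₃(5)`: explicit data for `7:3 < L₂(7) < SU₃(5)` (helper7)

Over the model field `F25` with 25 elements: the companion matrix `Cm` of a cubic factor
`x³ + a2 x² + a1 x + a0` of `x⁷ − 1`, the Gram matrix `Gam` of the trace form in the basis `1, ζ, ζ²`,
the Frobenius `phi`, an extra involution `tm` (so that `Cm, phi, tm` generate a group of order 168),
an orbit `Olist` of 21 non-isotropic points of that group and a unitary transvection `um` moving a point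
out of that orbit.  All facts are checked by `decide`.
-/

set_option autoImplicit false

namespace Cfsg.Agent.Helper7.SU3E4

open Cfsg.Agent.Helper9.U35 Matrix Cfsg.Agent.Helper7.SingerU

/-- a `3 × 3` matrix over the model field from a table of numbers. -/
def mk3 (l : List (List ℕ)) : Matrix (Fin 3) (Fin 3) F25 :=
  fun i j => F25.ofN ((l.getD i.val []).getD j.val 0)

/-- a vector from a list of numbers. -/
def mkv (l : List ℕ) : Fin 3 → F25 := fun i => F25.ofN (l.getD i.val 0)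

/-- the constant coefficient. -/
def a0 : F25 := F25.ofN 4
/-- the linear coefficient. -/
def a1 : F25 := F25.ofN 7
/-- the quadratic coefficient. -/
def a2 : F25 := F25.ofN 8

/-- the companion matrix. -/
def Cm : Matrix (Fin 3) (Fin 3) F25 := !![0, 0, -a0; 1, 0, -a1; 0, 1, -a2]

/-- its inverse. -/
def Cinv : Matrix (Fin 3) (Fin 3) F25 :=
  mk3 [[7, 1, 0], [8, 0, 1], [1, 0, 0]]

/-- the Gram matrix of the trace form. -/
def Gam : Matrix (Fin 3) (Fin 3) F25 :=
  mk3 [[3, 22, 22], [7, 3, 22], [7, 7, 3]]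

/-- the Frobenius. -/
def phi : Matrix (Fin 3) (Fin 3) F25 :=
  mk3 [[1, 22, 0], [0, 4, 1], [0, 4, 0]]

/-- its inverse. -/
def phiinv : Matrix (Fin 3) (Fin 3) F25 :=
  mk3 [[1, 0, 22], [0, 0, 4], [0, 1, 4]]

/-- the extra involution. -/
def tm : Matrix (Fin 3) (Fin 3) F25 :=
  mk3 [[4, 7, 20], [0, 11, 3], [0, 14, 19]]

/-- its inverse. -/
def tinv : Matrix (Fin 3) (Fin 3) F25 :=
  mk3 [[4, 7, 20], [0, 11, 3], [0, 14, 19]]

/-- a unitary transvection. -/
def um : Matrix (Fin 3) (Fin 3) F25 :=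
  mk3 [[1, 0, 0], [24, 3, 3], [24, 2, 4]]

/-- its inverse. -/
def uinv : Matrix (Fin 3) (Fin 3) F25 :=
  mk3 [[1, 0, 0], [6, 4, 2], [6, 3, 3]]

/-- the orbit of 21 points (as number tables). -/
def Olist : List (List ℕ) :=
  [[1, 5, 2],
   [1, 5, 7],
   [1, 5, 13],
   [1, 5, 4],
   [1, 10, 3],
   [1, 15, 17],
   [1, 20, 17],
   [1, 6, 13],
   [1, 11, 1],
   [1, 11, 17],
   [1, 11, 13],
   [1, 11, 18],
   [1, 16, 1],
   [1, 21, 12],
   [1, 7, 19],
   [1, 22, 17],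
   [1, 9, 1],
   [1, 24, 1],
   [1, 24, 16],
   [1, 24, 8],
   [1, 24, 13]]

/-- the points of the orbit. -/
def Sv (a : Fin 21) : Fin 3 → F25 := mkv (Olist.getD a.val [])

/-- the orbit of 21 points. -/
def Slist : List (Fin 3 → F25) := List.ofFn Sv

theorem mem_Slist {s : Fin 3 → F25} : s ∈ Slist ↔ ∃ a, Sv a = s := by
  unfold Slist
  rw [List.mem_ofFn]

set_option maxRecDepth 100000 in
theorem Cm_e0 : Cm *ᵥ ![1, 0, 0] = ![0, 1, 0] := by
  decide +kernel

set_option maxRecDepth 100000 in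
theorem Cm_e1 : Cm *ᵥ ![0, 1, 0] = ![0, 0, 1] := by
  decide +kernel

set_option maxRecDepth 100000 in
theorem Cm_mul_Cinv : Cm * Cinv = 1 := by
  decide +kernel

set_option maxRecDepth 100000 in
theorem Cinv_mul_Cm : Cinv * Cm = 1 := by
  decide +kernel

set_option maxRecDepth 100000 in
theorem Cm_unitary : adjq 5 Cm * Gam * Cm = Gam := by
  decide +kernel

set_option maxRecDepth 100000 in
theorem Cm_det : Cm.det = 1 := by
  rw [Matrix.det_fin_three]
  decide +kernel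

set_option maxRecDepth 100000 in
theorem phi_mul_phiinv : phi * phiinv = 1 := by
  decide +kernel

set_option maxRecDepth 100000 in
theorem phiinv_mul_phi : phiinv * phi = 1 := by
  decide +kernel

set_option maxRecDepth 100000 in
theorem phi_unitary : adjq 5 phi * Gam * phi = Gam := by
  decide +kernel

set_option maxRecDepth 100000 in
theorem phi_det : phi.det = 1 := by
  rw [Matrix.det_fin_three]
  decide +kernel

set_option maxRecDepth 100000 in
theorem tm_mul_tinv : tm * tinv = 1 := by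
  decide +kernel

set_option maxRecDepth 100000 in
theorem tinv_mul_tm : tinv * tm = 1 := by
  decide +kernel

set_option maxRecDepth 100000 in
theorem tm_unitary : adjq 5 tm * Gam * tm = Gam := by
  decide +kernel

set_option maxRecDepth 100000 in
theorem tm_det : tm.det = 1 := by
  rw [Matrix.det_fin_three]
  decide +kernel

set_option maxRecDepth 100000 in
theorem um_mul_uinv : um * uinv = 1 := by
  decide +kernel

set_option maxRecDepth 100000 in
theorem uinv_mul_um : uinv * um = 1 := by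
  decide +kernel

set_option maxRecDepth 100000 in
theorem um_unitary : adjq 5 um * Gam * um = Gam := by
  decide +kernel

set_option maxRecDepth 100000 in
theorem um_det : um.det = 1 := by
  rw [Matrix.det_fin_three]
  decide +kernel

/-- the powers of the companion matrix. -/
def Cp : ℕ → Matrix (Fin 3) (Fin 3) F25
  | 0 => 1
  | 1 => Cm
  | 2 => mk3 [[0, 1, 22], [0, 23, 4], [1, 22, 4]]
  | 3 => mk3 [[1, 22, 4], [23, 4, 4], [22, 4, 7]]
  | 4 => mk3 [[22, 4, 7], [4, 4, 8], [4, 7, 1]]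
  | 5 => mk3 [[4, 7, 1], [4, 8, 0], [7, 1, 0]]
  | _ => Cinv

set_option maxRecDepth 100000 in
theorem Cp_succ : ∀ r : Fin 7, Cp r.val * Cm = Cp ((r.val + 1) % 7) := by
  decide +kernel

theorem Cm_pow (k : ℕ) : Cm ^ k = Cp (k % 7) := by
  induction k with
  | zero => rfl
  | succ k ih =>
    rw [pow_succ, ih]
    have h := Cp_succ ⟨k % 7, Nat.mod_lt _ (by norm_num)⟩
    simp only at h
    rw [h]
    congr 1
    omega

set_option maxRecDepth 100000 in
theorem phi_Cm4 : phi * Cm * phiinv = Cp 4 := by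
  decide +kernel

theorem phi_Cm : phi * Cm * phiinv = Cm ^ (5 ^ 2) := by
  rw [Cm_pow]
  exact phi_Cm4

set_option maxRecDepth 100000 in
theorem tm_Cm : tm * Cm * tinv * Cm ≠ Cm * (tm * Cm * tinv) := by
  decide +kernel

set_option maxRecDepth 100000 in
theorem Cm_S' : ∀ a : Fin 21, ∃ c : F25, c ≠ 0 ∧ ∃ b : Fin 21, Cm *ᵥ Sv a = c • Sv b := by
  decide +kernel

theorem Cm_S : ∀ s ∈ Slist, ∃ c : F25, c ≠ 0 ∧ ∃ s' ∈ Slist, Cm *ᵥ s = c • s' := by
  intro s hs
  obtain ⟨a, rfl⟩ := mem_Slist.mp hs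
  obtain ⟨c, hc, b, hb⟩ := Cm_S' a
  exact ⟨c, hc, Sv b, mem_Slist.mpr ⟨b, rfl⟩, hb⟩

set_option maxRecDepth 100000 in
theorem phi_S' : ∀ a : Fin 21, ∃ c : F25, c ≠ 0 ∧ ∃ b : Fin 21, phi *ᵥ Sv a = c • Sv b := by
  decide +kernel

theorem phi_S : ∀ s ∈ Slist, ∃ c : F25, c ≠ 0 ∧ ∃ s' ∈ Slist, phi *ᵥ s = c • s' := by
  intro s hs
  obtain ⟨a, rfl⟩ := mem_Slist.mp hs
  obtain ⟨c, hc, b, hb⟩ := phi_S' a
  exact ⟨c, hc, Sv b, mem_Slist.mpr ⟨b, rfl⟩, hb⟩

set_option maxRecDepth 100000 in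
theorem tm_S' : ∀ a : Fin 21, ∃ c : F25, c ≠ 0 ∧ ∃ b : Fin 21, tm *ᵥ Sv a = c • Sv b := by
  decide +kernel

theorem tm_S : ∀ s ∈ Slist, ∃ c : F25, c ≠ 0 ∧ ∃ s' ∈ Slist, tm *ᵥ s = c • s' := by
  intro s hs
  obtain ⟨a, rfl⟩ := mem_Slist.mp hs
  obtain ⟨c, hc, b, hb⟩ := tm_S' a
  exact ⟨c, hc, Sv b, mem_Slist.mpr ⟨b, rfl⟩, hb⟩

set_option maxRecDepth 100000 in
theorem um_S' : ∃ a : Fin 21, ∀ b : Fin 21, ∃ i j, (um *ᵥ Sv a) i * Sv b j ≠ (um *ᵥ Sv a) j * Sv b i := by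
  decide +kernel

theorem um_S : ∃ s ∈ Slist, ∀ s' ∈ Slist, ∃ i j, (um *ᵥ s) i * s' j ≠ (um *ᵥ s) j * s' i := by
  obtain ⟨a, ha⟩ := um_S'
  refine ⟨Sv a, mem_Slist.mpr ⟨a, rfl⟩, fun s' hs' => ?_⟩
  obtain ⟨b, rfl⟩ := mem_Slist.mp hs'
  exact ha b

set_option maxRecDepth 100000 in
theorem Gam_eq' : ∀ p : Fin 3 × Fin 3, Gam p.1 p.2 = (Cp (((p.2 : ℕ) + 6 * (p.1 : ℕ)) % 7)).trace := by
  decide +kernel

theorem Gam_eq (p : Fin 3 × Fin 3) : Gam p.1 p.2 = (Cm ^ ((p.2 : ℕ) + 6 * (p.1 : ℕ))).trace := by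
  rw [Cm_pow]
  exact Gam_eq' p

set_option maxRecDepth 100000 in
theorem coef1 : a0 * a2 + a1 = a0 := by
  decide +kernel

set_option maxRecDepth 100000 in
theorem coef2 : a0 * a1 + a1 * a2 + a2 = a0 := by
  decide +kernel

set_option maxRecDepth 100000 in
theorem coef3 : a0 * a0 + a1 * a1 + a2 * a2 + 1 = a0 := by
  decide +kernel

end Cfsg.Agent.Helper7.SU3E4
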