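import Mathlib
import Cfsg.Prelude.Def_GeometricClasses
import Cfsg.Agent.Helper7.SingerUJ
import Cfsg.Agent.Helper7.SU3E4Data

set_option autoImplicit false

/-! `SU₃(5)`: the normaliser `3 × 7:3` of a field of degree three is not maximal (it lies in
`3 × L₂(7)`) (helper7). -/

namespace Cfsg.Agent.Helper7.SU3E4

open Cfsg.Agent.Helper9.U35 Matrix Cfsg.Agent.Helper7.SingerU

/-- a primitive cube root of unity. -/
def w0 : F25 := F25.ofN 12

theorem w0_pow : w0 ^ 3 = 1 := by decide +kernel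

theorem w0_ne : w0 ≠ 1 := by decide +kernel

theorem field_five_not_maximal {F : Type*} [Field F] [Fintype F] (hF : Fintype.card F = 5 ^ 2)
    (K : Subalgebra F (Matrix (Fin 3) (Fin 3) F)) (hK : Cfsg.Geo.IsFieldSubalgebra 3 K)
    (hadj : Cfsg.Geo.IsAdjointClosedFor (Cfsg.hermForm 3 F 5) K) :
    ¬ Cfsg.Geo.IsMaximalIn (Cfsg.GU 3 F 5 ⊓ Cfsg.Geo.specialLinear (Fin 3) F)
      (Cfsg.Geo.subalgebraNormalizer K ⊓ (Cfsg.GU 3 F 5 ⊓ Cfsg.Geo.specialLinear (Fin 3) F)) := by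
  classical
  let ι : F25 →+* F :=
    (FiniteField.ringEquivOfCardEq (by rw [F25.card_eq, hF]; norm_num) : F25 ≃+* F).toRingHom
  haveI : Fact (Nat.Prime 3) := ⟨by norm_num⟩
  have hord : orderOf (ι w0) = 3 := by
    rw [show ι w0 = (ι : F25 →* F) w0 from rfl, orderOf_injective (ι : F25 →* F) ι.injective w0]
    exact orderOf_eq_prime w0_pow w0_ne
  exact not_maximal_of_data hF ι K hK hadj (by norm_num) (by norm_num) (by norm_num)
    (ι w0) 3 (by norm_num) hord (by norm_num)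
    a0 a1 a2 coef1 coef2 coef3 (by decide) rfl (fun i j => Gam_eq (i, j)) Cm_e0 Cm_e1
    Cm_mul_Cinv Cinv_mul_Cm Cm_unitary Cm_det
    phi_mul_phiinv phiinv_mul_phi phi_unitary phi_det phi_Cm
    tm_mul_tinv tinv_mul_tm tm_unitary tm_det tm_Cm
    um_mul_uinv uinv_mul_um um_unitary um_det
    Slist Cm_S phi_S tm_S um_S

end Cfsg.Agent.Helper7.SU3E4
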