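import Mathlib
import Cfsg.Agent.Helper7.SUSubA
import Cfsg.Agent.Helper7.SpSubA
import Cfsg.Agent.Helper7.SLUnitF

set_option autoImplicit false
set_option linter.unusedSectionVars false

/-! Subfield subgroups of the special unitary group (odd degree), part B: the rational points
of a change of basis and the induced unitary form over the subfield (helper7). -/

namespace Cfsg.Agent.Helper7.SUSub

open Matrix Cfsg Cfsg.Geo Cfsg.Agent.Helper7.Herm Cfsg.Agent.Helper8.GUOrder
  Cfsg.Agent.Helper8.SURoot Cfsg.Agent.Helper8.AutSU Cfsg.Agent.Helper7.SubF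
  Cfsg.Agent.Helper7.SpSub

variable {F : Type*} [Field F] [Fintype F] {q N : ℕ} [hF : Fact (Fintype.card F = q ^ 2)]
  {F₀ : Subfield F} {P : GL (Fin N) F}

local notation "H" => hermForm N F q

/-- the coordinatewise inclusion. -/
def up (s : Fin N → F₀) : Fin N → F := fun j => (s j : F)

omit [Fintype F] in
theorem up_add (s t : Fin N → F₀) : up (s + t) = up s + up t := rfl

omit [Fintype F] in
theorem up_smul (a : F₀) (s : Fin N → F₀) : up (a • s) = (a : F) • up s := rfl

omit [Fintype F] in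
theorem up_zero : up (0 : Fin N → F₀) = 0 := rfl

omit [Fintype F] in
theorem up_single (k : Fin N) : up (Pi.single k (1 : F₀)) = Pi.single k 1 := by
  funext j
  unfold up
  by_cases hj : j = k
  · rw [hj, Pi.single_eq_same, Pi.single_eq_same]; rfl
  · rw [Pi.single_eq_of_ne hj, Pi.single_eq_of_ne hj]; rfl

omit [Fintype F] in
theorem up_injective : Function.Injective (up : (Fin N → F₀) → (Fin N → F)) := by
  intro s t h
  funext j
  exact Subtype.ext (congrFun h j)

/-- the rational point with given coordinates. -/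
def rv (P : GL (Fin N) F) (s : Fin N → F₀) : Fin N → F :=
  (P : Matrix (Fin N) (Fin N) F) *ᵥ up s

omit [Fintype F] in
theorem rv_add (s t : Fin N → F₀) : rv P (s + t) = rv P s + rv P t := by
  unfold rv; rw [up_add, mulVec_add]

omit [Fintype F] in
theorem rv_smul (a : F₀) (s : Fin N → F₀) : rv P (a • s) = (a : F) • rv P s := by
  unfold rv; rw [up_smul, mulVec_smul]

omit [Fintype F] in
theorem rv_zero : rv P (0 : Fin N → F₀) = 0 := by
  unfold rv; rw [up_zero, mulVec_zero]

omit [Fintype F] in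
theorem rv_injective : Function.Injective (rv P : (Fin N → F₀) → (Fin N → F)) := by
  intro s t h
  apply up_injective
  unfold rv at h
  have := congrArg (fun v => ((P⁻¹ : GL (Fin N) F) : Matrix (Fin N) (Fin N) F) *ᵥ v) h
  simpa [mulVec_mulVec, Units.inv_mul] using this

/-- rationality of a vector with respect to the change of basis `P`. -/
def Rt (F₀ : Subfield F) (P : GL (Fin N) F) (v : Fin N → F) : Prop :=
  v ∈ V0 F₀ (P : Matrix (Fin N) (Fin N) F)

omit [Fintype F] in
theorem Rt_rv (s : Fin N → F₀) : Rt F₀ P (rv P s) := ⟨up s, fun i => (s i).2, rfl⟩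

omit [Fintype F] in
theorem Rt.exists_rv {v : Fin N → F} (hv : Rt F₀ P v) : ∃ s : Fin N → F₀, v = rv P s := by
  obtain ⟨u, hu, rfl⟩ := hv
  exact ⟨fun i => ⟨u i, hu i⟩, rfl⟩

omit [Fintype F] in
theorem Rt.zero : Rt F₀ P (0 : Fin N → F) := ⟨0, fun _ => F₀.zero_mem, mulVec_zero _⟩

omit [Fintype F] in
theorem Rt.add {v w : Fin N → F} (hv : Rt F₀ P v) (hw : Rt F₀ P w) : Rt F₀ P (v + w) := by
  obtain ⟨u, hu, rfl⟩ := hv
  obtain ⟨u', hu', rfl⟩ := hw
  exact ⟨u + u', fun i => F₀.add_mem (hu i) (hu' i), mulVec_add _ _ _⟩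

omit [Fintype F] in
theorem Rt.smul {a : F} (ha : a ∈ F₀) {v : Fin N → F} (hv : Rt F₀ P v) : Rt F₀ P (a • v) := by
  obtain ⟨u, hu, rfl⟩ := hv
  exact ⟨a • u, fun i => F₀.mul_mem ha (hu i), mulVec_smul _ _ _⟩

omit [Fintype F] in
theorem Rt.neg {v : Fin N → F} (hv : Rt F₀ P v) : Rt F₀ P (-v) := by
  have := hv.smul (F₀.neg_mem F₀.one_mem)
  rwa [neg_one_smul] at this

omit [Fintype F] in
theorem Rt.sub {v w : Fin N → F} (hv : Rt F₀ P v) (hw : Rt F₀ P w) : Rt F₀ P (v - w) := by
  rw [sub_eq_add_neg]; exact hv.add hw.neg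

omit [Fintype F] in
/-- rationality in coordinates. -/
theorem Rt_iff (v : Fin N → F) :
    Rt F₀ P v ↔ RatV F₀ (((P⁻¹ : GL (Fin N) F) : Matrix (Fin N) (Fin N) F) *ᵥ v) := by
  constructor
  · rintro ⟨u, hu, rfl⟩
    rw [mulVec_mulVec, Units.inv_mul, one_mulVec]
    exact hu
  · intro h
    refine ⟨_, h, ?_⟩
    rw [mulVec_mulVec, Units.mul_inv, one_mulVec]

omit [Fintype F] in
/-- coefficients of a rational vector with respect to independent rational vectors. -/
theorem Rt.coef2 {r r' : Fin N → F} (hr : Rt F₀ P r) (hr' : Rt F₀ P r')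
    (hI : ∀ a b : F, a • r + b • r' = 0 → a = 0 ∧ b = 0) {α β : F}
    (h : Rt F₀ P (α • r + β • r')) : α ∈ F₀ ∧ β ∈ F₀ := by
  rw [Rt_iff] at hr hr' h
  rw [mulVec_add, mulVec_smul, mulVec_smul] at h
  refine SpSub.coef_mem hr hr' ?_ h
  intro a b hab
  apply hI
  have := congrArg (fun v => (P : Matrix (Fin N) (Fin N) F) *ᵥ v) hab
  simpa [mulVec_add, mulVec_smul, mulVec_mulVec, Units.mul_inv] using this

omit [Fintype F] in
/-- a scalar carrying a non-zero rational vector to a rational vector is rational. -/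
theorem Rt.coef1 {w : Fin N → F} (hw : Rt F₀ P w) (hw0 : w ≠ 0) {c : F}
    (h : Rt F₀ P (c • w)) : c ∈ F₀ := by
  rw [Rt_iff] at hw h
  rw [mulVec_smul] at h
  obtain ⟨x, hx⟩ : ∃ x, x = ((P⁻¹ : GL (Fin N) F) : Matrix (Fin N) (Fin N) F) *ᵥ w := ⟨_, rfl⟩
  rw [← hx] at hw h
  have hx0 : x ≠ 0 := by
    intro h0
    apply hw0
    have := congrArg (fun v => (P : Matrix (Fin N) (Fin N) F) *ᵥ v) hx
    simp only [mulVec_mulVec, Units.mul_inv, one_mulVec] at this
    rw [← this, h0, mulVec_zero]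
  obtain ⟨k, hk⟩ : ∃ k, x k ≠ 0 := by
    by_contra hcon
    push Not at hcon
    exact hx0 (funext hcon)
  have h1 := h k
  rw [Pi.smul_apply, smul_eq_mul] at h1
  have := F₀.mul_mem h1 (F₀.inv_mem (hw k))
  rwa [mul_assoc, mul_inv_cancel₀ hk, mul_one] at this

/-- projective rationality. -/
def PRt (F₀ : Subfield F) (P : GL (Fin N) F) (v : Fin N → F) : Prop :=
  ∃ μ : F, μ ≠ 0 ∧ Rt F₀ P (μ • v)

omit [Fintype F] in
theorem Rt.pRt {v : Fin N → F} (hv : Rt F₀ P v) : PRt F₀ P v :=
  ⟨1, one_ne_zero, by rwa [one_smul]⟩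

omit [Fintype F] in
theorem PRt.smul {v : Fin N → F} (hv : PRt F₀ P v) {a : F} (ha : a ≠ 0) :
    PRt F₀ P (a • v) := by
  obtain ⟨μ, hμ, h⟩ := hv
  refine ⟨μ * a⁻¹, mul_ne_zero hμ (inv_ne_zero ha), ?_⟩
  rw [smul_smul, mul_assoc, inv_mul_cancel₀ ha, mul_one]
  exact h

omit [Fintype F] in
theorem not_pRt_smul {v : Fin N → F} (hv : ¬ PRt F₀ P v) {a : F} (ha : a ≠ 0) :
    ¬ PRt F₀ P (a • v) := by
  intro h
  apply hv
  have := h.smul (inv_ne_zero ha)
  rwa [smul_smul, inv_mul_cancel₀ ha, one_smul] at this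

omit [Fintype F] in
theorem ne_zero_of_not_pRt {v : Fin N → F} (hv : ¬ PRt F₀ P v) : v ≠ 0 := by
  rintro rfl
  exact hv Rt.zero.pRt

/-- the data of a rational structure for the unitary form in odd degree. -/
structure RD (q : ℕ) (F₀ : Subfield F) (P : GL (Fin N) F) : Prop where
  val : ∀ x y : Fin N → F, Rt F₀ P x → Rt F₀ P y → hermForm N F q x y ∈ F₀
  theta : ∃ θ : F, θ ∈ F₀ ∧ θ ^ q ≠ θ

/-- the involution of the subfield. -/
def sig0 (q : ℕ) [hF : Fact (Fintype.card F = q ^ 2)] (F₀ : Subfield F) : F₀ ≃+* F₀ where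
  toFun x := ⟨(x : F) ^ q, F₀.pow_mem x.2 q⟩
  invFun x := ⟨(x : F) ^ q, F₀.pow_mem x.2 q⟩
  left_inv x := Subtype.ext (bb _)
  right_inv x := Subtype.ext (bb _)
  map_mul' x y := Subtype.ext (mul_pow _ _ _)
  map_add' x y := Subtype.ext (b_add _ _)

theorem sig0_coe (x : F₀) : ((sig0 q F₀ x : F₀) : F) = (x : F) ^ q := rfl

/-- the form on coordinates, with values in the subfield. -/
def h0 (R : RD q F₀ P) (s t : Fin N → F₀) : F₀ :=
  ⟨hermForm N F q (rv P s) (rv P t), R.val _ _ (Rt_rv s) (Rt_rv t)⟩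

theorem h0_coe (R : RD q F₀ P) (s t : Fin N → F₀) :
    ((h0 R s t : F₀) : F) = hermForm N F q (rv P s) (rv P t) := rfl

/-- a vector orthogonal to all columns of `P` vanishes. -/
theorem eq_zero_of_cols {w : Fin N → F}
    (h : ∀ k : Fin N, hermForm N F q ((P : Matrix (Fin N) (Fin N) F) *ᵥ Pi.single k 1) w = 0) :
    ∀ y : Fin N → F, hermForm N F q y w = 0 := by
  let L : (Fin N → F) →ₗ[F] F :=
    { toFun := fun x => hermForm N F q ((P : Matrix (Fin N) (Fin N) F) *ᵥ x) w
      map_add' := fun x y => by rw [mulVec_add, hermForm_add_left]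
      map_smul' := fun c x => by
        rw [mulVec_smul, hermForm_smul_left, RingHom.id_apply, smul_eq_mul] }
  have hL : L = 0 := by
    apply LinearMap.pi_ext
    intro i c
    change hermForm N F q ((P : Matrix (Fin N) (Fin N) F) *ᵥ Pi.single i c) w = 0
    have : (Pi.single i c : Fin N → F) = c • Pi.single i 1 := by
      rw [← Pi.single_smul, smul_eq_mul, mul_one]
    rw [this, mulVec_smul, hermForm_smul_left, h i, mul_zero]
  intro y
  have h1 := LinearMap.congr_fun hL
    (((P⁻¹ : GL (Fin N) F) : Matrix (Fin N) (Fin N) F) *ᵥ y)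
  change hermForm N F q ((P : Matrix (Fin N) (Fin N) F) *ᵥ
    (((P⁻¹ : GL (Fin N) F) : Matrix (Fin N) (Fin N) F) *ᵥ y)) w = 0 at h1
  rwa [mulVec_mulVec, Units.mul_inv, one_mulVec] at h1

/-- a vector orthogonal to all rational vectors vanishes. -/
theorem eq_zero_of_perp_rat {w : Fin N → F}
    (h : ∀ x : Fin N → F, Rt F₀ P x → hermForm N F q x w = 0) : w = 0 := by
  apply eq_zero_of_h_left (q := q)
  apply eq_zero_of_cols (P := P)
  intro k
  apply h
  rw [← up_single (F₀ := F₀)]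
  exact Rt_rv _

theorem eq_zero_of_perp_rat' {w : Fin N → F}
    (h : ∀ x : Fin N → F, Rt F₀ P x → hermForm N F q w x = 0) : w = 0 :=
  eq_zero_of_perp_rat (q := q) (P := P) (F₀ := F₀)
    (fun x hx => h_eq_zero_of_swap (q := q) (h x hx))

/-- the form on coordinates is a unitary form over the subfield. -/
theorem isUnitaryForm_h0 (R : RD q F₀ P) : IsUnitaryForm (sig0 q F₀) (h0 R) where
  ne_refl := by
    obtain ⟨θ, hθ, hθq⟩ := R.theta
    intro h
    apply hθq
    have := congrArg (fun e : F₀ ≃+* F₀ => ((e ⟨θ, hθ⟩ : F₀) : F)) h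
    exact this
  involutive := fun a => Subtype.ext (bb _)
  add_left := by
    intro x y v
    apply Subtype.ext
    show hermForm N F q (rv P (x + y)) (rv P v) =
      hermForm N F q (rv P x) (rv P v) + hermForm N F q (rv P y) (rv P v)
    rw [rv_add, hermForm_add_left]
  smul_left := by
    intro c x v
    apply Subtype.ext
    show hermForm N F q (rv P (c • x)) (rv P v) = (c : F) * hermForm N F q (rv P x) (rv P v)
    rw [rv_smul, hermForm_smul_left]
  herm := by
    intro v w
    apply Subtype.ext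
    show hermForm N F q (rv P v) (rv P w) = (hermForm N F q (rv P w) (rv P v)) ^ q
    exact h_swap _ _
  nondegenerate := by
    intro v hv
    have hrv : rv P v ≠ 0 := by
      intro h0
      apply hv
      apply rv_injective (P := P)
      rw [h0, rv_zero]
    have h1 : ∃ x : Fin N → F₀, h0 R x v ≠ 0 := by
      by_contra hcon
      push Not at hcon
      apply hrv
      apply eq_zero_of_perp_rat (q := q) (P := P) (F₀ := F₀)
      intro x hx
      obtain ⟨s, rfl⟩ := hx.exists_rv
      have := congrArg (Subtype.val : F₀ → F) (hcon s)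
      exact this
    refine ⟨h1, ?_⟩
    obtain ⟨x, hx⟩ := h1
    refine ⟨x, ?_⟩
    intro h
    apply hx
    apply Subtype.ext
    have h2 := congrArg (Subtype.val : F₀ → F) h
    rw [h0_coe] at h2 ⊢
    have : ((0 : F₀) : F) = 0 := rfl
    rw [this] at h2 ⊢
    exact h_eq_zero_of_swap (q := q) h2

/-- the derived data over the subfield. -/
theorem ud_h0 (R : RD q F₀ P) : Cfsg.Agent.Helper7.SLUnit.UD (sig0 q F₀) (h0 R) :=
  Cfsg.Agent.Helper7.SLUnit.UD.of_finite (isUnitaryForm_h0 R)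

end Cfsg.Agent.Helper7.SUSub
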