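import Mathlib
import Cfsg.Agent.Helper7.SUSubB

set_option autoImplicit false
set_option linter.unusedSectionVars false

/-! Subfield subgroups of the special unitary group (odd degree), part C: the geometry of the
rational points (helper7). -/

namespace Cfsg.Agent.Helper7.SUSub

open Matrix Cfsg Cfsg.Geo Cfsg.Agent.Helper7.Herm Cfsg.Agent.Helper8.GUOrder
  Cfsg.Agent.Helper8.SURoot Cfsg.Agent.Helper8.AutSU Cfsg.Agent.Helper7.SubF
  Cfsg.Agent.Helper7.SpSub Cfsg.Agent.Helper7.SLUnit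

variable {F : Type*} [Field F] [Fintype F] {q N : ℕ} [hF : Fact (Fintype.card F = q ^ 2)]
  {F₀ : Subfield F} {P : GL (Fin N) F}

local notation "H" => hermForm N F q

/-- rational isotropic vectors. -/
def RI (q : ℕ) (F₀ : Subfield F) (P : GL (Fin N) F) (v : Fin N → F) : Prop :=
  Rt F₀ P v ∧ hermForm N F q v v = 0

theorem h0_val0 (R : RD q F₀ P) {s t : Fin N → F₀} (h : h0 R s t = 0) :
    H (rv P s) (rv P t) = 0 := congrArg Subtype.val h

theorem h0_val1 (R : RD q F₀ P) {s t : Fin N → F₀} (h : h0 R s t = 1) :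
    H (rv P s) (rv P t) = 1 := congrArg Subtype.val h

theorem RI.zero : RI q F₀ P (0 : Fin N → F) := ⟨Rt.zero, hl_zero 0⟩

theorem RI.smul {v : Fin N → F} (hv : RI q F₀ P v) {c : F} (hc : c ∈ F₀) :
    RI q F₀ P (c • v) :=
  ⟨hv.1.smul hc, by rw [hl_smul, hr_smul, hv.2, mul_zero, mul_zero]⟩

theorem RI.neg {v : Fin N → F} (hv : RI q F₀ P v) : RI q F₀ P (-v) :=
  ⟨hv.1.neg, by rw [hl_neg, hr_neg, hv.2, neg_zero, neg_zero]⟩

/-- the sum of two orthogonal isotropic vectors is isotropic. -/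
theorem RI.add {v w : Fin N → F} (hv : RI q F₀ P v) (hw : RI q F₀ P w) (hvw : H v w = 0) :
    RI q F₀ P (v + w) :=
  ⟨hv.1.add hw.1, by
    rw [hl_add, hr_add, hr_add, hv.2, hw.2, hvw, h_eq_zero_of_swap (q := q) hvw]; ring⟩

/-- the trace is onto, over the subfield. -/
theorem rat_tr (R : RD q F₀ P) {t : F} (ht : t ∈ F₀) (htq : t ^ q = t) :
    ∃ c : F, c ∈ F₀ ∧ c + c ^ q = t := by
  obtain ⟨c, hc⟩ := (ud_h0 R).tr ⟨t, ht⟩ (Subtype.ext htq)
  exact ⟨c.1, c.2, congrArg Subtype.val hc⟩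

/-- a rational non-zero skew element. -/
theorem rat_skew (R : RD q F₀ P) : ∃ ε : F, ε ∈ F₀ ∧ ε ≠ 0 ∧ ε ^ q + ε = 0 := by
  obtain ⟨θ, hθ, hθq⟩ := R.theta
  exact exists_skew_rat hθ hθq

/-- a rational hyperbolic pair orthogonal to four rational vectors. -/
theorem rat_hyp (R : RD q F₀ P) (hN : 11 ≤ N) {a b c d : Fin N → F} (ha : Rt F₀ P a)
    (hb : Rt F₀ P b) (hc : Rt F₀ P c) (hd : Rt F₀ P d) :
    ∃ e g : Fin N → F, RI q F₀ P e ∧ RI q F₀ P g ∧ H e g = 1 ∧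
      (H e a = 0 ∧ H e b = 0 ∧ H e c = 0 ∧ H e d = 0) ∧
      (H g a = 0 ∧ H g b = 0 ∧ H g c = 0 ∧ H g d = 0) := by
  obtain ⟨sa, rfl⟩ := ha.exists_rv
  obtain ⟨sb, rfl⟩ := hb.exists_rv
  obtain ⟨sc, rfl⟩ := hc.exists_rv
  obtain ⟨sd, rfl⟩ := hd.exists_rv
  obtain ⟨e, g, hee, hgg, heg, ⟨h1, h2, h3, h4⟩, ⟨h5, h6, h7, h8⟩⟩ :=
    exists_hyp (ud_h0 R) (by rw [Fintype.card_fin]; exact hN) sa sb sc sd
  exact ⟨rv P e, rv P g, ⟨Rt_rv e, h0_val0 R hee⟩, ⟨Rt_rv g, h0_val0 R hgg⟩, h0_val1 R heg,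
    ⟨h0_val0 R h1, h0_val0 R h2, h0_val0 R h3, h0_val0 R h4⟩,
    ⟨h0_val0 R h5, h0_val0 R h6, h0_val0 R h7, h0_val0 R h8⟩⟩

/-- a rational isotropic partner of a rational isotropic vector, orthogonal to two rational
vectors. -/
theorem partner (R : RD q F₀ P) {b c₁ c₂ : Fin N → F} (hb : RI q F₀ P b) (h1 : Rt F₀ P c₁)
    (h2 : Rt F₀ P c₂) (hb1 : H b c₁ = 0) (hb2 : H b c₂ = 0)
    (hI : ∀ x y : F, b ≠ x • c₁ + y • c₂) :
    ∃ f : Fin N → F, RI q F₀ P f ∧ H b f = 1 ∧ H f c₁ = 0 ∧ H f c₂ = 0 := by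
  obtain ⟨sb, hsb⟩ := hb.1.exists_rv
  obtain ⟨s1, hs1⟩ := h1.exists_rv
  obtain ⟨s2, hs2⟩ := h2.exists_rv
  have hnot : sb ∉ Submodule.span F₀ ({s1, s2} : Set (Fin N → F₀)) := by
    intro hmem
    rw [Submodule.mem_span_pair] at hmem
    obtain ⟨x, y, hxy⟩ := hmem
    apply hI (x : F) (y : F)
    rw [hsb, ← hxy, rv_add, rv_smul, rv_smul, hs1, hs2]
  obtain ⟨y, hyS, hby⟩ := exists_perp (isUnitaryForm_h0 R) _ hnot
  have hy1 : H c₁ (rv P y) = 0 := by
    rw [hs1]; exact h0_val0 R (hyS s1 (Submodule.subset_span (by simp)))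
  have hy2 : H c₂ (rv P y) = 0 := by
    rw [hs2]; exact h0_val0 R (hyS s2 (Submodule.subset_span (by simp)))
  have hby' : H b (rv P y) = 1 := by rw [hsb]; exact h0_val1 R hby
  have hyb : H (rv P y) b = 1 := h_eq_one_of_swap (q := q) hby'
  obtain ⟨k, hk, hkk⟩ := rat_tr R (F₀.neg_mem (R.val _ _ (Rt_rv y) (Rt_rv y)))
    (by rw [b_neg, h_self_fixed])
  refine ⟨rv P y + k • b, ⟨(Rt_rv y).add (hb.1.smul hk), ?_⟩, ?_, ?_, ?_⟩
  · rw [hl_add, hr_add, hr_add, hl_smul, hl_smul, hr_smul, hr_smul, hb.2, hyb, hby']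
    linear_combination hkk
  · rw [hr_add, hr_smul, hb.2, hby', mul_zero, add_zero]
  · rw [hl_add, hl_smul, hb1, h_eq_zero_of_swap (q := q) hy1, mul_zero, add_zero]
  · rw [hl_add, hl_smul, hb2, h_eq_zero_of_swap (q := q) hy2, mul_zero, add_zero]

/-- every rational vector is the sum of three rational isotropic vectors, orthogonal to what the
vector is orthogonal to. -/
theorem rat_decomp3 (R : RD q F₀ P) (hN : 11 ≤ N) {v a f : Fin N → F} (hv : Rt F₀ P v)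
    (ha : Rt F₀ P a) (hf : Rt F₀ P f) :
    ∃ b₁ b₂ b₃ : Fin N → F, RI q F₀ P b₁ ∧ RI q F₀ P b₂ ∧ RI q F₀ P b₃ ∧ v = b₁ + b₂ + b₃ ∧
      (H b₁ a = H v a ∧ H b₂ a = 0 ∧ H b₃ a = 0) ∧
      (H b₁ f = H v f ∧ H b₂ f = 0 ∧ H b₃ f = 0) := by
  obtain ⟨e, g, he, hg, heg, ⟨hev, hea, hef, -⟩, ⟨hgv, hga, hgf, -⟩⟩ :=
    rat_hyp R hN hv ha hf Rt.zero
  have hge : H g e = 1 := h_eq_one_of_swap (q := q) heg
  have hve : H v e = 0 := h_eq_zero_of_swap (q := q) hev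
  have hvg : H v g = 0 := h_eq_zero_of_swap (q := q) hgv
  obtain ⟨k, hk, hkk⟩ := rat_tr R (F₀.neg_mem (R.val _ _ hv hv)) (by rw [b_neg, h_self_fixed])
  refine ⟨v + e + k • g, -e, -(k • g), ⟨(hv.add he.1).add (hg.1.smul hk), ?_⟩, he.neg,
    (hg.smul hk).neg, by abel, ⟨?_, ?_, ?_⟩, ⟨?_, ?_, ?_⟩⟩
  · simp only [hl_add, hr_add, hl_smul, hr_smul, he.2, hg.2, heg, hge, hev, hve, hgv, hvg]
    linear_combination hkk
  · rw [hl_add, hl_add, hl_smul, hea, hga, mul_zero, add_zero, add_zero]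
  · rw [hl_neg, hea, neg_zero]
  · rw [hl_neg, hl_smul, hga, mul_zero, neg_zero]
  · rw [hl_add, hl_add, hl_smul, hef, hgf, mul_zero, add_zero, add_zero]
  · rw [hl_neg, hef, neg_zero]
  · rw [hl_neg, hl_smul, hgf, mul_zero, neg_zero]

/-- a non-zero vector is not orthogonal to all rational isotropic vectors. -/
theorem exists_RI_ne (R : RD q F₀ P) (hN : 11 ≤ N) {u : Fin N → F} (hu : u ≠ 0) :
    ∃ e : Fin N → F, RI q F₀ P e ∧ H e u ≠ 0 := by
  by_contra hcon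
  push Not at hcon
  apply hu
  apply eq_zero_of_perp_rat (q := q) (P := P) (F₀ := F₀)
  intro x hx
  obtain ⟨b₁, b₂, b₃, h1, h2, h3, e, -, -⟩ := rat_decomp3 R hN hx Rt.zero Rt.zero
  rw [e, hl_add, hl_add, hcon b₁ h1, hcon b₂ h2, hcon b₃ h3, add_zero, add_zero]

/-- a vector all of whose pairings with rational vectors are rational is rational. -/
theorem Rt_of_pairings (R : RD q F₀ P) {y : Fin N → F}
    (h : ∀ x : Fin N → F, Rt F₀ P x → H x y ∈ F₀) : Rt F₀ P y := by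
  let T : (Fin N → F₀) →ₗ[F₀] F₀ :=
    { toFun := fun s => ⟨H (rv P s) y, h _ (Rt_rv s)⟩
      map_add' := fun s t => Subtype.ext (by
        show H (rv P (s + t)) y = H (rv P s) y + H (rv P t) y
        rw [rv_add, hl_add])
      map_smul' := fun c s => Subtype.ext (by
        show H (rv P (c • s)) y = (c : F) * H (rv P s) y
        rw [rv_smul, hl_smul]) }
  have hT : ∀ s, T s = (fun k => T (fun j => if k = j then 1 else 0)) ⬝ᵥ s := by
    intro s
    rw [LinearMap.pi_apply_eq_sum_univ T s]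
    unfold dotProduct
    apply Finset.sum_congr rfl
    intro i _
    rw [smul_eq_mul, mul_comm]
  obtain ⟨w, hw⟩ := exists_cov (isUnitaryForm_h0 R) (fun k => T (fun j => if k = j then 1 else 0))
  have key : ∀ s : Fin N → F₀, H (rv P s) (rv P w) = H (rv P s) y := by
    intro s
    have h1 := cdot (isUnitaryForm_h0 R) w s
    rw [hw, ← hT s] at h1
    have h2 := congrArg Subtype.val h1
    exact h2.symm
  have hz : rv P w - y = 0 := by
    apply eq_zero_of_perp_rat (q := q) (P := P) (F₀ := F₀)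
    intro x hx
    obtain ⟨s, rfl⟩ := hx.exists_rv
    rw [hr_sub, key s, sub_self]
  have : y = rv P w := (sub_eq_zero.mp hz).symm
  rw [this]
  exact Rt_rv w

/-- a vector orthogonal to a rational isotropic vector `e`, all of whose pairings with the
rational isotropic vectors orthogonal to a hyperbolic pair `e`, `f` are rational, is rational
modulo `e`. -/
theorem rat_mod_of_pairings (R : RD q F₀ P) (hN : 11 ≤ N) {e f y : Fin N → F}
    (he : RI q F₀ P e) (hf : RI q F₀ P f) (hef : H e f = 1) (hye : H y e = 0)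
    (h : ∀ b : Fin N → F, RI q F₀ P b → H b e = 0 → H b f = 0 → H b y ∈ F₀) :
    Rt F₀ P (y - H y f • e) := by
  have hfe : H f e = 1 := h_eq_one_of_swap (q := q) hef
  have hey : H e y = 0 := h_eq_zero_of_swap (q := q) hye
  apply Rt_of_pairings R
  intro x hx
  obtain ⟨x', hx'd⟩ : ∃ x' : Fin N → F, x' = x - H x f • e - H x e • f := ⟨_, rfl⟩
  have hx'r : Rt F₀ P x' := by
    rw [hx'd]
    exact (hx.sub (he.1.smul (R.val _ _ hx hf.1))).sub (hf.1.smul (R.val _ _ hx he.1))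
  have hx'e : H x' e = 0 := by
    rw [hx'd, hl_sub, hl_sub, hl_smul, hl_smul, he.2, hfe]; ring
  have hx'f : H x' f = 0 := by
    rw [hx'd, hl_sub, hl_sub, hl_smul, hl_smul, hf.2, hef]; ring
  obtain ⟨b₁, b₂, b₃, h1, h2, h3, e3, ⟨a1, a2, a3⟩, ⟨f1, f2, f3⟩⟩ :=
    rat_decomp3 R hN hx'r he.1 hf.1
  rw [hx'e] at a1
  rw [hx'f] at f1
  have hx'y : H x' y ∈ F₀ := by
    rw [e3, hl_add, hl_add]
    exact F₀.add_mem (F₀.add_mem (h b₁ h1 a1 f1) (h b₂ h2 a2 f2)) (h b₃ h3 a3 f3)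
  have hxe : x = x' + H x f • e + H x e • f := by rw [hx'd]; abel
  have hfy : H f (y - H y f • e) = 0 := by
    rw [hr_sub, hr_smul, hfe, mul_one, h_swap (q := q) f y, sub_self]
  have hey' : H e (y - H y f • e) = 0 := by
    rw [hr_sub, hr_smul, he.2, hey, mul_zero, sub_zero]
  have : H x (y - H y f • e) = H x' y := by
    conv_lhs => rw [hxe]
    rw [hl_add, hl_add, hl_smul, hl_smul, hfy, hey', mul_zero, mul_zero, add_zero, add_zero,
      hr_sub, hr_smul, hx'e, mul_zero, sub_zero]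
  rw [this]
  exact hx'y

end Cfsg.Agent.Helper7.SUSub
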