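import Mathlib
import Cfsg.Agent.Helper7.SUSubC
import Cfsg.Agent.S5653

set_option autoImplicit false
set_option linter.unusedSectionVars false

/-! Subfield subgroups of the special unitary group (odd degree), part D: the rational
transvections and Siegel elements, and identities between Siegel elements (helper7). -/

namespace Cfsg.Agent.Helper7.SUSub

open Matrix Cfsg Cfsg.Geo Cfsg.Agent.Helper7.Herm Cfsg.Agent.Helper8.GUOrder
  Cfsg.Agent.Helper8.SURoot Cfsg.Agent.Helper8.AutSU Cfsg.Agent.Helper7.SubF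
  Cfsg.Agent.Helper7.SpSub Cfsg.Agent.Helper7.SUPair Cfsg.Agent.S5653

variable {F : Type*} [Field F] [Fintype F] {q N : ℕ} [hF : Fact (Fintype.card F = q ^ 2)]
  {F₀ : Subfield F} {P : GL (Fin N) F}

local notation "H" => hermForm N F q

/-- membership in the subfield group. -/
def InH (F₀ : Subfield F) (P : GL (Fin N) F) (A : SU N F q) : Prop :=
  toGL N F q A ∈ Cfsg.Geo.subfieldSubgroup F₀ P

theorem InH_of_rat {A : SU N F q} (h : ∀ w : Fin N → F, Rt F₀ P w → Rt F₀ P (mt A *ᵥ w)) :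
    InH F₀ P A := by
  apply mem_subfield_of one_ne_zero
  intro w hw
  rw [one_smul]
  exact h w hw

theorem exists_of_InH {A : SU N F q} (h : InH F₀ P A) :
    ∃ μ : F, μ ≠ 0 ∧ ∀ w : Fin N → F, Rt F₀ P w → Rt F₀ P (μ • (mt A *ᵥ w)) :=
  exists_of_mem_subfield h

theorem InH_of_smul {A : SU N F q} {μ : F} (hμ : μ ≠ 0)
    (h : ∀ w : Fin N → F, Rt F₀ P w → Rt F₀ P (μ • (mt A *ᵥ w))) : InH F₀ P A :=
  mem_subfield_of hμ h

/-- the rational transvections. -/
theorem TU_InH (R : RD q F₀ P) {a : Fin N → F} (ha : RI q F₀ P a) {s : F} (hs : s ∈ F₀)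
    (hs' : s ^ q + s = 0) : InH F₀ P (TU q a s) := by
  apply InH_of_rat
  intro w hw
  rw [TU_mulVec ha.2 hs']
  exact hw.add (ha.1.smul (F₀.mul_mem hs (R.val _ _ hw ha.1)))

/-- the rational Siegel elements. -/
theorem sg_InH (R : RD q F₀ P) {a b : Fin N → F} (ha : RI q F₀ P a) (hb : Rt F₀ P b)
    (hba : H b a = 0) {c : F} (hc : c ∈ F₀) (hadm : c + c ^ q + H b b = 0) :
    InH F₀ P (sg q a b c) := by
  apply InH_of_rat
  intro w hw
  rw [sg_mulVec ha.2 hba hadm]
  exact (hw.add ((hb.add (ha.1.smul hc)).smul (R.val _ _ hw ha.1))).sub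
    (ha.1.smul (R.val _ _ hw hb))

/-- admissibility of the centre-free Siegel elements on a totally isotropic pair. -/
theorem adm_smul {b : Fin N → F} (hb : H b b = 0) (κ : F) {c : F} (hc : c + c ^ q = 0) :
    c + c ^ q + H (κ • b) (κ • b) = 0 := by
  rw [hl_smul, hr_smul, hb, mul_zero, mul_zero, add_zero]
  exact hc

theorem adm_smul0 {b : Fin N → F} (hb : H b b = 0) (κ : F) :
    (0 : F) + 0 ^ q + H (κ • b) (κ • b) = 0 :=
  adm_smul hb κ (by rw [b_zero, add_zero])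

/-- the inverse of a Siegel element. -/
theorem sg_inv {a x : Fin N → F} (ha : H a a = 0) (hxa : H x a = 0) {c : F}
    (hc : c + c ^ q + H x x = 0) : (sg q a x c)⁻¹ = sg q a (-x) (c ^ q) := by
  have hxa' : H (-x) a = 0 := by rw [hl_neg, hxa, neg_zero]
  have hc' : c ^ q + (c ^ q) ^ q + H (-x) (-x) = 0 := by
    rw [bb, hl_neg, hr_neg, neg_neg]
    linear_combination hc
  rw [inv_eq_iff_mul_eq_one, sg_mul ha hxa hxa' hc hc']
  have e1 : x + -x = 0 := add_neg_cancel x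
  have e2 : c + c ^ q - H (-x) x = 0 := by
    rw [hl_neg]
    linear_combination hc
  rw [e1, e2, sg_zero ha]

/-- multiplying a Siegel element by a central one. -/
theorem sg_center {a x : Fin N → F} (ha : H a a = 0) (hxa : H x a = 0) {c : F}
    (hc : c + c ^ q + H x x = 0) {s : F} (hs : s ^ q + s = 0) :
    sg q a x c * TU q a s = sg q a x (c + s) := by
  have h0a : H (0 : Fin N → F) a = 0 := hl_zero a
  have hs' : s + s ^ q + H (0 : Fin N → F) 0 = 0 := by
    rw [hl_zero]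
    linear_combination hs
  rw [← sg_zero_mid ha hs, sg_mul ha hxa h0a hc hs', add_zero, hl_zero, sub_zero]

/-- moving the component along the centre into the parameter. -/
theorem sg_add_self {e x : Fin N → F} (he : H e e = 0) (hxe : H x e = 0) (lam : F) {c : F}
    (hc : c + c ^ q + H (x + lam • e) (x + lam • e) = 0) :
    sg q e (x + lam • e) c = sg q e x (c + lam - lam ^ q) := by
  have hex : H e x = 0 := h_eq_zero_of_swap (q := q) hxe
  have h1 : H (x + lam • e) e = 0 := by rw [hl_add, hl_smul, hxe, he, mul_zero, add_zero]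
  have e1 : H (x + lam • e) (x + lam • e) = H x x := by
    simp only [hl_add, hr_add, hl_smul, hr_smul, he, hxe, hex, mul_zero, add_zero]
  have h2 : (c + lam - lam ^ q) + (c + lam - lam ^ q) ^ q + H x x = 0 := by
    rw [b_sub, b_add, bb]
    rw [e1] at hc
    linear_combination hc
  apply ext_mulVec
  intro v
  rw [sg_mulVec he h1 hc, sg_mulVec he hxe h2, hr_add, hr_smul]
  module

/-- exchanging the two vectors of a totally isotropic pair. -/
theorem sg_swap {a b : Fin N → F} (ha : H a a = 0) (hb : H b b = 0) (hba : H b a = 0) (κ : F) :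
    sg q a (κ • b) 0 = sg q b ((-(κ ^ q)) • a) 0 := by
  have hab : H a b = 0 := h_eq_zero_of_swap (q := q) hba
  have h1 : H (κ • b) a = 0 := by rw [hl_smul, hba, mul_zero]
  have h2 : H ((-(κ ^ q)) • a) b = 0 := by rw [hl_smul, hab, mul_zero]
  apply ext_mulVec
  intro v
  rw [sg_mulVec ha h1 (adm_smul0 hb κ), sg_mulVec hb h2 (adm_smul0 ha _), hr_smul, hr_smul,
    b_neg, bb]
  module

/-- the commutator of two Siegel elements on a chain of isotropic vectors. -/
theorem step_eq {a b b' f : Fin N → F} (ha : H a a = 0) (hb : H b b = 0) (hb' : H b' b' = 0)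
    (hf : H f f = 0) (hba : H b a = 0) (hb'a : H b' a = 0) (hfa : H f a = 0)
    (hb'b : H b' b = 0) (hfb' : H f b' = 0) (hbf : H b f = 1) (κ d : F) {c₀ : F}
    (hc₀ : c₀ + c₀ ^ q = 0) :
    sg q b' (d • f) 0 * sg q a (κ • b) c₀ * (sg q b' (d • f) 0)⁻¹ =
      sg q a ((-(κ * d ^ q)) • b') 0 * sg q a (κ • b) c₀ := by
  have hab' : H a b' = 0 := h_eq_zero_of_swap (q := q) hb'a
  have haf : H a f = 0 := h_eq_zero_of_swap (q := q) hfa
  have hbb' : H b b' = 0 := h_eq_zero_of_swap (q := q) hb'b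
  have h1 : H (d • f) b' = 0 := by rw [hl_smul, hfb', mul_zero]
  have h2 : H (κ • b) a = 0 := by rw [hl_smul, hba, mul_zero]
  have h3 : H ((-(κ * d ^ q)) • b') a = 0 := by rw [hl_smul, hb'a, mul_zero]
  rw [conj_sg _ ha h2 (adm_smul hb κ hc₀)]
  have e1 : mt (sg q b' (d • f) 0) *ᵥ a = a := by
    apply sg_fix hb' h1 (adm_smul0 hf d) hab'
    rw [hr_smul, haf, mul_zero]
  have e2 : mt (sg q b' (d • f) 0) *ᵥ (κ • b) = (-(κ * d ^ q)) • b' + κ • b := by
    rw [sg_mulVec hb' h1 (adm_smul0 hf d), hl_smul, hl_smul, hr_smul, hbb', hbf]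
    module
  rw [e1, e2, sg_mul ha h3 h2 (adm_smul0 hb' _) (adm_smul hb κ hc₀)]
  congr 1
  rw [hl_smul, hr_smul, hbb']
  ring

theorem step_mem {M : Subgroup (SU N F q)} {a b b' f : Fin N → F} (ha : H a a = 0)
    (hb : H b b = 0) (hb' : H b' b' = 0) (hf : H f f = 0) (hba : H b a = 0) (hb'a : H b' a = 0)
    (hfa : H f a = 0) (hb'b : H b' b = 0) (hfb' : H f b' = 0) (hbf : H b f = 1) (κ d : F)
    {c₀ : F} (hc₀ : c₀ + c₀ ^ q = 0) (hg : sg q b' (d • f) 0 ∈ M)
    (hS : sg q a (κ • b) c₀ ∈ M) : sg q a ((-(κ * d ^ q)) • b') 0 ∈ M := by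
  have h1 := step_eq ha hb hb' hf hba hb'a hfa hb'b hfb' hbf κ d hc₀
  have h2 : sg q a ((-(κ * d ^ q)) • b') 0 =
      sg q b' (d • f) 0 * sg q a (κ • b) c₀ * (sg q b' (d • f) 0)⁻¹ * (sg q a (κ • b) c₀)⁻¹ := by
    rw [h1, mul_inv_cancel_right]
  rw [h2]
  exact M.mul_mem (M.mul_mem (M.mul_mem hg hS) (M.inv_mem hg)) (M.inv_mem hS)

/-- conjugating a Siegel element at `e` by an element fixing `e`. -/
theorem sg_conj_sub {M : Subgroup (SU N F q)} {e x : Fin N → F} (he : H e e = 0)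
    (hxe : H x e = 0) {c : F} (hc : c + c ^ q + H x x = 0) {T : SU N F q}
    (hTe : mt T *ᵥ e = e) (hT : T ∈ M) (hS : sg q e x c ∈ M) :
    sg q e (mt T *ᵥ x - x) (H x (mt T *ᵥ x - x)) ∈ M ∧
      H x (mt T *ᵥ x - x) + (H x (mt T *ᵥ x - x)) ^ q +
        H (mt T *ᵥ x - x) (mt T *ᵥ x - x) = 0 ∧ H (mt T *ᵥ x - x) e = 0 := by
  have hTxe : H (mt T *ᵥ x) e = 0 := by
    conv_lhs => rw [← hTe]
    rw [herm_mt, hxe]
  have hye : H (mt T *ᵥ x - x) e = 0 := by rw [hl_sub, hTxe, hxe, sub_zero]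
  have hTT : H (mt T *ᵥ x) (mt T *ᵥ x) = H x x := herm_mt T x x
  have hadm : H x (mt T *ᵥ x - x) + (H x (mt T *ᵥ x - x)) ^ q +
      H (mt T *ᵥ x - x) (mt T *ᵥ x - x) = 0 := by
    rw [← h_swap (q := q) (mt T *ᵥ x - x) x]
    simp only [hl_sub, hr_sub, hTT]
    ring
  refine ⟨?_, hadm, hye⟩
  have h1 := conj_sg T he hxe hc
  rw [hTe] at h1
  have h2 := sg_mul he hye hxe hadm hc
  have e1 : mt T *ᵥ x - x + x = mt T *ᵥ x := sub_add_cancel _ _
  have e2 : H x (mt T *ᵥ x - x) + c - H x (mt T *ᵥ x - x) = c := by ring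
  rw [e1, e2, ← h1] at h2
  have h3 : sg q e (mt T *ᵥ x - x) (H x (mt T *ᵥ x - x)) =
      T * sg q e x c * T⁻¹ * (sg q e x c)⁻¹ := by
    rw [← h2, mul_inv_cancel_right]
  rw [h3]
  exact M.mul_mem (M.mul_mem (M.mul_mem hT hS) (M.inv_mem hT)) (M.inv_mem hS)

/-- splitting a transvection whose centre is a combination of two orthogonal isotropic
vectors. -/
theorem TU_split {e w : Fin N → F} (he : H e e = 0) (hw : H w w = 0) (hwe : H w e = 0)
    (κ₁ : F) {t : F} (ht : t ^ q + t = 0) :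
    (TU q w t)⁻¹ * TU q (w + κ₁ • e) t =
      sg q e ((κ₁ ^ q * t) • w) (t * (κ₁ * κ₁ ^ q)) := by
  have hew : H e w = 0 := h_eq_zero_of_swap (q := q) hwe
  have hx : H (w + κ₁ • e) (w + κ₁ • e) = 0 := by
    simp only [hl_add, hr_add, hl_smul, hr_smul, he, hw, hwe, hew, mul_zero, add_zero]
  have h1 : H ((κ₁ ^ q * t) • w) e = 0 := by rw [hl_smul, hwe, mul_zero]
  have htq : t ^ q = -t := by linear_combination ht
  have h2 : t * (κ₁ * κ₁ ^ q) + (t * (κ₁ * κ₁ ^ q)) ^ q +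
      H ((κ₁ ^ q * t) • w) ((κ₁ ^ q * t) • w) = 0 := by
    rw [hl_smul, hr_smul, hw, mul_zero, mul_zero, add_zero, mul_pow, mul_pow, bb, htq]
    ring
  rw [TU_inv hw ht]
  apply ext_mulVec
  intro v
  rw [mt_mul_mulVec, TU_mulVec hx ht, TU_mulVec hw (tz_neg ht), sg_mulVec he h1 h2]
  simp only [hl_add, hr_add, hl_smul, hr_smul, hw, hew, mul_zero, add_zero, mul_pow, bb, htq]
  module

end Cfsg.Agent.Helper7.SUSub
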