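import Mathlib
import Cfsg.Agent.Helper7.SUSubD

set_option autoImplicit false
set_option linter.unusedSectionVars false

/-! Subfield subgroups of the special unitary group (odd degree), part E: the field of
parameters of the Siegel elements on rational totally isotropic pairs (helper7). -/

namespace Cfsg.Agent.Helper7.SUSub

open Matrix Cfsg Cfsg.Geo Cfsg.Agent.Helper7.Herm Cfsg.Agent.Helper8.GUOrder
  Cfsg.Agent.Helper8.SURoot Cfsg.Agent.Helper8.AutSU Cfsg.Agent.Helper7.SubF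
  Cfsg.Agent.Helper7.SpSub Cfsg.Agent.Helper7.SUPair Cfsg.Agent.S5653

variable {F : Type*} [Field F] [Fintype F] {q N : ℕ} [hF : Fact (Fintype.card F = q ^ 2)]
  {F₀ : Subfield F} {P : GL (Fin N) F}

local notation "H" => hermForm N F q

/-- the parameters `c` such that all Siegel elements `x ↦ x + c h(x, a) b - c^q h(x, b) a` on
rational totally isotropic pairs lie in `M`. -/
def Dset (q : ℕ) [hF : Fact (Fintype.card F = q ^ 2)] (F₀ : Subfield F) (P : GL (Fin N) F)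
    (M : Subgroup (SU N F q)) : Set F :=
  {c | ∀ a b : Fin N → F, RI q F₀ P a → RI q F₀ P b → hermForm N F q b a = 0 →
    sg q a (c • b) 0 ∈ M}

theorem rat_mem_Dset (R : RD q F₀ P) {M : Subgroup (SU N F q)}
    (hM : ∀ A : SU N F q, InH F₀ P A → A ∈ M) {c : F} (hc : c ∈ F₀) : c ∈ Dset q F₀ P M := by
  intro a b ha hb hba
  apply hM
  exact sg_InH R ha (hb.1.smul hc) (by rw [hl_smul, hba, mul_zero]) F₀.zero_mem
    (adm_smul0 hb.2 c)

theorem Dset_add {M : Subgroup (SU N F q)} {c d : F} (hc : c ∈ Dset q F₀ P M)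
    (hd : d ∈ Dset q F₀ P M) : c + d ∈ Dset q F₀ P M := by
  intro a b ha hb hba
  have h1 : H (c • b) a = 0 := by rw [hl_smul, hba, mul_zero]
  have h2 : H (d • b) a = 0 := by rw [hl_smul, hba, mul_zero]
  have h3 := sg_mul ha.2 h1 h2 (adm_smul0 hb.2 c) (adm_smul0 hb.2 d)
  have e1 : c • b + d • b = (c + d) • b := (add_smul c d b).symm
  have e2 : (0 : F) + 0 - H (d • b) (c • b) = 0 := by
    rw [hl_smul, hr_smul, hb.2, mul_zero, mul_zero, add_zero, sub_zero]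
  rw [e1, e2] at h3
  rw [← h3]
  exact M.mul_mem (hc a b ha hb hba) (hd a b ha hb hba)

theorem Dset_neg {M : Subgroup (SU N F q)} {c : F} (hc : c ∈ Dset q F₀ P M) :
    -c ∈ Dset q F₀ P M := by
  intro a b ha hb hba
  have h1 : H (c • b) a = 0 := by rw [hl_smul, hba, mul_zero]
  have h3 := sg_inv ha.2 h1 (adm_smul0 hb.2 c)
  rw [b_zero, ← neg_smul] at h3
  rw [← h3]
  exact M.inv_mem (hc a b ha hb hba)

theorem Dset_conj {M : Subgroup (SU N F q)} {c : F} (hc : c ∈ Dset q F₀ P M) :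
    c ^ q ∈ Dset q F₀ P M := by
  intro a b ha hb hba
  rw [sg_swap ha.2 hb.2 hba, bb]
  exact Dset_neg hc b a hb ha (h_eq_zero_of_swap (q := q) hba)

theorem Dset_mul (R : RD q F₀ P) (hN : 11 ≤ N) {M : Subgroup (SU N F q)} {c d : F}
    (hc : c ∈ Dset q F₀ P M) (hd : d ∈ Dset q F₀ P M) : c * d ∈ Dset q F₀ P M := by
  intro a b' ha hb' hb'a
  obtain ⟨b, f, hb, hf, hbf, ⟨hba, hbb', -, -⟩, ⟨hfa, hfb', -, -⟩⟩ :=
    rat_hyp R hN ha.1 hb'.1 Rt.zero Rt.zero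
  have hd' : -(d ^ q) ∈ Dset q F₀ P M := Dset_neg (Dset_conj hd)
  have h1 := step_mem ha.2 hb.2 hb'.2 hf.2 hba hb'a hfa (h_eq_zero_of_swap (q := q) hbb') hfb' hbf
    c (-(d ^ q)) (c₀ := 0) (by rw [b_zero, add_zero]) (hd' b' f hb' hf hfb') (hc a b ha hb hba)
  have e : -(c * (-(d ^ q)) ^ q) = c * d := by rw [b_neg, bb]; ring
  rwa [e] at h1

/-- the parameters form a subfield. -/
def DField (R : RD q F₀ P) (hN : 11 ≤ N) (M : Subgroup (SU N F q))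
    (hM : ∀ A : SU N F q, InH F₀ P A → A ∈ M) : Subfield F :=
  Cfsg.Agent.Helper7.SubL.subfieldOfSet (Dset q F₀ P M)
    (rat_mem_Dset R hM F₀.zero_mem) (rat_mem_Dset R hM F₀.one_mem)
    (fun _ _ ha hb => Dset_add ha hb) (fun _ ha => Dset_neg ha)
    (fun _ _ ha hb => Dset_mul R hN ha hb)

theorem mem_DField (R : RD q F₀ P) (hN : 11 ≤ N) (M : Subgroup (SU N F q))
    (hM : ∀ A : SU N F q, InH F₀ P A → A ∈ M) (x : F) :
    x ∈ DField R hN M hM ↔ x ∈ Dset q F₀ P M := Iff.rfl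

/-- an irrational parameter makes all parameters admissible. -/
theorem Dset_univ (R : RD q F₀ P) (hN : 11 ≤ N) {M : Subgroup (SU N F q)}
    (hM : ∀ A : SU N F q, InH F₀ P A → A ∈ M) {r : ℕ} (hr : r.Prime)
    (hcard : Fintype.card F = Nat.card F₀ ^ r) {κ : F} (hκ : κ ∉ F₀)
    (hκD : κ ∈ Dset q F₀ P M) (x : F) : x ∈ Dset q F₀ P M := by
  have hle : F₀ ≤ DField R hN M hM := fun y hy => rat_mem_Dset R hM hy
  rcases Cfsg.Agent.Helper7.SubL.subfield_eq_or_top hr hcard hle with h | h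
  · exfalso
    apply hκ
    rw [← h]
    exact hκD
  · have : x ∈ DField R hN M hM := by rw [h]; exact Subfield.mem_top x
    exact this

/-- moving the second vector of a pair by a rational Siegel element. -/
theorem step_rat (R : RD q F₀ P) {M : Subgroup (SU N F q)}
    (hM : ∀ A : SU N F q, InH F₀ P A → A ∈ M) {a b b' f : Fin N → F} (ha : H a a = 0)
    (hb : RI q F₀ P b) (hb' : RI q F₀ P b') (hf : RI q F₀ P f) (hba : H b a = 0)
    (hb'a : H b' a = 0) (hfa : H f a = 0) (hb'b : H b' b = 0) (hfb' : H f b' = 0)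
    (hbf : H b f = 1) (κ : F) {c₀ : F} (hc₀ : c₀ + c₀ ^ q = 0)
    (hS : sg q a (κ • b) c₀ ∈ M) : sg q a ((-κ) • b') 0 ∈ M := by
  have hg : sg q b' ((1 : F) • f) 0 ∈ M := by
    apply hM
    exact sg_InH R hb' (hf.1.smul F₀.one_mem) (by rw [hl_smul, hfb', mul_zero]) F₀.zero_mem
      (adm_smul0 hf.2 1)
  have h1 := step_mem ha hb.2 hb'.2 hf.2 hba hb'a hfa hb'b hfb' hbf κ 1 hc₀ hg hS
  rwa [b_one, mul_one] at h1

/-- from one irrational Siegel element to an irrational parameter for all pairs. -/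
theorem Dset_of_out (R : RD q F₀ P) (hN : 11 ≤ N) {M : Subgroup (SU N F q)}
    (hM : ∀ A : SU N F q, InH F₀ P A → A ∈ M) {e w g : Fin N → F} (he : RI q F₀ P e)
    (he0 : e ≠ 0) (hw : RI q F₀ P w) (hg : RI q F₀ P g) (hwe : H w e = 0) (hge : H g e = 0)
    (hwg : H w g = 1) {κ c : F} (hc : c + c ^ q = 0) (hS : sg q e (κ • w) c ∈ M) :
    -(κ ^ q) ∈ Dset q F₀ P M := by
  intro a' b' ha' hb' hb'a'
  have h00 : (0 : F) + 0 ^ q = 0 := by rw [b_zero, add_zero]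
  -- the first intermediate pair
  obtain ⟨e₁, g₁, he₁, hg₁, he₁g₁, ⟨he₁e, he₁w, he₁g, he₁a'⟩, ⟨hg₁e, -, -, hg₁a'⟩⟩ :=
    rat_hyp R hN he.1 hw.1 hg.1 ha'.1
  have h1 : sg q e ((-κ) • e₁) 0 ∈ M :=
    step_rat R hM he.2 hw he₁ hg hwe he₁e hge he₁w (h_eq_zero_of_swap (q := q) he₁g) hwg κ hc hS
  rw [sg_swap he.2 he₁.2 he₁e] at h1
  obtain ⟨κ₂, hκ₂⟩ : ∃ κ₂ : F, κ₂ = -((-κ) ^ q) := ⟨_, rfl⟩
  rw [← hκ₂] at h1
  -- the second intermediate pair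
  obtain ⟨e₂, g₂, he₂, hg₂, he₂g₂, ⟨he₂e₁, he₂e, he₂a', he₂b'⟩, ⟨hg₂e₁, hg₂e, hg₂a', hg₂b'⟩⟩ :=
    rat_hyp R hN he₁.1 he.1 ha'.1 hb'.1
  have hee₁ : H e e₁ = 0 := h_eq_zero_of_swap (q := q) he₁e
  have hee₂ : H e e₂ = 0 := h_eq_zero_of_swap (q := q) he₂e
  have he₁e₂ : H e₁ e₂ = 0 := h_eq_zero_of_swap (q := q) he₂e₁
  obtain ⟨fe, hfe, hefe, hfee₁, hfee₂⟩ := partner R he he₁.1 he₂.1 hee₁ hee₂ (by
    intro x y hxy
    have h2 : H e g₂ = 0 := h_eq_zero_of_swap (q := q) hg₂e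
    rw [hxy, hl_add, hl_smul, hl_smul, h_eq_zero_of_swap (q := q) hg₂e₁, he₂g₂, mul_zero,
      zero_add, mul_one] at h2
    have h3 : H e g₁ = 0 := h_eq_zero_of_swap (q := q) hg₁e
    rw [hxy, h2, zero_smul, add_zero, hl_smul, he₁g₁, mul_one] at h3
    apply he0
    rw [hxy, h2, h3, zero_smul, zero_smul, add_zero])
  have h3 : sg q e₁ ((-κ₂) • e₂) 0 ∈ M :=
    step_rat R hM he₁.2 he he₂ hfe hee₁ he₂e₁ hfee₁ he₂e hfee₂ hefe κ₂ h00 h1
  rw [sg_swap he₁.2 he₂.2 he₂e₁] at h3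
  obtain ⟨κ₄, hκ₄⟩ : ∃ κ₄ : F, κ₄ = -((-κ₂) ^ q) := ⟨_, rfl⟩
  rw [← hκ₄] at h3
  -- a partner of the first intermediate vector
  obtain ⟨g₁', hg₁', he₁g₁', hg₁'e₂, hg₁'a'⟩ := partner R he₁ he₂.1 ha'.1 he₁e₂ he₁a' (by
    intro x y hxy
    have h2 : H e₁ g₂ = 0 := h_eq_zero_of_swap (q := q) hg₂e₁
    rw [hxy, hl_add, hl_smul, hl_smul, he₂g₂, h_eq_zero_of_swap (q := q) hg₂a', mul_zero,
      add_zero, mul_one] at h2
    have h4 := he₁g₁
    rw [hxy, h2, zero_smul, zero_add, hl_smul, h_eq_zero_of_swap (q := q) hg₁a', mul_zero] at h4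
    exact zero_ne_one h4)
  have ha'e₂ : H a' e₂ = 0 := h_eq_zero_of_swap (q := q) he₂a'
  have ha'e₁ : H a' e₁ = 0 := h_eq_zero_of_swap (q := q) he₁a'
  have h5 : sg q e₂ ((-κ₄) • a') 0 ∈ M :=
    step_rat R hM he₂.2 he₁ ha' hg₁' he₁e₂ ha'e₂ hg₁'e₂ ha'e₁ hg₁'a' he₁g₁' κ₄ h00 h3
  rw [sg_swap he₂.2 ha'.2 ha'e₂] at h5
  obtain ⟨κ₆, hκ₆⟩ : ∃ κ₆ : F, κ₆ = -((-κ₄) ^ q) := ⟨_, rfl⟩
  rw [← hκ₆] at h5
  have h7 : sg q a' ((-κ₆) • b') 0 ∈ M :=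
    step_rat R hM ha'.2 he₂ hb' hg₂ he₂a' hb'a' hg₂a' (h_eq_zero_of_swap (q := q) he₂b') hg₂b'
      he₂g₂ κ₆ h00 h5
  have e : -κ₆ = -(κ ^ q) := by
    rw [hκ₆, hκ₄, hκ₂]
    simp only [b_neg, bb, neg_neg]
  rwa [e] at h7

end Cfsg.Agent.Helper7.SUSub
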