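import Mathlib
import Cfsg.Agent.Helper7.SUSubE
import Cfsg.Agent.Helper7.SUGenH

set_option autoImplicit false
set_option linter.unusedSectionVars false

/-! Subfield subgroups of the special unitary group (odd degree), part F: when all parameters
are admissible the subgroup is everything (helper7). -/

namespace Cfsg.Agent.Helper7.SUSub

open Matrix Cfsg Cfsg.Geo Cfsg.Agent.Helper7.Herm Cfsg.Agent.Helper8.GUOrder
  Cfsg.Agent.Helper8.SURoot Cfsg.Agent.Helper8.AutSU Cfsg.Agent.Helper7.SubF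
  Cfsg.Agent.Helper7.SpSub Cfsg.Agent.Helper7.SUPair Cfsg.Agent.S5653
  Cfsg.Agent.Helper7.SUGen

variable {F : Type*} [Field F] [Fintype F] {q N : ℕ} [hF : Fact (Fintype.card F = q ^ 2)]
  {F₀ : Subfield F} {P : GL (Fin N) F}

local notation "H" => hermForm N F q

/-- every skew element is of the form `c - c ^ q`. -/
theorem exists_im_eq (R : RD q F₀ P) {s : F} (hs : s ^ q + s = 0) : ∃ c : F, c - c ^ q = s := by
  obtain ⟨ε, -, hε0, hε⟩ := rat_skew R
  have hεq : ε ^ q = -ε := by linear_combination hε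
  have hsq : s ^ q = -s := by linear_combination hs
  have hfix : (s / ε) ^ q = s / ε := by
    rw [div_pow, hεq, hsq, neg_div_neg_eq]
  obtain ⟨z, hz⟩ := exists_trace (F := F) (q := q) hfix
  refine ⟨ε * z, ?_⟩
  rw [mul_pow, hεq]
  have : ε * z - -ε * z ^ q = ε * (z ^ q + z) := by ring
  rw [this, hz, mul_div_cancel₀ _ hε0]

/-- all transvections at a rational isotropic centre. -/
theorem TU_mem_of_D (R : RD q F₀ P) {M : Subgroup (SU N F q)}
    (hD : ∀ x : F, x ∈ Dset q F₀ P M) {a : Fin N → F} (ha : RI q F₀ P a) {s : F}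
    (hs : s ^ q + s = 0) : TU q a s ∈ M := by
  obtain ⟨c, rfl⟩ := exists_im_eq R hs
  rw [← sg_self_smul ha.2 c]
  exact hD c a a ha ha ha.2

/-- the vectors orthogonal to a rational hyperbolic pair are spanned by the rational isotropic
vectors orthogonal to the pair. -/
theorem mem_span_RI (R : RD q F₀ P) (hN : 11 ≤ N) {a f x : Fin N → F} (ha : RI q F₀ P a)
    (hf : RI q F₀ P f) (haf : H a f = 1) (hxa : H x a = 0) (hxf : H x f = 0) :
    x ∈ Submodule.span F {b : Fin N → F | RI q F₀ P b ∧ H b a = 0 ∧ H b f = 0} := by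
  have hfa : H f a = 1 := h_eq_one_of_swap (q := q) haf
  obtain ⟨S, hS⟩ : ∃ S : Submodule F (Fin N → F),
      S = Submodule.span F {b : Fin N → F | RI q F₀ P b ∧ H b a = 0 ∧ H b f = 0} := ⟨_, rfl⟩
  rw [← hS]
  let π : (Fin N → F) →ₗ[F] (Fin N → F) :=
    { toFun := fun r => r - H r f • a - H r a • f
      map_add' := fun r r' => by
        rw [hl_add, hl_add]
        module
      map_smul' := fun c r => by
        rw [hl_smul, hl_smul, RingHom.id_apply]
        module }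
  have hπ : ∀ r, π r = r - H r f • a - H r a • f := fun r => rfl
  have hrat : ∀ r : Fin N → F, Rt F₀ P r → π r ∈ S := by
    intro r hr
    have h1 : Rt F₀ P (π r) := by
      rw [hπ]
      exact (hr.sub (ha.1.smul (R.val _ _ hr hf.1))).sub (hf.1.smul (R.val _ _ hr ha.1))
    have h2 : H (π r) a = 0 := by
      rw [hπ, hl_sub, hl_sub, hl_smul, hl_smul, ha.2, hfa]; ring
    have h3 : H (π r) f = 0 := by
      rw [hπ, hl_sub, hl_sub, hl_smul, hl_smul, hf.2, haf]; ring
    obtain ⟨b₁, b₂, b₃, hb₁, hb₂, hb₃, e, ⟨a1, a2, a3⟩, ⟨f1, f2, f3⟩⟩ :=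
      rat_decomp3 R hN h1 ha.1 hf.1
    rw [h2] at a1
    rw [h3] at f1
    rw [e, hS]
    exact Submodule.add_mem _ (Submodule.add_mem _ (Submodule.subset_span ⟨hb₁, a1, f1⟩)
      (Submodule.subset_span ⟨hb₂, a2, f2⟩)) (Submodule.subset_span ⟨hb₃, a3, f3⟩)
  have hΦ : (S.mkQ ∘ₗ π ∘ₗ Matrix.mulVecLin (P : Matrix (Fin N) (Fin N) F)) = 0 := by
    apply LinearMap.pi_ext
    intro i c
    rw [LinearMap.zero_apply, LinearMap.comp_apply, LinearMap.comp_apply, Matrix.mulVecLin_apply,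
      Submodule.mkQ_apply, Submodule.Quotient.mk_eq_zero]
    have e1 : (Pi.single i c : Fin N → F) = c • Pi.single i 1 := by
      rw [← Pi.single_smul, smul_eq_mul, mul_one]
    rw [e1, mulVec_smul, map_smul]
    apply S.smul_mem
    apply hrat
    rw [← up_single (F₀ := F₀)]
    exact Rt_rv _
  have h1 := LinearMap.congr_fun hΦ (((P⁻¹ : GL (Fin N) F) : Matrix (Fin N) (Fin N) F) *ᵥ x)
  rw [LinearMap.zero_apply, LinearMap.comp_apply, LinearMap.comp_apply, Matrix.mulVecLin_apply,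
    Submodule.mkQ_apply, Submodule.Quotient.mk_eq_zero, mulVec_mulVec, Units.mul_inv,
    one_mulVec, hπ, hxa, hxf, zero_smul, zero_smul, sub_zero, sub_zero] at h1
  exact h1

/-- the Siegel elements at a rational isotropic vector, with parameter in the span of the
rational isotropic vectors. -/
theorem sg_mem_of_span {M : Subgroup (SU N F q)}
    (hD : ∀ x : F, x ∈ Dset q F₀ P M) {a f x : Fin N → F} (ha : RI q F₀ P a)
    (hx : x ∈ Submodule.span F {b : Fin N → F | RI q F₀ P b ∧ H b a = 0 ∧ H b f = 0}) :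
    ∀ κ : F, H (κ • x) a = 0 ∧
      ∃ c : F, c + c ^ q + H (κ • x) (κ • x) = 0 ∧ sg q a (κ • x) c ∈ M := by
  induction hx using Submodule.span_induction with
  | mem b hb =>
    intro κ
    obtain ⟨hb1, hb2, -⟩ := hb
    exact ⟨by rw [hl_smul, hb2, mul_zero], 0, adm_smul0 hb1.2 κ, hD κ a b ha hb1 hb2⟩
  | zero =>
    intro κ
    rw [smul_zero]
    refine ⟨hl_zero a, 0, ?_, ?_⟩
    · rw [hl_zero, b_zero, add_zero, add_zero]
    · rw [sg_zero ha.2]; exact M.one_mem
  | add y z _ _ hy hz =>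
    intro κ
    obtain ⟨hya, c₁, hc₁, h₁⟩ := hy κ
    obtain ⟨hza, c₂, hc₂, h₂⟩ := hz κ
    rw [smul_add]
    refine ⟨by rw [hl_add, hya, hza, add_zero], _, sg_mul_aux hc₁ hc₂, ?_⟩
    rw [← sg_mul ha.2 hya hza hc₁ hc₂]
    exact M.mul_mem h₁ h₂
  | smul t y _ hy =>
    intro κ
    rw [smul_smul]
    exact hy (κ * t)

/-- the unipotent radical at a non-zero rational isotropic vector. -/
theorem Q_mem_of_D (R : RD q F₀ P) (hN : 11 ≤ N) {M : Subgroup (SU N F q)}
    (hD : ∀ x : F, x ∈ Dset q F₀ P M) {a f : Fin N → F} (ha : RI q F₀ P a)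
    (hf : RI q F₀ P f) (haf : H a f = 1) {x : Fin N → F} (hxa : H x a = 0) {c : F}
    (hc : c + c ^ q + H x x = 0) : sg q a x c ∈ M := by
  have hfa : H f a = 1 := h_eq_one_of_swap (q := q) haf
  obtain ⟨lam, hlam⟩ : ∃ lam : F, lam = H x f := ⟨_, rfl⟩
  obtain ⟨x', hx'⟩ : ∃ x' : Fin N → F, x' = x - lam • a := ⟨_, rfl⟩
  have hx'a : H x' a = 0 := by rw [hx', hl_sub, hl_smul, ha.2, hxa, mul_zero, sub_zero]
  have hx'f : H x' f = 0 := by rw [hx', hl_sub, hl_smul, haf, mul_one, hlam, sub_self]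
  have hxe : x = x' + lam • a := by rw [hx']; abel
  have hmem := mem_span_RI R hN ha hf haf hx'a hx'f
  obtain ⟨-, c₁, hc₁, h₁⟩ := sg_mem_of_span hD ha hmem 1
  rw [one_smul] at hc₁ h₁
  rw [hxe] at hc ⊢
  rw [sg_add_self ha.2 hx'a lam hc]
  obtain ⟨c₂, hc₂d⟩ : ∃ c₂ : F, c₂ = c + lam - lam ^ q := ⟨_, rfl⟩
  rw [← hc₂d]
  have hax' : H a x' = 0 := h_eq_zero_of_swap (q := q) hx'a
  have hc₂ : c₂ + c₂ ^ q + H x' x' = 0 := by
    rw [hc₂d, b_sub, b_add, bb]
    simp only [hl_add, hr_add, hl_smul, hr_smul, ha.2, hx'a, hax', mul_zero, add_zero] at hc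
    linear_combination hc
  have hs : (c₂ - c₁) ^ q + (c₂ - c₁) = 0 := by
    rw [b_sub]
    linear_combination hc₂ - hc₁
  have h2 := sg_center ha.2 hx'a hc₁ hs
  rw [add_sub_cancel] at h2
  rw [← h2]
  exact M.mul_mem h₁ (TU_mem_of_D R hD ha hs)

/-- when all parameters are admissible, the subgroup is everything. -/
theorem top_of_D (R : RD q F₀ P) (hN : 11 ≤ N) {M : Subgroup (SU N F q)}
    (hD : ∀ x : F, x ∈ Dset q F₀ P M) : M = ⊤ := by
  have hall : ∀ (u : Fin N → F) (s : F), H u u = 0 → s ^ q + s = 0 → TU q u s ∈ M := by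
    intro u s hu hs
    by_cases hu0 : u = 0
    · have : TU q u s = 1 := by
        apply ext_mulVec
        intro v
        rw [TU_mulVec hu hs, hu0, smul_zero, add_zero, mt_one_mulVec]
      rw [this]; exact M.one_mem
    obtain ⟨a, ha, hau⟩ := exists_RI_ne R hN hu0
    obtain ⟨β, hβd⟩ : ∃ β : F, β = H u a := ⟨_, rfl⟩
    have hβ : β ≠ 0 := by
      rw [hβd]
      intro h
      exact hau (h_eq_zero_of_swap (q := q) h)
    have ha0 : a ≠ 0 := by
      rintro rfl
      exact hau (hl_zero u)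
    obtain ⟨f, hf, haf, -, -⟩ := partner R ha Rt.zero Rt.zero (hr_zero a) (hr_zero a) (by
      intro x y h
      apply ha0
      rw [h, smul_zero, smul_zero, add_zero])
    have hfa : H f a = 1 := h_eq_one_of_swap (q := q) haf
    obtain ⟨x, hxd⟩ : ∃ x : Fin N → F, x = f - β⁻¹ • u := ⟨_, rfl⟩
    have hxa : H x a = 0 := by
      rw [hxd, hl_sub, hl_smul, hfa, ← hβd, inv_mul_cancel₀ hβ, sub_self]
    have hβq : β ^ q ≠ 0 := pow_ne_zero q hβ
    have hfu : H f u = (H u f) ^ q := h_swap (q := q) f u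
    have hux : H u x = H u f := by
      rw [hxd, hr_sub, hr_smul, hu, mul_zero, sub_zero]
    have hxx : H x x = -(β⁻¹) ^ q * H f u - β⁻¹ * H u f := by
      rw [hxd]
      simp only [hl_sub, hr_sub, hl_smul, hr_smul, hf.2, hu, mul_zero, sub_zero, zero_sub]
      ring
    have hc : H u f / β + (H u f / β) ^ q + H x x = 0 := by
      rw [hxx, div_pow, hfu, inv_pow]
      field_simp
      ring
    have hS : sg q a x (H u f / β) ∈ M := Q_mem_of_D R hN hD ha hf haf hxa hc
    have hSu : mt (sg q a x (H u f / β)) *ᵥ u = β • f := by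
      rw [sg_mulVec ha.2 hxa hc, ← hβd, hux, hxd]
      have e : (H u f / β) = β⁻¹ * H u f := by rw [div_eq_inv_mul]
      rw [e, smul_add, smul_sub, smul_smul, smul_smul, mul_inv_cancel₀ hβ, one_smul,
        ← mul_assoc, mul_inv_cancel₀ hβ, one_mul]
      abel
    have hbf : H (β • f) (β • f) = 0 := by rw [hl_smul, hr_smul, hf.2, mul_zero, mul_zero]
    have h1 := conj_TU (sg q a x (H u f / β))⁻¹ hbf hs
    rw [inv_inv] at h1
    have h2 : mt (sg q a x (H u f / β))⁻¹ *ᵥ (β • f) = u := by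
      rw [← hSu, mt_inv_mulVec']
    rw [h2] at h1
    rw [← h1]
    refine M.mul_mem (M.mul_mem (M.inv_mem hS) ?_) hS
    rw [TU_smul hf.2 hs]
    exact TU_mem_of_D R hD hf (tz_mul_fixed hs (norm_fixed β))
  have hle : Tsub N F q ≤ M := by
    unfold Tsub
    rw [Subgroup.closure_le]
    rintro g ⟨p, s, hp, hs, rfl⟩
    exact hall p s hp hs
  have hq2 : ¬ (N = 3 ∧ q = 2) := by
    rintro ⟨h, -⟩
    omega
  rw [Tsub_eq_top N (by omega) hq2] at hle
  exact top_le_iff.mp hle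

end Cfsg.Agent.Helper7.SUSub
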