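import Mathlib
import Cfsg.Agent.Helper7.SUSubE

set_option autoImplicit false
set_option linter.unusedSectionVars false

/-! Subfield subgroups of the special unitary group (odd degree), part G: a transvection in `M`
whose centre is not projectively rational and is orthogonal to a rational isotropic vector
(helper7). -/

namespace Cfsg.Agent.Helper7.SUSub

open Matrix Cfsg Cfsg.Geo Cfsg.Agent.Helper7.Herm Cfsg.Agent.Helper8.GUOrder
  Cfsg.Agent.Helper8.SURoot Cfsg.Agent.Helper8.AutSU Cfsg.Agent.Helper7.SubF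
  Cfsg.Agent.Helper7.SpSub Cfsg.Agent.Helper7.SUPair Cfsg.Agent.S5653

variable {F : Type*} [Field F] [Fintype F] {q N : ℕ} [hF : Fact (Fintype.card F = q ^ 2)]
  {F₀ : Subfield F} {P : GL (Fin N) F}

local notation "H" => hermForm N F q

theorem not_mem_neg_conj {κ : F} (hκ : κ ∉ F₀) : -(κ ^ q) ∉ F₀ := by
  intro h
  apply hκ
  have h1 : κ ^ q ∈ F₀ := by
    have := F₀.neg_mem h
    rwa [neg_neg] at this
  have h2 := pow_mem_sub (q := q) h1
  rwa [bb] at h2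

theorem not_mem_mul_left {κ t : F} (hκ : κ ∉ F₀) (ht : t ∈ F₀) (ht0 : t ≠ 0) : t * κ ∉ F₀ := by
  intro h
  apply hκ
  have := F₀.mul_mem (F₀.inv_mem ht) h
  rwa [← mul_assoc, inv_mul_cancel₀ ht0, one_mul] at this

/-- the second case: a multiple of the centre is rational modulo `e`. -/
theorem caseA2 (R : RD q F₀ P) (hN : 11 ≤ N) {M : Subgroup (SU N F q)}
    (hM : ∀ A : SU N F q, InH F₀ P A → A ∈ M) {u e : Fin N → F} (hu : H u u = 0)
    (hup : ¬ PRt F₀ P u) {ε : F} (hε : ε ∈ F₀) (hε0 : ε ≠ 0) (hεs : ε ^ q + ε = 0)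
    (hT : TU q u ε ∈ M) (he : RI q F₀ P e) (he0 : e ≠ 0) (hue : H u e = 0)
    {δ κ₁ : F} (hδ : δ ≠ 0) (hwr : Rt F₀ P (δ • u - κ₁ • e)) :
    ∃ κ : F, κ ∉ F₀ ∧ κ ∈ Dset q F₀ P M := by
  have heu : H e u = 0 := h_eq_zero_of_swap (q := q) hue
  obtain ⟨w, hwd⟩ : ∃ w : Fin N → F, w = δ • u - κ₁ • e := ⟨_, rfl⟩
  rw [← hwd] at hwr
  have hwe : H w e = 0 := by
    rw [hwd, hl_sub, hl_smul, hl_smul, hue, he.2, mul_zero, mul_zero, sub_zero]
  have hew : H e w = 0 := h_eq_zero_of_swap (q := q) hwe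
  have hww : H w w = 0 := by
    rw [hwd]
    simp only [hl_sub, hr_sub, hl_smul, hr_smul, hu, hue, heu, he.2, mul_zero, sub_zero]
  have hwRI : RI q F₀ P w := ⟨hwr, hww⟩
  have hδu : δ • u = w + κ₁ • e := by rw [hwd]; abel
  have hκ₁ : κ₁ ∉ F₀ := by
    intro h
    apply hup
    refine ⟨δ, hδ, ?_⟩
    rw [hδu]
    exact hwr.add (he.1.smul h)
  have hI : ∀ x y : F, w ≠ x • e + y • (0 : Fin N → F) := by
    intro x y hxy
    rw [smul_zero, add_zero] at hxy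
    apply hup
    rw [hxy, ← add_smul] at hδu
    by_cases h0 : x + κ₁ = 0
    · refine ⟨δ, hδ, ?_⟩
      rw [hδu, h0, zero_smul]
      exact Rt.zero
    · refine ⟨(x + κ₁)⁻¹ * δ, mul_ne_zero (inv_ne_zero h0) hδ, ?_⟩
      rw [← smul_smul, hδu, smul_smul, inv_mul_cancel₀ h0, one_smul]
      exact he.1
  obtain ⟨y, hy, hwy, hye, -⟩ := partner R hwRI he.1 Rt.zero hwe (hr_zero w) hI
  have hyw : H y w = 1 := h_eq_one_of_swap (q := q) hwy
  have hue' : u = δ⁻¹ • (w + κ₁ • e) := by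
    rw [← hδu, smul_smul, inv_mul_cancel₀ hδ, one_smul]
  have hxx : H (w + κ₁ • e) (w + κ₁ • e) = 0 := by
    simp only [hl_add, hr_add, hl_smul, hr_smul, hww, hwe, hew, he.2, mul_zero, add_zero]
  obtain ⟨ρ, hρd⟩ : ∃ ρ : F, ρ = δ⁻¹ * (δ⁻¹) ^ q := ⟨_, rfl⟩
  have hρfix : ρ ^ q = ρ := by rw [hρd]; exact norm_fixed _
  have hρ0 : ρ ≠ 0 := by
    rw [hρd]
    exact mul_ne_zero (inv_ne_zero hδ) (pow_ne_zero q (inv_ne_zero hδ))
  by_cases hρ : ρ ∈ F₀
  · -- the transvection splits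
    obtain ⟨t, htd⟩ : ∃ t : F, t = ε * ρ := ⟨_, rfl⟩
    have htm : t ∈ F₀ := by rw [htd]; exact F₀.mul_mem hε hρ
    have ht0 : t ≠ 0 := by rw [htd]; exact mul_ne_zero hε0 hρ0
    have hts : t ^ q + t = 0 := by rw [htd]; exact tz_mul_fixed hεs hρfix
    have hT' : TU q (w + κ₁ • e) t ∈ M := by
      have h1 := TU_smul hxx hεs δ⁻¹
      rw [← hue', ← hρd, ← htd] at h1
      rw [← h1]
      exact hT
    have h2 := TU_split he.2 hww hwe κ₁ hts
    have hS : sg q e ((κ₁ ^ q * t) • w) (t * (κ₁ * κ₁ ^ q)) ∈ M := by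
      rw [← h2]
      exact M.mul_mem (M.inv_mem (hM _ (TU_InH R hwRI htm hts))) hT'
    have hc : t * (κ₁ * κ₁ ^ q) + (t * (κ₁ * κ₁ ^ q)) ^ q = 0 := by
      have := tz_mul_fixed hts (norm_fixed κ₁)
      linear_combination this
    have hκ : κ₁ ^ q * t ∉ F₀ := by
      rw [mul_comm]
      apply not_mem_mul_left _ htm ht0
      intro h
      apply hκ₁
      have := pow_mem_sub (q := q) h
      rwa [bb] at this
    exact ⟨_, not_mem_neg_conj hκ, Dset_of_out R hN hM he he0 hwRI hy hwe hye hwy hc hS⟩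
  · -- conjugating a rational Siegel element
    have hTe : mt (TU q u ε) *ᵥ e = e := by
      rw [TU_mulVec hu hεs, heu, mul_zero, zero_smul, add_zero]
    have hS₀ : sg q e y 0 ∈ M :=
      hM _ (sg_InH R he hy.1 hye F₀.zero_mem (adm_zero hy.2))
    obtain ⟨hmem, hadm, -⟩ := sg_conj_sub he.2 hye (adm_zero hy.2) hTe hT hS₀
    have hyu : H y u = (δ⁻¹) ^ q := by
      rw [hue', hr_smul, hr_add, hr_smul, hyw, hye, mul_zero, add_zero, mul_one]
    obtain ⟨κ, hκd⟩ : ∃ κ : F, κ = ε * ρ := ⟨_, rfl⟩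
    have hx₁ : mt (TU q u ε) *ᵥ y - y = κ • w + (κ * κ₁) • e := by
      rw [TU_mulVec hu hεs, add_sub_cancel_left, hyu, hκd, hρd]
      conv_lhs => rw [hue']
      rw [smul_smul, smul_add, smul_smul]
      congr 1
      · congr 1; ring
      · congr 1; ring
    rw [hx₁] at hmem hadm
    have hκw : H (κ • w) e = 0 := by rw [hl_smul, hwe, mul_zero]
    rw [sg_add_self he.2 hκw (κ * κ₁) hadm] at hmem
    have h0 : H (κ • w + (κ * κ₁) • e) (κ • w + (κ * κ₁) • e) = 0 := by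
      simp only [hl_add, hr_add, hl_smul, hr_smul, hww, hwe, hew, he.2, mul_zero, add_zero]
    rw [h0, add_zero] at hadm
    have hc : (H y (κ • w + (κ * κ₁) • e) + κ * κ₁ - (κ * κ₁) ^ q) +
        (H y (κ • w + (κ * κ₁) • e) + κ * κ₁ - (κ * κ₁) ^ q) ^ q = 0 := by
      rw [b_sub, b_add, bb]
      linear_combination hadm
    have hκ : κ ∉ F₀ := by
      rw [hκd]
      exact not_mem_mul_left hρ hε hε0
    exact ⟨_, not_mem_neg_conj hκ, Dset_of_out R hN hM he he0 hwRI hy hwe hye hwy hc hmem⟩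

/-- the first case: no multiple of the centre is rational modulo `e`. -/
theorem caseA1 (R : RD q F₀ P) (hN : 11 ≤ N) {M : Subgroup (SU N F q)}
    (hM : ∀ A : SU N F q, InH F₀ P A → A ∈ M) {u e : Fin N → F} (hu : H u u = 0)
    {ε : F} (hε : ε ∈ F₀) (hε0 : ε ≠ 0) (hεs : ε ^ q + ε = 0)
    (hT : TU q u ε ∈ M) (he : RI q F₀ P e) (he0 : e ≠ 0) (hue : H u e = 0)
    (hA1 : ∀ δ κ₁ : F, δ ≠ 0 → ¬ Rt F₀ P (δ • u - κ₁ • e)) :
    ∃ κ : F, κ ∉ F₀ ∧ κ ∈ Dset q F₀ P M := by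
  have heu : H e u = 0 := h_eq_zero_of_swap (q := q) hue
  obtain ⟨f, hf, hef, -, -⟩ := partner R he Rt.zero Rt.zero (hr_zero e) (hr_zero e) (by
    intro x y h
    apply he0
    rw [h, smul_zero, smul_zero, add_zero])
  -- a rational isotropic vector not orthogonal to `u`
  obtain ⟨y₀, hy₀, hy₀e, hy₀f, hy₀u⟩ : ∃ y₀ : Fin N → F, RI q F₀ P y₀ ∧ H y₀ e = 0 ∧
      H y₀ f = 0 ∧ H y₀ u ≠ 0 := by
    by_contra hcon
    push Not at hcon
    have h1 := rat_mod_of_pairings R hN he hf hef hue (fun b hb h1 h2 => by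
      rw [hcon b hb h1 h2]; exact F₀.zero_mem)
    apply hA1 1 (H u f) one_ne_zero
    rwa [one_smul]
  obtain ⟨δ, hδd⟩ : ∃ δ : F, δ = H y₀ u := ⟨_, rfl⟩
  have hδ : δ ≠ 0 := by rw [hδd]; exact hy₀u
  have hδue : H (δ • u) e = 0 := by rw [hl_smul, hue, mul_zero]
  obtain ⟨b, hb, hbe, hbf, hbu⟩ : ∃ b : Fin N → F, RI q F₀ P b ∧ H b e = 0 ∧ H b f = 0 ∧
      H b (δ • u) ∉ F₀ := by
    by_contra hcon
    push Not at hcon
    exact hA1 δ _ hδ (rat_mod_of_pairings R hN he hf hef hδue hcon)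
  have heb : H e b = 0 := h_eq_zero_of_swap (q := q) hbe
  -- first conjugation
  have hTe : mt (TU q u ε) *ᵥ e = e := by
    rw [TU_mulVec hu hεs, heu, mul_zero, zero_smul, add_zero]
  have hS₀ : sg q e y₀ 0 ∈ M :=
    hM _ (sg_InH R he hy₀.1 hy₀e F₀.zero_mem (adm_zero hy₀.2))
  obtain ⟨hmem, hadm, hx₁e⟩ := sg_conj_sub he.2 hy₀e (adm_zero hy₀.2) hTe hT hS₀
  have hx₁ : mt (TU q u ε) *ᵥ y₀ - y₀ = (ε * δ) • u := by
    rw [TU_mulVec hu hεs, add_sub_cancel_left, hδd]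
  rw [hx₁] at hmem hadm hx₁e
  -- second conjugation
  have hT'e : mt (TU q b ε) *ᵥ e = e := by
    rw [TU_mulVec hb.2 hεs, heb, mul_zero, zero_smul, add_zero]
  have hT' : TU q b ε ∈ M := hM _ (TU_InH R hb hε hεs)
  obtain ⟨hmem₂, hadm₂, -⟩ := sg_conj_sub he.2 hx₁e hadm hT'e hT' hmem
  obtain ⟨κ, hκd⟩ : ∃ κ : F, κ = ε * (ε * δ * H u b) := ⟨_, rfl⟩
  have hx₂ : mt (TU q b ε) *ᵥ ((ε * δ) • u) - (ε * δ) • u = κ • b := by
    rw [TU_mulVec hb.2 hεs, add_sub_cancel_left, hl_smul, hκd]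
  rw [hx₂] at hmem₂ hadm₂
  have h0 : H (κ • b) (κ • b) = 0 := by rw [hl_smul, hr_smul, hb.2, mul_zero, mul_zero]
  rw [h0, add_zero] at hadm₂
  have hκ : κ ∉ F₀ := by
    have h1 : δ * H u b ∉ F₀ := by
      intro h
      apply hbu
      rw [hr_smul, h_swap (q := q) b u, ← mul_pow]
      exact pow_mem_sub h
    have e : κ = (ε * ε) * (δ * H u b) := by rw [hκd]; ring
    rw [e]
    exact not_mem_mul_left h1 (F₀.mul_mem hε hε) (mul_ne_zero hε0 hε0)
  obtain ⟨g, hg, hbg, hge, -⟩ := partner R hb he.1 Rt.zero hbe (hr_zero b) (by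
    intro x y h
    rw [smul_zero, add_zero] at h
    apply hbu
    have hx : x = 0 := by
      have := hbf
      rw [h, hl_smul, hef, mul_one] at this
      exact this
    rw [h, hx, zero_smul, hl_zero]
    exact F₀.zero_mem)
  exact ⟨_, not_mem_neg_conj hκ, Dset_of_out R hN hM he he0 hb hg hbe hge hbg hadm₂ hmem₂⟩

/-- a transvection of `M` with centre not projectively rational and orthogonal to a non-zero
rational isotropic vector yields an irrational parameter. -/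
theorem caseA (R : RD q F₀ P) (hN : 11 ≤ N) {M : Subgroup (SU N F q)}
    (hM : ∀ A : SU N F q, InH F₀ P A → A ∈ M) {u e : Fin N → F} (hu : H u u = 0)
    (hup : ¬ PRt F₀ P u) (hT : ∀ s : F, s ∈ F₀ → s ^ q + s = 0 → TU q u s ∈ M)
    (he : RI q F₀ P e) (he0 : e ≠ 0) (hue : H u e = 0) :
    ∃ κ : F, κ ∉ F₀ ∧ κ ∈ Dset q F₀ P M := by
  obtain ⟨ε, hε, hε0, hεs⟩ := rat_skew R
  by_cases hA2 : ∃ δ κ₁ : F, δ ≠ 0 ∧ Rt F₀ P (δ • u - κ₁ • e)
  · obtain ⟨δ, κ₁, hδ, hwr⟩ := hA2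
    exact caseA2 R hN hM hu hup hε hε0 hεs (hT ε hε hεs) he he0 hue hδ hwr
  · push Not at hA2
    exact caseA1 R hN hM hu hε hε0 hεs (hT ε hε hεs) he he0 hue hA2

end Cfsg.Agent.Helper7.SUSub
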