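import Mathlib
import Cfsg.Agent.Helper7.SUSubE
import Cfsg.Agent.Helper7.SubLG
import Cfsg.Agent.Helper7.SubLF
import Cfsg.Agent.Lead.DicksonP

set_option autoImplicit false
set_option linter.unusedSectionVars false

/-! Subfield subgroups of the special unitary group (odd degree), part H: the matrices induced on
a plane modulo a fixed vector, and an element of `M` stabilising a rational totally isotropic
line and scaling a rational point of it (helper7). -/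

namespace Cfsg.Agent.Helper7.SUSub

open Matrix Cfsg Cfsg.Geo Cfsg.Agent.Helper7.Herm Cfsg.Agent.Helper8.GUOrder
  Cfsg.Agent.Helper8.SURoot Cfsg.Agent.Helper8.AutSU Cfsg.Agent.Helper7.SubF
  Cfsg.Agent.Helper7.SpSub Cfsg.Agent.Helper7.SUPair Cfsg.Agent.S5653
  Cfsg.Agent.Lead.DicksonA Cfsg.Agent.Lead.DicksonJ
open scoped MatrixGroups

variable {F : Type*} [Field F] [Fintype F] {q N : ℕ} [hF : Fact (Fintype.card F = q ^ 2)]
  {F₀ : Subfield F} {P : GL (Fin N) F}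

local notation "H" => hermForm N F q

/-- the pairs (element, induced matrix): the element fixes `z` and acts on `w`, `u` through the
matrix modulo `z`. -/
def relSU (q : ℕ) [hF : Fact (Fintype.card F = q ^ 2)] (w u z : Fin N → F) :
    Submonoid (SU N F q × SL(2, F)) where
  carrier := {x | mt x.1 *ᵥ z = z ∧
    (∃ p : F, mt x.1 *ᵥ w = x.2.1 0 0 • w + x.2.1 1 0 • u + p • z) ∧
    (∃ p' : F, mt x.1 *ᵥ u = x.2.1 0 1 • w + x.2.1 1 1 • u + p' • z)}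
  one_mem' := by
    refine ⟨?_, ⟨0, ?_⟩, ⟨0, ?_⟩⟩
    · rw [Prod.fst_one, mt_one_mulVec]
    · rw [Prod.fst_one, mt_one_mulVec, Prod.snd_one, one_00, one_10, one_smul, zero_smul,
        zero_smul, add_zero, add_zero]
    · rw [Prod.fst_one, mt_one_mulVec, Prod.snd_one, one_01, one_11, one_smul, zero_smul,
        zero_smul, zero_add, add_zero]
  mul_mem' := by
    rintro ⟨g, A⟩ ⟨h, C⟩ ⟨hgz, ⟨p, hg2⟩, ⟨p', hg3⟩⟩ ⟨hhz, ⟨r, hh2⟩, ⟨r', hh3⟩⟩
    simp only at hgz hg2 hg3 hhz hh2 hh3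
    refine ⟨?_, ⟨C.1 0 0 * p + C.1 1 0 * p' + r, ?_⟩, ⟨C.1 0 1 * p + C.1 1 1 * p' + r', ?_⟩⟩
    · show mt (g * h) *ᵥ z = z
      rw [mt_mul_mulVec, hhz, hgz]
    · show mt (g * h) *ᵥ w = (A * C).1 0 0 • w + (A * C).1 1 0 • u + _ • z
      rw [mt_mul_mulVec, hh2, mulVec_add, mulVec_add, mulVec_smul, mulVec_smul, mulVec_smul,
        hg2, hg3, hgz, mul_00, mul_10]
      module
    · show mt (g * h) *ᵥ u = (A * C).1 0 1 • w + (A * C).1 1 1 • u + _ • z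
      rw [mt_mul_mulVec, hh3, mulVec_add, mulVec_add, mulVec_smul, mulVec_smul, mulVec_smul,
        hg2, hg3, hgz, mul_01, mul_11]
      module

/-- the induced matrices of the elements of `M`. -/
def indSU (M : Subgroup (SU N F q)) (w u z : Fin N → F) : Subgroup SL(2, F) where
  carrier := {A | ∃ g ∈ M, (g, A) ∈ relSU q w u z}
  one_mem' := ⟨1, M.one_mem, (relSU q w u z).one_mem⟩
  mul_mem' := by
    rintro A C ⟨g, hg, hgA⟩ ⟨g', hg', hgC⟩
    exact ⟨g * g', M.mul_mem hg hg', (relSU q w u z).mul_mem hgA hgC⟩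
  inv_mem' := by
    rintro A ⟨g, hg, hgA⟩
    haveI : Finite SL(2, F) := Subtype.finite
    haveI : Finite (SU N F q) := Subtype.finite
    haveI : Finite (SU N F q × SL(2, F)) := inferInstance
    have h1 := Cfsg.Agent.Helper7.SubL.inv_mem_of_finite (relSU q w u z) hgA
    rw [Prod.inv_mk] at h1
    exact ⟨g⁻¹, M.inv_mem hg, h1⟩

theorem mem_indSU (M : Subgroup (SU N F q)) (w u z : Fin N → F) (A : SL(2, F)) :
    A ∈ indSU M w u z ↔ ∃ g ∈ M, mt g *ᵥ z = z ∧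
      (∃ p : F, mt g *ᵥ w = A.1 0 0 • w + A.1 1 0 • u + p • z) ∧
      (∃ p' : F, mt g *ᵥ u = A.1 0 1 • w + A.1 1 1 • u + p' • z) := Iff.rfl

/-- a transvection with centre `μ w + ν z` induces an upper unitriangular matrix. -/
theorem uu_mem_indSU {M : Subgroup (SU N F q)} {w u z w' : Fin N → F} {μ ν t : F}
    (hw' : w' = μ • w + ν • z) (hiso : H w' w' = 0) (ht : t ^ q + t = 0) (hz : H z w' = 0)
    (hw : H w w' = 0) (hT : TU q w' t ∈ M) : uu (t * H u w' * μ) ∈ indSU M w u z := by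
  rw [mem_indSU]
  refine ⟨TU q w' t, hT, ?_, ⟨0, ?_⟩, ⟨t * H u w' * ν, ?_⟩⟩
  · rw [TU_mulVec hiso ht, hz, mul_zero, zero_smul, add_zero]
  · rw [TU_mulVec hiso ht, hw, mul_zero, zero_smul, add_zero, uu_00, uu_10, one_smul, zero_smul,
      zero_smul, add_zero, add_zero]
  · rw [TU_mulVec hiso ht, uu_01, uu_11, one_smul]
    obtain ⟨b, hb⟩ : ∃ b : F, b = H u w' := ⟨_, rfl⟩
    rw [← hb, hw']
    module

/-- a transvection with centre `u` induces a lower unitriangular matrix. -/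
theorem ll_mem_indSU {M : Subgroup (SU N F q)} {w u z : Fin N → F} {s : F} (hu : H u u = 0)
    (hs : s ^ q + s = 0) (hz : H z u = 0) (hT : TU q u s ∈ M) :
    ll (s * H w u) ∈ indSU M w u z := by
  rw [mem_indSU]
  refine ⟨TU q u s, hT, ?_, ⟨0, ?_⟩, ⟨0, ?_⟩⟩
  · rw [TU_mulVec hu hs, hz, mul_zero, zero_smul, add_zero]
  · rw [TU_mulVec hu hs, ll_00, ll_10, one_smul, zero_smul, add_zero]
  · rw [TU_mulVec hu hs, hu, mul_zero, zero_smul, add_zero, ll_01, ll_11, one_smul, zero_smul,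
      zero_smul, zero_add, add_zero]

/-- the two upper unitriangular matrices induced by the transvections at `w` and at `w'`. -/
theorem uu_pair {M : Subgroup (SU N F q)} {w w' u : Fin N → F} (hw : H w w = 0)
    (hw' : H w' w' = 0) (hw'w : H w' w = 0) {μ t : F} (ht : t ^ q + t = 0)
    (hTw : TU q w t ∈ M) (hTw' : TU q w' t ∈ M) :
    uu (t * H u w) ∈ indSU M w u (μ • w - w') ∧
      uu (t * H u w' * μ) ∈ indSU M w u (μ • w - w') := by
  have hww' : H w w' = 0 := h_eq_zero_of_swap (q := q) hw'w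
  have hzw : H (μ • w - w') w = 0 := by rw [hl_sub, hl_smul, hw, hw'w, mul_zero, sub_zero]
  have hzw' : H (μ • w - w') w' = 0 := by rw [hl_sub, hl_smul, hww', hw', mul_zero, sub_zero]
  constructor
  · have h1 := uu_mem_indSU (M := M) (w := w) (u := u) (z := μ • w - w') (w' := w) (μ := 1)
      (ν := 0) (by rw [one_smul, zero_smul, add_zero]) hw ht hzw hw hTw
    rwa [mul_one] at h1
  · exact uu_mem_indSU (M := M) (w := w) (u := u) (z := μ • w - w') (w' := w') (μ := μ)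
      (ν := -1) (by rw [neg_one_smul]; abel) hw' ht hzw' hww' hTw'

/-- characteristic two: an element of `M` fixing `z` and scaling `w` modulo `z`. -/
theorem core_even (h2 : (2 : F) = 0) {M : Subgroup (SU N F q)} {w w' u : Fin N → F}
    (hw : H w w = 0) (hw' : H w' w' = 0) (hw'w : H w' w = 0) (hu : H u u = 0) {ε : F}
    (hε0 : ε ≠ 0) (hεs : ε ^ q + ε = 0) (hTw : TU q w ε ∈ M) (hTw' : TU q w' ε ∈ M)
    (hTu : TU q u ε ∈ M) (hβ : H w u ≠ 0) {μ : F} (hμ : H w' u = μ * H w u)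
    (hμ0 : μ ≠ 0) (hμ1 : μ * μ ^ q ≠ 1) :
    ∃ g ∈ M, ∃ lam p : F, lam ≠ 1 ∧ mt g *ᵥ (μ • w - w') = μ • w - w' ∧
      mt g *ᵥ w = lam • w + p • (μ • w - w') := by
  obtain ⟨β, hβd⟩ : ∃ β : F, β = H w u := ⟨_, rfl⟩
  rw [← hβd] at hβ hμ
  have huw : H u w = β ^ q := by rw [h_swap (q := q) u w, hβd]
  have huw' : H u w' = μ ^ q * β ^ q := by rw [h_swap (q := q) u w', hμ, mul_pow]
  have hzu : H (μ • w - w') u = 0 := by rw [hl_sub, hl_smul, ← hβd, hμ, sub_self]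
  obtain ⟨X, hX⟩ : ∃ X : Subgroup SL(2, F), X = indSU M w u (μ • w - w') := ⟨_, rfl⟩
  obtain ⟨h1, h2'⟩ := uu_pair (u := u) (μ := μ) hw hw' hw'w hεs hTw hTw'
  rw [← hX, huw] at h1
  rw [← hX, huw'] at h2'
  have h3 := ll_mem_indSU (M := M) (w := w) (z := μ • w - w') hu hεs hzu hTu
  rw [← hX, ← hβd] at h3
  obtain ⟨a₁, ha₁⟩ : ∃ a₁ : F, a₁ = ε * β ^ q := ⟨_, rfl⟩
  obtain ⟨a₂, ha₂⟩ : ∃ a₂ : F, a₂ = ε * (μ ^ q * β ^ q) * μ := ⟨_, rfl⟩
  obtain ⟨b, hb⟩ : ∃ b : F, b = ε * β := ⟨_, rfl⟩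
  rw [← ha₁] at h1
  rw [← ha₂] at h2'
  rw [← hb] at h3
  have hβq : β ^ q ≠ 0 := pow_ne_zero q hβ
  have ha₁0 : a₁ ≠ 0 := by rw [ha₁]; exact mul_ne_zero hε0 hβq
  have ha₂0 : a₂ ≠ 0 := by
    rw [ha₂]
    exact mul_ne_zero (mul_ne_zero hε0 (mul_ne_zero (pow_ne_zero q hμ0) hβq)) hμ0
  have hb0 : b ≠ 0 := by rw [hb]; exact mul_ne_zero hε0 hβ
  obtain ⟨k₁, hk₁⟩ := Cfsg.Agent.Helper7.SubL.exists_conj_char_two h2 ha₁0 hb0
  obtain ⟨k₂, hk₂⟩ := Cfsg.Agent.Helper7.SubL.exists_conj_char_two h2 ha₂0 hb0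
  obtain ⟨g₁, hg₁⟩ : ∃ g₁ : SL(2, F), g₁ = (uu a₁ * ll b) ^ k₁ := ⟨_, rfl⟩
  obtain ⟨g₂, hg₂⟩ : ∃ g₂ : SL(2, F), g₂ = (uu a₂ * ll b) ^ k₂ := ⟨_, rfl⟩
  rw [← hg₁] at hk₁
  rw [← hg₂] at hk₂
  have hg₁X : g₁ ∈ X := by rw [hg₁]; exact X.pow_mem (X.mul_mem h1 h3) k₁
  have hg₂X : g₂ ∈ X := by rw [hg₂]; exact X.pow_mem (X.mul_mem h2' h3) k₂
  obtain ⟨d, hd⟩ : ∃ d : SL(2, F), d = g₂⁻¹ * g₁ := ⟨_, rfl⟩
  have hdX : d ∈ X := by rw [hd]; exact X.mul_mem (X.inv_mem hg₂X) hg₁X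
  have hconj : d * uu a₁ = uu a₂ * d := by
    have e1 : g₁ * uu a₁ = ll b * g₁ := by
      rw [← hk₁]; group
    have e2 : g₂ * uu a₂ = ll b * g₂ := by
      rw [← hk₂]; group
    have e3 : uu a₂ * g₂⁻¹ = g₂⁻¹ * ll b := by
      have : g₂⁻¹ * (g₂ * uu a₂) * g₂⁻¹ = g₂⁻¹ * (ll b * g₂) * g₂⁻¹ := by rw [e2]
      rw [inv_mul_cancel_left, mul_assoc, mul_assoc, mul_inv_cancel, mul_one] at this
      exact this
    rw [hd, mul_assoc, e1, ← mul_assoc, ← e3, mul_assoc]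
  have h00 := congrArg (fun m : SL(2, F) => m.1 0 0) hconj
  have h01 := congrArg (fun m : SL(2, F) => m.1 0 1) hconj
  simp only [mul_00, mul_01, uu_00, uu_01, uu_10, uu_11, mul_one, mul_zero, add_zero, one_mul]
    at h00 h01
  have hd10 : d.1 1 0 = 0 := by
    have : a₂ * d.1 1 0 = 0 := by linear_combination -h00
    exact (mul_eq_zero.mp this).resolve_left ha₂0
  have hdet := det_eq d
  rw [hd10, mul_zero, sub_zero] at hdet
  have hsq : d.1 0 0 * d.1 0 0 = μ * μ ^ q := by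
    have e1 : d.1 0 0 * a₁ = a₂ * d.1 1 1 := by linear_combination h01
    have e2 : d.1 0 0 * d.1 0 0 * a₁ = a₂ := by
      calc d.1 0 0 * d.1 0 0 * a₁ = d.1 0 0 * (d.1 0 0 * a₁) := by ring
        _ = d.1 0 0 * (a₂ * d.1 1 1) := by rw [e1]
        _ = a₂ * (d.1 0 0 * d.1 1 1) := by ring
        _ = a₂ := by rw [hdet, mul_one]
    have e3 : a₂ = μ * μ ^ q * a₁ := by rw [ha₂, ha₁]; ring
    rw [e3] at e2
    exact mul_right_cancel₀ ha₁0 e2
  have hlam : d.1 0 0 ≠ 1 := by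
    intro h
    apply hμ1
    rw [← hsq, h, mul_one]
  rw [hX, mem_indSU] at hdX
  obtain ⟨g, hgM, hgz, ⟨p, hgw⟩, -⟩ := hdX
  rw [hd10, zero_smul, add_zero] at hgw
  exact ⟨g, hgM, d.1 0 0, p, hlam, hgz, hgw⟩

end Cfsg.Agent.Helper7.SUSub
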