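import Mathlib
import Cfsg.Agent.Helper7.SUSubH
import Cfsg.Agent.Helper7.SubLE

set_option autoImplicit false
set_option linter.unusedSectionVars false

/-! Subfield subgroups of the special unitary group (odd degree), part I: odd characteristic,
an element of `M` stabilising a rational totally isotropic line and inverting a rational point
of it modulo a fixed irrational point (helper7). -/

namespace Cfsg.Agent.Helper7.SUSub

open Matrix Cfsg Cfsg.Geo Cfsg.Agent.Helper7.Herm Cfsg.Agent.Helper8.GUOrder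
  Cfsg.Agent.Helper8.SURoot Cfsg.Agent.Helper8.AutSU Cfsg.Agent.Helper7.SubF
  Cfsg.Agent.Helper7.SpSub Cfsg.Agent.Helper7.SUPair Cfsg.Agent.S5653
  Cfsg.Agent.Lead.DicksonA Cfsg.Agent.Lead.DicksonJ
open scoped MatrixGroups

variable {F : Type*} [Field F] [Fintype F] {q N : ℕ} [hF : Fact (Fintype.card F = q ^ 2)]
  {F₀ : Subfield F} {P : GL (Fin N) F}

local notation "H" => hermForm N F q

/-- a subgroup of `SL₂` in odd characteristic containing `uu 1` and `ll ρ`, `ρ` irrational,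
contains the central involution. -/
theorem neg_one_of_irr (h2 : (2 : F) ≠ 0) {r : ℕ} (hr : r.Prime) (hr3 : 3 ≤ r)
    (hcard : Fintype.card F = Nat.card F₀ ^ r) (X : Subgroup SL(2, F)) {ρ : F} (hρ : ρ ∉ F₀)
    (hu : uu 1 ∈ X) (hl : ll ρ ∈ X) : ∃ d ∈ X, d.1 0 0 = -1 ∧ d.1 1 0 = 0 := by
  have hρ0 : ρ ≠ 0 := by
    rintro rfl
    exact hρ F₀.zero_mem
  obtain ⟨E, hE⟩ : ∃ E : Subfield F, E = Subfield.closure ({ρ} : Set F) := ⟨_, rfl⟩
  haveI : Fintype E := Fintype.ofFinite E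
  have hρE : ρ ∈ E := by rw [hE]; exact Subfield.subset_closure rfl
  have h2E : (2 : E) ≠ 0 := by
    intro h
    apply h2
    have := congrArg Subtype.val h
    exact this
  have hlam0 : (⟨ρ, hρE⟩ : E) ≠ 0 := by
    intro h
    exact hρ0 (congrArg Subtype.val h)
  have hgen : Subfield.closure ({(⟨ρ, hρE⟩ : E)} : Set E) = ⊤ := by
    subst hE
    exact Cfsg.Agent.Helper7.SubL.closure_self_top ρ
  have hneE : ¬ (Fintype.card E = 9 ∧ (⟨ρ, hρE⟩ : E) ^ 2 = -1) := by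
    rintro ⟨-, hsq⟩
    have h1 : ρ ^ 2 = -1 := by
      have := congrArg Subtype.val hsq
      simpa using this
    exact no_quadratic hr hr3 hcard hρ F₀.one_mem F₀.zero_mem F₀.one_mem one_ne_zero
      (by rw [h1]; ring)
  have htop := Cfsg.Agent.Lead.DicksonP.partA h2E (⟨ρ, hρE⟩ : E) hlam0 hgen hneE
  have hle : Subgroup.closure ({uu 1, ll (⟨ρ, hρE⟩ : E)} : Set SL(2, E)) ≤
      X.comap (Matrix.SpecialLinearGroup.map E.subtype) := by
    rw [Subgroup.closure_le]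
    rintro g (rfl | rfl)
    · show Matrix.SpecialLinearGroup.map E.subtype (uu 1) ∈ X
      rw [map_uu, map_one]
      exact hu
    · show Matrix.SpecialLinearGroup.map E.subtype (ll ⟨ρ, hρE⟩) ∈ X
      rw [map_ll]
      exact hl
  have hmem : (ww * ww : SL(2, E)) ∈
      Subgroup.closure ({uu 1, ll (⟨ρ, hρE⟩ : E)} : Set SL(2, E)) := by
    rw [htop]; exact Subgroup.mem_top _
  refine ⟨Matrix.SpecialLinearGroup.map E.subtype (ww * ww), hle hmem, ?_, ?_⟩
  · rw [map_entry, mul_00]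
    simp
  · rw [map_entry, mul_10]
    simp

/-- odd characteristic: an element of `M` fixing `z` and inverting `w` modulo `z`. -/
theorem core_odd (h2 : (2 : F) ≠ 0) {r : ℕ} (hr : r.Prime) (hr3 : 3 ≤ r)
    (hcard : Fintype.card F = Nat.card F₀ ^ r) {M : Subgroup (SU N F q)}
    {w w' u : Fin N → F} (hw : H w w = 0) (hw' : H w' w' = 0) (hw'w : H w' w = 0)
    (hu : H u u = 0) {ε : F} (hε0 : ε ≠ 0) (hεs : ε ^ q + ε = 0)
    (hTw : TU q w ε ∈ M) (hTw' : TU q w' ε ∈ M) {ρ : F} (hρ0 : ρ ≠ 0) (hρq : ρ ^ q = ρ)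
    (hTu : ∀ k : F, k ∈ F₀ → k ^ q = k → TU q u (ε * k * ρ) ∈ M) (hnorm : ε * H u w = 1)
    {μ : F} (hμ : H w' u = μ * H w u) :
    ∃ g ∈ M, ∃ lam p : F, lam ≠ 1 ∧ mt g *ᵥ (μ • w - w') = μ • w - w' ∧
      mt g *ᵥ w = lam • w + p • (μ • w - w') := by
  have hεq : ε ^ q = -ε := by linear_combination hεs
  have huw : H u w = ε⁻¹ := by
    have : H u w = ε⁻¹ * (ε * H u w) := by rw [← mul_assoc, inv_mul_cancel₀ hε0, one_mul]
    rw [this, hnorm, mul_one]
  have hwu : H w u = -ε⁻¹ := by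
    rw [h_swap (q := q) w u, huw, inv_pow, hεq, inv_neg]
  have hzu : H (μ • w - w') u = 0 := by rw [hl_sub, hl_smul, hμ, sub_self]
  obtain ⟨X, hX⟩ : ∃ X : Subgroup SL(2, F), X = indSU M w u (μ • w - w') := ⟨_, rfl⟩
  obtain ⟨h1, -⟩ := uu_pair (u := u) (μ := μ) hw hw' hw'w hεs hTw hTw'
  rw [← hX, hnorm] at h1
  have hll : ∀ k : F, k ∈ F₀ → k ^ q = k → ll (-(k * ρ)) ∈ X := by
    intro k hk hkq
    have h3 := ll_mem_indSU (M := M) (w := w) (z := μ • w - w') hu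
      (tz_mul_fixed (tz_mul_fixed hεs hkq) hρq) hzu (hTu k hk hkq)
    rw [← hX, hwu] at h3
    have e : ε * k * ρ * -ε⁻¹ = -(k * ρ) := by
      field_simp
    rwa [e] at h3
  -- an element of the induced group
  obtain ⟨d, hdX, hd00, hd10⟩ : ∃ d ∈ X, d.1 0 0 = -1 ∧ d.1 1 0 = 0 := by
    by_cases hρ : ρ ∈ F₀
    · have h4 := hll ρ⁻¹ (F₀.inv_mem hρ) (by rw [inv_pow, hρq])
      rw [inv_mul_cancel₀ hρ0] at h4
      refine ⟨(uu 1 * ll (-1) * uu 1) * (uu 1 * ll (-1) * uu 1),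
        X.mul_mem (X.mul_mem (X.mul_mem h1 h4) h1) (X.mul_mem (X.mul_mem h1 h4) h1), ?_, ?_⟩
      · simp only [mul_00, mul_01, mul_10, mul_11, uu_00, uu_01, uu_10, uu_11, ll_00, ll_01,
          ll_10, ll_11]
        ring
      · simp only [mul_00, mul_01, mul_10, mul_11, uu_00, uu_01, uu_10, uu_11, ll_00, ll_01,
          ll_10, ll_11]
        ring
    · have h4 := hll (-1) (F₀.neg_mem F₀.one_mem) (by rw [b_neg, b_one])
      rw [neg_one_mul, neg_neg] at h4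
      exact neg_one_of_irr h2 hr hr3 hcard X hρ h1 h4
  rw [hX, mem_indSU] at hdX
  obtain ⟨g, hgM, hgz, ⟨p, hgw⟩, -⟩ := hdX
  rw [hd10, hd00, zero_smul, add_zero] at hgw
  refine ⟨g, hgM, -1, p, ?_, hgz, hgw⟩
  intro h
  apply h2
  have : (2 : F) = 1 - (-1) := by ring
  rw [this, h, sub_self]

end Cfsg.Agent.Helper7.SUSub
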