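import Mathlib
import Cfsg.Agent.Helper7.SUSubI
import Cfsg.Agent.Helper7.SUSubG

set_option autoImplicit false
set_option linter.unusedSectionVars false

/-! Subfield subgroups of the special unitary group (odd degree), part J: a transvection in `M`
whose centre is orthogonal to no rational isotropic vector (helper7). -/

namespace Cfsg.Agent.Helper7.SUSub

open Matrix Cfsg Cfsg.Geo Cfsg.Agent.Helper7.Herm Cfsg.Agent.Helper8.GUOrder
  Cfsg.Agent.Helper8.SURoot Cfsg.Agent.Helper8.AutSU Cfsg.Agent.Helper7.SubF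
  Cfsg.Agent.Helper7.SpSub Cfsg.Agent.Helper7.SUPair Cfsg.Agent.S5653

variable {F : Type*} [Field F] [Fintype F] {q N : ℕ} [hF : Fact (Fintype.card F = q ^ 2)]
  {F₀ : Subfield F} {P : GL (Fin N) F}

local notation "H" => hermForm N F q

/-- an element stabilising a rational totally isotropic line, fixing an irrational point of it
and scaling a rational point modulo the fixed one, carries some rational point of the line to a
point which is not rational. -/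
theorem exists_nonrat_image {r : ℕ} (hr : r.Prime) (hr3 : 3 ≤ r)
    (hcard : Fintype.card F = Nat.card F₀ ^ r) {w w' : Fin N → F} (hw : RI q F₀ P w)
    (hw' : RI q F₀ P w') (hI : ∀ a b : F, a • w + b • w' = 0 → a = 0 ∧ b = 0)
    (hw'w : H w' w = 0) {μ : F} (hμ : μ ∉ F₀) (g : SU N F q)
    (hgz : mt g *ᵥ (μ • w - w') = μ • w - w') {lam π : F}
    (hgw : mt g *ᵥ w = lam • w + π • (μ • w - w')) (hlam : lam ≠ 1) :
    ∃ v : Fin N → F, RI q F₀ P v ∧ H (mt g *ᵥ v) w = 0 ∧ ¬ PRt F₀ P (mt g *ᵥ v) := by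
  by_contra hcon
  push Not at hcon
  have hww' : H w w' = 0 := h_eq_zero_of_swap (q := q) hw'w
  obtain ⟨A, hA⟩ : ∃ A : F, A = lam + π * μ := ⟨_, rfl⟩
  obtain ⟨C, hC⟩ : ∃ C : F, C = -π := ⟨_, rfl⟩
  obtain ⟨B, hB⟩ : ∃ B : F, B = μ * (lam + π * μ - 1) := ⟨_, rfl⟩
  obtain ⟨D, hD⟩ : ∃ D : F, D = 1 - π * μ := ⟨_, rfl⟩
  have hgw1 : mt g *ᵥ w = A • w + C • w' := by
    rw [hgw, hA, hC]; module
  have hgw2 : mt g *ᵥ w' = B • w + D • w' := by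
    have e : w' = μ • w - (μ • w - w') := by abel
    conv_lhs => rw [e]
    rw [mulVec_sub, mulVec_smul, hgw, hgz, hB, hD]
    module
  have hperp : ∀ x y : F, H (x • w + y • w') w = 0 := by
    intro x y
    rw [hl_add, hl_smul, hl_smul, hw.2, hw'w, mul_zero, mul_zero, add_zero]
  obtain ⟨ν₁, hν₁, hr₁⟩ := hcon w hw (by rw [hgw1]; exact hperp A C)
  obtain ⟨ν₂, hν₂, hr₂⟩ := hcon w' hw' (by rw [hgw2]; exact hperp B D)
  obtain ⟨ν₃, hν₃, hr₃⟩ := hcon (w + w') (hw.add hw' hww') (by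
    rw [mulVec_add, hgw1, hgw2]
    have e : A • w + C • w' + (B • w + D • w') = (A + B) • w + (C + D) • w' := by module
    rw [e]; exact hperp _ _)
  -- independence of the images
  have hI' : ∀ a b : F, a • (ν₁ • (mt g *ᵥ w)) + b • (ν₂ • (mt g *ᵥ w')) = 0 →
      a = 0 ∧ b = 0 := by
    intro a b hab
    have h1 : mt g *ᵥ ((a * ν₁) • w + (b * ν₂) • w') = 0 := by
      rw [mulVec_add, mulVec_smul, mulVec_smul, ← smul_smul, ← smul_smul]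
      exact hab
    have h2 : (a * ν₁) • w + (b * ν₂) • w' = 0 := by
      by_contra hne
      exact mulVec_ne_zero' g hne h1
    obtain ⟨e1, e2⟩ := hI _ _ h2
    exact ⟨(mul_eq_zero.mp e1).resolve_right hν₁, (mul_eq_zero.mp e2).resolve_right hν₂⟩
  have e3 : ν₃ • (mt g *ᵥ (w + w')) =
      (ν₃ / ν₁) • (ν₁ • (mt g *ᵥ w)) + (ν₃ / ν₂) • (ν₂ • (mt g *ᵥ w')) := by
    rw [mulVec_add, smul_add, smul_smul, smul_smul, div_mul_cancel₀ _ hν₁,
      div_mul_cancel₀ _ hν₂]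
  rw [e3] at hr₃
  obtain ⟨c1, c2⟩ := Rt.coef2 hr₁ hr₂ hI' hr₃
  have hratio : ν₁ / ν₂ ∈ F₀ := by
    have e : ν₁ / ν₂ = (ν₃ / ν₂) * (ν₃ / ν₁)⁻¹ := by
      field_simp
    rw [e]
    exact F₀.mul_mem c2 (F₀.inv_mem c1)
  have hr₂' : Rt F₀ P (ν₁ • (mt g *ᵥ w')) := by
    have e : ν₁ • (mt g *ᵥ w') = (ν₁ / ν₂) • (ν₂ • (mt g *ᵥ w')) := by
      rw [smul_smul, div_mul_cancel₀ _ hν₂]
    rw [e]
    exact hr₂.smul hratio
  -- the coefficients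
  have e1 : ν₁ • (mt g *ᵥ w) = (ν₁ * A) • w + (ν₁ * C) • w' := by
    rw [hgw1, smul_add, smul_smul, smul_smul]
  have e2 : ν₁ • (mt g *ᵥ w') = (ν₁ * B) • w + (ν₁ * D) • w' := by
    rw [hgw2, smul_add, smul_smul, smul_smul]
  rw [e1] at hr₁
  rw [e2] at hr₂'
  obtain ⟨ha, hc⟩ := Rt.coef2 hw.1 hw'.1 hI hr₁
  obtain ⟨hb, hd⟩ := Rt.coef2 hw.1 hw'.1 hI hr₂'
  have hquad : (ν₁ * C) * μ ^ 2 + (ν₁ * A - ν₁ * D) * μ + -(ν₁ * B) = 0 := by
    rw [hA, hB, hC, hD]; ring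
  by_cases hc0 : ν₁ * C = 0
  · have hπ : π = 0 := by
      have := (mul_eq_zero.mp hc0).resolve_left hν₁
      rw [hC] at this
      exact neg_eq_zero.mp this
    have had : ν₁ * A - ν₁ * D = ν₁ * (lam - 1) := by rw [hA, hD, hπ]; ring
    have hbb : ν₁ * B = μ * (ν₁ * (lam - 1)) := by rw [hB, hπ]; ring
    have hne : ν₁ * (lam - 1) ≠ 0 := mul_ne_zero hν₁ (sub_ne_zero.mpr hlam)
    have hm : ν₁ * (lam - 1) ∈ F₀ := by rw [← had]; exact F₀.sub_mem ha hd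
    apply hμ
    have e : μ = (ν₁ * B) * (ν₁ * (lam - 1))⁻¹ := by
      rw [hbb, mul_assoc, mul_inv_cancel₀ hne, mul_one]
    rw [e]
    exact F₀.mul_mem hb (F₀.inv_mem hm)
  · exact no_quadratic hr hr3 hcard hμ hc (F₀.sub_mem ha hd) (F₀.neg_mem hb) hc0 hquad

/-- a transvection of `M` whose centre is orthogonal to no rational isotropic vector yields
another one whose centre is not projectively rational and orthogonal to a rational isotropic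
vector. -/
theorem caseB (R : RD q F₀ P) (hN : 11 ≤ N) {r : ℕ} (hr : r.Prime) (hr3 : 3 ≤ r)
    (hcard : Fintype.card F = Nat.card F₀ ^ r) {M : Subgroup (SU N F q)}
    (hM : ∀ A : SU N F q, InH F₀ P A → A ∈ M) {u : Fin N → F} (hu : H u u = 0)
    (hT : ∀ s : F, s ∈ F₀ → s ^ q + s = 0 → TU q u s ∈ M)
    (hB : ∀ e : Fin N → F, RI q F₀ P e → e ≠ 0 → H e u ≠ 0) :
    ∃ x e : Fin N → F, H x x = 0 ∧ ¬ PRt F₀ P x ∧
      (∀ s : F, s ∈ F₀ → s ^ q + s = 0 → TU q x s ∈ M) ∧ RI q F₀ P e ∧ e ≠ 0 ∧ H x e = 0 := by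
  obtain ⟨ε, hε, hε0, hεs⟩ := rat_skew R
  obtain ⟨θ, hθ, hθq⟩ := R.theta
  obtain ⟨w, g₀, hw, hg₀, hwg₀, -, -⟩ := rat_hyp R hN (Rt.zero (F₀ := F₀) (P := P)) Rt.zero
    Rt.zero Rt.zero
  obtain ⟨w₀, g₀', hw₀, hg₀', hw₀g₀', ⟨hw₀w, hw₀g₀, -, -⟩, ⟨hg₀'w, -, -, -⟩⟩ :=
    rat_hyp R hN hw.1 hg₀.1 Rt.zero Rt.zero
  have hwg₀' : H w g₀' = 0 := h_eq_zero_of_swap (q := q) hg₀'w
  have hww₀ : H w w₀ = 0 := h_eq_zero_of_swap (q := q) hw₀w
  have hw0 : w ≠ 0 := by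
    rintro rfl
    rw [hl_zero] at hwg₀
    exact zero_ne_one hwg₀
  obtain ⟨β, hβd⟩ : ∃ β : F, β = H w u := ⟨_, rfl⟩
  have hβ : β ≠ 0 := by rw [hβd]; exact hB w hw hw0
  obtain ⟨μ₀, hμ₀d⟩ : ∃ μ₀ : F, μ₀ = H w₀ u / β := ⟨_, rfl⟩
  have hμ₀β : μ₀ * β = H w₀ u := by rw [hμ₀d, div_mul_cancel₀ _ hβ]
  have hμ₀ : μ₀ ∉ F₀ := by
    intro hmem
    have h1 : RI q F₀ P (μ₀ • w + -w₀) := (hw.smul hmem).add hw₀.neg (by
      rw [hl_smul, hr_neg, hww₀, neg_zero, mul_zero])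
    have h2 : μ₀ • w + -w₀ ≠ 0 := by
      intro h
      have h3 : H (μ₀ • w + -w₀) g₀' = -1 := by
        rw [hl_add, hl_smul, hl_neg, hwg₀', hw₀g₀', mul_zero, zero_add]
      rw [h, hl_zero] at h3
      exact one_ne_zero (neg_eq_zero.mp h3.symm)
    apply hB _ h1 h2
    rw [hl_add, hl_smul, hl_neg, ← hβd, hμ₀β, add_neg_cancel]
  obtain ⟨lam₀, hlam₀, hnorm₀⟩ : ∃ lam₀ : F, lam₀ ∈ F₀ ∧
      (μ₀ + lam₀) * (μ₀ + lam₀) ^ q ∉ F₀ := by
    by_contra hcon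
    push Not at hcon
    exact hμ₀ (mem_of_norm hθ hθq hcon)
  obtain ⟨w', hw'd⟩ : ∃ w' : Fin N → F, w' = w₀ + lam₀ • w := ⟨_, rfl⟩
  have hw' : RI q F₀ P w' := by
    rw [hw'd]
    exact hw₀.add (hw.smul hlam₀) (by rw [hr_smul, hw₀w, mul_zero])
  have hw'w : H w' w = 0 := by
    rw [hw'd, hl_add, hl_smul, hw₀w, hw.2, mul_zero, add_zero]
  obtain ⟨μ, hμd⟩ : ∃ μ : F, μ = μ₀ + lam₀ := ⟨_, rfl⟩
  rw [← hμd] at hnorm₀
  have hμ : H w' u = μ * H w u := by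
    rw [hw'd, hl_add, hl_smul, ← hβd, ← hμ₀β, hμd]; ring
  have hμF : μ ∉ F₀ := by
    intro h
    apply hμ₀
    have : μ₀ = μ - lam₀ := by rw [hμd]; ring
    rw [this]
    exact F₀.sub_mem h hlam₀
  have hμ0 : μ ≠ 0 := by
    rintro rfl
    exact hμF F₀.zero_mem
  have hμ1 : μ * μ ^ q ≠ 1 := by
    intro h
    apply hnorm₀
    rw [h]
    exact F₀.one_mem
  have hI : ∀ a b : F, a • w + b • w' = 0 → a = 0 ∧ b = 0 := by
    intro a b hab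
    have h1 : H (a • w + b • w') g₀' = b := by
      rw [hw'd, hl_add, hl_smul, hl_smul, hl_add, hl_smul, hwg₀', hw₀g₀']
      ring
    rw [hab, hl_zero] at h1
    have hb : b = 0 := h1.symm
    rw [hb, zero_smul, add_zero] at hab
    exact ⟨(smul_eq_zero.mp hab).resolve_right hw0, hb⟩
  have hTw : TU q w ε ∈ M := hM _ (TU_InH R hw hε hεs)
  have hTw' : TU q w' ε ∈ M := hM _ (TU_InH R hw' hε hεs)
  -- the element scaling `w`
  obtain ⟨g, hgM, lam, p, hlam, hgz, hgw⟩ : ∃ g ∈ M, ∃ lam p : F, lam ≠ 1 ∧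
      mt g *ᵥ (μ • w - w') = μ • w - w' ∧ mt g *ᵥ w = lam • w + p • (μ • w - w') := by
    by_cases h2 : (2 : F) = 0
    · exact core_even h2 hw.2 hw'.2 hw'w hu hε0 hεs hTw hTw' (hT ε hε hεs)
        (by rw [← hβd]; exact hβ) hμ hμ0 hμ1
    · have hβq : β ^ q ≠ 0 := pow_ne_zero q hβ
      obtain ⟨c, hcd⟩ : ∃ c : F, c = (ε * β ^ q)⁻¹ := ⟨_, rfl⟩
      have hc0 : c ≠ 0 := by rw [hcd]; exact inv_ne_zero (mul_ne_zero hε0 hβq)
      have hu₁ : H (c • u) (c • u) = 0 := by rw [hl_smul, hr_smul, hu, mul_zero, mul_zero]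
      have hnorm : ε * H (c • u) w = 1 := by
        rw [hl_smul, h_swap (q := q) u w, ← hβd, hcd]
        field_simp
      have hμ₁ : H w' (c • u) = μ * H w (c • u) := by
        rw [hr_smul, hr_smul, hμ]; ring
      obtain ⟨ρ, hρd⟩ : ∃ ρ : F, ρ = (c * c ^ q)⁻¹ := ⟨_, rfl⟩
      have hcc : c * c ^ q ≠ 0 := mul_ne_zero hc0 (pow_ne_zero q hc0)
      have hρ0 : ρ ≠ 0 := by rw [hρd]; exact inv_ne_zero hcc
      have hρq : ρ ^ q = ρ := by rw [hρd, inv_pow, norm_fixed]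
      have hTu : ∀ k : F, k ∈ F₀ → k ^ q = k → TU q (c • u) (ε * k * ρ) ∈ M := by
        intro k hk hkq
        rw [TU_smul hu (tz_mul_fixed (tz_mul_fixed hεs hkq) hρq) c]
        have e : ε * k * ρ * (c * c ^ q) = ε * k := by
          rw [hρd, mul_assoc, inv_mul_cancel₀ hcc, mul_one]
        rw [e]
        exact hT _ (F₀.mul_mem hε hk) (tz_mul_fixed hεs hkq)
      exact core_odd h2 hr hr3 hcard hw.2 hw'.2 hw'w hu₁ hε0 hεs hTw hTw' hρ0 hρq hTu hnorm hμ₁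
  obtain ⟨v, hv, hvw, hvp⟩ :=
    exists_nonrat_image hr hr3 hcard hw hw' hI hw'w hμF g hgz hgw hlam
  refine ⟨mt g *ᵥ v, w, by rw [herm_mt]; exact hv.2, hvp, ?_, hw, hw0, hvw⟩
  intro s hs hss
  rw [← conj_TU g hv.2 hss]
  exact M.mul_mem (M.mul_mem hgM (hM _ (TU_InH R hv hs hss))) (M.inv_mem hgM)

end Cfsg.Agent.Helper7.SUSub
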