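import Mathlib
import Cfsg.Agent.Helper7.SUSubJ
import Cfsg.Agent.Helper7.SUSubF

set_option autoImplicit false
set_option linter.unusedSectionVars false

/-! Subfield subgroups of the special unitary group (odd degree), part K: the subfield group is
maximal (helper7). -/

namespace Cfsg.Agent.Helper7.SUSub

open Matrix Cfsg Cfsg.Geo Cfsg.Agent.Helper7.Herm Cfsg.Agent.Helper8.GUOrder
  Cfsg.Agent.Helper8.SURoot Cfsg.Agent.Helper8.AutSU Cfsg.Agent.Helper7.SubF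
  Cfsg.Agent.Helper7.SpSub Cfsg.Agent.Helper7.SUPair Cfsg.Agent.S5653

variable {F : Type*} [Field F] [Fintype F] {q N : ℕ} [hF : Fact (Fintype.card F = q ^ 2)]
  {F₀ : Subfield F} {P : GL (Fin N) F}

local notation "H" => hermForm N F q

/-- the scalars making the images of two orthogonal independent rational isotropic vectors
rational differ by a rational factor. -/
theorem ratio_mem (g : SU N F q) {a a' : Fin N → F} (ha : RI q F₀ P a) (ha' : RI q F₀ P a')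
    (haa' : H a a' = 0) (hI : ∀ x y : F, x • a + y • a' = 0 → x = 0 ∧ y = 0)
    (hall : ∀ b : Fin N → F, RI q F₀ P b → PRt F₀ P (mt g *ᵥ b)) {ν ν' : F} (hν : ν ≠ 0)
    (hν' : ν' ≠ 0) (hr : Rt F₀ P (ν • (mt g *ᵥ a))) (hr' : Rt F₀ P (ν' • (mt g *ᵥ a'))) :
    ν / ν' ∈ F₀ := by
  obtain ⟨ν₃, hν₃, hr₃⟩ := hall (a + a') (ha.add ha' haa')
  have hI' : ∀ x y : F, x • (ν • (mt g *ᵥ a)) + y • (ν' • (mt g *ᵥ a')) = 0 →
      x = 0 ∧ y = 0 := by
    intro x y hxy
    have h1 : mt g *ᵥ ((x * ν) • a + (y * ν') • a') = 0 := by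
      rw [mulVec_add, mulVec_smul, mulVec_smul, ← smul_smul, ← smul_smul]
      exact hxy
    have h2 : (x * ν) • a + (y * ν') • a' = 0 := by
      by_contra hne
      exact mulVec_ne_zero' g hne h1
    obtain ⟨e1, e2⟩ := hI _ _ h2
    exact ⟨(mul_eq_zero.mp e1).resolve_right hν, (mul_eq_zero.mp e2).resolve_right hν'⟩
  have e3 : ν₃ • (mt g *ᵥ (a + a')) =
      (ν₃ / ν) • (ν • (mt g *ᵥ a)) + (ν₃ / ν') • (ν' • (mt g *ᵥ a')) := by
    rw [mulVec_add, smul_add, smul_smul, smul_smul, div_mul_cancel₀ _ hν,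
      div_mul_cancel₀ _ hν']
  rw [e3] at hr₃
  obtain ⟨c1, c2⟩ := Rt.coef2 hr hr' hI' hr₃
  have e : ν / ν' = (ν₃ / ν') * (ν₃ / ν)⁻¹ := by
    field_simp
  rw [e]
  exact F₀.mul_mem c2 (F₀.inv_mem c1)

/-- an element outside the subfield group carries some rational isotropic vector to a vector
which is not projectively rational. -/
theorem exists_irr_image (R : RD q F₀ P) (hN : 11 ≤ N) {g : SU N F q}
    (hg : ¬ InH F₀ P g) : ∃ a : Fin N → F, RI q F₀ P a ∧ ¬ PRt F₀ P (mt g *ᵥ a) := by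
  by_contra hcon
  push Not at hcon
  apply hg
  obtain ⟨a₀, g₀, ha₀, hg₀, ha₀g₀, -, -⟩ := rat_hyp R hN (Rt.zero (F₀ := F₀) (P := P)) Rt.zero
    Rt.zero Rt.zero
  have ha₀0 : a₀ ≠ 0 := by
    rintro rfl
    rw [hl_zero] at ha₀g₀
    exact zero_ne_one ha₀g₀
  obtain ⟨ν₀, hν₀, hr₀⟩ := hcon a₀ ha₀
  have hiso : ∀ a : Fin N → F, RI q F₀ P a → Rt F₀ P (ν₀ • (mt g *ᵥ a)) := by
    intro a ha
    by_cases ha0 : a = 0
    · rw [ha0, mulVec_zero, smul_zero]; exact Rt.zero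
    obtain ⟨e, g', he, hg', heg', ⟨hea₀, hea, -, -⟩, ⟨hg'a₀, hg'a, -, -⟩⟩ :=
      rat_hyp R hN ha₀.1 ha.1 Rt.zero Rt.zero
    have ha₀e : H a₀ e = 0 := h_eq_zero_of_swap (q := q) hea₀
    have ha₀g' : H a₀ g' = 0 := h_eq_zero_of_swap (q := q) hg'a₀
    have hag' : H a g' = 0 := h_eq_zero_of_swap (q := q) hg'a
    have hI₁ : ∀ x y : F, x • a₀ + y • e = 0 → x = 0 ∧ y = 0 := by
      intro x y hxy
      have h1 : H (x • a₀ + y • e) g' = y := by
        rw [hl_add, hl_smul, hl_smul, ha₀g', heg']; ring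
      rw [hxy, hl_zero] at h1
      have hy : y = 0 := h1.symm
      rw [hy, zero_smul, add_zero] at hxy
      exact ⟨(smul_eq_zero.mp hxy).resolve_right ha₀0, hy⟩
    have hI₂ : ∀ x y : F, x • e + y • a = 0 → x = 0 ∧ y = 0 := by
      intro x y hxy
      have h1 : H (x • e + y • a) g' = x := by
        rw [hl_add, hl_smul, hl_smul, hag', heg']; ring
      rw [hxy, hl_zero] at h1
      have hx : x = 0 := h1.symm
      rw [hx, zero_smul, zero_add] at hxy
      exact ⟨hx, (smul_eq_zero.mp hxy).resolve_right ha0⟩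
    obtain ⟨νe, hνe, hre⟩ := hcon e he
    obtain ⟨νa, hνa, hra⟩ := hcon a ha
    have c1 := ratio_mem g ha₀ he ha₀e hI₁ hcon hν₀ hνe hr₀ hre
    have c2 := ratio_mem g he ha hea hI₂ hcon hνe hνa hre hra
    have e1 : ν₀ • (mt g *ᵥ a) = (ν₀ / νe * (νe / νa)) • (νa • (mt g *ᵥ a)) := by
      rw [smul_smul]
      congr 1
      field_simp
    rw [e1]
    exact hra.smul (F₀.mul_mem c1 c2)
  apply InH_of_smul hν₀
  intro x hx
  obtain ⟨b₁, b₂, b₃, h1, h2, h3, e, -, -⟩ := rat_decomp3 R hN hx Rt.zero Rt.zero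
  rw [e, mulVec_add, mulVec_add, smul_add, smul_add]
  exact ((hiso b₁ h1).add (hiso b₂ h2)).add (hiso b₃ h3)

/-- a subgroup containing the subfield group and an element outside it is everything. -/
theorem top_of_not_InH (R : RD q F₀ P) (hN : 11 ≤ N) {r : ℕ} (hr : r.Prime) (hr3 : 3 ≤ r)
    (hcard : Fintype.card F = Nat.card F₀ ^ r) {M : Subgroup (SU N F q)}
    (hM : ∀ A : SU N F q, InH F₀ P A → A ∈ M) {g : SU N F q} (hgM : g ∈ M)
    (hg : ¬ InH F₀ P g) : M = ⊤ := by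
  obtain ⟨a, ha, hup⟩ := exists_irr_image R hN hg
  have hu : H (mt g *ᵥ a) (mt g *ᵥ a) = 0 := by rw [herm_mt]; exact ha.2
  have hT : ∀ s : F, s ∈ F₀ → s ^ q + s = 0 → TU q (mt g *ᵥ a) s ∈ M := by
    intro s hs hss
    rw [← conj_TU g ha.2 hss]
    exact M.mul_mem (M.mul_mem hgM (hM _ (TU_InH R ha hs hss))) (M.inv_mem hgM)
  obtain ⟨κ, hκ, hκD⟩ : ∃ κ : F, κ ∉ F₀ ∧ κ ∈ Dset q F₀ P M := by
    by_cases hA : ∃ e : Fin N → F, RI q F₀ P e ∧ e ≠ 0 ∧ H (mt g *ᵥ a) e = 0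
    · obtain ⟨e, he, he0, hue⟩ := hA
      exact caseA R hN hM hu hup hT he he0 hue
    · push Not at hA
      have hB : ∀ e : Fin N → F, RI q F₀ P e → e ≠ 0 → H e (mt g *ᵥ a) ≠ 0 := by
        intro e he he0 h
        exact hA e he he0 (h_eq_zero_of_swap (q := q) h)
      obtain ⟨x, e, hx, hxp, hTx, he, he0, hxe⟩ := caseB R hN hr hr3 hcard hM hu hT hB
      exact caseA R hN hM hx hxp hTx he he0 hxe
  exact top_of_D R hN (Dset_univ R hN hM hr hcard hκ hκD)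

/-- the subfield group is a proper subgroup. -/
theorem exists_not_InH (R : RD q F₀ P) (hN : 11 ≤ N) {r : ℕ} (hr : r.Prime) (hr3 : 3 ≤ r)
    (hcard : Fintype.card F = Nat.card F₀ ^ r) : ∃ A : SU N F q, ¬ InH F₀ P A := by
  obtain ⟨e, f, he, hf, hef, -, -⟩ := rat_hyp R hN (Rt.zero (F₀ := F₀) (P := P)) Rt.zero
    Rt.zero Rt.zero
  have hfe : H f e = 1 := h_eq_one_of_swap (q := q) hef
  have he0 : e ≠ 0 := by
    rintro rfl
    rw [hl_zero] at hef
    exact zero_ne_one hef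
  obtain ⟨c₀, hc₀q, hc₀⟩ := exists_fixed_not_mem (q := q) hr hr3 hcard
  obtain ⟨ε, hε, hε0, hεs⟩ := rat_skew R
  have hcs : (ε * c₀) ^ q + ε * c₀ = 0 := tz_mul_fixed hεs hc₀q
  have hc : ε * c₀ ∉ F₀ := not_mem_mul_left hc₀ hε hε0
  refine ⟨TU q e (ε * c₀), ?_⟩
  intro hin
  obtain ⟨ν, hν, hall⟩ := exists_of_InH hin
  have h1 := hall e he.1
  rw [TU_mulVec he.2 hcs, he.2, mul_zero, zero_smul, add_zero] at h1
  have hνm : ν ∈ F₀ := Rt.coef1 he.1 he0 h1
  have h2 := hall f hf.1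
  rw [TU_mulVec he.2 hcs, hfe, mul_one] at h2
  have h3 : Rt F₀ P (f + (ε * c₀) • e) := by
    have := h2.smul (F₀.inv_mem hνm)
    rwa [smul_smul, inv_mul_cancel₀ hν, one_smul] at this
  have h4 : Rt F₀ P ((ε * c₀) • e) := by
    have := h3.sub hf.1
    rwa [add_sub_cancel_left] at this
  exact hc (Rt.coef1 he.1 he0 h4)

/-- **The unitary subfield group of odd prime degree is maximal in `SU_n(q)`.** -/
theorem subfield_unitary_maximal (hN : 11 ≤ N) {r : ℕ} (hr : r.Prime) (hro : Odd r)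
    (hcard : Fintype.card F = Nat.card F₀ ^ r) (P : GL (Fin N) F)
    (hP : Cfsg.Geo.IsFormRationalStructure (hermForm N F q) F₀ 1 P) :
    Cfsg.Geo.IsMaximalIn (Cfsg.GU N F q ⊓ Cfsg.Geo.specialLinear (Fin N) F)
      (Cfsg.Geo.subfieldSubgroup F₀ P ⊓
        (Cfsg.GU N F q ⊓ Cfsg.Geo.specialLinear (Fin N) F)) := by
  have hr3 : 3 ≤ r := by
    have h2 := hr.two_le
    rcases hro with ⟨k, hk⟩
    omega
  have R : RD q F₀ P := by
    refine ⟨?_, exists_not_fixed_rat (q := q) hr hr3 hcard⟩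
    rintro _ _ ⟨u, hu, rfl⟩ ⟨v, hv, rfl⟩
    have := hP u v hu hv
    rwa [one_mul] at this
  refine ⟨lt_of_le_not_ge inf_le_right ?_, ?_⟩
  · intro hle
    obtain ⟨A, hA⟩ := exists_not_InH R hN hr hr3 hcard
    exact hA (hle (toGL_mem A)).1
  · intro M hNM hMS
    by_cases hM : M ≤ Cfsg.Geo.subfieldSubgroup F₀ P ⊓
        (Cfsg.GU N F q ⊓ Cfsg.Geo.specialLinear (Fin N) F)
    · left
      exact le_antisymm hM hNM
    · right
      obtain ⟨g, hgM, hgn⟩ := Set.not_subset.mp hM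
      obtain ⟨A, rfl⟩ := exists_toGL_eq (hMS hgM)
      have hAn : ¬ InH F₀ P A := fun h => hgn ⟨h, hMS hgM⟩
      have hM' : ∀ B : SU N F q, InH F₀ P B → B ∈ M.comap (toGL N F q) := by
        intro B hB
        rw [Subgroup.mem_comap]
        exact hNM ⟨hB, toGL_mem B⟩
      have htop := top_of_not_InH R hN hr hr3 hcard hM' (Subgroup.mem_comap.mpr hgM) hAn
      apply le_antisymm hMS
      intro g hg
      obtain ⟨B, rfl⟩ := exists_toGL_eq hg
      have : B ∈ M.comap (toGL N F q) := by rw [htop]; exact Subgroup.mem_top B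
      exact this

end Cfsg.Agent.Helper7.SUSub
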