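import Mathlib
import Cfsg.Agent.Helper7.SUSimpD
import Cfsg.Agent.Helper8.SUEvenMain

set_option autoImplicit false
set_option linter.unusedSectionVars false

/-! The unitary transvections of `SU_n(q)` as the elements `g` with `rank (g - 1) = 1`, and the
3-transposition property for `q = 2` (helper7). -/

namespace Cfsg.Agent.Helper7.SUTransp

open Matrix Cfsg Cfsg.Agent.Helper7.Herm Cfsg.Agent.Helper8.GUOrder Cfsg.Agent.Helper8.SURoot
  Cfsg.Agent.Helper8.AutSU Cfsg.Agent.Helper7.SUGen Cfsg.Agent.Helper7.SUSimp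

/-- a matrix of rank one is a product of a column and a row. -/
theorem exists_vecMulVec_of_rank_one {F : Type*} [Field F] {n : ℕ}
    (A : Matrix (Fin n) (Fin n) F) (h : A.rank = 1) :
    ∃ p φ : Fin n → F, p ≠ 0 ∧ φ ≠ 0 ∧ A = vecMulVec p φ := by
  have h' := h
  unfold Matrix.rank at h
  obtain ⟨⟨p, hpR⟩, hp0, hsp⟩ := finrank_eq_one_iff'.mp h
  have hp0' : p ≠ 0 := fun h0 => hp0 (Subtype.ext h0)
  have hcol : ∀ j : Fin n, ∃ c : F, c • p = A *ᵥ Pi.single j 1 := by
    intro j
    obtain ⟨c, hc⟩ := hsp ⟨A *ᵥ Pi.single j 1, LinearMap.mem_range.mpr ⟨Pi.single j 1, rfl⟩⟩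
    exact ⟨c, congrArg Subtype.val hc⟩
  choose φ hφ using hcol
  have hA : A = vecMulVec p φ := by
    ext i j
    have := congrFun (hφ j) i
    rw [mulVec_single_one, Pi.smul_apply, smul_eq_mul] at this
    rw [vecMulVec_apply, mul_comm, this]
    rfl
  refine ⟨p, φ, hp0', ?_, hA⟩
  rintro rfl
  have hA0 : A = 0 := by
    rw [hA]
    ext i j
    rw [vecMulVec_apply, Pi.zero_apply, mul_zero, Matrix.zero_apply]
  rw [hA0, Matrix.rank_zero] at h'
  exact zero_ne_one h'

variable {F : Type*} [Field F] [Fintype F] {q N : ℕ} [hF : Fact (Fintype.card F = q ^ 2)]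

/-- an element `g` of `SU` with `rank (g - 1) = 1` is a unitary transvection. -/
theorem eq_TU_of_rank_one (g : SU N F q) (h : (mt g - 1).rank = 1) :
    ∃ (p : Fin N → F) (s : F), p ≠ 0 ∧ hermForm N F q p p = 0 ∧ s ≠ 0 ∧ s ^ q + s = 0 ∧
      g = TU q p s := by
  obtain ⟨p, φ, hp0, hφ0, hA⟩ := exists_vecMulVec_of_rank_one _ h
  have hg : ∀ x, mt g *ᵥ x = x + (φ ⬝ᵥ x) • p := by
    intro x
    have : mt g = 1 + vecMulVec p φ := by rw [← hA]; abel
    rw [this, add_mulVec, one_mulVec, vecMulVec_mulVec]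
    congr 1
    ext i
    simp only [Pi.smul_apply, MulOpposite.smul_eq_mul_unop, MulOpposite.unop_op, smul_eq_mul]
    ring
  obtain ⟨j, hj⟩ : ∃ j, φ j ≠ 0 := by
    by_contra hcon
    push Not at hcon
    exact hφ0 (funext hcon)
  -- `φ x = 0 → h(x, p) = 0`
  have step1 : ∀ x, φ ⬝ᵥ x = 0 → hermForm N F q x p = 0 := by
    intro x hx
    have h1 := herm_mt g x (Pi.single j 1)
    rw [hg, hg, hx, zero_smul, add_zero, dotProduct_single_one, h_add_right, hermForm_smul_right] at h1
    have h2 : φ j ^ q * hermForm N F q x p = 0 := by linear_combination h1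
    exact (mul_eq_zero.mp h2).resolve_left (pow_ne_zero q hj)
  set y₀ : Fin N → F := (φ j)⁻¹ • Pi.single j 1 with hy₀
  have hφy₀ : φ ⬝ᵥ y₀ = 1 := by
    rw [hy₀, dotProduct_smul, dotProduct_single_one, smul_eq_mul, inv_mul_cancel₀ hj]
  set d := hermForm N F q y₀ p with hd
  have hprop : ∀ x, hermForm N F q x p = (φ ⬝ᵥ x) * d := by
    intro x
    have h1 := step1 (x - (φ ⬝ᵥ x) • y₀) (by
      rw [dotProduct_sub, dotProduct_smul, hφy₀, smul_eq_mul, mul_one, sub_self])
    rw [hermForm_sub_left, hermForm_smul_left] at h1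
    linear_combination h1
  have hd0 : d ≠ 0 := by
    intro hd0
    obtain ⟨w, hw⟩ := exists_herm_eq_one (q := q) hp0
    rw [hprop w, hd0, mul_zero] at hw
    exact zero_ne_one hw
  have hmat : mt g = unitaryTransvection N q p d⁻¹ := by
    apply Matrix.ext_iff_mulVec.mpr
    intro x
    rw [hg, unitaryTransvection_mulVec, hprop x]
    congr 2
    field_simp
  have hdet : (1 : F) + d⁻¹ * hermForm N F q p p = 1 := by
    rw [← det_uT, ← hmat]
    exact g.1.2
  have hpp : hermForm N F q p p = 0 := by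
    have : d⁻¹ * hermForm N F q p p = 0 := by linear_combination hdet
    exact (mul_eq_zero.mp this).resolve_left (inv_ne_zero hd0)
  rcases eq_one_or_TU g p d⁻¹ hpp hmat with h1 | ⟨-, hs, hgTU⟩
  · exfalso
    rw [h1, mt_one, sub_self] at h
    simp at h
  · exact ⟨p, d⁻¹, hp0, hpp, inv_ne_zero hd0, hs, hgTU⟩

/-- a non-trivial unitary transvection `g` has `rank (g - 1) = 1`. -/
theorem rank_TU {p : Fin N → F} (hp0 : p ≠ 0) (hp : hermForm N F q p p = 0) {s : F} (hs0 : s ≠ 0)
    (hs : s ^ q + s = 0) : (mt (TU q p s) - 1).rank = 1 := by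
  have h1 : mt (TU q p s) - 1 = vecMulVec (s • p) (fun j => p j ^ q) := by
    rw [mt_TU hp hs]
    unfold unitaryTransvection
    rw [add_sub_cancel_left, Matrix.smul_vecMulVec]
  have hle : (mt (TU q p s) - 1).rank ≤ 1 := by
    rw [h1]
    exact rank_vecMulVec_le _ _
  have hne : (mt (TU q p s) - 1).rank ≠ 0 := by
    intro h0
    have h2 := Cfsg.Agent.Helper8.SUEven.eq_one_of_rank (mt (TU q p s)) h0
    have h3 : TU q p s = 1 := by
      apply ext_mulVec
      intro v
      rw [h2, mt_one]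
    exact hs0 ((TU_eq_one_iff hp0 hp hs).mp h3)
  omega

end Cfsg.Agent.Helper7.SUTransp
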