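import Mathlib
import Cfsg.Agent.Helper5.SaDefs
import Cfsg.Agent.Helper4.Sa_C

/-!
# S4025, piece P (SPARE, helper5 landed the official `linear_of_card_seven`): `p = 2`, `n = 3`, `|A| = 7`: every element of `A` is linear over `GF(8)`.
-/

set_option autoImplicit false
set_option linter.unusedVariables false
set_option linter.style.haveILetI false
set_option linter.unusedSectionVars false

namespace Cfsg.Agent.Helper5.Sa

/-- every ring automorphism of `GF(8)` has cube one -/
theorem h7_sigma_cube (σ : GaloisField 2 3 ≃+* GaloisField 2 3) (x : GaloisField 2 3) :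
    σ (σ (σ x)) = x := by
  haveI : Fact (Nat.Prime 2) := ⟨Nat.prime_two⟩
  have hc : Nat.card (GaloisField 2 3 ≃+* GaloisField 2 3) = 3 :=
    h4_card_ringAut 2 3 (by norm_num)
  haveI : Finite (GaloisField 2 3 ≃+* GaloisField 2 3) :=
    Nat.finite_of_card_ne_zero (by rw [hc]; norm_num)
  have h3 : σ ^ 3 = 1 := by
    have := pow_card_eq_one' (G := GaloisField 2 3 ≃+* GaloisField 2 3) (x := σ)
    rwa [hc] at this
  have : (σ ^ 3) x = x := by rw [h3]; rfl
  simpa [pow_succ, RingAut.mul_apply] using this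

theorem h7_linear_of_card_seven {V : Type*} [AddCommGroup V] [Module (ZMod 2) V] [Finite V]
    (A : Subgroup (V ≃ₗ[ZMod 2] V)) (hA : Nat.card A = 7) (e : V ≃+ GaloisField 2 3)
    (he : ∀ g ∈ A, ∃ (a : GaloisField 2 3) (σ : GaloisField 2 3 ≃+* GaloisField 2 3),
      ∀ v : V, e (g v) = a * σ (e v)) :
    ∀ g ∈ A, ∃ a : GaloisField 2 3, ∀ v : V, e (g v) = a * e v := by
  intro g hg
  obtain ⟨a, σ, hgσ⟩ := he g hg
  -- g ^ 7 = 1
  haveI : Finite A := Nat.finite_of_card_ne_zero (by rw [hA]; norm_num)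
  have h7 : g ^ 7 = 1 := by
    have h := pow_card_eq_one' (G := A) (x := ⟨g, hg⟩)
    rw [hA] at h
    have := congrArg (fun t : A => (t : V ≃ₗ[ZMod 2] V)) h
    simpa using this
  have h15 : (g ^ 3) ^ 5 = g := by
    rw [← pow_mul]
    have : g ^ (3 * 5) = g ^ 7 * g ^ 7 * g := by
      rw [← pow_add, ← pow_succ]
    rw [this, h7, one_mul, one_mul]
  -- g ^ 3 is multiplication by b
  set b : GaloisField 2 3 := a * σ a * σ (σ a) with hb
  have hmul : ∀ (g₁ g₂ : V ≃ₗ[ZMod 2] V) (v : V), (g₁ * g₂) v = g₁ (g₂ v) := fun _ _ _ => rfl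
  have h3 : ∀ v : V, e ((g ^ 3) v) = b * e v := by
    intro v
    have : (g ^ 3) v = g (g (g v)) := by
      rw [pow_succ, pow_succ, pow_one, hmul, hmul]
    rw [this, hgσ, hgσ, hgσ, map_mul, map_mul, map_mul, h7_sigma_cube, hb]
    ring
  have hk : ∀ (k : ℕ) (v : V), e (((g ^ 3) ^ k) v) = b ^ k * e v := by
    intro k
    induction k with
    | zero => intro v; simp
    | succ k ih =>
      intro v
      rw [pow_succ, hmul, ih, h3, pow_succ]
      ring
  refine ⟨b ^ 5, fun v => ?_⟩
  have := hk 5 v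
  rwa [h15] at this

end Cfsg.Agent.Helper5.Sa
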