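import Mathlib
import Cfsg.Agent.Helper7.ScA

set_option autoImplicit false
set_option linter.unusedSectionVars false
set_option linter.unusedVariables false

/-!
Central extensions whose kernel has no element of order `p`: the lifts of order a power of `p` are unique,
lifts of commuting elements of order `p` commute, and over a finite `p`-subgroup the lifts of order a power
of `p` and the commutators of lifts generate a subgroup on which the projection is injective.
-/

namespace Cfsg.Agent.Helper7.Sc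

variable {E Γ : Type*} [Group E] [Group Γ] (C : CExt E Γ)

/-- An element of order a power of `p`. -/
def IsPE (p : ℕ) (e : E) : Prop := ∃ j : ℕ, e ^ (p ^ j) = 1

theorem IsPE.one (p : ℕ) : IsPE p (1 : E) := ⟨0, one_pow _⟩

theorem IsPE.inv {p : ℕ} {e : E} (h : IsPE p e) : IsPE p e⁻¹ := by
  obtain ⟨j, hj⟩ := h
  exact ⟨j, by rw [inv_pow, hj, inv_one]⟩

theorem IsPE.conj {p : ℕ} {e : E} (h : IsPE p e) (a : E) : IsPE p (a * e * a⁻¹) := by
  obtain ⟨j, hj⟩ := h
  exact ⟨j, by rw [conj_pow, hj, mul_one, mul_inv_cancel]⟩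

theorem IsPE.mul {p : ℕ} {a b : E} (hc : a * b = b * a) (ha : IsPE p a) (hb : IsPE p b) :
    IsPE p (a * b) := by
  obtain ⟨j, hj⟩ := ha
  obtain ⟨k, hk⟩ := hb
  refine ⟨j + k, ?_⟩
  have hcm : Commute a b := hc
  rw [hcm.mul_pow, pow_add, pow_mul, hj, one_pow, one_mul, mul_comm (p ^ j), pow_mul, hk, one_pow]

theorem IsPE.of_pow {p : ℕ} {e : E} (h : e ^ p = 1) : IsPE p e := ⟨1, by rw [pow_one, h]⟩

namespace CExt

section nt

variable {p : ℕ} (nt : ∀ z : E, C.ψ z = 1 → z ^ p = 1 → z = 1)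

include nt in
/-- The kernel has no element of order a power of `p`. -/
theorem nt_pow {z : E} (hz : C.ψ z = 1) : ∀ j : ℕ, z ^ (p ^ j) = 1 → z = 1 := by
  intro j
  induction j with
  | zero => intro h; rwa [pow_zero, pow_one] at h
  | succ j ih =>
    intro h
    apply ih
    apply nt
    · rw [map_pow, hz, one_pow]
    · rw [← pow_mul, ← pow_succ, h]

include nt in
theorem eq_one_of_pe {z : E} (hz : C.ψ z = 1) (h : IsPE p z) : z = 1 := by
  obtain ⟨j, hj⟩ := h
  exact C.nt_pow nt hz j hj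

include nt in
/-- Two lifts of one element of orders powers of `p` agree. -/
theorem pe_unique {e e' : E} (h : C.ψ e = C.ψ e') (he : IsPE p e) (he' : IsPE p e') : e = e' := by
  have hz : C.ψ (e⁻¹ * e') = 1 := by rw [map_mul, map_inv, h, inv_mul_cancel]
  have hcomm : e⁻¹ * e' = e' * e⁻¹ := by
    symm
    calc e' * e⁻¹ = e * (e⁻¹ * e') * e⁻¹ := by group
      _ = (e⁻¹ * e') * e * e⁻¹ := by rw [← C.ker_comm hz e]
      _ = e⁻¹ * e' := by group
  have := C.eq_one_of_pe nt hz (IsPE.mul hcomm he.inv he')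
  exact inv_mul_eq_one.mp this

include nt in
/-- Lifts of two commuting elements commute, when one of the lifts has order a power of `p`. -/
theorem comm_of_pe {a b : E} (h1 : C.ψ a * C.ψ b = C.ψ b * C.ψ a) (h2 : IsPE p a) :
    a * b = b * a := by
  obtain ⟨c, hc⟩ : ∃ c : E, c = a * b * a⁻¹ * b⁻¹ := ⟨_, rfl⟩
  have hcψ : C.ψ c = 1 := by
    rw [hc, map_mul, map_mul, map_mul, map_inv, map_inv, h1]
    group
  have hab : a * b = c * (b * a) := by rw [hc]; group
  have hcc : ∀ x : E, c * x = x * c := C.ker_comm hcψ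
  have key : ∀ k : ℕ, a ^ k * b = c ^ k * (b * a ^ k) := by
    intro k
    induction k with
    | zero => simp
    | succ k ih =>
      have hck : ∀ x : E, c ^ k * x = x * c ^ k := fun x => ((Commute.pow_left (hcc x) k)).eq
      calc a ^ (k + 1) * b = a * (a ^ k * b) := by rw [pow_succ']; group
        _ = a * (c ^ k * (b * a ^ k)) := by rw [ih]
        _ = c ^ k * ((a * b) * a ^ k) := by
          rw [← mul_assoc a, ← hck a]; group
        _ = c ^ k * ((c * (b * a)) * a ^ k) := by rw [hab]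
        _ = c ^ (k + 1) * (b * a ^ (k + 1)) := by rw [pow_succ, pow_succ']; group
  obtain ⟨j, hj⟩ := h2
  have := key (p ^ j)
  rw [hj, one_mul, mul_one] at this
  have hcp : c ^ (p ^ j) = 1 := by
    have h3 : c ^ (p ^ j) * b = 1 * b := by rw [one_mul]; exact this.symm
    exact mul_right_cancel h3
  have hc1 : c = 1 := C.nt_pow nt hcψ j hcp
  rw [hab, hc1, one_mul]

include nt in
/-- Lifts of two commuting elements commute, when the `p`-th power of one of them is trivial. -/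
theorem comm_of_pow {a b : E} (h1 : C.ψ a * C.ψ b = C.ψ b * C.ψ a) (h2 : C.ψ a ^ p = 1) :
    a * b = b * a := by
  obtain ⟨c, hc⟩ : ∃ c : E, c = a * b * a⁻¹ * b⁻¹ := ⟨_, rfl⟩
  have hcψ : C.ψ c = 1 := by
    rw [hc, map_mul, map_mul, map_mul, map_inv, map_inv, h1]
    group
  have hab : a * b = c * (b * a) := by rw [hc]; group
  have hcc : ∀ x : E, c * x = x * c := C.ker_comm hcψ
  have key : ∀ k : ℕ, a ^ k * b = c ^ k * (b * a ^ k) := by
    intro k
    induction k with
    | zero => simp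
    | succ k ih =>
      have hck : ∀ x : E, c ^ k * x = x * c ^ k := fun x => ((Commute.pow_left (hcc x) k)).eq
      calc a ^ (k + 1) * b = a * (a ^ k * b) := by rw [pow_succ']; group
        _ = a * (c ^ k * (b * a ^ k)) := by rw [ih]
        _ = c ^ k * ((a * b) * a ^ k) := by
          rw [← mul_assoc a, ← hck a]; group
        _ = c ^ k * ((c * (b * a)) * a ^ k) := by rw [hab]
        _ = c ^ (k + 1) * (b * a ^ (k + 1)) := by rw [pow_succ, pow_succ']; group
  have hap : C.ψ (a ^ p) = 1 := by rw [map_pow, h2]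
  have h4 := key p
  rw [C.ker_comm hap b] at h4
  have hcp : c ^ p = 1 := by
    have h3 : c ^ p * (b * a ^ p) = 1 * (b * a ^ p) := by rw [one_mul]; exact h4.symm
    exact mul_right_cancel h3
  have hc1 : c = 1 := nt c hcψ hcp
  rw [hab, hc1, one_mul]

end nt

/-- The lifts of order a power of `p` of the elements of `U`, and the commutators of lifts of elements of
`U`. -/
def PEgen (p : ℕ) (U : Subgroup Γ) : Set E :=
  {e | (C.ψ e ∈ U ∧ IsPE p e) ∨ ∃ a b : E, C.ψ a ∈ U ∧ C.ψ b ∈ U ∧ e = a * b * a⁻¹ * b⁻¹}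

theorem mem_PEgen_of_pe {p : ℕ} {U : Subgroup Γ} {e : E} (h1 : C.ψ e ∈ U) (h2 : IsPE p e) :
    e ∈ C.PEgen p U := Or.inl ⟨h1, h2⟩

theorem mem_PEgen_of_comm {p : ℕ} {U : Subgroup Γ} {a b : E} (ha : C.ψ a ∈ U) (hb : C.ψ b ∈ U) :
    a * b * a⁻¹ * b⁻¹ ∈ C.PEgen p U := Or.inr ⟨a, b, ha, hb, rfl⟩

section transfer

open scoped IsMulCommutative

variable {p : ℕ} (hp : p.Prime) (nt : ∀ z : E, C.ψ z = 1 → z ^ p = 1 → z = 1)
  (U : Subgroup Γ) (hfin : Finite ↥U) (hU : IsPGroup p ↥U)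

include hp nt hfin hU in
/-- The elements of the subgroup generated by `PEgen p U` have bounded orders, powers of `p`. -/
theorem exists_bound : ∃ m : ℕ, ∀ g ∈ Subgroup.closure (C.PEgen p U), g ^ (p ^ m) = 1 := by
  classical
  have : Fact p.Prime := ⟨hp⟩
  obtain ⟨N, hN⟩ : ∃ N : ℕ, Nat.card ↥U = p ^ N := IsPGroup.iff_card.mp hU
  obtain ⟨Q, hQ⟩ : ∃ Q : Subgroup E, Q = U.comap C.ψ := ⟨_, rfl⟩
  have hQmem : ∀ e : E, e ∈ Q ↔ C.ψ e ∈ U := by intro e; rw [hQ]; exact Subgroup.mem_comap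
  obtain ⟨f, hf⟩ : ∃ f : ↥Q →* Γ, f = C.ψ.comp Q.subtype := ⟨_, rfl⟩
  have hfx : ∀ x : ↥Q, f x = C.ψ x.1 := by intro x; rw [hf]; rfl
  have hfker : f.ker ≤ Subgroup.center ↥Q := by
    intro x hx
    rw [MonoidHom.mem_ker, hfx] at hx
    rw [Subgroup.mem_center_iff]
    intro y
    apply Subtype.ext
    exact (C.ker_comm hx y.1).symm
  have hrange : f.range ≤ U := by
    rintro _ ⟨x, rfl⟩
    rw [hfx]
    exact (hQmem _).mp x.2
  have hidx : f.ker.index ∣ p ^ N := by
    rw [Subgroup.index_ker, ← hN]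
    exact Subgroup.card_dvd_of_le hrange
  have hne : f.ker.index ≠ 0 := by
    intro h
    rw [h] at hidx
    exact (pow_ne_zero N hp.ne_zero) (Nat.eq_zero_of_zero_dvd hidx)
  have : f.ker.FiniteIndex := ⟨hne⟩
  have : (Subgroup.center ↥Q).FiniteIndex := Subgroup.finiteIndex_of_le hfker
  obtain ⟨m', _, hm'⟩ := (Nat.dvd_prime_pow hp).mp ((Subgroup.index_dvd_of_le hfker).trans hidx)
  let pw : ↥(Subgroup.center ↥Q) →* ↥(Subgroup.center ↥Q) :=
    { toFun := fun z => z ^ (p ^ N)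
      map_one' := one_pow _
      map_mul' := fun a b => mul_pow a b _ }
  have hpw : ∀ z : ↥(Subgroup.center ↥Q), pw z = z ^ (p ^ N) := fun z => rfl
  obtain ⟨V, hVdef⟩ : ∃ V : ↥Q →* ↥(Subgroup.center ↥Q),
      V = MonoidHom.comp pw (MonoidHom.transferCenterPow ↥Q) := ⟨_, rfl⟩
  have hV : ∀ x : ↥Q, ((V x : ↥Q) : E) = (x : E) ^ (p ^ (m' + N)) := by
    intro x
    rw [hVdef, MonoidHom.comp_apply, hpw, Subgroup.coe_pow,
      MonoidHom.transferCenterPow_apply, hm', Subgroup.coe_pow, Subgroup.coe_pow, ← pow_mul,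
      ← pow_add]
  refine ⟨m' + N, ?_⟩
  have hle : Subgroup.closure (C.PEgen p U) ≤ (V.ker).map Q.subtype := by
    rw [Subgroup.closure_le]
    rintro e (⟨heU, j, hj⟩ | ⟨a, b, ha, hb, rfl⟩)
    · refine ⟨⟨e, (hQmem e).mpr heU⟩, ?_, rfl⟩
      rw [SetLike.mem_coe, MonoidHom.mem_ker]
      apply Subtype.ext
      apply Subtype.ext
      rw [hV]
      have h1 : e ^ (p ^ N) = 1 := by
        apply C.nt_pow nt (z := e ^ p ^ N) ?_ j ?_
        · rw [map_pow]
          have h2 : (⟨C.ψ e, heU⟩ : ↥U) ^ Nat.card ↥U = 1 := pow_card_eq_one'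
          rw [hN] at h2
          exact congrArg Subtype.val h2
        · rw [← pow_mul, mul_comm, pow_mul, hj, one_pow]
      change e ^ (p ^ (m' + N)) = 1
      rw [pow_add, mul_comm, pow_mul, h1, one_pow]
    · refine ⟨⟨a, (hQmem a).mpr ha⟩ * ⟨b, (hQmem b).mpr hb⟩ * (⟨a, (hQmem a).mpr ha⟩ : ↥Q)⁻¹ *
        (⟨b, (hQmem b).mpr hb⟩ : ↥Q)⁻¹, ?_, rfl⟩
      rw [SetLike.mem_coe, MonoidHom.mem_ker]
      simp only [map_mul, map_inv]
      rw [mul_comm (V _) (V _), mul_inv_cancel_right, mul_inv_cancel]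
  intro g hg
  obtain ⟨x, hx, rfl⟩ := hle hg
  have h := hV x
  rw [MonoidHom.mem_ker.mp hx] at h
  exact h.symm

include hp nt hfin hU in
/-- The projection is injective on the subgroup generated by `PEgen p U`. -/
theorem closure_inj {g g' : E} (hg : g ∈ Subgroup.closure (C.PEgen p U))
    (hg' : g' ∈ Subgroup.closure (C.PEgen p U)) (h : C.ψ g = C.ψ g') : g = g' := by
  obtain ⟨m, hm⟩ := C.exists_bound hp nt U hfin hU
  have h1 : C.ψ (g * g'⁻¹) = 1 := by rw [map_mul, map_inv, h, mul_inv_cancel]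
  have h2 := hm _ (mul_mem hg (inv_mem hg'))
  exact mul_inv_eq_one.mp (C.nt_pow nt h1 m h2)

include hp nt hfin hU in
/-- The elements of the subgroup generated by `PEgen p U` have orders powers of `p`. -/
theorem pe_of_closure {g : E} (hg : g ∈ Subgroup.closure (C.PEgen p U)) : IsPE p g := by
  obtain ⟨m, hm⟩ := C.exists_bound hp nt U hfin hU
  exact ⟨m, hm g hg⟩

end transfer

end CExt

end Cfsg.Agent.Helper7.Sc
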