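import Mathlib
import Cfsg.Agent.Helper7.ScP1
import Cfsg.Agent.Helper7.ScI

set_option autoImplicit false
set_option linter.unusedSectionVars false
set_option linter.unusedVariables false

/-!
Central extensions, whose kernel has no element of order `p`, of a group with elements `xb r t` whose
subgroup of the positive roots is a finite `p`-group: when the elements `xb r t` have lifts of order a power
of `p`, these lifts satisfy the relations (R1) and (R2).
-/

namespace Cfsg.Agent.Helper7.Sc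

open Cfsg Cfsg.Lie Cfsg.Agent.Helper7.Chev Cfsg.Agent.Helper7.St

section tables

variable {D : ChevalleyDatum} {K : Type*} [Field K] {Γ : Type*} [Group Γ] {S : StD D K Γ}

/-- A fundamental reflection maps the negative roots other than the negative of its root to negative
roots. -/
theorem refl_neg_of_neg_H (H : S.Hyp) {i : ℕ} (hi : i < D.rank) {s : ℕ} (hs : s < D.nroots)
    (hneg : s < D.nroots / 2) (hne : s ≠ D.neg (D.simple i)) :
    (tabOf D).refl (D.simple i) s < D.nroots / 2 := by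
  have hG := H.hG
  have hG1 := hG.toGood1
  have h8 := H.h8
  have hnegf : ∀ k, k < D.nroots → D.neg k = D.nroots - 1 - k := fun k hk => (h8.1 k hk).1
  have heven : D.nroots % 2 = 0 := h8.2
  have hns := hG1.neg_lt hs
  have h1 : D.nroots / 2 ≤ D.neg s := by rw [hnegf s hs]; omega
  have h2 : D.neg s ≠ D.simple i := by
    intro h
    apply hne
    rw [← h, hG1.neg_neg hs]
  have h6 := (H.h6 i hi (D.neg s) hns h1 h2).1
  change D.nroots / 2 ≤ (tabOf D).refl (D.simple i) (D.neg s) at h6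
  rw [hG.refl_neg hi hs, hnegf _ (hG.refl_lt hi hs)] at h6
  have := hG.refl_lt hi hs
  omega

/-- Two roots `s ≠ ± r` are carried to positive roots by a word. -/
theorem exists_pos_word_H (H : S.Hyp) (horb : ∃ orb, (tabOf D).T29 orb) {r s : ℕ}
    (hr : r < D.nroots) (hs : s < D.nroots) (hsr : s ≠ r) (hsn : s ≠ D.neg r) :
    ∃ w : List ℕ, (∀ i ∈ w, i < D.rank) ∧ D.nroots / 2 ≤ (tabOf D).reflWord w r ∧
      D.nroots / 2 ≤ (tabOf D).reflWord w s := by
  have hG := H.hG
  have hG1 := hG.toGood1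
  obtain ⟨orb, h29⟩ := horb
  obtain ⟨w₀, hw₀1, hw₀2, hw₀3⟩ := H.hw₀
  obtain ⟨hw1, hi, hrw⟩ := h29 r hr
  obtain ⟨w₁, hw₁⟩ : ∃ w₁, w₁ = (orb.getD r ([], 0)).1 := ⟨_, rfl⟩
  obtain ⟨i, hi'⟩ : ∃ i, i = (orb.getD r ([], 0)).2 := ⟨_, rfl⟩
  rw [← hw₁] at hw1 hrw
  rw [← hi'] at hi hrw
  change i < D.rank at hi
  change (tabOf D).reflWord w₁ (D.simple i) = r at hrw
  have hw1' : ∀ k ∈ w₁, k < D.rank := by
    intro k hk
    rw [List.all_eq_true] at hw1
    exact of_decide_eq_true (hw1 k hk)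
  have hw1r : ∀ k ∈ w₁.reverse, k < D.rank := fun k hk => hw1' k (List.mem_reverse.mp hk)
  have hp := hG1.simple_lt hi
  have hr1 : (tabOf D).reflWord w₁.reverse r = D.simple i := by
    rw [← hrw]
    exact reflWord_reverse hG hw1' hp
  have hs1 := reflWord_lt hG hw1r hs
  have hne1 : (tabOf D).reflWord w₁.reverse s ≠ D.simple i := by
    rw [← hr1]
    exact fun h => hsr (reflWord_injective hG hw1r hs hr h)
  have hne2 : (tabOf D).reflWord w₁.reverse s ≠ D.neg (D.simple i) := by
    rw [← hr1, ← reflWord_neg hG hw1r hr]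
    exact fun h => hsn (reflWord_injective hG hw1r hs (hG1.neg_lt hr) h)
  have hppos : D.nroots / 2 ≤ D.simple i := (H.h5 i hi).1
  by_cases hpos : D.nroots / 2 ≤ (tabOf D).reflWord w₁.reverse s
  · exact ⟨w₁.reverse, hw1r, by rw [hr1]; exact hppos, hpos⟩
  · have hwr : ∀ k ∈ w₀.reverse, k < D.rank := fun k hk => hw₀1 k (List.mem_reverse.mp hk)
    refine ⟨w₀.reverse ++ ([i] ++ w₁.reverse), ?_, ?_, ?_⟩
    · intro k hk
      rcases List.mem_append.mp hk with h | h
      · exact hwr k h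
      · rcases List.mem_append.mp h with h | h
        · rw [List.mem_singleton.mp h]; exact hi
        · exact hw1r k h
    · rw [reflWord_append, reflWord_append, hr1]
      change D.nroots / 2 ≤ (tabOf D).reflWord w₀.reverse ((tabOf D).refl (D.simple i) (D.simple i))
      rw [refl_self]
      exact hw₀3 _ (hG1.neg_lt hp) (H.h5m i hi).1
    · rw [reflWord_append, reflWord_append]
      change D.nroots / 2 ≤ (tabOf D).reflWord w₀.reverse
        ((tabOf D).refl (D.simple i) ((tabOf D).reflWord w₁.reverse s))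
      exact hw₀3 _ (hG.refl_lt hi hs1) (refl_neg_of_neg_H H hi hs1 (by omega) hne2)

/-- The roots of the commutator terms of two distinct positive roots are positive. -/
theorem terms_pos_H (H : S.Hyp) (t7s : (tabOf D).T7s) {r s : ℕ} (hr1 : D.nroots / 2 ≤ r)
    (hr : r < D.nroots) (hs1 : D.nroots / 2 ≤ s) (hs : s < D.nroots) (hsr : s ≠ r) :
    ∀ c ∈ D.commTerms r s, D.nroots / 2 ≤ c.1 ∧ c.1 < D.nroots := by
  intro c hc
  rcases Nat.lt_or_gt_of_ne hsr with h | h
  · have h7 := t7s s hs hs1 r hr h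
    rw [List.all_eq_true] at h7
    exact of_decide_eq_true (h7 c (by rw [commTerms_eq]; exact hc))
  · have h7 := H.h7 r hr hr1 s hs h
    rw [List.all_eq_true] at h7
    have := of_decide_eq_true (h7 c (by rw [commTerms_eq]; exact hc))
    exact ⟨by omega, this.2⟩

end tables

/-- The data of a central extension, whose kernel has no element of order `p`, of a group with elements
`xb r t` whose subgroup of the positive roots is a finite `p`-group, with the table facts. -/
structure CtxB {D : ChevalleyDatum} {K : Type*} [Field K] {Γ : Type*} [Group Γ] (S : StD D K Γ)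
    (E : Type*) [Group E] (p : ℕ) where
  /-- the central extension -/
  C : CExt E Γ
  H : S.Hyp
  h3 : (tabOf D).T3
  t7s : (tabOf D).T7s
  orb : ∃ orb, (tabOf D).T29 orb
  hp : p.Prime
  nt : ∀ z : E, C.ψ z = 1 → z ^ p = 1 → z = 1
  finU : Finite ↥S.Ub
  pU : IsPGroup p ↥S.Ub

variable {D : ChevalleyDatum} {K : Type*} [Field K] {Γ E : Type*} [Group Γ] [Group E]
  {S : StD D K Γ} {p : ℕ} (X : CtxB S E p)

namespace CtxB

/-- The elements `xb r t` have lifts of order a power of `p`. -/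
def PL (r : ℕ) : Prop := ∀ t : K, ∃ e : E, X.C.ψ e = S.xb r t ∧ IsPE p e

open Classical in
/-- The lift of `xb r t` of order a power of `p`. -/
noncomputable def y (r : ℕ) (t : K) : E :=
  if h : ∃ e : E, X.C.ψ e = S.xb r t ∧ IsPE p e then Classical.choose h else 1

theorem y_eq {r : ℕ} {t : K} {e : E} (he : X.C.ψ e = S.xb r t) (hpe : IsPE p e) : X.y r t = e := by
  have h : ∃ e : E, X.C.ψ e = S.xb r t ∧ IsPE p e := ⟨e, he, hpe⟩
  unfold y
  rw [dif_pos h]
  exact X.C.pe_unique X.nt ((Classical.choose_spec h).1.trans he.symm) (Classical.choose_spec h).2 hpe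

theorem ψ_y {r : ℕ} (h : X.PL r) (t : K) : X.C.ψ (X.y r t) = S.xb r t := by
  obtain ⟨e, he, hpe⟩ := h t
  rw [X.y_eq he hpe, he]

theorem pe_y {r : ℕ} (h : X.PL r) (t : K) : IsPE p (X.y r t) := by
  obtain ⟨e, he, hpe⟩ := h t
  rw [X.y_eq he hpe]
  exact hpe

theorem y_add {r : ℕ} (hr : r < D.nroots) (h : X.PL r) (t u : K) :
    X.y r t * X.y r u = X.y r (t + u) := by
  symm
  apply X.y_eq
  · rw [map_mul, X.ψ_y h, X.ψ_y h, S.add r hr]
  · apply IsPE.mul _ (X.pe_y h t) (X.pe_y h u)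
    apply X.C.comm_of_pe X.nt _ (X.pe_y h t)
    rw [X.ψ_y h, X.ψ_y h, S.add r hr, S.add r hr, add_comm]

/-- Conjugation of the lifts by a lift of an element acting through a word. -/
theorem kap_y_of_MonE {n : Γ} {w : List ℕ} {ε : ℕ → K} (hM : S.MonE n w ε) {r : ℕ}
    (hr : r < D.nroots) (h : X.PL r) (t : K) :
    X.C.kap n (X.y r t) = X.y ((tabOf D).reflWord w r) (ε r * t) := by
  symm
  apply X.y_eq
  · rw [X.C.ψ_kap, X.ψ_y h, (hM.2 r hr).2.2]
  · rw [X.C.kap_apply]
    exact (X.pe_y h t).conj _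

/-- The lifts of order a power of `p` are carried along by the words. -/
theorem PL_of_MonE {n : Γ} {w : List ℕ} {ε : ℕ → K} (hM : S.MonE n w ε) {r : ℕ}
    (hr : r < D.nroots) (h : X.PL r) : X.PL ((tabOf D).reflWord w r) := by
  intro t
  refine ⟨X.C.kap n (X.y r ((ε r)⁻¹ * t)), ?_, ?_⟩
  · rw [X.C.ψ_kap, X.ψ_y h, (hM.2 r hr).2.2, ← mul_assoc, mul_inv_cancel₀ (hM.2 r hr).1, one_mul]
  · rw [X.C.kap_apply]
    exact (X.pe_y h _).conj _

/-- The product of the lifts along a word. -/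
noncomputable def wdY (w : List (ℕ × K)) : E := (w.map fun q => X.y q.1 q.2).prod

theorem ψ_wdY (hpl : ∀ r, r < D.nroots → X.PL r) (w : List (ℕ × K))
    (hw : ∀ q ∈ w, q.1 < D.nroots) : X.C.ψ (X.wdY w) = S.wd w := by
  unfold wdY StD.wd
  induction w with
  | nil => simp
  | cons q w ih =>
    rw [List.map_cons, List.prod_cons, List.map_cons, List.prod_cons, map_mul,
      X.ψ_y (hpl _ (hw q List.mem_cons_self)), ih (fun q' hq' => hw q' (List.mem_cons_of_mem _ hq'))]

/-- The subgroup generated by the lifts of order a power of `p` of the elements of the subgroup of the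
positive roots, and by the commutators of lifts of its elements. -/
def Ypos : Subgroup E := Subgroup.closure (X.C.PEgen p S.Ub)

theorem y_mem_Ypos {r : ℕ} (hr : r < D.nroots) (hpos : D.nroots / 2 ≤ r) (h : X.PL r) (t : K) :
    X.y r t ∈ X.Ypos := by
  apply Subgroup.subset_closure
  apply X.C.mem_PEgen_of_pe _ (X.pe_y h t)
  rw [X.ψ_y h]
  exact S.xb_mem_XS hr hpos t

theorem wdY_mem_Ypos (hpl : ∀ r, r < D.nroots → X.PL r) (w : List (ℕ × K))
    (hw : ∀ q ∈ w, D.nroots / 2 ≤ q.1 ∧ q.1 < D.nroots) : X.wdY w ∈ X.Ypos := by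
  apply Subgroup.list_prod_mem
  intro x hx
  rw [List.mem_map] at hx
  obtain ⟨q, hq, rfl⟩ := hx
  exact X.y_mem_Ypos (hw q hq).2 (hw q hq).1 (hpl _ (hw q hq).2) _

theorem Ypos_inj {g g' : E} (hg : g ∈ X.Ypos) (hg' : g' ∈ X.Ypos) (h : X.C.ψ g = X.C.ψ g') :
    g = g' :=
  X.C.closure_inj X.hp X.nt S.Ub X.finU X.pU hg hg' h

theorem pe_of_Ypos {g : E} (hg : g ∈ X.Ypos) : IsPE p g :=
  X.C.pe_of_closure X.hp X.nt S.Ub X.finU X.pU hg

/-- The commutator relation for the lifts of the pair `(r, s)`. -/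
def R2y (r s : ℕ) : Prop :=
  ∀ t u : K, X.y s u * X.y r t = X.y r t * X.y s u * X.wdY (D.commWord K r s t u)

include X in
theorem neg_lt_half {r : ℕ} (hr1 : D.nroots / 2 ≤ r) (hr : r < D.nroots) :
    D.neg r < D.nroots / 2 := by
  have := (X.H.h8.1 r hr).1
  change D.neg r = D.nroots - 1 - r at this
  have heven : D.nroots % 2 = 0 := X.H.h8.2
  omega

/-- The commutator relations for the lifts of the pairs of distinct positive roots. -/
theorem R2y_pos (hpl : ∀ r, r < D.nroots → X.PL r) {r s : ℕ} (hr1 : D.nroots / 2 ≤ r)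
    (hr : r < D.nroots) (hs1 : D.nroots / 2 ≤ s) (hs : s < D.nroots) (hsr : s ≠ r) :
    X.R2y r s := by
  have hsn : s ≠ D.neg r := by
    have := X.neg_lt_half hr1 hr
    omega
  intro t u
  have hterms : ∀ q ∈ D.commWord K r s t u, D.nroots / 2 ≤ q.1 ∧ q.1 < D.nroots := by
    intro q hq
    unfold ChevalleyDatum.commWord at hq
    rw [List.mem_map] at hq
    obtain ⟨c, hc, rfl⟩ := hq
    exact terms_pos_H X.H X.t7s hr1 hr hs1 hs hsr c hc
  apply X.Ypos_inj
  · exact mul_mem (X.y_mem_Ypos hs hs1 (hpl s hs) u) (X.y_mem_Ypos hr hr1 (hpl r hr) t)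
  · exact mul_mem (mul_mem (X.y_mem_Ypos hr hr1 (hpl r hr) t) (X.y_mem_Ypos hs hs1 (hpl s hs) u))
      (X.wdY_mem_Ypos hpl _ hterms)
  · rw [map_mul, map_mul, map_mul, X.ψ_y (hpl r hr), X.ψ_y (hpl s hs),
      X.ψ_wdY hpl _ (fun q hq => (hterms q hq).2), S.comm r s hr hs hsr hsn t u]
    rfl

/-- Conjugation of a product of the lifts by a lift of an element acting through a word. -/
theorem kap_wdY_of_MonE (hpl : ∀ r, r < D.nroots → X.PL r) {n : Γ} {w : List ℕ} {ε : ℕ → K}
    (hM : S.MonE n w ε) (L : List (ℕ × K)) (hL : ∀ q ∈ L, q.1 < D.nroots) :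
    X.C.kap n (X.wdY L) = X.wdY (L.map fun q => ((tabOf D).reflWord w q.1, ε q.1 * q.2)) := by
  unfold wdY
  induction L with
  | nil => simp
  | cons q L ih =>
    rw [List.map_cons, List.prod_cons, map_mul,
      X.kap_y_of_MonE hM (hL q List.mem_cons_self) (hpl _ (hL q List.mem_cons_self)),
      ih (fun q' hq' => hL q' (List.mem_cons_of_mem _ hq'))]
    simp only [List.map_cons, List.prod_cons]

/-- The commutator relations for the lifts of all pairs of roots. -/
theorem R2y_all (hpl : ∀ r, r < D.nroots → X.PL r) {r s : ℕ} (hr : r < D.nroots)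
    (hs : s < D.nroots) (hsr : s ≠ r) (hsn : s ≠ D.neg r) : X.R2y r s := by
  have hG := X.H.hG
  have hG1 := hG.toGood1
  obtain ⟨w, hw, hwr, hws⟩ := exists_pos_word_H X.H X.orb hr hs hsr hsn
  obtain ⟨n, hn, ε, hM⟩ := X.H.exists_Nb_of_word w hw
  have hr' := reflWord_lt hG hw hr
  have hs' := reflWord_lt hG hw hs
  have hsr' : (tabOf D).reflWord w s ≠ (tabOf D).reflWord w r :=
    fun h => hsr (reflWord_injective hG hw hs hr h)
  have hterms : ∀ c ∈ D.commTerms r s, D.nroots / 2 ≤ (tabOf D).reflWord w c.1 ∧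
      (tabOf D).reflWord w c.1 < D.nroots := by
    intro c hc
    obtain ⟨c', hc', e⟩ := commTerms_reflWord hG X.h3 hw hr hs hsr hsn c
      (by rw [commTerms_eq]; exact hc)
    rw [commTerms_eq] at hc'
    rw [← e]
    exact terms_pos_H X.H X.t7s hwr hr' hws hs' hsr' c' hc'
  have hlt : ∀ c ∈ D.commTerms r s, c.1 < D.nroots := by
    intro c hc
    obtain ⟨orb, h29⟩ := X.orb
    obtain ⟨_, hi, _⟩ := h29 r hr
    have h := (X.h3 _ hi r hr s hs hsr hsn).2
    rw [List.all_eq_true] at h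
    exact of_decide_eq_true (h c (by rw [commTerms_eq]; exact hc))
  intro t u
  have hLlt : ∀ q ∈ D.commWord K r s t u, q.1 < D.nroots := by
    intro q hq
    unfold ChevalleyDatum.commWord at hq
    rw [List.mem_map] at hq
    obtain ⟨c, hc, rfl⟩ := hq
    exact hlt c hc
  have hZ : X.C.kap n ((X.y r t * X.y s u)⁻¹ * (X.y s u * X.y r t)) ∈ X.Ypos := by
    rw [map_mul, map_inv, map_mul, map_mul, X.kap_y_of_MonE hM hr (hpl r hr),
      X.kap_y_of_MonE hM hs (hpl s hs)]
    exact mul_mem (inv_mem (mul_mem (X.y_mem_Ypos hr' hwr (hpl _ hr') _)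
      (X.y_mem_Ypos hs' hws (hpl _ hs') _)))
      (mul_mem (X.y_mem_Ypos hs' hws (hpl _ hs') _) (X.y_mem_Ypos hr' hwr (hpl _ hr') _))
  have hW : X.C.kap n (X.wdY (D.commWord K r s t u)) ∈ X.Ypos := by
    rw [X.kap_wdY_of_MonE hpl hM _ hLlt]
    apply X.wdY_mem_Ypos hpl
    intro q hq
    rw [List.mem_map] at hq
    obtain ⟨q', hq', rfl⟩ := hq
    unfold ChevalleyDatum.commWord at hq'
    rw [List.mem_map] at hq'
    obtain ⟨c, hc, rfl⟩ := hq'
    exact hterms c hc
  have hψ : X.C.ψ (X.C.kap n ((X.y r t * X.y s u)⁻¹ * (X.y s u * X.y r t))) =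
      X.C.ψ (X.C.kap n (X.wdY (D.commWord K r s t u))) := by
    rw [X.C.ψ_kap, X.C.ψ_kap, map_mul, map_inv, map_mul, map_mul, X.ψ_y (hpl r hr),
      X.ψ_y (hpl s hs), X.ψ_wdY hpl _ hLlt, S.comm r s hr hs hsr hsn t u]
    congr 2
    unfold StD.wd
    group
  have := X.Ypos_inj hZ hW hψ
  have e := (X.C.kap n).injective this
  rw [inv_mul_eq_iff_eq_mul] at e
  rw [e, mul_assoc]

end CtxB

/-- A central extension of the presented group splits, when the elements `xb r t` have lifts of order a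
power of `p`. -/
theorem splits_of_ctxB {D : ChevalleyDatum} {K : Type*} [Field K]
    (hD : D ∈ [chevG2, chevB2, chevD4, chevF4, chevE6, chevE7, chevE8]) {E : Type*} [Group E] {p : ℕ}
    (X : CtxB (coverStd (K := K) hD) E p) (hpl : ∀ r, r < D.nroots → X.PL r) :
    ∃ τ : D.SteinbergCover K →* E, X.C.ψ.comp τ = MonoidHom.id _ := by
  have hlift : ∀ (r : ℕ) (t : K), r < D.nroots →
      FreeGroup.lift (fun q : Fin D.nroots × K => X.y q.1.val q.2) (D.stX r t) = X.y r t := by
    intro r t hr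
    unfold ChevalleyDatum.stX
    rw [dif_pos hr, FreeGroup.lift_apply_of]
  have hword : ∀ w : List (ℕ × K), (∀ q ∈ w, q.1 < D.nroots) →
      FreeGroup.lift (fun q : Fin D.nroots × K => X.y q.1.val q.2) (D.stWord w) = X.wdY w := by
    intro w hw
    unfold ChevalleyDatum.stWord CtxB.wdY
    induction w with
    | nil => simp
    | cons q w ih =>
      rw [List.map_cons, List.prod_cons, map_mul, hlift _ _ (hw q List.mem_cons_self),
        ih (fun q' hq' => hw q' (List.mem_cons_of_mem _ hq')), List.map_cons, List.prod_cons]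
  have hrels : ∀ g ∈ D.steinbergRelsAB K,
      FreeGroup.lift (fun q : Fin D.nroots × K => X.y q.1.val q.2) g = 1 := by
    intro g hg
    rcases hg with ⟨r, t₁, t₂, hr, rfl⟩ | ⟨r, s, t, u, hr, hs, hsr, hsn, rfl⟩
    · rw [map_mul, map_mul, map_inv, hlift _ _ hr, hlift _ _ hr, hlift _ _ hr,
        X.y_add hr (hpl r hr), mul_inv_cancel]
    · have hlt : ∀ q ∈ D.commWord K r s t u, q.1 < D.nroots := by
        intro q hq
        unfold ChevalleyDatum.commWord at hq
        rw [List.mem_map] at hq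
        obtain ⟨c, hc, rfl⟩ := hq
        obtain ⟨orb, h29⟩ := X.orb
        obtain ⟨_, hi, _⟩ := h29 r hr
        have h := (X.h3 _ hi r hr s hs hsr hsn).2
        rw [List.all_eq_true] at h
        exact of_decide_eq_true (h c (by rw [commTerms_eq]; exact hc))
      rw [map_mul, map_mul, map_mul, map_mul, map_inv, map_inv, map_inv, hlift _ _ hr, hlift _ _ hs,
        hword _ hlt, mul_assoc ((X.y s u)⁻¹ * (X.y r t)⁻¹), X.R2y_all hpl hr hs hsr hsn t u]
      group
  refine ⟨PresentedGroup.toGroup hrels, ?_⟩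
  apply PresentedGroup.ext
  intro q
  rw [MonoidHom.comp_apply, PresentedGroup.toGroup.of, MonoidHom.id_apply, X.ψ_y (hpl _ q.1.2)]
  rw [coverStd_xb]
  unfold ChevalleyDatum.stX
  rw [dif_pos q.1.2]
  rfl

end Cfsg.Agent.Helper7.Sc
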