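import Mathlib
import Cfsg.Agent.Helper7.ScP2

set_option autoImplicit false
set_option linter.unusedSectionVars false
set_option linter.unusedVariables false

/-!
Lifts of order a power of `p` of the elements `xb r t` in a central extension whose kernel has no element
of order `p`: from an element of the torus acting on the root by a scalar other than `1`, from a commutator
formula of two positive roots with one term, and along the words in the fundamental reflections.
-/

namespace Cfsg.Agent.Helper7.Chev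

open Cfsg Cfsg.Lie

namespace Tab

variable (T : Tab)

/-- Some root `γ` has `⟨r, γ⟩` odd. -/
def oddB (r : ℕ) : Bool := (List.range T.n).any fun γ => decide (T.pairing γ r % 2 = 1)

/-- The root `r` is the root of the commutator formula with one term of two distinct positive roots, the
term being linear in both parameters with coefficient `± 1`, or `± 2` when `two` holds. -/
def cmB (two : Bool) (r : ℕ) : Bool :=
  (List.range T.n).any fun a => (List.range T.n).any fun b =>
    decide (T.n / 2 ≤ a) && decide (T.n / 2 ≤ b) && decide (b ≠ a) &&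
    match T.commTerms a b with
    | [c] => decide (c.1 = r) && (decide (c.2.1 = 1) || decide (c.2.1 = -1) ||
        (two && (decide (c.2.1 = 2) || decide (c.2.1 = -2)))) && decide (c.2.2.1 = 1) &&
        decide (c.2.2.2 = 1)
    | _ => false

/-- The `i`-th fundamental root pairs oddly with some root, when `odd` holds, or one of its images under
the fundamental reflections is as in `cmB`. -/
def plB (two odd : Bool) (i : ℕ) : Bool :=
  (odd && T.oddB (T.simple i)) ||
    (List.range T.l).any fun j => T.cmB two (T.refl (T.simple j) (T.simple i))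

/-- Each fundamental root is as in `plB`. -/
def TPL (two odd : Bool) : Prop := AllLt T.l (fun i => T.plB two odd i = true)

instance (two odd : Bool) : Decidable (T.TPL two odd) := by unfold TPL; infer_instance

end Tab

set_option maxRecDepth 1000000 in
set_option maxHeartbeats 0 in
theorem TPLfast_G2 : fastG2.TPL true true := by decide +kernel

theorem TPL_G2 : (tabOf chevG2).TPL true true := tab_G2 ▸ TPLfast_G2

set_option maxRecDepth 1000000 in
set_option maxHeartbeats 0 in
theorem TPLfast_B2 : fastB2.TPL true true := by decide +kernel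

theorem TPL_B2 : (tabOf chevB2).TPL true true := tab_B2 ▸ TPLfast_B2

set_option maxRecDepth 1000000 in
set_option maxHeartbeats 0 in
theorem TPLfast_D4 : fastD4.TPL false false := by decide +kernel

theorem TPL_D4 : (tabOf chevD4).TPL false false := tab_D4 ▸ TPLfast_D4

set_option maxRecDepth 1000000 in
set_option maxHeartbeats 0 in
theorem TPLfast_F4 : fastF4.TPL false false := by decide +kernel

theorem TPL_F4 : (tabOf chevF4).TPL false false := tab_F4 ▸ TPLfast_F4

end Cfsg.Agent.Helper7.Chev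

namespace Cfsg.Agent.Helper7.Sc

open Cfsg Cfsg.Lie Cfsg.Agent.Helper7.Chev Cfsg.Agent.Helper7.St

variable {D : ChevalleyDatum} {K : Type*} [Field K] {Γ E : Type*} [Group Γ] [Group E]
  {S : StD D K Γ} {p : ℕ} (X : CtxB S E p)

theorem xb_pow_S (S : StD D K Γ) {r : ℕ} (hr : r < D.nroots) (t : K) (k : ℕ) :
    S.xb r t ^ k = S.xb r ((k : K) * t) := by
  induction k with
  | zero => rw [pow_zero, Nat.cast_zero, zero_mul, S.xb_zero hr]
  | succ k ih =>
    rw [pow_succ, ih, S.add r hr]
    congr 1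
    push_cast
    ring

theorem xb_pow_char (S : StD D K Γ) (p : ℕ) [CharP K p] {r : ℕ} (hr : r < D.nroots) (t : K) :
    S.xb r t ^ p = 1 := by
  rw [xb_pow_S S hr, CharP.cast_eq_zero, zero_mul, S.xb_zero hr]

namespace CtxB

/-- Lifts of order `p` from an element acting on the root by a scalar other than `1`. -/
theorem PL_of_torus {r : ℕ} (hr : r < D.nroots) (hxp : ∀ t : K, S.xb r t ^ p = 1) {h : Γ}
    {χ : ℕ → K} (hh : S.TorE h χ) (hχ : χ r ≠ 1) : X.PL r := by
  intro t
  have hb : χ r - 1 ≠ 0 := sub_ne_zero.mpr hχ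
  obtain ⟨t', ht'⟩ : ∃ t' : K, t' = (χ r - 1)⁻¹ * t := ⟨_, rfl⟩
  obtain ⟨x, hx⟩ : ∃ x : E, x = X.C.lf (S.xb r t') := ⟨_, rfl⟩
  have hxψ : X.C.ψ x = S.xb r t' := by rw [hx, X.C.ψ_lf]
  have hkψ : X.C.ψ (X.C.kap h x) = S.xb r (χ r * t') := by
    rw [X.C.ψ_kap, hxψ, (hh r hr).2]
  refine ⟨X.C.kap h x * x⁻¹, ?_, ?_⟩
  · rw [map_mul, map_inv, hkψ, hxψ, S.xb_inv hr, S.add r hr]
    congr 1
    rw [ht']
    field_simp
    ring
  · apply IsPE.of_pow
    have hcomm : X.C.kap h x * x⁻¹ = x⁻¹ * X.C.kap h x := by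
      apply X.C.comm_of_pow X.nt
      · rw [map_inv, hkψ, hxψ, S.xb_inv hr, S.add r hr, S.add r hr, add_comm]
      · rw [hkψ, hxp]
    have hcm : Commute (X.C.kap h x) x⁻¹ := hcomm
    have hxp' : X.C.ψ (x ^ p) = 1 := by rw [map_pow, hxψ, hxp]
    rw [hcm.mul_pow, ← map_pow, X.C.kap_ker hxp', inv_pow, mul_inv_cancel]

/-- Lifts of order a power of `p` from a commutator formula of two positive roots with one term. -/
theorem PL_of_comm {a b : ℕ} (ha1 : D.nroots / 2 ≤ a) (ha : a < D.nroots)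
    (hb1 : D.nroots / 2 ≤ b) (hb : b < D.nroots) (hba : b ≠ a) {c : ℕ × ℤ × ℕ × ℕ}
    (hct : D.commTerms a b = [c]) (hc1 : c.2.2.1 = 1) (hc2 : c.2.2.2 = 1)
    (hc0 : ((c.2.1 : ℤ) : K) ≠ 0) : X.PL c.1 := by
  intro t₀
  have hbn : b ≠ D.neg a := by
    have := X.neg_lt_half ha1 ha
    omega
  obtain ⟨t, ht⟩ : ∃ t : K, t = -(((c.2.1 : ℤ) : K)⁻¹ * t₀) := ⟨_, rfl⟩
  have hrel := S.comm a b ha hb hba hbn t 1
  unfold ChevalleyDatum.commWord at hrel
  rw [hct] at hrel
  simp only [List.map_cons, List.map_nil, List.prod_cons, List.prod_nil, mul_one] at hrel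
  rw [hc1, hc2] at hrel
  have eparam : ((c.2.1 : ℤ) : K) * (-t) ^ 1 * 1 ^ 1 = t₀ := by
    rw [one_pow, mul_one, pow_one, ht, neg_neg, ← mul_assoc, mul_inv_cancel₀ hc0, one_mul]
  rw [eparam] at hrel
  obtain ⟨α, hα⟩ : ∃ α : E, α = (X.C.lf (S.xb b 1))⁻¹ := ⟨_, rfl⟩
  obtain ⟨β, hβ⟩ : ∃ β : E, β = (X.C.lf (S.xb a t))⁻¹ := ⟨_, rfl⟩
  have hαψ : X.C.ψ α = (S.xb b 1)⁻¹ := by rw [hα, map_inv, X.C.ψ_lf]
  have hβψ : X.C.ψ β = (S.xb a t)⁻¹ := by rw [hβ, map_inv, X.C.ψ_lf]
  have hαU : X.C.ψ α ∈ S.Ub := by rw [hαψ]; exact inv_mem (S.xb_mem_XS hb hb1 1)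
  have hβU : X.C.ψ β ∈ S.Ub := by rw [hβψ]; exact inv_mem (S.xb_mem_XS ha ha1 t)
  refine ⟨α * β * α⁻¹ * β⁻¹, ?_, ?_⟩
  · rw [map_mul, map_mul, map_mul, map_inv, map_inv, hαψ, hβψ, inv_inv, inv_inv]
    have e : S.xb c.1 t₀ = (S.xb a t * S.xb b 1)⁻¹ * (S.xb b 1 * S.xb a t) := by
      rw [hrel]; group
    rw [e]
    group
  · exact X.pe_of_Ypos (Subgroup.subset_closure (X.C.mem_PEgen_of_comm hαU hβU))

/-- Lifts for the fundamental roots give lifts for all roots. -/
theorem PL_all_of_simple (h : ∀ i, i < D.rank → X.PL (D.simple i)) :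
    ∀ r, r < D.nroots → X.PL r := by
  intro r hr
  have hG := X.H.hG
  have hG1 := hG.toGood1
  obtain ⟨orb, h29⟩ := X.orb
  obtain ⟨hw1, hi, hrw⟩ := h29 r hr
  obtain ⟨w₁, hw₁⟩ : ∃ w₁, w₁ = (orb.getD r ([], 0)).1 := ⟨_, rfl⟩
  obtain ⟨i, hi'⟩ : ∃ i, i = (orb.getD r ([], 0)).2 := ⟨_, rfl⟩
  rw [← hw₁] at hw1 hrw
  rw [← hi'] at hi hrw
  change i < D.rank at hi
  change (tabOf D).reflWord w₁ (D.simple i) = r at hrw
  have hw1' : ∀ k ∈ w₁, k < D.rank := by
    intro k hk
    rw [List.all_eq_true] at hw1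
    exact of_decide_eq_true (hw1 k hk)
  obtain ⟨n, _, ε, hM⟩ := X.H.exists_Nb_of_word w₁ hw1'
  have := X.PL_of_MonE hM (hG1.simple_lt hi) (h i hi)
  rwa [hrw] at this

/-- Lifts for the image of a fundamental root under a fundamental reflection give lifts for the root. -/
theorem PL_simple_of_refl {i j : ℕ} (hi : i < D.rank) (hj : j < D.rank)
    (h : X.PL ((tabOf D).refl (D.simple j) (D.simple i))) : X.PL (D.simple i) := by
  have hG := X.H.hG
  have hG1 := hG.toGood1
  have hs := hG1.simple_lt hi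
  have hw : ∀ k ∈ [j], k < D.rank := by
    intro k hk
    rw [List.mem_singleton.mp hk]
    exact hj
  obtain ⟨n, _, ε, hM⟩ := X.H.exists_Nb_of_word [j] hw
  have := X.PL_of_MonE hM (hG.refl_lt hj hs) h
  change X.PL ((tabOf D).refl (D.simple j) ((tabOf D).refl (D.simple j) (D.simple i))) at this
  rwa [hG.refl_refl hj hs] at this

/-- Lifts for the fundamental roots from the table fact. -/
theorem PL_simple_of_TPL {two odd : Bool} (hT : (tabOf D).TPL two odd)
    (hodd : odd = true → (2 : K) ≠ 0) (htwo : two = true → (2 : K) ≠ 0)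
    (hxp : ∀ r, r < D.nroots → ∀ t : K, S.xb r t ^ p = 1) {i : ℕ} (hi : i < D.rank) :
    X.PL (D.simple i) := by
  have hG := X.H.hG
  have hG1 := hG.toGood1
  have hs := hG1.simple_lt hi
  have h : (tabOf D).plB two odd i = true := hT i hi
  unfold Tab.plB at h
  rw [Bool.or_eq_true] at h
  rcases h with h | h
  · rw [Bool.and_eq_true] at h
    obtain ⟨ho, h⟩ := h
    unfold Tab.oddB at h
    rw [List.any_eq_true] at h
    obtain ⟨γ, _, hγ⟩ := h
    have hγ' : (tabOf D).pairing γ (D.simple i) % 2 = 1 := of_decide_eq_true hγ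
    have h2 := hodd ho
    have hm1 : (-1 : K) ≠ 0 := neg_ne_zero.mpr one_ne_zero
    apply X.PL_of_torus hs (hxp _ hs) (X.H.torE_hgam γ hm1)
    have hoddz : Odd ((tabOf D).pairing γ (D.simple i)) := Int.odd_iff.mpr hγ'
    rw [hoddz.neg_one_zpow]
    intro hc
    apply h2
    linear_combination -hc
  · rw [List.any_eq_true] at h
    obtain ⟨j, hj, h⟩ := h
    rw [List.mem_range] at hj
    apply X.PL_simple_of_refl hi hj
    unfold Tab.cmB at h
    rw [List.any_eq_true] at h
    obtain ⟨a, ha, h⟩ := h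
    rw [List.any_eq_true] at h
    obtain ⟨b, hb, h⟩ := h
    rw [List.mem_range] at ha hb
    rw [commTerms_eq] at h
    rcases hct : D.commTerms a b with _ | ⟨c, _ | ⟨c', l⟩⟩
    · rw [hct] at h; simp at h
    · rw [hct] at h
      simp only [Bool.and_eq_true, Bool.or_eq_true, decide_eq_true_eq] at h
      obtain ⟨⟨⟨ha1, hb1⟩, hba⟩, ⟨⟨⟨hcr, hC⟩, hc1⟩, hc2⟩⟩ := h
      change c.1 = (tabOf D).refl (D.simple j) (D.simple i) at hcr
      rw [← hcr]
      apply X.PL_of_comm ha1 ha hb1 hb hba hct hc1 hc2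
      rcases hC with (hC | hC) | ⟨htw, hC | hC⟩
      · rw [hC]; simp
      · rw [hC]; simp
      · rw [hC]; have := htwo htw; simpa using this
      · rw [hC]; have := htwo htw; simpa using this
    · rw [hct] at h; simp at h

end CtxB

end Cfsg.Agent.Helper7.Sc
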