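import Mathlib
import Cfsg.Agent.Helper7.ScP3
import Cfsg.Agent.Helper7.ChevUnique

set_option autoImplicit false
set_option linter.unusedSectionVars false
set_option linter.unusedVariables false

/-!
Over a finite field of characteristic `p`, every central extension, whose kernel has no element of order
`p`, of the group presented by the relators (R1), (R2) of type G2, B2, D4 or F4 splits.
-/

namespace Cfsg.Agent.Helper7.Sc

open Cfsg Cfsg.Lie Cfsg.Agent.Helper7.Chev Cfsg.Agent.Helper7.St

variable {D : ChevalleyDatum} {K : Type*} [Field K]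

/-- The subgroup of the positive roots of the presented group over a finite field of characteristic `p`
is a finite `p`-group. -/
theorem Ub_fin_pgroup (hD : D ∈ [chevG2, chevB2, chevD4, chevF4, chevE6, chevE7, chevE8]) [Finite K]
    (p : ℕ) [Fact p.Prime] [CharP K p] :
    Finite ↥(coverStd (K := K) hD).Ub ∧ IsPGroup p ↥(coverStd (K := K) hD).Ub := by
  classical
  have := Fintype.ofFinite K
  have H := coverStd_hyp (K := K) hD
  obtain ⟨S, hS⟩ : ∃ S, S = coverStd (K := K) hD := ⟨_, rfl⟩
  rw [← hS] at H ⊢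
  have hG3 := good3_of_mem D hD
  obtain ⟨k, _, hq⟩ := FiniteField.card K p
  have hUp : IsPGroup p ↥(D.posUnipotent K) := by
    apply IsPGroup.of_card (n := (k : ℕ) * (D.nroots / 2))
    rw [card_posUnipotent H.hG H.hT hG3.t3 hG3.t4 H.h7 H.h8, hq, pow_mul]
  obtain ⟨g, hg⟩ : ∃ g : ↥S.Ub →* ↥(D.posUnipotent K), ∀ x, ((g x : ↥(D.posUnipotent K)) :
      GL D.Idx K) = S.π x.1 :=
    ⟨(S.π.comp S.Ub.subtype).codRestrict (D.posUnipotent K)
      (fun x => S.π_Ub_le H.hT (Subgroup.mem_map_of_mem _ x.2)), fun x => rfl⟩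
  have hinj : Function.Injective g := by
    intro x y hxy
    apply Subtype.ext
    apply S.Ub_inj H.hG H.hT H.h7 H.h8 x.2 y.2
    rw [← hg, ← hg, hxy]
  exact ⟨Finite.of_injective g hinj, hUp.of_injective g hinj⟩

/-- Over a finite field of characteristic `p`, every central extension, whose kernel has no element of
order `p`, of the presented group of type G2, B2, D4 or F4 splits. -/
theorem cover_splits_fin (hD : D ∈ [chevG2, chevB2, chevD4, chevF4]) [Finite K] (p : ℕ)
    [Fact p.Prime] [CharP K p] (hK : D ∈ [chevB2, chevG2] → ∃ x : K, x ≠ 0 ∧ x ≠ 1)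
    {E : Type*} [Group E] (ψ : E →* D.SteinbergCover K) (hψ : Function.Surjective ψ)
    (hc : ψ.ker ≤ Subgroup.center E) (nt : ∀ z : E, ψ z = 1 → z ^ p = 1 → z = 1) :
    ∃ τ : D.SteinbergCover K →* E, ψ.comp τ = MonoidHom.id _ := by
  have hD7 : D ∈ [chevG2, chevB2, chevD4, chevF4, chevE6, chevE7, chevE8] := by
    simp only [List.mem_cons, List.not_mem_nil, or_false] at hD ⊢
    rcases hD with h | h | h | h <;> simp [h]
  have htab : (tabOf D).TPL false false ∨ (D ∈ [chevB2, chevG2] ∧ (tabOf D).TPL true true) := by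
    simp only [List.mem_cons, List.not_mem_nil, or_false] at hD
    rcases hD with rfl | rfl | rfl | rfl
    · right; exact ⟨by simp, TPL_G2⟩
    · right; exact ⟨by simp, TPL_B2⟩
    · left; exact TPL_D4
    · left; exact TPL_F4
  obtain ⟨hfin, hpU⟩ := Ub_fin_pgroup (K := K) hD7 p
  obtain ⟨X, hX⟩ : ∃ X : CtxB (coverStd (K := K) hD7) E p, X.C.ψ = ψ :=
    ⟨{ C := ⟨ψ, hψ, hc, Cfsg.Agent.S2395.result D hD7 hK⟩
       H := coverStd_hyp hD7
       h3 := (good3_of_mem D hD7).t3
       t7s := T7s_of_mem D hD7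
       orb := T29_of_mem D hD7
       hp := Fact.out
       nt := nt
       finU := hfin
       pU := hpU }, rfl⟩
  have hG1 := X.H.hG.toGood1
  have hxp : ∀ r, r < D.nroots → ∀ t : K, (coverStd (K := K) hD7).xb r t ^ p = 1 :=
    fun r hr t => xb_pow_char _ p hr t
  have hpl : ∀ r, r < D.nroots → X.PL r := by
    rcases htab with htab | ⟨hsm, htab⟩
    · exact X.PL_all_of_simple (fun i hi =>
        X.PL_simple_of_TPL htab (fun h => absurd h (by simp)) (fun h => absurd h (by simp)) hxp hi)
    · by_cases h2 : (2 : K) = 0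
      · obtain ⟨x, hx0, hx1⟩ := hK hsm
        have hx2 : x ^ (2 : ℤ) ≠ 1 := by
          intro h
          apply hx1
          have h3 : (x - 1) ^ 2 = 0 := by
            have h' : x ^ 2 = 1 := by exact_mod_cast h
            linear_combination h' + (1 - x) * h2
          have := pow_eq_zero_iff (two_ne_zero) |>.mp h3
          exact sub_eq_zero.mp this
        intro r hr
        apply X.PL_of_torus hr (hxp r hr) (X.H.torE_hgam r hx0)
        rw [hG1.pairing_self hr]
        exact hx2
      · exact X.PL_all_of_simple (fun i hi =>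
          X.PL_simple_of_TPL htab (fun _ => h2) (fun _ => h2) hxp hi)
  obtain ⟨τ, hτ⟩ := splits_of_ctxB hD7 X hpl
  rw [hX] at hτ
  exact ⟨τ, hτ⟩

end Cfsg.Agent.Helper7.Sc
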