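import Mathlib
import Cfsg.Agent.Helper7.ScA

set_option autoImplicit false
set_option linter.unusedSectionVars false
set_option linter.unusedVariables false

/-!
Unique lifts to a central extension from a perfect group, when the pullback of the extension splits; and
the central elements of order `p` of the general linear group in characteristic `p`.
-/

namespace Cfsg.Agent.Helper7.Sc

section pullback

variable {Δ G₁ E : Type*} [Group Δ] [Group G₁] [Group E] (π₁ : E →* G₁) (σ : Δ →* G₁)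

/-- The pullback of two homomorphisms. -/
def pbSub : Subgroup (E × Δ) where
  carrier := {x | π₁ x.1 = σ x.2}
  mul_mem' := by
    intro a b ha hb
    change π₁ (a * b).1 = σ (a * b).2
    rw [Prod.fst_mul, Prod.snd_mul, map_mul, map_mul, ha, hb]
  one_mem' := by
    change π₁ (1 : E × Δ).1 = σ (1 : E × Δ).2
    rw [Prod.fst_one, Prod.snd_one, map_one, map_one]
  inv_mem' := by
    intro a ha
    change π₁ (a⁻¹).1 = σ (a⁻¹).2
    rw [Prod.fst_inv, Prod.snd_inv, map_inv, map_inv, ha]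

theorem mem_pbSub (x : E × Δ) : x ∈ pbSub π₁ σ ↔ π₁ x.1 = σ x.2 := Iff.rfl

/-- The projection of the pullback to the second factor. -/
def pbSnd : ↥(pbSub π₁ σ) →* Δ := (MonoidHom.snd E Δ).comp (pbSub π₁ σ).subtype

theorem pbSnd_apply (x : ↥(pbSub π₁ σ)) : pbSnd π₁ σ x = x.1.2 := rfl

theorem pbSnd_surjective (hπ : Function.Surjective π₁) : Function.Surjective (pbSnd π₁ σ) := by
  intro d
  obtain ⟨e, he⟩ := hπ (σ d)
  exact ⟨⟨(e, d), (mem_pbSub π₁ σ _).mpr he⟩, rfl⟩

theorem pbSnd_ker_fst {x : ↥(pbSub π₁ σ)} (hx : pbSnd π₁ σ x = 1) : x.1.1 ∈ π₁.ker := by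
  rw [pbSnd_apply] at hx
  rw [MonoidHom.mem_ker, (mem_pbSub π₁ σ _).mp x.2, hx, map_one]

theorem pbSnd_ker_le_center (hc : π₁.ker ≤ Subgroup.center E) :
    (pbSnd π₁ σ).ker ≤ Subgroup.center ↥(pbSub π₁ σ) := by
  intro x hx
  rw [MonoidHom.mem_ker] at hx
  have hcen := hc (pbSnd_ker_fst π₁ σ hx)
  rw [pbSnd_apply] at hx
  rw [Subgroup.mem_center_iff] at hcen ⊢
  intro y
  apply Subtype.ext
  apply Prod.ext
  · exact hcen y.1.1
  · change y.1.2 * x.1.2 = x.1.2 * y.1.2
    rw [hx, mul_one, one_mul]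

/-- Unique lifts to a central extension from a perfect group, when the pullback splits. -/
theorem exists_unique_lift_pb (hperf : commutator Δ = ⊤) (hc : π₁.ker ≤ Subgroup.center E)
    (hsplit : ∃ τ₀ : Δ →* ↥(pbSub π₁ σ), (pbSnd π₁ σ).comp τ₀ = MonoidHom.id Δ) :
    ∃! τ : Δ →* E, π₁.comp τ = σ := by
  obtain ⟨τ₀, hτ₀⟩ := hsplit
  have hτ₀' : ∀ d, (τ₀ d).1.2 = d := by
    intro d
    have := congrArg (fun f => f d) hτ₀
    exact this
  obtain ⟨τ, hτdef⟩ : ∃ τ : Δ →* E,
      τ = ((MonoidHom.fst E Δ).comp (pbSub π₁ σ).subtype).comp τ₀ := ⟨_, rfl⟩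
  have hτ : π₁.comp τ = σ := by
    rw [hτdef]
    apply MonoidHom.ext
    intro d
    change π₁ (τ₀ d).1.1 = σ d
    rw [(mem_pbSub π₁ σ _).mp (τ₀ d).2, hτ₀']
  refine ⟨τ, hτ, ?_⟩
  intro τ' hτ'
  have hdiff : ∀ d, ∀ x : E, (τ d)⁻¹ * τ' d * x = x * ((τ d)⁻¹ * τ' d) := by
    intro d x
    have hz : (τ d)⁻¹ * τ' d ∈ π₁.ker := by
      rw [MonoidHom.mem_ker, map_mul, map_inv]
      have e1 : π₁ (τ d) = σ d := by rw [← hτ]; rfl
      have e2 : π₁ (τ' d) = σ d := by rw [← hτ']; rfl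
      rw [e1, e2, inv_mul_cancel]
    exact (Subgroup.mem_center_iff.mp (hc hz) x).symm
  have hle : commutator Δ ≤ MonoidHom.eqLocus τ' τ := by
    rw [commutator_def, Subgroup.commutator_le]
    intro a _ b _
    change τ' (a * b * a⁻¹ * b⁻¹) = τ (a * b * a⁻¹ * b⁻¹)
    rw [map_mul, map_mul, map_mul, map_inv, map_inv, map_mul, map_mul, map_mul, map_inv, map_inv]
    have ea : τ' a = τ a * ((τ a)⁻¹ * τ' a) := by group
    have eb : τ' b = τ b * ((τ b)⁻¹ * τ' b) := by group
    rw [ea, eb]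
    exact CExt.comm_central_mul (hdiff a) (hdiff b)
  apply MonoidHom.ext
  intro d
  have : d ∈ MonoidHom.eqLocus τ' τ := hle (by rw [hperf]; trivial)
  exact this

end pullback

/-- A central element of the general linear group in characteristic `p` whose `p`-th power is trivial is
trivial. -/
theorem gl_center_pow_char {L : Type*} [Field L] (p : ℕ) [Fact p.Prime] [CharP L p] {n : ℕ}
    {g : GL (Fin n) L} (hg : g ∈ Subgroup.center (GL (Fin n) L)) (hgp : g ^ p = 1) : g = 1 := by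
  obtain ⟨c, hc⟩ := Matrix.GeneralLinearGroup.mem_center_iff_val_mem_range_scalar.mp hg
  rcases Nat.eq_zero_or_pos n with hn | hn
  · subst hn
    apply Units.ext
    exact Subsingleton.elim _ _
  · haveI : Nonempty (Fin n) := ⟨⟨0, hn⟩⟩
    have h1 : (g : Matrix (Fin n) (Fin n) L) ^ p = 1 := by
      rw [← Units.val_pow_eq_pow_val, hgp, Units.val_one]
    rw [← hc, ← map_pow] at h1
    have h2 : c ^ p = 1 := by
      have h3 : Matrix.scalar (Fin n) (c ^ p) = Matrix.scalar (Fin n) 1 := by rw [h1, map_one]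
      exact Matrix.scalar_inj.mp h3
    have h4 : (c - 1) ^ p = 0 := by rw [sub_pow_char, h2, one_pow, sub_self]
    have h5 : c = 1 := sub_eq_zero.mp (pow_eq_zero_iff (Fact.out : p.Prime).ne_zero |>.mp h4)
    apply Units.ext
    rw [← hc, h5, map_one, Units.val_one]

end Cfsg.Agent.Helper7.Sc
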