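import Mathlib
import Cfsg.Agent.Helper7.ScU
import Cfsg.Agent.Helper7.StCertAll

set_option autoImplicit false
set_option Elab.async false

/-!
Table facts of `ScU` for tabulated Chevalley data: the type E8, block 1 of TM1.
-/

namespace Cfsg.Agent.Helper7.Chev

open Cfsg Cfsg.Lie

set_option maxRecDepth 1000000 in
set_option maxHeartbeats 0 in
theorem TM1sub_E8_1_0 : AllLt 3 (fun j => fastE8.TM1row (30 * 1 + (3 * 0 + j))) := by
  decide +kernel

set_option maxRecDepth 1000000 in
set_option maxHeartbeats 0 in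
theorem TM1sub_E8_1_1 : AllLt 3 (fun j => fastE8.TM1row (30 * 1 + (3 * 1 + j))) := by
  decide +kernel

set_option maxRecDepth 1000000 in
set_option maxHeartbeats 0 in
theorem TM1sub_E8_1_2 : AllLt 3 (fun j => fastE8.TM1row (30 * 1 + (3 * 2 + j))) := by
  decide +kernel

set_option maxRecDepth 1000000 in
set_option maxHeartbeats 0 in
theorem TM1sub_E8_1_3 : AllLt 3 (fun j => fastE8.TM1row (30 * 1 + (3 * 3 + j))) := by
  decide +kernel

set_option maxRecDepth 1000000 in
set_option maxHeartbeats 0 in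
theorem TM1sub_E8_1_4 : AllLt 3 (fun j => fastE8.TM1row (30 * 1 + (3 * 4 + j))) := by
  decide +kernel

set_option maxRecDepth 1000000 in
set_option maxHeartbeats 0 in
theorem TM1sub_E8_1_5 : AllLt 3 (fun j => fastE8.TM1row (30 * 1 + (3 * 5 + j))) := by
  decide +kernel

set_option maxRecDepth 1000000 in
set_option maxHeartbeats 0 in
theorem TM1sub_E8_1_6 : AllLt 3 (fun j => fastE8.TM1row (30 * 1 + (3 * 6 + j))) := by
  decide +kernel

set_option maxRecDepth 1000000 in
set_option maxHeartbeats 0 in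
theorem TM1sub_E8_1_7 : AllLt 3 (fun j => fastE8.TM1row (30 * 1 + (3 * 7 + j))) := by
  decide +kernel

set_option maxRecDepth 1000000 in
set_option maxHeartbeats 0 in
theorem TM1sub_E8_1_8 : AllLt 3 (fun j => fastE8.TM1row (30 * 1 + (3 * 8 + j))) := by
  decide +kernel

set_option maxRecDepth 1000000 in
set_option maxHeartbeats 0 in
theorem TM1sub_E8_1_9 : AllLt 3 (fun j => fastE8.TM1row (30 * 1 + (3 * 9 + j))) := by
  decide +kernel

theorem TM1blk_E8_1 : AllLt 30 (fun j => fastE8.TM1row (30 * 1 + j)) := by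
  have h : AllLt (3 * 10) (fun j => fastE8.TM1row (30 * 1 + j)) := by
    refine allLt_of_blocks (P := fun j => fastE8.TM1row (30 * 1 + j)) 10 3 (by norm_num) ?_
    intro i hi
    interval_cases i
    · exact TM1sub_E8_1_0
    · exact TM1sub_E8_1_1
    · exact TM1sub_E8_1_2
    · exact TM1sub_E8_1_3
    · exact TM1sub_E8_1_4
    · exact TM1sub_E8_1_5
    · exact TM1sub_E8_1_6
    · exact TM1sub_E8_1_7
    · exact TM1sub_E8_1_8
    · exact TM1sub_E8_1_9
  exact h

end Cfsg.Agent.Helper7.Chev
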