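import Mathlib
import Cfsg.Agent.Helper7.ScX
import Cfsg.Agent.Helper7.StS
import Cfsg.Agent.Helper7.StZ

set_option autoImplicit false
set_option linter.unusedSectionVars false
set_option linter.unusedVariables false

/-!
The Schur multiplier of the Chevalley groups of type E6, E7, E8 over a finite field, from the order of the
centre of the presented group.
-/

namespace Cfsg.Agent.Helper7.Sc

open Cfsg Cfsg.Lie Cfsg.Agent.Helper7.Chev Cfsg.Agent.Helper7.St

variable {D : ChevalleyDatum} {F : Type*} [Field F] [Fintype F]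

/-- The Schur multiplier of the Chevalley group of type E6, E7 or E8 over a finite field is cyclic of the
order of the centre of the presented group, when this order is one or a prime. -/
theorem schur_E (hD : D ∈ [chevE6, chevE7, chevE8]) {n : ℕ}
    (hn : Nat.card (Subgroup.center (D.SteinbergGroup F)) = n) (hcyc : n = 1 ∨ n.Prime) :
    Cfsg.HasCyclicSchurMultiplier ↥(D.group F) n := by
  have hD7 := mem7_of_memE hD
  have hG := good3_of_mem D hD7
  have hkill : ∀ g ∈ D.steinbergRelsAB F, liftX hG.toGood1 g = 1 :=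
    fun g hg => liftX_relsAB hG hg
  obtain ⟨θ, hθ⟩ : ∃ θ : D.SteinbergCover F →* ↥(D.group F),
      θ = toChev hG (D.steinbergRelsAB F) hkill := ⟨_, rfl⟩
  have hθs : Function.Surjective θ := by rw [hθ]; exact toChev_surjective hG _ hkill
  have hθc : θ.ker ≤ Subgroup.center (D.SteinbergCover F) := by
    intro x hx
    rw [MonoidHom.mem_ker, hθ] at hx
    exact (toChev_ker_mem hD7 (D.steinbergRelsAB F) (le_refl _) hkill hx).2
  -- the kernel is the centre
  have hker : θ.ker = Subgroup.center (D.SteinbergCover F) := by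
    apply le_antisymm hθc
    intro z hz
    rw [MonoidHom.mem_ker]
    have hc : θ z ∈ Subgroup.center ↥(D.group F) := by
      rw [Subgroup.mem_center_iff] at hz ⊢
      intro g
      obtain ⟨y, rfl⟩ := hθs g
      rw [← map_mul, ← map_mul, hz y]
    rw [center_group_eq_bot hD7, Subgroup.mem_bot] at hc
    exact hc
  obtain ⟨e₁, _⟩ := cover_equiv (K := F) hD7
  have hcard : Nat.card ↥θ.ker = n := by
    rw [hker, ← hn]
    exact Nat.card_congr (Subgroup.centerCongr e₁).toEquiv
  have hn0 : n ≠ 0 := by
    rcases hcyc with h | h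
    · rw [h]; exact one_ne_zero
    · exact h.ne_zero
  haveI : Finite ↥θ.ker := Nat.finite_of_card_ne_zero (by rw [hcard]; exact hn0)
  haveI : Finite (D.SteinbergCover F ⧸ θ.ker) :=
    Finite.of_equiv _ (QuotientGroup.quotientKerEquivOfSurjective θ hθs).symm.toEquiv
  haveI : Finite (D.SteinbergCover F) := Finite.of_subgroup_quotient θ.ker
  have hcycK : IsCyclic ↥θ.ker := by
    rcases hcyc with h | h
    · rw [h] at hcard
      haveI : Subsingleton ↥θ.ker := (Nat.card_eq_one_iff_unique.mp hcard).1
      exact isCyclic_of_subsingleton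
    · haveI : Fact n.Prime := ⟨h⟩
      exact isCyclic_of_prime_card hcard
  obtain ⟨e⟩ : Nonempty (Multiplicative (ZMod n) ≃* ↥θ.ker) := by
    rw [← hcard]
    exact ⟨zmodCyclicMulEquiv hcycK⟩
  refine schur_of_universal θ hθs hθc (cover_perfect hD) ?_ e
  intro Γ _ σ hσs hσc
  obtain ⟨τ, hτ, _⟩ := lift_unique0 (K := F) hD σ hσs hσc θ
  exact ⟨τ, hτ⟩

end Cfsg.Agent.Helper7.Sc
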