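import Mathlib

set_option autoImplicit false

/-!
The abstract properties of a non-abelian normal Sylow subgroup of a minimal non-nilpotent group
that are used in the proof that `p`-solvable groups with such Sylow `p`-subgroups have `p`-length
one.
-/

namespace Cfsg.Agent.Helper7.SchSyl

open scoped commutatorElement

/-- a "semi-extraspecial" group of Schmidt type -/
structure SchSyl (p : ℕ) (T : Type*) [Group T] : Prop where
  class2 : ∀ x y : T, ⁅x, y⁆ ∈ Subgroup.center T
  pow_mem : ∀ x : T, x ^ p ∈ Subgroup.center T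
  se : ∀ x : T, x ∉ Subgroup.center T → ∀ z ∈ Subgroup.center T, ∃ s : T, ⁅x, s⁆ = z
  three : p = 3 → Nat.card T ≠ 27
  two : p = 2 → Nat.card T = 8 → ∀ x : T, x ∉ Subgroup.center T → x ^ 2 ≠ 1

theorem mem_center_map_iff {T T' : Type*} [Group T] [Group T'] (e : T ≃* T') (x : T) :
    e x ∈ Subgroup.center T' ↔ x ∈ Subgroup.center T := by
  rw [Subgroup.mem_center_iff, Subgroup.mem_center_iff]
  constructor
  · intro h g
    apply e.injective
    rw [map_mul, map_mul]
    exact h (e g)
  · intro h g
    obtain ⟨g', rfl⟩ := e.surjective g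
    rw [← map_mul, ← map_mul, h g']

theorem SchSyl.of_mulEquiv {p : ℕ} {T T' : Type*} [Group T] [Group T'] (e : T ≃* T')
    (h : SchSyl p T) : SchSyl p T' := by
  have hc : ∀ y : T', y ∈ Subgroup.center T' ↔ e.symm y ∈ Subgroup.center T := by
    intro y
    rw [← mem_center_map_iff e, MulEquiv.apply_symm_apply]
  refine ⟨?_, ?_, ?_, ?_, ?_⟩
  · intro x y
    rw [hc, map_commutatorElement]
    exact h.class2 _ _
  · intro x
    rw [hc, map_pow]
    exact h.pow_mem _
  · intro x hx z hz
    obtain ⟨s, hs⟩ := h.se (e.symm x) (fun hmem => hx ((hc x).2 hmem)) (e.symm z) ((hc z).1 hz)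
    refine ⟨e s, ?_⟩
    apply e.symm.injective
    rw [map_commutatorElement, MulEquiv.symm_apply_apply]
    exact hs
  · intro hp
    rw [← Nat.card_congr e.toEquiv]
    exact h.three hp
  · intro hp hcard x hx
    rw [← Nat.card_congr e.toEquiv] at hcard
    intro h1
    apply h.two hp hcard (e.symm x) (fun hmem => hx ((hc x).2 hmem))
    rw [← map_pow, h1, map_one]

end Cfsg.Agent.Helper7.SchSyl
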