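import Mathlib
import Cfsg.Agent.Helper7.SchSylA
import Cfsg.Agent.Helper1.MinNonNilp2
import Cfsg.Agent.Helper1.AbelianAct
import Cfsg.Agent.Helper1.Coprime
import Cfsg.Agent.Helper1.FrattiniAct
import Cfsg.Agent.Helper1.PGroup

set_option autoImplicit false

/-!
The structure of the normal Sylow subgroup `P` of a minimal non-nilpotent group: either `P` is
abelian or it is of Schmidt type (`SchSyl`).
-/

namespace Cfsg.Agent.Helper7.SchSyl

open scoped commutatorElement

universe u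

section B

variable {X : Type u} [Group X]

/-- the standing hypotheses: `X = C P` minimal non-nilpotent with `P` a normal Sylow `p`-subgroup
and `C = ⟨c⟩` a cyclic Sylow `r`-subgroup -/
structure Sch (p r : ℕ) [Fact p.Prime] [Fact r.Prime] (P : Sylow p X) (C : Sylow r X) (c : X) :
    Prop where
  mnn : Cfsg.IsMinimalNonNilpotent X
  ne : r ≠ p
  normal : (P : Subgroup X).Normal
  gen : (C : Subgroup X) = Subgroup.zpowers c
  sup : (C : Subgroup X) ⊔ (P : Subgroup X) = ⊤

/-- a subgroup invariant under conjugation by `c` is normalized by the powers of `c` -/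
theorem zpowers_le_normalizer_of_conj_mem [Finite X] (c : X) (M : Subgroup X)
    (hinv : ∀ m ∈ M, c * m * c⁻¹ ∈ M) :
    Subgroup.zpowers c ≤ Subgroup.normalizer (M : Set X) := by
  rw [Subgroup.le_normalizer_iff]
  intro a ha k hk
  rw [← (isOfFinOrder_of_finite c).mem_powers_iff_mem_zpowers] at ha
  obtain ⟨n, rfl⟩ := ha
  induction n generalizing k with
  | zero => simpa using hk
  | succ n ih =>
    have e : c ^ (n + 1) * k * (c ^ (n + 1))⁻¹ = c * (c ^ n * k * (c ^ n)⁻¹) * c⁻¹ := by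
      rw [pow_succ']; group
    rw [e]
    exact hinv _ (ih k hk)

variable [Finite X] {p r : ℕ} [hp : Fact p.Prime] [hr : Fact r.Prime] {P : Sylow p X}
  {C : Sylow r X} {c : X}

theorem Sch.coprime (h : Sch p r P C c) :
    (Nat.card (C : Subgroup X)).Coprime (Nat.card (P : Subgroup X)) := by
  obtain ⟨a, ha⟩ := IsPGroup.iff_card.1 C.2
  obtain ⟨b, hb⟩ := IsPGroup.iff_card.1 P.2
  rw [ha, hb]
  exact Nat.Coprime.pow _ _ ((Nat.coprime_primes hr.out hp.out).2 h.ne)

theorem Sch.inf_eq_bot (h : Sch p r P C c) : (C : Subgroup X) ⊓ (P : Subgroup X) = ⊥ :=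
  Cfsg.Agent.Helper1.inf_eq_bot_of_coprime_card h.coprime

theorem Sch.c_mem (h : Sch p r P C c) : c ∈ (C : Subgroup X) := by
  rw [h.gen]; exact Subgroup.mem_zpowers c

/-- F1: a proper `c`-invariant subgroup of `P` is centralized by `c` -/
theorem Sch.commute_of_invariant (h : Sch p r P C c) (M : Subgroup X)
    (hMP : M ≤ (P : Subgroup X)) (hne : M ≠ (P : Subgroup X))
    (hinv : ∀ m ∈ M, c * m * c⁻¹ ∈ M) : ∀ m ∈ M, c * m = m * c := by
  have hCM : (C : Subgroup X) ≤ Subgroup.normalizer (M : Set X) := by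
    rw [h.gen]; exact zpowers_le_normalizer_of_conj_mem c M hinv
  have hL : M ⊔ (C : Subgroup X) ≠ ⊤ := by
    intro htop
    apply hne
    apply le_antisymm hMP
    intro x hx
    have hx' : x ∈ M ⊔ (C : Subgroup X) := by rw [htop]; exact Subgroup.mem_top x
    obtain ⟨m, hm, a, ha, rfl⟩ := Cfsg.Agent.Helper1.mem_sup_of_le_normalizer hCM hx'
    have haP : a ∈ (P : Subgroup X) := by
      have : a = m⁻¹ * (m * a) := by group
      rw [this]
      exact Subgroup.mul_mem _ (Subgroup.inv_mem _ (hMP hm)) hx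
    have ha1 : a ∈ (C : Subgroup X) ⊓ (P : Subgroup X) := Subgroup.mem_inf.2 ⟨ha, haP⟩
    rw [h.inf_eq_bot, Subgroup.mem_bot] at ha1
    rw [ha1, mul_one]
    exact hm
  have hnil : Group.IsNilpotent ↥((C : Subgroup X) ⊔ M) := by
    rw [sup_comm]
    exact h.mnn.2 _ hL
  have hcen := Cfsg.Agent.Helper1.le_centralizer_of_nilpotent_sup h.ne (C : Subgroup X) M C.2
    (P.2.to_le hMP) hnil
  intro m hm
  exact (Subgroup.mem_centralizer_iff.1 (hcen h.c_mem) m hm).symm

/-- F2: `c` does not centralize `P` -/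
theorem Sch.not_central (h : Sch p r P C c) : ¬ ∀ x ∈ (P : Subgroup X), c * x = x * c := by
  intro hcen
  have hCP : (C : Subgroup X) ≤ Subgroup.centralizer ((P : Subgroup X) : Set X) := by
    rw [h.gen, Subgroup.zpowers_le, Subgroup.mem_centralizer_iff]
    intro x hx
    exact (hcen x hx).symm
  have hPC : (P : Subgroup X) ≤ Subgroup.centralizer ((C : Subgroup X) : Set X) :=
    Subgroup.le_centralizer_iff.1 hCP
  have hCn : (C : Subgroup X).Normal := by
    rw [← Subgroup.normalizer_eq_top_iff, eq_top_iff, ← h.sup]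
    exact sup_le Subgroup.le_normalizer (hPC.trans (Subgroup.centralizer_le_normalizer _))
  exact h.mnn.1 (Cfsg.Agent.Helper1.isNilpotent_of_two_normal_sylow C P hCn h.normal h.sup)

/-- the fixed points of `c` on `P` -/
def cfix (P : Subgroup X) (c : X) : Subgroup X where
  carrier := {x | x ∈ P ∧ c * x = x * c}
  mul_mem' := by
    rintro a b ⟨ha, ha'⟩ ⟨hb, hb'⟩
    refine ⟨P.mul_mem ha hb, ?_⟩
    rw [← mul_assoc, ha', mul_assoc, hb', mul_assoc]
  one_mem' := ⟨P.one_mem, by rw [mul_one, one_mul]⟩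
  inv_mem' := by
    rintro a ⟨ha, ha'⟩
    refine ⟨P.inv_mem ha, ?_⟩
    calc c * a⁻¹ = a⁻¹ * (a * c) * a⁻¹ := by group
      _ = a⁻¹ * c := by rw [← ha']; group

omit [Finite X] in
theorem mem_cfix (P : Subgroup X) (c x : X) : x ∈ cfix P c ↔ x ∈ P ∧ c * x = x * c := Iff.rfl

/-- the centre of `P`, inside `X` -/
def zOf (P : Subgroup X) : Subgroup X := P ⊓ Subgroup.centralizer (P : Set X)

omit [Finite X] in
theorem mem_zOf (P : Subgroup X) (x : X) :
    x ∈ zOf P ↔ x ∈ P ∧ ∀ y ∈ P, y * x = x * y := by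
  unfold zOf
  rw [Subgroup.mem_inf, Subgroup.mem_centralizer_iff]
  rfl

omit [Finite X] in
theorem zOf_le (P : Subgroup X) : zOf P ≤ P := inf_le_left

instance zOf_normal (P : Subgroup X) [P.Normal] : (zOf P).Normal := by
  unfold zOf
  infer_instance

/-- F5: a proper `c`-invariant subgroup of `P` lies in the fixed points of `c` -/
theorem Sch.le_cfix (h : Sch p r P C c) (M : Subgroup X)
    (hMP : M ≤ (P : Subgroup X)) (hne : M ≠ (P : Subgroup X))
    (hinv : ∀ m ∈ M, c * m * c⁻¹ ∈ M) : M ≤ cfix (P : Subgroup X) c :=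
  fun m hm => ⟨hMP hm, h.commute_of_invariant M hMP hne hinv m hm⟩

theorem Sch.cfix_ne (h : Sch p r P C c) : cfix (P : Subgroup X) c ≠ (P : Subgroup X) := by
  intro heq
  apply h.not_central
  intro x hx
  rw [← heq] at hx
  exact hx.2

theorem Sch.ne_bot (h : Sch p r P C c) : (P : Subgroup X) ≠ ⊥ := by
  intro hbot
  apply h.not_central
  intro x hx
  rw [hbot, Subgroup.mem_bot] at hx
  rw [hx, mul_one, one_mul]

/-- the Frattini subgroup of `P`, inside `X` -/
def phiOf (P : Subgroup X) : Subgroup X := (frattini ↥P).map P.subtype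

omit [Finite X] in
theorem phiOf_le (P : Subgroup X) : phiOf P ≤ P := Subgroup.map_subtype_le _

/-- F3: the Frattini subgroup of `P` is centralized by `c` -/
theorem Sch.phiOf_le_cfix (h : Sch p r P C c) :
    phiOf (P : Subgroup X) ≤ cfix (P : Subgroup X) c := by
  apply h.le_cfix _ (phiOf_le _)
  · intro heq
    have h1 : frattini ↥(P : Subgroup X) = ⊤ := by
      apply Subgroup.map_injective (Subgroup.subtype_injective (P : Subgroup X))
      rw [← MonoidHom.range_eq_map, Subgroup.range_subtype]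
      exact heq
    have h2 : (⊥ : Subgroup ↥(P : Subgroup X)) = ⊤ := by
      apply frattini_nongenerating
      rw [h1, sup_top_eq]
    apply h.ne_bot
    rw [eq_bot_iff]
    intro x hx
    have : (⟨x, hx⟩ : ↥(P : Subgroup X)) ∈ (⊥ : Subgroup ↥(P : Subgroup X)) := by
      rw [h2]; exact Subgroup.mem_top _
    rw [Subgroup.mem_bot] at this
    rw [Subgroup.mem_bot]
    exact congrArg Subtype.val this
  · intro m hm
    have hn : c ∈ Subgroup.normalizer ((P : Subgroup X) : Set X) := by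
      rw [Subgroup.normalizer_eq_top_iff.2 h.normal]; exact Subgroup.mem_top c
    have := Cfsg.Agent.Helper1.le_normalizer_map_of_characteristic (P : Subgroup X)
      (frattini ↥(P : Subgroup X)) hn
    exact (Subgroup.mem_normalizer_iff.1 this m).1 hm

omit [Finite X] in
theorem commutator_le_phiOf [Finite X] (P : Sylow p X) :
    ⁅(P : Subgroup X), (P : Subgroup X)⁆ ≤ phiOf (P : Subgroup X) := by
  rw [← Subgroup.map_subtype_commutator]
  exact Subgroup.map_mono (Cfsg.Agent.Helper1.IsPGroup.commutator_le_frattini P.2)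

theorem Sch.c_pow_mem_centralizer (h : Sch p r P C c) :
    (C : Subgroup X) ≤ Subgroup.centralizer ((cfix (P : Subgroup X) c : Subgroup X) : Set X) := by
  rw [h.gen, Subgroup.zpowers_le, Subgroup.mem_centralizer_iff]
  intro x hx
  exact hx.2.symm

/-- F7: `[P, C] = P` -/
theorem Sch.commutator_eq (h : Sch p r P C c) :
    ⁅(P : Subgroup X), (C : Subgroup X)⁆ = (P : Subgroup X) := by
  by_contra hne
  have hCP : (C : Subgroup X) ≤ Subgroup.normalizer ((P : Subgroup X) : Set X) := by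
    rw [Subgroup.normalizer_eq_top_iff.2 h.normal]; exact le_top
  have hsolv : Group.IsSolvable ↥(C : Subgroup X) ∨ Group.IsSolvable ↥(P : Subgroup X) :=
    Or.inr (IsNilpotent.to_isSolvable (G := ↥(P : Subgroup X)) (h := P.2.isNilpotent))
  have h1 := Cfsg.Agent.Helper1.coprime_commutator_sup_centralizer (C : Subgroup X)
    (P : Subgroup X) hCP h.coprime hsolv
  have hle : ⁅(P : Subgroup X), (C : Subgroup X)⁆ ≤ (P : Subgroup X) :=
    Subgroup.le_normalizer_iff_commutator_le_left.1 hCP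
  have h2 : ⁅(P : Subgroup X), (C : Subgroup X)⁆ ≤ cfix (P : Subgroup X) c := by
    apply h.le_cfix _ hle hne
    intro m hm
    have := Subgroup.normalizer_commutator_ge_right (P : Subgroup X) (C : Subgroup X) h.c_mem
    exact (Subgroup.mem_normalizer_iff.1 this m).1 hm
  have h3 : (P : Subgroup X) ⊓ Subgroup.centralizer ((C : Subgroup X) : Set X) ≤
      cfix (P : Subgroup X) c := by
    rintro x ⟨hxP, hxC⟩
    exact ⟨hxP, Subgroup.mem_centralizer_iff.1 hxC c h.c_mem⟩
  apply h.cfix_ne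
  apply le_antisymm
  · intro x hx; exact hx.1
  · exact h1.symm.le.trans (sup_le h2 h3)

/-- F8: the fixed points of `c` are central in `P` -/
theorem Sch.cfix_le_zOf (h : Sch p r P C c) :
    cfix (P : Subgroup X) c ≤ zOf (P : Subgroup X) := by
  set D := cfix (P : Subgroup X) c with hD
  have h1 : ⁅⁅(C : Subgroup X), D⁆, (P : Subgroup X)⁆ = ⊥ := by
    rw [Subgroup.commutator_eq_bot_iff_le_centralizer.2 h.c_pow_mem_centralizer,
      Subgroup.commutator_bot_left]
  have h2 : ⁅⁅D, (P : Subgroup X)⁆, (C : Subgroup X)⁆ = ⊥ := by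
    rw [Subgroup.commutator_eq_bot_iff_le_centralizer]
    have hDP : D ≤ (P : Subgroup X) := fun x hx => hx.1
    refine (Subgroup.commutator_mono hDP le_rfl).trans ?_
    refine (commutator_le_phiOf P).trans ?_
    refine h.phiOf_le_cfix.trans ?_
    exact Subgroup.le_centralizer_iff.1 h.c_pow_mem_centralizer
  have h3 := Subgroup.commutator_commutator_eq_bot_of_rotate h1 h2
  rw [h.commutator_eq, Subgroup.commutator_eq_bot_iff_le_centralizer] at h3
  intro x hx
  exact Subgroup.mem_inf.2 ⟨hx.1, Subgroup.le_centralizer_iff.1 h3 hx⟩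

/-- F9: if `P` is not abelian, the centre of `P` is the set of fixed points of `c` -/
theorem Sch.zOf_eq_cfix (h : Sch p r P C c) (hnab : zOf (P : Subgroup X) ≠ (P : Subgroup X)) :
    zOf (P : Subgroup X) = cfix (P : Subgroup X) c := by
  apply le_antisymm _ h.cfix_le_zOf
  apply h.le_cfix _ (zOf_le _) hnab
  intro m hm
  have := h.normal
  exact (inferInstance : (zOf (P : Subgroup X)).Normal).conj_mem m hm c

/-- F10: `P` has class at most two -/
theorem Sch.commutator_mem_zOf (h : Sch p r P C c) (x y : X) (hx : x ∈ (P : Subgroup X))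
    (hy : y ∈ (P : Subgroup X)) : ⁅x, y⁆ ∈ zOf (P : Subgroup X) :=
  h.cfix_le_zOf (h.phiOf_le_cfix (commutator_le_phiOf P
    (Subgroup.commutator_mem_commutator hx hy)))

theorem Sch.pow_mem_zOf (h : Sch p r P C c) (x : X) (hx : x ∈ (P : Subgroup X)) :
    x ^ p ∈ zOf (P : Subgroup X) := by
  apply h.cfix_le_zOf
  apply h.phiOf_le_cfix
  have := Cfsg.Agent.Helper1.IsPGroup.pow_mem_frattini P.2 (⟨x, hx⟩ : ↥(P : Subgroup X))
  exact ⟨_, this, rfl⟩

/-- F11a: the fixed points of `c` lie in the commutator subgroup of `P` -/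
theorem Sch.cfix_le_commutator (h : Sch p r P C c) :
    cfix (P : Subgroup X) c ≤ ⁅(P : Subgroup X), (P : Subgroup X)⁆ := by
  have hPn := h.normal
  set N := ⁅(P : Subgroup X), (P : Subgroup X)⁆ with hN
  haveI hNn : N.Normal := Subgroup.commutator_normal _ _
  set π := QuotientGroup.mk' N with hπ
  set V := (P : Subgroup X).map π with hV
  set A := (C : Subgroup X).map π with hA
  haveI : IsMulCommutative ↥V := by
    refine ⟨⟨?_⟩⟩
    rintro ⟨a, ha⟩ ⟨b, hb⟩
    obtain ⟨x, hx, rfl⟩ := Subgroup.mem_map.1 ha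
    obtain ⟨y, hy, rfl⟩ := Subgroup.mem_map.1 hb
    apply Subtype.ext
    show π x * π y = π y * π x
    rw [← map_mul, ← map_mul, hπ, QuotientGroup.mk'_apply, QuotientGroup.mk'_apply,
      QuotientGroup.eq]
    have e : (x * y)⁻¹ * (y * x) = ⁅y⁻¹, x⁻¹⁆ := by rw [commutatorElement_def]; group
    rw [e]
    exact Subgroup.commutator_mem_commutator (Subgroup.inv_mem _ hy) (Subgroup.inv_mem _ hx)
  have hVn : V.Normal := Subgroup.Normal.map hPn π (QuotientGroup.mk'_surjective N)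
  have hAV : A ≤ Subgroup.normalizer (V : Set (X ⧸ N)) := Subgroup.le_normalizer_of_normal
  have hcop : (Nat.card A).Coprime (Nat.card V) :=
    Nat.Coprime.coprime_dvd_left (Subgroup.card_map_dvd _ π)
      (Nat.Coprime.coprime_dvd_right (Subgroup.card_map_dvd _ π) h.coprime)
  have h1 := Cfsg.Agent.Helper1.centralizer_inf_commutator_eq_bot A V hAV hcop
  have h2 : ⁅V, A⁆ = V := by
    rw [hV, hA, ← Subgroup.map_commutator, h.commutator_eq]
  rw [h2] at h1
  intro z hz
  have hz1 : π z ∈ (V ⊓ Subgroup.centralizer (A : Set (X ⧸ N))) ⊓ V := by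
    refine Subgroup.mem_inf.2 ⟨Subgroup.mem_inf.2 ⟨Subgroup.mem_map_of_mem _ hz.1, ?_⟩,
      Subgroup.mem_map_of_mem _ hz.1⟩
    rw [Subgroup.mem_centralizer_iff]
    intro a ha
    obtain ⟨a', ha', rfl⟩ := Subgroup.mem_map.1 ha
    rw [← map_mul, ← map_mul]
    congr 1
    exact (Subgroup.mem_centralizer_iff.1 (h.c_pow_mem_centralizer ha') z hz).symm
  rw [h1, Subgroup.mem_bot, hπ, QuotientGroup.mk'_apply, QuotientGroup.eq_one_iff] at hz1
  exact hz1

/-- the centralizer trick: an element of `P` whose centralizer in `P` is `c`-invariant is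
central -/
theorem Sch.mem_zOf_of_invariant (h : Sch p r P C c) (u : X) (hu : u ∈ (P : Subgroup X))
    (hinv : ∀ m ∈ (P : Subgroup X), m * u = u * m → (c * m * c⁻¹) * u = u * (c * m * c⁻¹)) :
    u ∈ zOf (P : Subgroup X) := by
  by_contra huZ
  set L := (P : Subgroup X) ⊓ Subgroup.centralizer ({u} : Set X) with hL
  have hLP : L ≤ (P : Subgroup X) := inf_le_left
  have hLne : L ≠ (P : Subgroup X) := by
    intro heq
    apply huZ
    rw [mem_zOf]
    refine ⟨hu, fun y hy => ?_⟩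
    rw [← heq] at hy
    exact Subgroup.mem_centralizer_singleton_iff.1 hy.2
  have hLinv : ∀ m ∈ L, c * m * c⁻¹ ∈ L := by
    rintro m ⟨hmP, hmu⟩
    refine Subgroup.mem_inf.2 ⟨h.normal.conj_mem m hmP c, ?_⟩
    rw [Subgroup.mem_centralizer_singleton_iff]
    exact hinv m hmP (Subgroup.mem_centralizer_singleton_iff.1 hmu)
  have h1 := h.le_cfix L hLP hLne hLinv
  have h2 : u ∈ L :=
    Subgroup.mem_inf.2 ⟨hu, Subgroup.mem_centralizer_singleton_iff.2 rfl⟩
  exact huZ (h.cfix_le_zOf (h1 h2))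

/-- `c ^ r` centralizes `P` -/
theorem Sch.pow_r_commute (h : Sch p r P C c) : ∀ x ∈ (P : Subgroup X), c ^ r * x = x * c ^ r := by
  have hPn := h.normal
  have hle : Subgroup.zpowers (c ^ r) ≤ (C : Subgroup X) := by
    rw [Subgroup.zpowers_le]
    exact Subgroup.pow_mem _ h.c_mem r
  have hK : Subgroup.zpowers (c ^ r) ⊔ (P : Subgroup X) ≠ ⊤ := by
    intro htop
    have hc : c ∈ ((Subgroup.zpowers (c ^ r) ⊔ (P : Subgroup X) : Subgroup X) : Set X) := by
      rw [htop]; exact Set.mem_univ c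
    rw [Subgroup.mul_normal] at hc
    obtain ⟨a, ha, x, hx, hax⟩ := Set.mem_mul.1 hc
    have hxC : x ∈ (C : Subgroup X) := by
      have : x = a⁻¹ * c := by rw [← hax]; group
      rw [this]
      exact Subgroup.mul_mem _ (Subgroup.inv_mem _ (hle ha)) h.c_mem
    have hx1 : x ∈ (C : Subgroup X) ⊓ (P : Subgroup X) := Subgroup.mem_inf.2 ⟨hxC, hx⟩
    rw [h.inf_eq_bot, Subgroup.mem_bot] at hx1
    rw [hx1, mul_one] at hax
    rw [hax] at ha
    obtain ⟨j, hj⟩ := Subgroup.mem_zpowers_iff.1 ha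
    have hj' : c ^ ((r : ℤ) * j - 1) = 1 := by
      rw [zpow_sub_one, zpow_mul, zpow_natCast, hj, mul_inv_cancel]
    have hdvd : (orderOf c : ℤ) ∣ (r : ℤ) * j - 1 := orderOf_dvd_iff_zpow_eq_one.2 hj'
    obtain ⟨k, hk⟩ := (IsPGroup.iff_orderOf.1 C.2) ⟨c, h.c_mem⟩
    have hk' : orderOf c = r ^ k := by
      rw [← hk]
      exact (Subgroup.orderOf_mk c h.c_mem).symm
    have hk0 : k ≠ 0 := by
      rintro rfl
      rw [pow_zero, orderOf_eq_one_iff] at hk'
      apply h.not_central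
      intro y _
      rw [hk', one_mul, mul_one]
    have hr1 : (r : ℤ) ∣ (orderOf c : ℤ) := by
      rw [hk']
      exact_mod_cast dvd_pow_self r hk0
    have hr2 : (r : ℤ) ∣ (r : ℤ) * j - 1 := hr1.trans hdvd
    have hr3 : (r : ℤ) ∣ 1 := by
      have := dvd_sub (dvd_mul_right (r : ℤ) j) hr2
      simpa using this
    have hr4 : r ∣ 1 := by exact_mod_cast hr3
    exact hr.out.one_lt.ne' (Nat.dvd_one.1 hr4)
  have hnil := h.mnn.2 _ hK
  have hcen := Cfsg.Agent.Helper1.le_centralizer_of_nilpotent_sup h.ne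
    (Subgroup.zpowers (c ^ r)) (P : Subgroup X) (C.2.to_le hle) P.2 hnil
  intro x hx
  exact (Subgroup.mem_centralizer_iff.1 (hcen (Subgroup.mem_zpowers _)) x hx).symm

/-- F11: for a non-central `x` of `P`, every central element is a commutator `[x, s]` -/
theorem Sch.se (h : Sch p r P C c) (hnab : zOf (P : Subgroup X) ≠ (P : Subgroup X)) (x : X)
    (hxP : x ∈ (P : Subgroup X)) (hxZ : x ∉ zOf (P : Subgroup X)) (z : X)
    (hz : z ∈ zOf (P : Subgroup X)) : ∃ s ∈ (P : Subgroup X), ⁅x, s⁆ = z := by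
  have hZc : ∀ w ∈ zOf (P : Subgroup X), ∀ y ∈ (P : Subgroup X), y * w * y⁻¹ = w := by
    intro w hw y hy
    rw [((mem_zOf _ _).1 hw).2 y hy, mul_assoc, mul_inv_cancel, mul_one]
  have hcl := h.commutator_mem_zOf
  obtain ⟨M, hM⟩ : ∃ M : Subgroup X, ∀ w, w ∈ M ↔ ∃ s ∈ (P : Subgroup X), ⁅x, s⁆ = w := by
    refine ⟨{ carrier := {w | ∃ s ∈ (P : Subgroup X), ⁅x, s⁆ = w}
              mul_mem' := ?_
              one_mem' := ⟨1, Subgroup.one_mem _, commutatorElement_one_right x⟩
              inv_mem' := ?_ }, fun w => Iff.rfl⟩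
    · rintro a b ⟨s, hs, rfl⟩ ⟨t, ht, rfl⟩
      refine ⟨s * t, Subgroup.mul_mem _ hs ht, ?_⟩
      have e : ⁅x, s * t⁆ = ⁅x, s⁆ * (s * ⁅x, t⁆ * s⁻¹) := by
        simp only [commutatorElement_def]; group
      rw [e, hZc _ (hcl x t hxP ht) s hs]
    · rintro a ⟨s, hs, rfl⟩
      refine ⟨s⁻¹, Subgroup.inv_mem _ hs, ?_⟩
      have e : ⁅x, s⁻¹⁆ = s⁻¹ * ⁅x, s⁆⁻¹ * s⁻¹⁻¹ := by
        simp only [commutatorElement_def]; group
      rw [e, hZc _ (Subgroup.inv_mem _ (hcl x s hxP hs)) s⁻¹ (Subgroup.inv_mem _ hs)]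
  have hMZ : M ≤ zOf (P : Subgroup X) := by
    intro w hw
    obtain ⟨s, hs, rfl⟩ := (hM w).1 hw
    exact hcl x s hxP hs
  obtain ⟨Y, hY⟩ : ∃ Y : Subgroup X, ∀ y, y ∈ Y ↔
      y ∈ (P : Subgroup X) ∧ ∀ s ∈ (P : Subgroup X), ⁅y, s⁆ ∈ M := by
    refine ⟨{ carrier := {y | y ∈ (P : Subgroup X) ∧ ∀ s ∈ (P : Subgroup X), ⁅y, s⁆ ∈ M}
              mul_mem' := ?_
              one_mem' := ⟨Subgroup.one_mem _, fun s _ => by
                rw [commutatorElement_one_left]; exact M.one_mem⟩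
              inv_mem' := ?_ }, fun w => Iff.rfl⟩
    · rintro a b ⟨ha, ha'⟩ ⟨hb, hb'⟩
      refine ⟨Subgroup.mul_mem _ ha hb, fun s hs => ?_⟩
      have e : ⁅a * b, s⁆ = (a * ⁅b, s⁆ * a⁻¹) * ⁅a, s⁆ := by
        simp only [commutatorElement_def]; group
      rw [e, hZc _ (hcl b s hb hs) a ha]
      exact M.mul_mem (hb' s hs) (ha' s hs)
    · rintro a ⟨ha, ha'⟩
      refine ⟨Subgroup.inv_mem _ ha, fun s hs => ?_⟩
      have e : ⁅a⁻¹, s⁆ = a⁻¹ * ⁅a, s⁆⁻¹ * a⁻¹⁻¹ := by
        simp only [commutatorElement_def]; group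
      rw [e, hZc _ (Subgroup.inv_mem _ (hcl a s ha hs)) a⁻¹ (Subgroup.inv_mem _ ha)]
      exact M.inv_mem (ha' s hs)
  have hYP : Y ≤ (P : Subgroup X) := fun y hy => ((hY y).1 hy).1
  have hxY : x ∈ Y := (hY x).2 ⟨hxP, fun s hs => (hM _).2 ⟨s, hs, rfl⟩⟩
  have hZD := h.zOf_eq_cfix hnab
  have hYinv : ∀ m ∈ Y, c * m * c⁻¹ ∈ Y := by
    intro m hm
    obtain ⟨hmP, hm'⟩ := (hY m).1 hm
    refine (hY _).2 ⟨h.normal.conj_mem m hmP c, fun s hs => ?_⟩
    have hs' : c⁻¹ * s * c⁻¹⁻¹ ∈ (P : Subgroup X) := h.normal.conj_mem s hs c⁻¹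
    have hw := hm' _ hs'
    have e : ⁅c * m * c⁻¹, s⁆ = c * ⁅m, c⁻¹ * s * c⁻¹⁻¹⁆ * c⁻¹ := by
      simp only [commutatorElement_def]; group
    have hwc : c * ⁅m, c⁻¹ * s * c⁻¹⁻¹⁆ = ⁅m, c⁻¹ * s * c⁻¹⁻¹⁆ * c := by
      have := hMZ hw
      rw [hZD] at this
      exact this.2
    rw [e, hwc, mul_assoc, mul_inv_cancel, mul_one]
    exact hw
  have hYeq : Y = (P : Subgroup X) := by
    by_contra hne
    have := h.le_cfix Y hYP hne hYinv hxY
    rw [← hZD] at this
    exact hxZ this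
  have hcomm : ⁅(P : Subgroup X), (P : Subgroup X)⁆ ≤ M := by
    rw [Subgroup.commutator_le]
    intro y hy s hs
    rw [← hYeq] at hy
    exact ((hY y).1 hy).2 s hs
  rw [hZD] at hz
  exact (hM z).1 (hcomm (h.cfix_le_commutator hz))

/-- the number of elements of `P` is congruent to the number of fixed points of `c` modulo
`r` -/
theorem Sch.card_modEq (h : Sch p r P C c) :
    Nat.card (P : Subgroup X) ≡ Nat.card (cfix (P : Subgroup X) c) [MOD r] := by
  haveI := h.normal
  letI : MulAction ↥(C : Subgroup X) ↥(P : Subgroup X) :=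
    MulAction.compHom ↥(P : Subgroup X)
      ((MulAut.conjNormal (H := (P : Subgroup X))).comp (C : Subgroup X).subtype)
  have hsmul : ∀ (a : ↥(C : Subgroup X)) (y : ↥(P : Subgroup X)),
      ((a • y : ↥(P : Subgroup X)) : X) = (a : X) * y * (a : X)⁻¹ := fun a y => rfl
  have h1 := C.2.card_modEq_card_fixedPoints ↥(P : Subgroup X)
  have h2 : Nat.card (MulAction.fixedPoints ↥(C : Subgroup X) ↥(P : Subgroup X)) =
      Nat.card (cfix (P : Subgroup X) c) := by
    apply Nat.card_congr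
    refine ⟨fun y => ⟨((y : ↥(P : Subgroup X)) : X), (y : ↥(P : Subgroup X)).2, ?_⟩,
      fun y => ⟨⟨(y : X), y.2.1⟩, ?_⟩, ?_, ?_⟩
    · have := congrArg Subtype.val (y.2 ⟨c, h.c_mem⟩)
      rw [hsmul] at this
      calc c * ((y : ↥(P : Subgroup X)) : X)
          = c * ((y : ↥(P : Subgroup X)) : X) * c⁻¹ * c := by group
        _ = ((y : ↥(P : Subgroup X)) : X) * c := by rw [this]
    · intro a
      apply Subtype.ext
      rw [hsmul]
      have := Subgroup.mem_centralizer_iff.1 (h.c_pow_mem_centralizer a.2) (y : X) y.2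
      show (a : X) * (y : X) * (a : X)⁻¹ = (y : X)
      rw [← this, mul_assoc, mul_inv_cancel, mul_one]
    · intro y; rfl
    · intro y; rfl
  rw [h2] at h1
  exact h1

/-- an element of `P` whose `c`-conjugate is a `P`-conjugate is central -/
theorem Sch.mem_zOf_of_conj (h : Sch p r P C c) (y x : X) (hy : y ∈ (P : Subgroup X))
    (hx : x ∈ (P : Subgroup X)) (hcy : c * y * c⁻¹ = x⁻¹ * y * x) :
    y ∈ zOf (P : Subgroup X) := by
  apply h.mem_zOf_of_invariant y hy
  intro m hm hmy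
  set m' := c * m * c⁻¹ with hm'
  have hm'P : m' ∈ (P : Subgroup X) := h.normal.conj_mem m hm c
  set w := ⁅y⁻¹, x⁻¹⁆ with hw
  have hwZ : w ∈ zOf (P : Subgroup X) :=
    h.commutator_mem_zOf _ _ (Subgroup.inv_mem _ hy) (Subgroup.inv_mem _ hx)
  have e1 : c * y * c⁻¹ = y * w := by
    rw [hcy, hw, commutatorElement_def]; group
  have h1 : m' * (y * w) = (y * w) * m' := by
    rw [← e1, hm']
    calc c * m * c⁻¹ * (c * y * c⁻¹) = c * (m * y) * c⁻¹ := by group
      _ = c * (y * m) * c⁻¹ := by rw [hmy]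
      _ = c * y * c⁻¹ * (c * m * c⁻¹) := by group
  have h2 : m' * w = w * m' := ((mem_zOf _ _).1 hwZ).2 m' hm'P
  calc m' * y = m' * (y * w) * w⁻¹ := by group
    _ = y * w * m' * w⁻¹ := by rw [h1]
    _ = y * (w * m') * w⁻¹ := by group
    _ = y * (m' * w) * w⁻¹ := by rw [h2]
    _ = y * m' := by group

/-- if `r = 2` then `P` is abelian -/
theorem Sch.abelian_of_two (h : Sch p r P C c) (hr2 : r = 2) :
    zOf (P : Subgroup X) = (P : Subgroup X) := by
  have hc2 : ∀ x ∈ (P : Subgroup X), c ^ 2 * x = x * c ^ 2 := by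
    have := h.pow_r_commute
    rwa [hr2] at this
  have hPn := h.normal
  have step1 : ∀ x ∈ (P : Subgroup X), x * (c * x * c⁻¹) ∈ zOf (P : Subgroup X) := by
    intro x hx
    have hx' : c * x * c⁻¹ ∈ (P : Subgroup X) := hPn.conj_mem x hx c
    apply h.mem_zOf_of_conj _ x (Subgroup.mul_mem _ hx hx') hx
    have e1 : c * (c * x * c⁻¹) * c⁻¹ = x := by
      have := hc2 x hx
      calc c * (c * x * c⁻¹) * c⁻¹ = c ^ 2 * x * (c ^ 2)⁻¹ := by rw [pow_two]; group
        _ = x := by rw [this]; group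
    calc c * (x * (c * x * c⁻¹)) * c⁻¹ = (c * x * c⁻¹) * (c * (c * x * c⁻¹) * c⁻¹) := by group
      _ = (c * x * c⁻¹) * x := by rw [e1]
      _ = x⁻¹ * (x * (c * x * c⁻¹)) * x := by group
  apply le_antisymm (zOf_le _)
  intro x hx
  apply h.mem_zOf_of_invariant x hx
  intro m hm hmx
  set m' := c * m * c⁻¹ with hm'
  have hm'P : m' ∈ (P : Subgroup X) := hPn.conj_mem m hm c
  set y := x * (c * x * c⁻¹) with hy
  have hyZ : y ∈ zOf (P : Subgroup X) := step1 x hx
  have e1 : c * x * c⁻¹ = x⁻¹ * y := by rw [hy]; group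
  have h1 : m' * (x⁻¹ * y) = (x⁻¹ * y) * m' := by
    rw [← e1, hm']
    calc c * m * c⁻¹ * (c * x * c⁻¹) = c * (m * x) * c⁻¹ := by group
      _ = c * (x * m) * c⁻¹ := by rw [hmx]
      _ = c * x * c⁻¹ * (c * m * c⁻¹) := by group
  have h2 : m' * y = y * m' := ((mem_zOf _ _).1 hyZ).2 m' hm'P
  have h3 : m' * x⁻¹ = x⁻¹ * m' := by
    calc m' * x⁻¹ = m' * (x⁻¹ * y) * y⁻¹ := by group
      _ = x⁻¹ * y * m' * y⁻¹ := by rw [h1]
      _ = x⁻¹ * (y * m') * y⁻¹ := by group
      _ = x⁻¹ * (m' * y) * y⁻¹ := by rw [h2]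
      _ = x⁻¹ * m' := by group
  calc m' * x = x * (x⁻¹ * m') * x := by group
    _ = x * (m' * x⁻¹) * x := by rw [h3]
    _ = x * m' := by group

/-- the centre of a non-abelian group of order `p ^ 3` has order `p` -/
theorem card_center_of_card_cube {T : Type*} [Group T] [Finite T] {p : ℕ} [hp : Fact p.Prime]
    (hT : Nat.card T = p ^ 3) (hnab : ¬ ∀ a b : T, a * b = b * a) :
    Nat.card (Subgroup.center T) = p := by
  have hTp : IsPGroup p T := IsPGroup.of_card hT
  haveI : Nontrivial T := by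
    rw [← Finite.one_lt_card_iff_nontrivial, hT]
    exact Nat.one_lt_pow (by norm_num) hp.out.one_lt
  haveI := hTp.center_nontrivial
  have hdvd : Nat.card (Subgroup.center T) ∣ p ^ 3 := by
    rw [← hT]; exact Subgroup.card_subgroup_dvd_card _
  obtain ⟨k, hk3, hk⟩ := (Nat.dvd_prime_pow hp.out).1 hdvd
  have hk0 : k ≠ 0 := by
    rintro rfl
    rw [pow_zero] at hk
    have := Subgroup.eq_bot_of_card_eq _ hk
    exact (Subgroup.nontrivial_iff_ne_bot _).1 inferInstance this
  have hk3' : k ≠ 3 := by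
    rintro rfl
    apply hnab
    have htop : Subgroup.center T = ⊤ := Subgroup.eq_top_of_card_eq _ (by rw [hk, hT])
    intro a b
    have hb : b ∈ Subgroup.center T := by rw [htop]; exact Subgroup.mem_top b
    exact (Subgroup.mem_center_iff.1 hb a)
  have hk2 : k ≠ 2 := by
    rintro rfl
    apply hnab
    have h1 := Subgroup.card_eq_card_quotient_mul_card_subgroup (Subgroup.center T)
    rw [hT, hk] at h1
    have h2 : Nat.card (T ⧸ Subgroup.center T) = p := by
      have hp0 : 0 < p ^ 2 := pow_pos hp.out.pos 2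
      have : p * p ^ 2 = Nat.card (T ⧸ Subgroup.center T) * p ^ 2 := by
        rw [← h1]; ring
      exact (Nat.eq_of_mul_eq_mul_right hp0 this).symm
    haveI := isCyclic_of_prime_card h2
    have hc : IsMulCommutative T := isMulCommutative_of_isCyclic_quotient_center_self T
    exact fun a b => hc.is_comm.comm a b
  have : k = 1 := by omega
  rw [hk, this, pow_one]

omit [Finite X] in
theorem zOf_eq_map_center (P : Subgroup X) :
    zOf P = (Subgroup.center ↥P).map P.subtype := by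
  ext x
  rw [mem_zOf, Subgroup.mem_map]
  constructor
  · rintro ⟨hx, hc⟩
    refine ⟨⟨x, hx⟩, ?_, rfl⟩
    rw [Subgroup.mem_center_iff]
    intro g
    exact Subtype.ext (hc g g.2)
  · rintro ⟨y, hy, rfl⟩
    refine ⟨y.2, fun g hg => ?_⟩
    rw [Subgroup.mem_center_iff] at hy
    exact congrArg Subtype.val (hy ⟨g, hg⟩)

omit [Finite X] in
theorem card_zOf (P : Subgroup X) : Nat.card (zOf P) = Nat.card (Subgroup.center ↥P) := by
  rw [zOf_eq_map_center]
  exact Subgroup.card_map_of_injective (Subgroup.subtype_injective P)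

omit [Finite X] in
theorem zOf_ne_iff (P : Subgroup X) : zOf P ≠ P ↔ ¬ ∀ a b : ↥P, a * b = b * a := by
  constructor
  · intro hne hcomm
    apply hne
    apply le_antisymm (zOf_le P)
    intro x hx
    rw [mem_zOf]
    exact ⟨hx, fun y hy => congrArg Subtype.val (hcomm ⟨y, hy⟩ ⟨x, hx⟩)⟩
  · intro hcomm heq
    apply hcomm
    intro a b
    have hb : (b : X) ∈ zOf P := by rw [heq]; exact b.2
    exact Subtype.ext (((mem_zOf _ _).1 hb).2 a a.2)

/-- when `P` is non-abelian of order `p ^ 3`, the prime `r` divides `p ^ 3 - p` -/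
theorem Sch.dvd_of_card_cube (h : Sch p r P C c) (hnab : zOf (P : Subgroup X) ≠ (P : Subgroup X))
    (hcard : Nat.card (P : Subgroup X) = p ^ 3) :
    Nat.card (zOf (P : Subgroup X)) = p ∧ r ∣ p ^ 3 - p := by
  have h1 : Nat.card (zOf (P : Subgroup X)) = p := by
    rw [card_zOf]
    exact card_center_of_card_cube hcard ((zOf_ne_iff _).1 hnab)
  refine ⟨h1, ?_⟩
  have h2 := h.card_modEq
  rw [← h.zOf_eq_cfix hnab, h1, hcard] at h2
  have hle : p ≤ p ^ 3 := by
    calc p = p ^ 1 := (pow_one p).symm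
      _ ≤ p ^ 3 := Nat.pow_le_pow_right hp.out.pos (by norm_num)
  exact (Nat.modEq_iff_dvd' hle).1 h2.symm

/-- `three`: `P` is not a non-abelian group of order `27` -/
theorem Sch.card_ne_27 (h : Sch p r P C c) (hnab : zOf (P : Subgroup X) ≠ (P : Subgroup X))
    (hp3 : p = 3) : Nat.card (P : Subgroup X) ≠ 27 := by
  intro hcard
  have hcard' : Nat.card (P : Subgroup X) = p ^ 3 := by rw [hcard, hp3]; norm_num
  obtain ⟨-, hdvd⟩ := h.dvd_of_card_cube hnab hcard'
  rw [hp3] at hdvd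
  have hr24 : r ∣ 2 ^ 3 * 3 := by
    have : (3 : ℕ) ^ 3 - 3 = 2 ^ 3 * 3 := by norm_num
    rwa [this] at hdvd
  have hr2 : r = 2 := by
    rcases (Nat.Prime.dvd_mul hr.out).1 hr24 with h2 | h3
    · exact (Nat.prime_dvd_prime_iff_eq hr.out Nat.prime_two).1 (hr.out.dvd_of_dvd_pow h2)
    · exfalso
      apply h.ne
      rw [hp3]
      exact (Nat.prime_dvd_prime_iff_eq hr.out Nat.prime_three).1 h3
  exact hnab (h.abelian_of_two hr2)

set_option maxHeartbeats 1000000 in
/-- `two`: in a non-abelian `P` of order `8`, the non-central elements are not involutions -/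
theorem Sch.sq_ne_one (h : Sch p r P C c) (hnab : zOf (P : Subgroup X) ≠ (P : Subgroup X))
    (hp2 : p = 2) (hcard : Nat.card (P : Subgroup X) = 8) (x : X) (hx : x ∈ (P : Subgroup X))
    (hxZ : x ∉ zOf (P : Subgroup X)) : x ^ 2 ≠ 1 := by
  intro hx2
  have hPn := h.normal
  have hcard' : Nat.card (P : Subgroup X) = p ^ 3 := by rw [hcard, hp2]; norm_num
  obtain ⟨hcZ', hdvd⟩ := h.dvd_of_card_cube hnab hcard'
  have hcZ : Nat.card (zOf (P : Subgroup X)) = 2 := hcZ'.trans hp2
  rw [hp2] at hdvd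
  have hr3 : r = 3 := by
    have hr6 : r ∣ 2 * 3 := by
      have : (2 : ℕ) ^ 3 - 2 = 2 * 3 := by norm_num
      rwa [this] at hdvd
    rcases (Nat.Prime.dvd_mul hr.out).1 hr6 with h2 | h3
    · exfalso
      apply h.ne
      rw [hp2]
      exact (Nat.prime_dvd_prime_iff_eq hr.out Nat.prime_two).1 h2
    · exact (Nat.prime_dvd_prime_iff_eq hr.out Nat.prime_three).1 h3
  have hc3 : ∀ u ∈ (P : Subgroup X), c ^ 3 * u = u * c ^ 3 := by
    have := h.pow_r_commute
    rwa [hr3] at this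
  have hZ2 : ∀ w ∈ zOf (P : Subgroup X), w * w = 1 := by
    intro w hw
    have : (⟨w, hw⟩ : zOf (P : Subgroup X)) ^ Nat.card (zOf (P : Subgroup X)) = 1 :=
      pow_card_eq_one'
    rw [hcZ] at this
    have := congrArg Subtype.val this
    rw [← pow_two]
    exact this
  have hxx : x * x = 1 := by rw [← pow_two]; exact hx2
  have hxinv : x⁻¹ = x := inv_eq_of_mul_eq_one_right hxx
  set x' := c * x * c⁻¹ with hx'
  set x'' := c * x' * c⁻¹ with hx''
  have hx'P : x' ∈ (P : Subgroup X) := hPn.conj_mem x hx c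
  have hx''P : x'' ∈ (P : Subgroup X) := hPn.conj_mem x' hx'P c
  have hx'x' : x' * x' = 1 := by
    calc x' * x' = c * (x * x) * c⁻¹ := by rw [hx']; group
      _ = 1 := by rw [hxx]; group
  have hx''x'' : x'' * x'' = 1 := by
    calc x'' * x'' = c * (x' * x') * c⁻¹ := by rw [hx'']; group
      _ = 1 := by rw [hx'x']; group
  have hx'inv : x'⁻¹ = x' := inv_eq_of_mul_eq_one_right hx'x'
  have hcx'' : c * x'' * c⁻¹ = x := by
    have := hc3 x hx
    calc c * x'' * c⁻¹ = c ^ 3 * x * (c ^ 3)⁻¹ := by rw [hx'', hx', pow_succ, pow_two]; group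
      _ = x := by rw [this]; group
  -- the product of the three conjugates is central
  set y := x * x' * x'' with hy
  have hyP : y ∈ (P : Subgroup X) := Subgroup.mul_mem _ (Subgroup.mul_mem _ hx hx'P) hx''P
  have hyZ : y ∈ zOf (P : Subgroup X) := by
    apply h.mem_zOf_of_conj y x hyP hx
    calc c * y * c⁻¹ = (c * x * c⁻¹) * (c * x' * c⁻¹) * (c * x'' * c⁻¹) := by rw [hy]; group
      _ = x' * x'' * x := by rw [hcx'']
      _ = x⁻¹ * y * x := by rw [hy]; group
  have hyy : y * y = 1 := hZ2 y hyZ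
  have hyc : ∀ u ∈ (P : Subgroup X), u * y = y * u := ((mem_zOf _ _).1 hyZ).2
  -- `x` and `x'` commute
  have hcomm : x * x' = x' * x := by
    have e1 : x'' = x' * x * y := by
      calc x'' = x'⁻¹ * (x⁻¹ * (x * x' * x'')) := by group
        _ = x' * x * y := by rw [hx'inv, hxinv, ← hy, ← mul_assoc]
    have e2 : x'' * x'' = (x' * x) * (x' * x) := by
      calc x'' * x'' = (x' * x * y) * (x' * x * y) := by rw [← e1]
        _ = (x' * x) * (y * (x' * x)) * y := by group
        _ = (x' * x) * ((x' * x) * y) * y := by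
          rw [hyc (x' * x) (Subgroup.mul_mem _ hx'P hx)]
        _ = (x' * x) * (x' * x) * (y * y) := by group
        _ = (x' * x) * (x' * x) := by rw [hyy, mul_one]
    rw [hx''x''] at e2
    calc x * x' = x * x' * ((x' * x) * (x' * x)) := by rw [← e2, mul_one]
      _ = x * (x' * x') * x * (x' * x) := by group
      _ = (x * x) * (x' * x) := by rw [hx'x', mul_one]
      _ = x' * x := by rw [hxx, one_mul]
  have hcomm' : x' * x'' = x'' * x' := by
    calc x' * x'' = c * (x * x') * c⁻¹ := by rw [hx'', hx']; group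
      _ = c * (x' * x) * c⁻¹ := by rw [hcomm]
      _ = x'' * x' := by rw [hx'', hx']; group
  have hcomm'' : x'' * x = x * x'' := by
    calc x'' * x = (c * x' * c⁻¹) * (c * x'' * c⁻¹) := by rw [hcx'']
      _ = c * (x' * x'') * c⁻¹ := by group
      _ = c * (x'' * x') * c⁻¹ := by rw [hcomm']
      _ = (c * x'' * c⁻¹) * (c * x' * c⁻¹) := by group
      _ = x * x'' := by rw [hcx'']
  -- the common centralizer of the three conjugates
  set T := (P : Subgroup X) ⊓ Subgroup.centralizer ({x, x', x''} : Set X) with hT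
  have hmemT : ∀ m : X, m ∈ T ↔ m ∈ (P : Subgroup X) ∧ x * m = m * x ∧ x' * m = m * x' ∧
      x'' * m = m * x'' := by
    intro m
    rw [hT, Subgroup.mem_inf, Subgroup.mem_centralizer_iff]
    constructor
    · rintro ⟨hm, hc⟩
      exact ⟨hm, hc x (by simp), hc x' (by simp), hc x'' (by simp)⟩
    · rintro ⟨hm, h1, h2, h3⟩
      refine ⟨hm, ?_⟩
      intro u hu
      simp only [Set.mem_insert_iff, Set.mem_singleton_iff] at hu
      rcases hu with rfl | rfl | rfl
      · exact h1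
      · exact h2
      · exact h3
  have hxT : x ∈ T := (hmemT x).2 ⟨hx, rfl, hcomm.symm, hcomm''⟩
  have hTP : T ≤ (P : Subgroup X) := inf_le_left
  have hTinv : ∀ m ∈ T, c * m * c⁻¹ ∈ T := by
    intro m hm
    obtain ⟨hmP, h1, h2, h3⟩ := (hmemT m).1 hm
    refine (hmemT _).2 ⟨hPn.conj_mem m hmP c, ?_, ?_, ?_⟩
    · calc x * (c * m * c⁻¹) = (c * x'' * c⁻¹) * (c * m * c⁻¹) := by rw [hcx'']
        _ = c * (x'' * m) * c⁻¹ := by group
        _ = c * (m * x'') * c⁻¹ := by rw [h3]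
        _ = (c * m * c⁻¹) * (c * x'' * c⁻¹) := by group
        _ = c * m * c⁻¹ * x := by rw [hcx'']
    · calc x' * (c * m * c⁻¹) = c * (x * m) * c⁻¹ := by rw [hx']; group
        _ = c * (m * x) * c⁻¹ := by rw [h1]
        _ = c * m * c⁻¹ * x' := by rw [hx']; group
    · calc x'' * (c * m * c⁻¹) = c * (x' * m) * c⁻¹ := by rw [hx'']; group
        _ = c * (m * x') * c⁻¹ := by rw [h2]
        _ = c * m * c⁻¹ * x'' := by rw [hx'']; group
  by_cases hTe : T = (P : Subgroup X)
  · apply hxZ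
    rw [mem_zOf]
    refine ⟨hx, fun m hm => ?_⟩
    rw [← hTe] at hm
    exact ((hmemT m).1 hm).2.1.symm
  · exact hxZ (h.cfix_le_zOf (h.le_cfix T hTP hTe hTinv hxT))

omit [Finite X] in
theorem mem_center_iff_mem_zOf (P : Subgroup X) (t : ↥P) :
    t ∈ Subgroup.center ↥P ↔ (t : X) ∈ zOf P := by
  rw [zOf_eq_map_center, Subgroup.mem_map]
  constructor
  · intro ht
    exact ⟨t, ht, rfl⟩
  · rintro ⟨y, hy, hyt⟩
    have : y = t := Subtype.ext hyt
    rw [← this]
    exact hy

/-- the properties of a non-abelian `P` -/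
theorem Sch.schSyl (h : Sch p r P C c) (hnab : zOf (P : Subgroup X) ≠ (P : Subgroup X)) :
    SchSyl p ↥(P : Subgroup X) := by
  refine ⟨?_, ?_, ?_, ?_, ?_⟩
  · intro x y
    rw [mem_center_iff_mem_zOf]
    exact h.commutator_mem_zOf _ _ x.2 y.2
  · intro x
    rw [mem_center_iff_mem_zOf]
    exact h.pow_mem_zOf _ x.2
  · intro x hx z hz
    rw [mem_center_iff_mem_zOf] at hx hz
    obtain ⟨s, hs, hsz⟩ := h.se hnab x x.2 hx z hz
    exact ⟨⟨s, hs⟩, Subtype.ext hsz⟩
  · intro hp3
    exact h.card_ne_27 hnab hp3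
  · intro hp2 hcard x hx hx2
    rw [mem_center_iff_mem_zOf] at hx
    exact h.sq_ne_one hnab hp2 hcard x x.2 hx (congrArg Subtype.val hx2)

end B

/-- the normal Sylow subgroup of a minimal non-nilpotent group is abelian or of Schmidt type -/
theorem schSyl_or_comm {X : Type u} [Group X] [Finite X] (p : ℕ) [hp : Fact p.Prime]
    (hX : Cfsg.IsMinimalNonNilpotent X) (P : Sylow p X) (hPn : (P : Subgroup X).Normal)
    (hP1 : (P : Subgroup X) ≠ ⊥) :
    (∀ a b : ↥(P : Subgroup X), a * b = b * a) ∨ SchSyl p ↥(P : Subgroup X) := by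
  have hpd : p ∣ Nat.card X := by
    obtain ⟨k, hk⟩ := IsPGroup.iff_card.1 P.2
    have hk0 : k ≠ 0 := by
      rintro rfl
      rw [pow_zero] at hk
      exact hP1 (Subgroup.eq_bot_of_card_eq _ hk)
    exact (dvd_pow_self p hk0).trans (hk ▸ Subgroup.card_subgroup_dvd_card _)
  obtain ⟨r, hr, hrp, C, hCc, hsup⟩ :=
    Cfsg.Agent.Helper1.minNonNilp_structure' hX p hpd P hPn
  haveI : Fact r.Prime := ⟨hr⟩
  obtain ⟨g, hg⟩ := IsCyclic.exists_generator (α := ↥(C : Subgroup X))
  have hgen : (C : Subgroup X) = Subgroup.zpowers (g : X) := by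
    apply le_antisymm
    · intro y hy
      obtain ⟨k, hk⟩ := Subgroup.mem_zpowers_iff.1 (hg ⟨y, hy⟩)
      rw [Subgroup.mem_zpowers_iff]
      refine ⟨k, ?_⟩
      have := congrArg Subtype.val hk
      rwa [Subgroup.coe_zpow] at this
    · rw [Subgroup.zpowers_le]
      exact g.2
  have h : Sch p r P C (g : X) := ⟨hX, hrp, hPn, hgen, hsup⟩
  by_cases hab : zOf (P : Subgroup X) = (P : Subgroup X)
  · left
    by_contra hcon
    exact (zOf_ne_iff _).2 hcon hab
  · right
    exact h.schSyl hab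

end Cfsg.Agent.Helper7.SchSyl
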