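import Mathlib
import Cfsg.Agent.S0058
import Cfsg.Agent.Helper3.HHAbA
import Cfsg.Agent.Helper1.Fitting

set_option autoImplicit false

/-!
Abstract core of the `p`-length one theorem for Sylow subgroups of Schmidt type: a group `H`
with `O_p(H) = 1` acting on an abelian `p`-group `A`, the Sylow `p`-subgroups of `H` being
elementary abelian and acting on `A` "uniformly" (as the quotient of a semi-extraspecial group
by a normal subgroup containing its centre does on the centre of that normal subgroup).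
-/

namespace Cfsg.Agent.Helper7.SchSyl

open scoped commutatorElement

universe u v

section AB

variable {H : Type u} [Group H] {A : Type v} [Group A]

/-- fixed points of a subgroup -/
def fixOf (φ : H →* MulAut A) (B : Subgroup H) : Subgroup A where
  carrier := {a | ∀ b ∈ B, φ b a = a}
  mul_mem' := by
    intro a a' ha ha' b hb
    rw [map_mul, ha b hb, ha' b hb]
  one_mem' := by
    intro b _
    exact map_one _
  inv_mem' := by
    intro a ha b hb
    rw [map_inv, ha b hb]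

theorem mem_fixOf (φ : H →* MulAut A) (B : Subgroup H) (a : A) :
    a ∈ fixOf φ B ↔ ∀ b ∈ B, φ b a = a := Iff.rfl

theorem fixOf_anti (φ : H →* MulAut A) {B B' : Subgroup H} (h : B ≤ B') :
    fixOf φ B' ≤ fixOf φ B := fun _ ha b hb => ha b (h hb)

/-- the standing hypotheses -/
structure Ctx (φ : H →* MulAut A) (p : ℕ) (S C : Subgroup H) : Prop where
  comm : ∀ a b : A, a * b = b * a
  pgrp : IsPGroup p A
  sol : Cfsg.IsPSolvable p H
  core : Cfsg.pCore p H = ⊥
  ne : S ≠ ⊥
  spg : IsPGroup p S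
  scomm : ∀ s ∈ S, ∀ t ∈ S, s * t = t * s
  sexp : ∀ s ∈ S, s ^ p = 1
  quad : ∀ s ∈ S, ∀ a : A, a⁻¹ * φ s a ∈ fixOf φ S
  unif : ∀ a : A, a ∉ fixOf φ S → ∀ z ∈ fixOf φ S, ∃ s ∈ S, a⁻¹ * φ s a = z
  cn : C.Normal
  sc : S ≤ C
  faith : ∀ h ∈ C, φ h = 1 → h = 1

/-- a coprime commutator argument -/
theorem commute_of_commutator_commute {G : Type*} [Group G] (n s : G) (m k : ℕ)
    (hmk : m.Coprime k) (hs : s ^ m = 1) (hz : (n⁻¹ * s⁻¹ * n * s) ^ k = 1)
    (hc : Commute (n⁻¹ * s⁻¹ * n * s) s) : Commute n s := by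
  set z := n⁻¹ * s⁻¹ * n * s with hzdef
  have h1 : ∀ i : ℕ, s⁻¹ ^ i * n * s ^ i = n * z ^ i := by
    intro i
    induction i with
    | zero => simp
    | succ i ih =>
      have e1 : s⁻¹ ^ (i + 1) * n * s ^ (i + 1) = s⁻¹ * (s⁻¹ ^ i * n * s ^ i) * s := by
        rw [pow_succ', pow_succ]; group
      rw [e1, ih]
      have e2 : s⁻¹ * (n * z ^ i) * s = (s⁻¹ * n * s) * (s⁻¹ * z ^ i * s) := by group
      have e3 : s⁻¹ * z ^ i * s = z ^ i := by
        have := (hc.pow_left i).eq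
        rw [mul_assoc, this, ← mul_assoc, inv_mul_cancel, one_mul]
      have e4 : s⁻¹ * n * s = n * z := by rw [hzdef]; group
      rw [e2, e3, e4, mul_assoc, ← pow_succ']
  have h2 := h1 m
  rw [inv_pow, hs, inv_one, one_mul, mul_one] at h2
  have h3 : z ^ m = 1 := by
    have := congrArg (fun w => n⁻¹ * w) h2
    simpa using this.symm
  have h4 : z = 1 := by
    have h5 : orderOf z ∣ m := orderOf_dvd_of_pow_eq_one h3
    have h6 : orderOf z ∣ k := orderOf_dvd_of_pow_eq_one hz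
    have h7 : orderOf z ∣ Nat.gcd m k := Nat.dvd_gcd h5 h6
    rw [hmk] at h7
    exact orderOf_eq_one_iff.1 (Nat.dvd_one.1 h7)
  have h5 : n⁻¹ * s⁻¹ * n * s = 1 := h4
  show n * s = s * n
  calc n * s = s * n * (n⁻¹ * s⁻¹ * n * s) := by group
    _ = s * n := by rw [h5, mul_one]

variable [Finite H] [Finite A]

/-- the `p'`-group on which `S` acts -/
def kOf (p : ℕ) (C : Subgroup H) : Subgroup H := Cfsg.pPrimeCore p H ⊓ C

theorem kOf_normal (p : ℕ) (C : Subgroup H) [C.Normal] : (kOf p C).Normal := by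
  unfold kOf
  infer_instance

theorem card_kOf_coprime (p : ℕ) (C : Subgroup H) : (Nat.card (kOf p C)).Coprime p :=
  Nat.Coprime.coprime_dvd_left (Subgroup.card_dvd_of_le inf_le_left)
    (Cfsg.Agent.Helper1.card_pPrimeCore_coprime p)

variable {φ : H →* MulAut A} {p : ℕ} [hp : Fact p.Prime] {S C : Subgroup H}

/-- `S` acts faithfully on `K` -/
theorem eq_one_of_centralizes_kOf (h : Ctx φ p S C) (s : H) (hs : s ∈ S)
    (hc : ∀ k ∈ kOf p C, s * k = k * s) : s = 1 := by
  have := h.cn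
  obtain ⟨j, hj⟩ := (IsPGroup.iff_orderOf.1 h.spg) ⟨s, hs⟩
  have hsj : s ^ p ^ j = 1 := by
    have := pow_orderOf_eq_one (⟨s, hs⟩ : S)
    rw [hj] at this
    exact congrArg Subtype.val this
  set N := Cfsg.pPrimeCore p H with hN
  have hNc : (Nat.card N).Coprime p := Cfsg.Agent.Helper1.card_pPrimeCore_coprime p
  have hcen : s ∈ Subgroup.centralizer (N : Set H) := by
    rw [Subgroup.mem_centralizer_iff]
    intro n hn
    have hzK : n⁻¹ * s⁻¹ * n * s ∈ kOf p C := by
      refine ⟨?_, ?_⟩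
      · have h1 : s⁻¹ * n * s⁻¹⁻¹ ∈ N := (inferInstance : N.Normal).conj_mem n hn s⁻¹
        have h2 : n⁻¹ * s⁻¹ * n * s = n⁻¹ * (s⁻¹ * n * s⁻¹⁻¹) := by group
        rw [h2]; exact N.mul_mem (N.inv_mem hn) h1
      · have h1 : n⁻¹ * s⁻¹ * n⁻¹⁻¹ ∈ C := h.cn.conj_mem s⁻¹ (C.inv_mem (h.sc hs)) n⁻¹
        have h2 : n⁻¹ * s⁻¹ * n * s = (n⁻¹ * s⁻¹ * n⁻¹⁻¹) * s := by group
        rw [h2]; exact C.mul_mem h1 (h.sc hs)
    have hzpow : (n⁻¹ * s⁻¹ * n * s) ^ Nat.card N = 1 := by
      have : (⟨_, hzK.1⟩ : N) ^ Nat.card N = 1 := pow_card_eq_one'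
      exact congrArg Subtype.val this
    have hcomm : Commute (n⁻¹ * s⁻¹ * n * s) s := (hc _ hzK).symm
    exact (commute_of_commutator_commute n s (p ^ j) (Nat.card N)
      (Nat.Coprime.pow_left j hNc.symm) hsj hzpow hcomm).eq
  have hsN : s ∈ N := Cfsg.Agent.Helper3.HHAb.centralizer_pPrimeCore_le h.sol h.core hcen
  have h1 : s ^ Nat.card N = 1 := by
    have : (⟨s, hsN⟩ : N) ^ Nat.card N = 1 := pow_card_eq_one'
    exact congrArg Subtype.val this
  have h5 : orderOf s ∣ p ^ j := orderOf_dvd_of_pow_eq_one hsj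
  have h6 : orderOf s ∣ Nat.card N := orderOf_dvd_of_pow_eq_one h1
  have h7 : orderOf s ∣ Nat.gcd (p ^ j) (Nat.card N) := Nat.dvd_gcd h5 h6
  rw [Nat.Coprime.pow_left j hNc.symm] at h7
  exact orderOf_eq_one_iff.1 (Nat.dvd_one.1 h7)

/-- the commutator map `s ↦ a⁻¹ (s • a)` from `S` to the fixed points of `S` -/
noncomputable def psi (h : Ctx φ p S C) (a : A) : ↥S →* ↥(fixOf φ S) :=
  MonoidHom.mk' (fun s => ⟨a⁻¹ * φ s a, h.quad s s.2 a⟩) (by
    intro s t
    apply Subtype.ext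
    show a⁻¹ * φ ((s : H) * (t : H)) a = (a⁻¹ * φ s a) * (a⁻¹ * φ t a)
    have h1 : φ (s : H) (a⁻¹ * φ (t : H) a) = a⁻¹ * φ (t : H) a := h.quad t t.2 a s s.2
    have h2 : φ ((s : H) * (t : H)) a = φ (s : H) a * (a⁻¹ * φ (t : H) a) := by
      rw [map_mul, MulAut.mul_apply]
      calc φ (s : H) (φ (t : H) a) = φ (s : H) (a * (a⁻¹ * φ (t : H) a)) := by
            congr 1; group
        _ = φ (s : H) a * φ (s : H) (a⁻¹ * φ (t : H) a) := map_mul _ _ _
        _ = φ (s : H) a * (a⁻¹ * φ (t : H) a) := by rw [h1]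
    rw [h2, mul_assoc])

omit [Finite H] [Finite A] hp in
theorem psi_apply (h : Ctx φ p S C) (a : A) (s : S) :
    ((psi h a s : fixOf φ S) : A) = a⁻¹ * φ (s : H) a := rfl

omit [Finite H] [Finite A] hp in
theorem psi_eq_one_iff (h : Ctx φ p S C) (a : A) (s : S) :
    psi h a s = 1 ↔ φ (s : H) a = a := by
  constructor
  · intro h1
    have := congrArg Subtype.val h1
    rw [psi_apply] at this
    have h2 : a⁻¹ * φ (s : H) a = 1 := this
    rw [inv_mul_eq_one] at h2
    exact h2.symm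
  · intro h1
    apply Subtype.ext
    rw [psi_apply, h1]
    simp

omit [Finite H] [Finite A] hp in
theorem psi_surjective (h : Ctx φ p S C) (a : A) (ha : a ∉ fixOf φ S) :
    Function.Surjective (psi h a) := by
  intro z
  obtain ⟨s, hs, hsz⟩ := h.unif a ha z z.2
  exact ⟨⟨s, hs⟩, Subtype.ext hsz⟩

/-- `Good B`: every element of `K` centralizing `B` centralizes `S` -/
def Good (K S B : Subgroup H) : Prop :=
  ∀ c ∈ K, (∀ b ∈ B, c * b = b * c) → ∀ s ∈ S, c * s = s * c

/-- the key trick: subgroups of `S` whose fixed points are those of `S` are good -/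
theorem good_of_fix_le (h : Ctx φ p S C) (B : Subgroup H) (hB : B ≤ S)
    (hfix : fixOf φ B ≤ fixOf φ S) : Good (kOf p C) S B := by
  intro c hc hcB s hs
  have hCn := h.cn
  have hKn : (kOf p C).Normal := kOf_normal p C
  set l := c * s * c⁻¹ * s⁻¹ with hl
  have hlK : l ∈ kOf p C := by
    have h1 : s * c⁻¹ * s⁻¹ ∈ kOf p C := hKn.conj_mem c⁻¹ ((kOf p C).inv_mem hc) s
    have h2 : l = c * (s * c⁻¹ * s⁻¹) := by rw [hl]; group
    rw [h2]; exact (kOf p C).mul_mem hc h1
  -- `c⁻¹` preserves the fixed points of `B`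
  have hcinv : ∀ e ∈ fixOf φ B, φ c⁻¹ e ∈ fixOf φ B := by
    intro e he b hb
    have h1 : b * c⁻¹ = c⁻¹ * b := by
      have := hcB b hb
      calc b * c⁻¹ = c⁻¹ * (c * b) * c⁻¹ := by group
        _ = c⁻¹ * (b * c) * c⁻¹ := by rw [this]
        _ = c⁻¹ * b := by group
    rw [← MulAut.mul_apply, ← map_mul, h1, map_mul, MulAut.mul_apply, he b hb]
  -- (1) `l` fixes the fixed points of `B`
  have h1 : ∀ e ∈ fixOf φ B, φ l e = e := by
    intro e he
    have hs' : s⁻¹ ∈ S := S.inv_mem hs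
    have e1 : φ s⁻¹ e = e := hfix he s⁻¹ hs'
    have e2 : φ s (φ c⁻¹ e) = φ c⁻¹ e := hfix (hcinv e he) s hs
    rw [hl, map_mul, map_mul, map_mul, MulAut.mul_apply, MulAut.mul_apply, MulAut.mul_apply, e1, e2,
      ← MulAut.mul_apply, ← map_mul, mul_inv_cancel, map_one, MulAut.one_apply]
  -- `l` commutes with `B`
  have hlB : ∀ b ∈ B, b * l = l * b := by
    intro b hb
    have e1 := hcB b hb
    have e2 := h.scomm s hs b (hB hb)
    have e3 : b * c⁻¹ = c⁻¹ * b := by
      calc b * c⁻¹ = c⁻¹ * (c * b) * c⁻¹ := by group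
        _ = c⁻¹ * (b * c) * c⁻¹ := by rw [e1]
        _ = c⁻¹ * b := by group
    have e4 : b * s⁻¹ = s⁻¹ * b := by
      calc b * s⁻¹ = s⁻¹ * (s * b) * s⁻¹ := by group
        _ = s⁻¹ * (b * s) * s⁻¹ := by rw [e2]
        _ = s⁻¹ * b := by group
    calc b * l = (b * c) * s * c⁻¹ * s⁻¹ := by rw [hl]; group
      _ = (c * b) * s * c⁻¹ * s⁻¹ := by rw [e1]
      _ = c * (b * s) * c⁻¹ * s⁻¹ := by group
      _ = c * (s * b) * c⁻¹ * s⁻¹ := by rw [e2]
      _ = c * s * (b * c⁻¹) * s⁻¹ := by group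
      _ = c * s * (c⁻¹ * b) * s⁻¹ := by rw [e3]
      _ = c * s * c⁻¹ * (b * s⁻¹) := by group
      _ = c * s * c⁻¹ * (s⁻¹ * b) := by rw [e4]
      _ = l * b := by rw [hl]; group
  -- (2) `l` acts trivially modulo the fixed points of `B`
  have h2 : ∀ a : A, a⁻¹ * φ l a ∈ fixOf φ B := by
    intro a b hb
    set d := a⁻¹ * φ b a with hd
    have hdZ : d ∈ fixOf φ S := h.quad b (hB hb) a
    have hdB : d ∈ fixOf φ B := fixOf_anti φ hB hdZ
    have e1 : φ b a = a * d := by rw [hd]; group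
    have e2 : φ b (φ l a) = φ l (φ b a) := by
      rw [← MulAut.mul_apply, ← map_mul, hlB b hb, map_mul, MulAut.mul_apply]
    rw [map_mul, map_inv, e2, e1, map_mul, h1 d hdB, mul_inv_rev]
    calc d⁻¹ * a⁻¹ * (φ l a * d) = a⁻¹ * d⁻¹ * (d * φ l a) := by
          rw [h.comm d⁻¹ a⁻¹, h.comm (φ l a) d]
      _ = a⁻¹ * φ l a := by group
  -- (3) `l` acts trivially
  have h3 : φ l = 1 := by
    apply MulEquiv.ext
    intro a
    rw [MulAut.one_apply]
    set e := a⁻¹ * φ l a with he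
    have heB : e ∈ fixOf φ B := h2 a
    have hle : φ l e = e := h1 e heB
    have hpow : ∀ n : ℕ, φ (l ^ n) a = a * e ^ n := by
      intro n
      induction n with
      | zero => simp
      | succ n ih =>
        rw [pow_succ', map_mul, MulAut.mul_apply, ih, map_mul, map_pow, hle, pow_succ']
        have : φ l a = a * e := by rw [he]; group
        rw [this, mul_assoc]
    have hn : l ^ Nat.card (kOf p C) = 1 := by
      have : (⟨l, hlK⟩ : kOf p C) ^ Nat.card (kOf p C) = 1 := pow_card_eq_one'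
      exact congrArg Subtype.val this
    have h4 := hpow (Nat.card (kOf p C))
    rw [hn, map_one, MulAut.one_apply] at h4
    have h5 : e ^ Nat.card (kOf p C) = 1 := by
      have := congrArg (fun w => a⁻¹ * w) h4
      simpa using this.symm
    obtain ⟨j, hj⟩ := (IsPGroup.iff_orderOf.1 h.pgrp) e
    have h6 : orderOf e ∣ Nat.card (kOf p C) := orderOf_dvd_of_pow_eq_one h5
    have h7 : orderOf e ∣ Nat.gcd (Nat.card (kOf p C)) (p ^ j) := Nat.dvd_gcd h6 (by rw [hj])
    rw [Nat.Coprime.pow_right j (card_kOf_coprime p C)] at h7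
    have h8 : e = 1 := orderOf_eq_one_iff.1 (Nat.dvd_one.1 h7)
    rw [he, inv_mul_eq_one] at h8
    exact h8.symm
  have hlC : l ∈ C := hlK.2
  have h4 : l = 1 := h.faith l hlC h3
  calc c * s = l * (s * c) := by rw [hl]; group
    _ = s * c := by rw [h4, one_mul]

omit [Finite H] [Finite A] hp in
theorem mem_zpowers_of_zpow_ne_one {G : Type*} [Group G] (w : G) {q : ℕ} (hq : q.Prime)
    (hw : w ^ q = 1) (i : ℤ) (hi : w ^ i ≠ 1) : w ∈ Subgroup.zpowers (w ^ i) := by
  have hnd : ¬ (q : ℤ) ∣ i := by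
    rintro ⟨k, rfl⟩
    apply hi
    rw [zpow_mul, zpow_natCast, hw, one_zpow]
  have hirr : Irreducible (q : ℤ) := (Nat.prime_iff_prime_int.1 hq).irreducible
  obtain ⟨u, v, huv⟩ := (hirr.coprime_iff_not_dvd).2 hnd
  rw [Subgroup.mem_zpowers_iff]
  refine ⟨v, ?_⟩
  rw [← zpow_mul]
  have : i * v = 1 - q * u := by linarith
  rw [this, zpow_sub, zpow_one, zpow_mul, zpow_natCast, hw, one_zpow, inv_one, mul_one]

omit [Finite H] [Finite A] hp in
theorem eq_one_of_zpow_eq_one_of_not_dvd {G : Type*} [Group G] (w : G) {q : ℕ} (hq : q.Prime)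
    (hw : w ^ q = 1) (i : ℤ) (hi : w ^ i = 1) (hnd : ¬ (q : ℤ) ∣ i) : w = 1 := by
  have hirr : Irreducible (q : ℤ) := (Nat.prime_iff_prime_int.1 hq).irreducible
  obtain ⟨u, v, huv⟩ := (hirr.coprime_iff_not_dvd).2 hnd
  have h1 : w = w ^ (u * q + v * i) := by rw [huv, zpow_one]
  rw [h1, zpow_add, mul_comm u, zpow_mul, zpow_natCast, hw, one_zpow, one_mul, mul_comm v,
    zpow_mul, hi, one_zpow]

/-- a non-cyclic subgroup of `S` acting freely on a point outside the fixed points of `S` -/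
theorem exists_noncyclic_free (h : Ctx φ p S C) (hp2 : p ^ 2 ∣ Nat.card (fixOf φ S)) (a : A)
    (ha : a ∉ fixOf φ S) :
    ∃ E : Subgroup H, E ≤ S ∧ ¬ IsCyclic E ∧ ∀ x ∈ E, x ≠ 1 → φ x a ≠ a := by
  classical
  letI instCG : CommGroup ↥S :=
    { (inferInstance : Group ↥S) with
      mul_comm := fun x y => Subtype.ext (h.scomm x x.2 y y.2) }
  set Z := fixOf φ S with hZ
  have hsurj := psi_surjective h a ha
  have hSexp : ∀ s : S, s ^ p = 1 := fun s => Subtype.ext (h.sexp s s.2)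
  have hZexp : ∀ z : Z, z ^ p = 1 := by
    intro z
    obtain ⟨s, rfl⟩ := hsurj z
    rw [← map_pow, hSexp, map_one]
  have hcardZ : p ^ 2 ≤ Nat.card Z := Nat.le_of_dvd Nat.card_pos hp2
  have hp1 : 1 < p := hp.out.one_lt
  -- a nontrivial element
  have hnt : Nontrivial Z := by
    rw [← Finite.one_lt_card_iff_nontrivial]
    nlinarith
  obtain ⟨z₁, hz₁⟩ := exists_ne (1 : Z)
  have hord : orderOf z₁ = p := orderOf_eq_prime (hZexp z₁) hz₁
  obtain ⟨z₂, hz₂⟩ : ∃ z₂ : Z, z₂ ∉ Subgroup.zpowers z₁ := by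
    by_contra hcon
    push Not at hcon
    have htop : Subgroup.zpowers z₁ = ⊤ := by
      rw [eq_top_iff]; intro x _; exact hcon x
    have h1 : Nat.card (Subgroup.zpowers z₁) = Nat.card Z := by
      rw [htop, Subgroup.card_top]
    rw [Nat.card_zpowers, hord] at h1
    nlinarith
  obtain ⟨e₁, he₁⟩ := hsurj z₁
  obtain ⟨e₂, he₂⟩ := hsurj z₂
  set E₀ : Subgroup ↥S := Subgroup.closure {e₁, e₂} with hE₀
  have hfree : ∀ y ∈ E₀, psi h a y = 1 → y = 1 := by
    intro y hy hpsi
    obtain ⟨m, n, rfl⟩ := Subgroup.mem_closure_pair.1 hy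
    rw [map_mul, map_zpow, map_zpow, he₁, he₂] at hpsi
    have hn : (p : ℤ) ∣ n := by
      by_contra hnd
      have h1 : z₂ ^ n ≠ 1 := fun h0 =>
        hz₂ (by rw [eq_one_of_zpow_eq_one_of_not_dvd z₂ hp.out (hZexp z₂) n h0 hnd]
                exact Subgroup.one_mem _)
      have h2 := mem_zpowers_of_zpow_ne_one z₂ hp.out (hZexp z₂) n h1
      have h3 : z₂ ^ n = (z₁ ^ m)⁻¹ := eq_inv_of_mul_eq_one_right hpsi
      apply hz₂
      have h4 : z₂ ^ n ∈ Subgroup.zpowers z₁ := by
        rw [h3]; exact Subgroup.inv_mem _ (Subgroup.zpow_mem _ (Subgroup.mem_zpowers z₁) m)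
      exact (Subgroup.zpowers_le.2 h4) h2
    obtain ⟨n', rfl⟩ := hn
    have h5 : z₂ ^ ((p : ℤ) * n') = 1 := by rw [zpow_mul, zpow_natCast, hZexp, one_zpow]
    rw [h5, mul_one] at hpsi
    have hm : (p : ℤ) ∣ m := by
      by_contra hnd
      exact hz₁ (eq_one_of_zpow_eq_one_of_not_dvd z₁ hp.out (hZexp z₁) m hpsi hnd)
    obtain ⟨m', rfl⟩ := hm
    rw [zpow_mul, zpow_natCast, hSexp, one_zpow, zpow_mul, zpow_natCast, hSexp, one_zpow, mul_one]
  refine ⟨E₀.map S.subtype, Subgroup.map_subtype_le _, ?_, ?_⟩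
  · intro hcyc
    have hcyc₀ : IsCyclic E₀ := by
      have e := (E₀.equivMapOfInjective S.subtype S.subtype_injective)
      exact isCyclic_of_surjective e.symm.toMonoidHom e.symm.surjective
    obtain ⟨g, hg⟩ := hcyc₀.exists_generator
    have h1 : e₁ ∈ E₀ := Subgroup.subset_closure (by simp)
    have h2 : e₂ ∈ E₀ := Subgroup.subset_closure (by simp)
    obtain ⟨i, hi⟩ := Subgroup.mem_zpowers_iff.1 (hg ⟨e₁, h1⟩)
    obtain ⟨j, hj⟩ := Subgroup.mem_zpowers_iff.1 (hg ⟨e₂, h2⟩)
    have hi' : (g : S) ^ i = e₁ := by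
      have := congrArg Subtype.val hi
      simpa using this
    have hj' : (g : S) ^ j = e₂ := by
      have := congrArg Subtype.val hj
      simpa using this
    set w := psi h a (g : S) with hw
    have hwz₁ : w ^ i = z₁ := by rw [hw, ← map_zpow, hi', he₁]
    have hwz₂ : w ^ j = z₂ := by rw [hw, ← map_zpow, hj', he₂]
    have h3 : w ∈ Subgroup.zpowers z₁ := by
      rw [← hwz₁]
      exact mem_zpowers_of_zpow_ne_one w hp.out (hZexp w) i (by rw [hwz₁]; exact hz₁)
    apply hz₂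
    rw [← hwz₂]
    exact Subgroup.zpow_mem _ h3 j
  · rintro x ⟨y, hy, rfl⟩ hx1 hfix
    apply hx1
    have h1 : psi h a y = 1 := (psi_eq_one_iff h a y).2 hfix
    rw [hfree y hy h1]
    rfl

/-- descending step: if all `B ⊔ ⟨x⟩` are good and `S / B` is not cyclic then `B` is good -/
theorem good_of_forall_sup (h : Ctx φ p S C) (B : Subgroup H) (hB : B ≤ S) (E : Subgroup H)
    (hE : E ≤ S) (hnc : ¬ IsCyclic E) (hEB : ∀ x ∈ E, x ≠ 1 → x ∉ B)
    (hgood : ∀ x ∈ S, x ∉ B → Good (kOf p C) S (B ⊔ Subgroup.zpowers x)) :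
    Good (kOf p C) S B := by
  intro c hc hcB
  have hCn := h.cn
  have hKn : (kOf p C).Normal := kOf_normal p C
  set KB := kOf p C ⊓ Subgroup.centralizer (B : Set H) with hKB
  haveI : IsMulCommutative E :=
    ⟨⟨fun x y => Subtype.ext (h.scomm x (hE x.2) y (hE y.2))⟩⟩
  have hnorm : E ≤ Subgroup.normalizer (KB : Set H) := by
    intro e he
    have heB : ∀ b ∈ B, e * b = b * e := fun b hb => h.scomm e (hE he) b (hB hb)
    have key : ∀ e' : H, (∀ b ∈ B, e' * b = b * e') → ∀ k ∈ KB, e' * k * e'⁻¹ ∈ KB := by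
      intro e' he' k hk
      refine Subgroup.mem_inf.2 ⟨hKn.conj_mem k hk.1 e', ?_⟩
      rw [Subgroup.mem_centralizer_iff]
      intro b hb
      have h1 := Subgroup.mem_centralizer_iff.1 hk.2 b hb
      have h2 := he' b hb
      have h3 : b * e'⁻¹ = e'⁻¹ * b := by
        calc b * e'⁻¹ = e'⁻¹ * (e' * b) * e'⁻¹ := by group
          _ = e'⁻¹ * (b * e') * e'⁻¹ := by rw [h2]
          _ = e'⁻¹ * b := by group
      calc b * (e' * k * e'⁻¹) = (b * e') * k * e'⁻¹ := by group
        _ = (e' * b) * k * e'⁻¹ := by rw [h2]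
        _ = e' * (b * k) * e'⁻¹ := by group
        _ = e' * (k * b) * e'⁻¹ := by rw [h1]
        _ = e' * k * (b * e'⁻¹) := by group
        _ = e' * k * (e'⁻¹ * b) := by rw [h3]
        _ = e' * k * e'⁻¹ * b := by group
    rw [Subgroup.mem_normalizer_iff]
    intro k
    constructor
    · exact key e heB k
    · intro hk
      have heB' : ∀ b ∈ B, e⁻¹ * b = b * e⁻¹ := by
        intro b hb
        have h2 := heB b hb
        calc e⁻¹ * b = e⁻¹ * (b * e) * e⁻¹ := by group
          _ = e⁻¹ * (e * b) * e⁻¹ := by rw [h2]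
          _ = b * e⁻¹ := by group
      have := key e⁻¹ heB' _ hk
      have e1 : e⁻¹ * (e * k * e⁻¹) * e⁻¹⁻¹ = k := by group
      rwa [e1] at this
  have hcop : (Nat.card E).Coprime (Nat.card KB) := by
    obtain ⟨j, hj⟩ := IsPGroup.iff_card.1 (h.spg.to_le hE)
    rw [hj]
    apply Nat.Coprime.pow_left
    exact (Nat.Coprime.coprime_dvd_left (Subgroup.card_dvd_of_le inf_le_left)
      (card_kOf_coprime p C)).symm
  have hgen := Cfsg.Agent.S0058.result E KB hnc hnorm hcop
  have hle : KB ≤ Subgroup.centralizer (S : Set H) := by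
    rw [← hgen]
    apply iSup₂_le
    rintro x ⟨hxE, hx1⟩
    intro k hk
    have hkKB : k ∈ KB := hk.1
    have hkx : k ∈ Subgroup.centralizer ({x} : Set H) := hk.2
    have hxB : x ∉ B := hEB x hxE hx1
    have hg := hgood x (hE hxE) hxB
    rw [Subgroup.mem_centralizer_iff]
    intro s hs
    refine (hg k hkKB.1 ?_ s hs).symm
    have hsub : B ⊔ Subgroup.zpowers x ≤ Subgroup.centralizer ({k} : Set H) := by
      apply sup_le
      · intro b hb
        rw [Subgroup.mem_centralizer_iff]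
        intro y hy
        rw [Set.mem_singleton_iff] at hy
        subst hy
        exact (Subgroup.mem_centralizer_iff.1 hkKB.2 b hb).symm
      · rw [Subgroup.zpowers_le, Subgroup.mem_centralizer_iff]
        intro y hy
        rw [Set.mem_singleton_iff] at hy
        subst hy
        exact (Subgroup.mem_centralizer_iff.1 hkx x (Set.mem_singleton x)).symm
    intro b hb
    have := Subgroup.mem_centralizer_iff.1 (hsub hb) k (Set.mem_singleton k)
    exact this
  have hcKB : c ∈ KB := by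
    refine Subgroup.mem_inf.2 ⟨hc, ?_⟩
    rw [Subgroup.mem_centralizer_iff]
    intro b hb
    exact (hcB b hb).symm
  intro s hs
  exact (Subgroup.mem_centralizer_iff.1 (hle hcKB) s hs).symm

/-- if `p ^ 2` divides the order of the fixed points of `S`, every subgroup of `S` is good -/
theorem good_all (h : Ctx φ p S C) (hp2 : p ^ 2 ∣ Nat.card (fixOf φ S)) :
    ∀ n : ℕ, ∀ B : Subgroup H, B ≤ S → Nat.card S - Nat.card B ≤ n → Good (kOf p C) S B := by
  intro n
  induction n with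
  | zero =>
    intro B hB hn
    have h1 : Nat.card S ≤ Nat.card B := by omega
    have h2 : B = S := Subgroup.eq_of_le_of_card_ge hB h1
    apply good_of_fix_le h B hB
    rw [h2]
  | succ n ih =>
    intro B hB hn
    by_cases hfix : fixOf φ B ≤ fixOf φ S
    · exact good_of_fix_le h B hB hfix
    · obtain ⟨a, haB, haS⟩ := SetLike.not_le_iff_exists.1 hfix
      obtain ⟨E, hE, hnc, hfree⟩ := exists_noncyclic_free h hp2 a haS
      apply good_of_forall_sup h B hB E hE hnc
      · intro x hx hx1 hxB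
        exact hfree x hx hx1 (haB x hxB)
      · intro x hxS hxB
        apply ih
        · exact sup_le hB (Subgroup.zpowers_le.2 hxS)
        · have hlt : B < B ⊔ Subgroup.zpowers x := by
            refine lt_of_le_of_ne le_sup_left ?_
            intro heq
            apply hxB
            rw [heq]
            exact (le_sup_right : Subgroup.zpowers x ≤ _) (Subgroup.mem_zpowers x)
          have h1 : Nat.card B < Nat.card ↥(B ⊔ Subgroup.zpowers x) := by
            by_contra hcon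
            push Not at hcon
            exact hlt.ne (Subgroup.eq_of_le_of_card_ge hlt.le hcon)
          have h2 : Nat.card ↥(B ⊔ Subgroup.zpowers x) ≤ Nat.card S :=
            Nat.le_of_dvd Nat.card_pos (Subgroup.card_dvd_of_le
              (sup_le hB (Subgroup.zpowers_le.2 hxS)))
          omega

/-- Step A: `p ^ 2` does not divide the order of the fixed points of `S` -/
theorem not_sq_dvd_card_fix (h : Ctx φ p S C) : ¬ p ^ 2 ∣ Nat.card (fixOf φ S) := by
  intro hp2
  have hg := good_all h hp2 (Nat.card S) ⊥ bot_le (Nat.sub_le _ _)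
  apply h.ne
  rw [eq_bot_iff]
  intro s hs
  rw [Subgroup.mem_bot]
  apply eq_one_of_centralizes_kOf h s hs
  intro k hk
  refine (hg k hk ?_ s hs).symm
  intro b hb
  rw [Subgroup.mem_bot] at hb
  subst hb
  simp

omit [Finite H] [Finite A] hp in
/-- two subgroups of prime order sharing a nontrivial element are equal -/
theorem eq_of_card_prime_of_mem {G : Type*} [Group G] {q : ℕ} (hq : q.Prime) (X Y : Subgroup G)
    (hX : Nat.card X = q) (hY : Nat.card Y = q) (x : G) (hxX : x ∈ X) (hxY : x ∈ Y)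
    (hx1 : x ≠ 1) : X = Y := by
  have hfX : Finite X := Nat.finite_of_card_ne_zero (by rw [hX]; exact hq.ne_zero)
  have hfY : Finite Y := Nat.finite_of_card_ne_zero (by rw [hY]; exact hq.ne_zero)
  have h1 : Nat.card (Subgroup.zpowers x) = q := by
    have h2 : Nat.card (Subgroup.zpowers x) ∣ Nat.card X :=
      Subgroup.card_dvd_of_le (Subgroup.zpowers_le.2 hxX)
    rw [hX] at h2
    rcases (Nat.dvd_prime hq).1 h2 with h3 | h3
    · exfalso
      apply hx1
      have := Subgroup.eq_bot_of_card_eq _ h3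
      rw [Subgroup.zpowers_eq_bot] at this
      exact this
    · exact h3
  have hzX : Subgroup.zpowers x = X :=
    Subgroup.eq_of_le_of_card_ge (Subgroup.zpowers_le.2 hxX) (by rw [h1, hX])
  have hzY : Subgroup.zpowers x = Y :=
    Subgroup.eq_of_le_of_card_ge (Subgroup.zpowers_le.2 hxY) (by rw [h1, hY])
  rw [← hzX, hzY]

/-- the order of the fixed points of `S` is `p` -/
theorem card_fix_eq (h : Ctx φ p S C) (hZ1 : fixOf φ S ≠ ⊥) : Nat.card (fixOf φ S) = p := by
  have hnot := not_sq_dvd_card_fix h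
  have hZp : IsPGroup p (fixOf φ S) := h.pgrp.to_subgroup _
  obtain ⟨k, hk⟩ := IsPGroup.iff_card.1 hZp
  rw [hk] at hnot ⊢
  have hk2 : k < 2 := by
    by_contra hcon
    push Not at hcon
    exact hnot (pow_dvd_pow p hcon)
  have hk0 : k ≠ 0 := by
    rintro rfl
    rw [pow_zero] at hk
    exact hZ1 (Subgroup.eq_bot_of_card_eq _ hk)
  have : k = 1 := by omega
  rw [this, pow_one]

/-- the fixed points of `S` are not invariant under `H` -/
theorem exists_not_mem_fix (h : Ctx φ p S C) (hZ1 : fixOf φ S ≠ ⊥) :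
    ∃ g : H, ∃ z ∈ fixOf φ S, φ g z ∉ fixOf φ S := by
  by_contra hcon
  push Not at hcon
  have hCn := h.cn
  set Z := fixOf φ S with hZ
  have hcard := card_fix_eq h hZ1
  -- the stabilizer of the chain `1 ≤ Z ≤ A` inside `C`
  let N₁ : Subgroup H :=
    { carrier := {x | x ∈ C ∧ (∀ z ∈ Z, φ x z = z) ∧ ∀ a : A, a⁻¹ * φ x a ∈ Z}
      one_mem' := by
        refine ⟨C.one_mem, fun z _ => by simp, fun a => ?_⟩
        simp only [map_one, MulAut.one_apply, inv_mul_cancel]
        exact Z.one_mem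
      mul_mem' := by
        rintro x y ⟨hxC, hxZ, hxA⟩ ⟨hyC, hyZ, hyA⟩
        refine ⟨C.mul_mem hxC hyC, ?_, ?_⟩
        · intro z hz
          rw [map_mul, MulAut.mul_apply, hyZ z hz, hxZ z hz]
        · intro a
          have e1 : φ y a = a * (a⁻¹ * φ y a) := by group
          have e2 : a⁻¹ * φ (x * y) a = (a⁻¹ * φ x a) * (a⁻¹ * φ y a) := by
            rw [map_mul, MulAut.mul_apply]
            calc a⁻¹ * φ x (φ y a) = a⁻¹ * φ x (a * (a⁻¹ * φ y a)) := by rw [← e1]
              _ = a⁻¹ * (φ x a * φ x (a⁻¹ * φ y a)) := by rw [map_mul]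
              _ = a⁻¹ * (φ x a * (a⁻¹ * φ y a)) := by rw [hxZ _ (hyA a)]
              _ = _ := by group
          rw [e2]
          exact Z.mul_mem (hxA a) (hyA a)
      inv_mem' := by
        rintro x ⟨hxC, hxZ, hxA⟩
        refine ⟨C.inv_mem hxC, ?_, ?_⟩
        · intro z hz
          have := hxZ z hz
          calc φ x⁻¹ z = φ x⁻¹ (φ x z) := by rw [this]
            _ = z := by rw [← MulAut.mul_apply, ← map_mul, inv_mul_cancel, map_one,
                MulAut.one_apply]
        · intro a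
          set a' := φ x⁻¹ a with ha'
          have e1 : φ x a' = a := by
            rw [ha', ← MulAut.mul_apply, ← map_mul, mul_inv_cancel, map_one, MulAut.one_apply]
          have e2 := hxA a'
          rw [e1] at e2
          have e3 : a⁻¹ * a' = (a'⁻¹ * a)⁻¹ := by group
          rw [e3]
          exact Z.inv_mem e2 }
  have hN₁mem : ∀ x, x ∈ N₁ ↔ x ∈ C ∧ (∀ z ∈ Z, φ x z = z) ∧ ∀ a : A, a⁻¹ * φ x a ∈ Z :=
    fun x => Iff.rfl
  have hN₁n : N₁.Normal := by
    constructor
    rintro x ⟨hxC, hxZ, hxA⟩ g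
    refine ⟨hCn.conj_mem x hxC g, ?_, ?_⟩
    · intro z hz
      have h1 : φ g⁻¹ z ∈ Z := hcon g⁻¹ z hz
      rw [map_mul, map_mul, MulAut.mul_apply, MulAut.mul_apply, hxZ _ h1, ← MulAut.mul_apply,
        ← map_mul, mul_inv_cancel, map_one, MulAut.one_apply]
    · intro a
      set b := φ g⁻¹ a with hb
      have e1 : φ g b = a := by
        rw [hb, ← MulAut.mul_apply, ← map_mul, mul_inv_cancel, map_one, MulAut.one_apply]
      have e2 : a⁻¹ * φ (g * x * g⁻¹) a = φ g (b⁻¹ * φ x b) := by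
        rw [map_mul, map_mul, MulAut.mul_apply, MulAut.mul_apply, ← hb, map_mul, map_inv, e1]
      rw [e2]
      exact hcon g _ (hxA b)
  have hN₁p : IsPGroup p N₁ := by
    rintro ⟨x, hxC, hxZ, hxA⟩
    refine ⟨1, ?_⟩
    apply Subtype.ext
    show x ^ p ^ 1 = 1
    rw [pow_one]
    have hpow : ∀ (a : A) (n : ℕ), φ (x ^ n) a = a * (a⁻¹ * φ x a) ^ n := by
      intro a n
      induction n with
      | zero => simp
      | succ n ih =>
        rw [pow_succ', map_mul, MulAut.mul_apply, ih, map_mul, map_pow, hxZ _ (hxA a), pow_succ']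
        have : φ x a = a * (a⁻¹ * φ x a) := by group
        rw [← mul_assoc, ← this]
    apply h.faith _ (C.pow_mem hxC p)
    apply MulEquiv.ext
    intro a
    rw [hpow a p, MulAut.one_apply]
    have h1 : (⟨a⁻¹ * φ x a, hxA a⟩ : Z) ^ p = 1 := by
      rw [← hcard]; exact pow_card_eq_one'
    have h2 : (a⁻¹ * φ x a) ^ p = 1 := congrArg Subtype.val h1
    rw [h2, mul_one]
  have hle : N₁ ≤ Cfsg.pCore p H := Cfsg.Agent.Helper4.le_pCore N₁ hN₁n hN₁p
  rw [h.core] at hle
  apply h.ne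
  rw [eq_bot_iff]
  intro s hs
  apply hle
  rw [hN₁mem]
  exact ⟨h.sc hs, fun z hz => hz s hs, h.quad s hs⟩

omit [Finite H] [Finite A] hp in
/-- conjugates of elements of `S` act quadratically with respect to the translated fixed points -/
theorem conj_quad (h : Ctx φ p S C) (g s : H) (hs : s ∈ S) (a : A) :
    a⁻¹ * φ (g * s * g⁻¹) a ∈ (fixOf φ S).map (φ g).toMonoidHom := by
  set b := φ g⁻¹ a with hb
  have e1 : φ g b = a := by
    rw [hb, ← MulAut.mul_apply, ← map_mul, mul_inv_cancel, map_one, MulAut.one_apply]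
  have e2 : a⁻¹ * φ (g * s * g⁻¹) a = φ g (b⁻¹ * φ s b) := by
    rw [map_mul, map_mul, MulAut.mul_apply, MulAut.mul_apply, ← hb, map_mul, map_inv, e1]
  rw [e2]
  exact ⟨_, h.quad s hs b, rfl⟩

omit [Finite H] [Finite A] in
/-- an automorphism fixing a nontrivial element of a subgroup of prime order fixes it pointwise -/
theorem fix_of_card_prime (X : Subgroup A) (hX : Nat.card X = p) (x : H) (w₀ : A) (hw₀ : w₀ ∈ X)
    (hne : w₀ ≠ 1) (hfix : φ x w₀ = w₀) : ∀ w ∈ X, φ x w = w := by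
  have hfX : Finite X := Nat.finite_of_card_ne_zero (by rw [hX]; exact hp.out.ne_zero)
  have hpow : w₀ ^ p = 1 := by
    have : (⟨w₀, hw₀⟩ : X) ^ p = 1 := by rw [← hX]; exact pow_card_eq_one'
    exact congrArg Subtype.val this
  have hcz : Nat.card (Subgroup.zpowers w₀) = p := by
    rw [Nat.card_zpowers]; exact orderOf_eq_prime hpow hne
  have hzX : Subgroup.zpowers w₀ = X :=
    Subgroup.eq_of_le_of_card_ge (Subgroup.zpowers_le.2 hw₀) (by rw [hcz, hX])
  intro w hw
  rw [← hzX] at hw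
  obtain ⟨i, rfl⟩ := Subgroup.mem_zpowers_iff.1 hw
  rw [map_zpow, hfix]

/-- Step B: `S` has order `p` -/
theorem card_eq_prime (h : Ctx φ p S C) (hZ1 : fixOf φ S ≠ ⊥) (S' : Sylow p H)
    (hS' : (S' : Subgroup H) = S) : Nat.card S = p := by
  classical
  have hCn := h.cn
  set Z := fixOf φ S with hZ
  have hcardZ := card_fix_eq h hZ1
  obtain ⟨j, hj⟩ := IsPGroup.iff_card.1 h.spg
  by_contra hne
  have hj2 : 2 ≤ j := by
    by_contra hcon
    push Not at hcon
    interval_cases j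
    · rw [pow_zero] at hj
      exact h.ne (Subgroup.eq_bot_of_card_eq _ hj)
    · rw [pow_one] at hj
      exact hne hj
  have hp2S : p ^ 2 ∣ Nat.card S := by rw [hj]; exact pow_dvd_pow p hj2
  -- stabilizers of points outside `Z` are nontrivial
  have hstab : ∀ a : A, a ∉ Z → ∃ t ∈ S, t ≠ 1 ∧ φ t a = a := by
    intro a ha
    have hsurj := psi_surjective h a ha
    have h1 := Subgroup.card_eq_card_quotient_mul_card_subgroup (psi h a).ker
    have h2 : Nat.card (↥S ⧸ (psi h a).ker) = p := by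
      rw [Nat.card_congr (QuotientGroup.quotientKerEquivOfSurjective (psi h a) hsurj).toEquiv,
        hcardZ]
    rw [h2] at h1
    have h3 : p ∣ Nat.card (psi h a).ker := by
      rw [h1, pow_two] at hp2S
      exact Nat.dvd_of_mul_dvd_mul_left hp.out.pos hp2S
    obtain ⟨t, ht⟩ := exists_prime_orderOf_dvd_card' p h3
    refine ⟨((t : S) : H), (t : S).2, ?_, ?_⟩
    · intro h0
      have h4 : (t : S) = 1 := Subtype.ext h0
      have h5 : t = 1 := Subtype.ext h4
      rw [h5, orderOf_one] at ht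
      exact hp.out.one_lt.ne ht
    · exact (psi_eq_one_iff h a t).1 t.2
  obtain ⟨g, z, hzZ, hz'⟩ := exists_not_mem_fix h hZ1
  set z' := φ g z with hz'def
  have hz1 : z ≠ 1 := by
    rintro rfl
    apply hz'
    rw [hz'def, map_one]
    exact Z.one_mem
  have hz'1 : z' ≠ 1 := by
    intro h0
    apply hz'
    rw [h0]
    exact Z.one_mem
  set Zg := Z.map (φ g).toMonoidHom with hZg
  have hcardZg : Nat.card Zg = p := by
    rw [hZg, Subgroup.card_map_of_injective (φ g).injective, hcardZ]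
  have hz'Zg : z' ∈ Zg := ⟨z, hzZ, rfl⟩
  set z'' := φ g⁻¹ z with hz''def
  have hgz'' : φ g z'' = z := by
    rw [hz''def, ← MulAut.mul_apply, ← map_mul, mul_inv_cancel, map_one, MulAut.one_apply]
  have hz'' : z'' ∉ Z := by
    intro hmem
    have hzZg : z ∈ Zg := ⟨z'', hmem, hgz''⟩
    have heq : Z = Zg := eq_of_card_prime_of_mem hp.out Z Zg hcardZ hcardZg z hzZ hzZg hz1
    apply hz'
    show z' ∈ Z
    rw [heq]
    exact hz'Zg
  obtain ⟨t, htS, ht1, htz'⟩ := hstab z' hz'
  obtain ⟨t₀, ht₀S, ht₀1, ht₀z''⟩ := hstab z'' hz''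
  set t' := g * t₀ * g⁻¹ with ht'
  have ht'1 : t' ≠ 1 := by
    intro h0
    apply ht₀1
    have : t₀ = g⁻¹ * t' * g := by rw [ht']; group
    rw [this, h0]; group
  have htC : t ∈ C := h.sc htS
  have ht'C : t' ∈ C := hCn.conj_mem t₀ (h.sc ht₀S) g
  -- fixed points
  have htZ : ∀ w ∈ Z, φ t w = w := fun w hw => hw t htS
  have htZg : ∀ w ∈ Zg, φ t w = w := fix_of_card_prime Zg hcardZg t z' hz'Zg hz'1 htz'
  have ht'z : φ t' z = z := by
    rw [ht', map_mul, map_mul, MulAut.mul_apply, MulAut.mul_apply, ← hz''def, ht₀z'', hgz'']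
  have ht'Z : ∀ w ∈ Z, φ t' w = w := fix_of_card_prime Z hcardZ t' z hzZ hz1 ht'z
  have ht'Zg : ∀ w ∈ Zg, φ t' w = w := by
    rintro w ⟨u, hu, rfl⟩
    show φ t' (φ g u) = φ g u
    rw [ht', ← MulAut.mul_apply, ← map_mul]
    have : g * t₀ * g⁻¹ * g = g * t₀ := by group
    rw [this, map_mul, MulAut.mul_apply, hu t₀ ht₀S]
  -- `t` and `t'` commute on `A`
  have hcommA : φ t * φ t' = φ t' * φ t := by
    apply MulEquiv.ext
    intro a
    rw [MulAut.mul_apply, MulAut.mul_apply]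
    set d := a⁻¹ * φ t a with hd
    set d' := a⁻¹ * φ t' a with hd'
    have hdZ : d ∈ Z := h.quad t htS a
    have hd'Zg : d' ∈ Zg := conj_quad h g t₀ ht₀S a
    have e1 : φ t a = a * d := by rw [hd]; group
    have e2 : φ t' a = a * d' := by rw [hd']; group
    have l1 : φ t (φ t' a) = a * d * d' := by
      calc φ t (φ t' a) = φ t (a * d') := by rw [← e2]
        _ = φ t a * φ t d' := map_mul _ _ _
        _ = a * d * d' := by rw [htZg d' hd'Zg, ← e1]
    have l2 : φ t' (φ t a) = a * d' * d := by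
      calc φ t' (φ t a) = φ t' (a * d) := by rw [← e1]
        _ = φ t' a * φ t' d := map_mul _ _ _
        _ = a * d' * d := by rw [ht'Z d hdZ, ← e2]
    rw [l1, l2, mul_assoc a d d', mul_assoc a d' d, h.comm d d']
  have hcomm : t * t' = t' * t := by
    have h1 : ⁅t, t'⁆ ∈ C := by
      rw [commutatorElement_def]
      exact C.mul_mem (C.mul_mem (C.mul_mem htC ht'C) (C.inv_mem htC)) (C.inv_mem ht'C)
    have h2 : φ ⁅t, t'⁆ = 1 := by
      rw [map_commutatorElement, commutatorElement_eq_one_iff_mul_comm]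
      exact hcommA
    exact commutatorElement_eq_one_iff_mul_comm.1 (h.faith _ h1 h2)
  -- the subgroup generated by `t` and `t'` is a `p`-group
  have hpt : IsPGroup p (Subgroup.zpowers t) := h.spg.to_le (Subgroup.zpowers_le.2 htS)
  have hpt' : IsPGroup p (Subgroup.zpowers t') := by
    have h1 : IsPGroup p (S.map (MulAut.conj g).toMonoidHom) := h.spg.map _
    refine h1.to_le (Subgroup.zpowers_le.2 ?_)
    exact ⟨t₀, ht₀S, by simp [ht']⟩
  have hnorm : Subgroup.zpowers t ≤ Subgroup.normalizer (Subgroup.zpowers t' : Set H) := by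
    refine le_trans ?_ (Subgroup.centralizer_le_normalizer _)
    rw [Subgroup.zpowers_le, Subgroup.mem_centralizer_iff]
    intro y hy
    obtain ⟨i, rfl⟩ := Subgroup.mem_zpowers_iff.1 hy
    have : Commute t' t := hcomm.symm
    exact (this.zpow_left i).eq
  have hT : IsPGroup p ↥(Subgroup.zpowers t ⊔ Subgroup.zpowers t') :=
    hpt.to_sup_of_normal_right' hpt' hnorm
  obtain ⟨Q, hQ⟩ := hT.exists_le_sylow
  obtain ⟨hh, hhQ⟩ := MulAction.exists_smul_eq H S' Q
  have hQmem : ∀ x ∈ (Q : Subgroup H), ∃ s ∈ S, hh * s * hh⁻¹ = x := by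
    intro x hx
    rw [← hhQ, Sylow.coe_subgroup_smul] at hx
    obtain ⟨s, hs, rfl⟩ := (Subgroup.mem_smul_pointwise_iff_exists _ _ _).1 hx
    refine ⟨s, ?_, rfl⟩
    rw [← hS']; exact hs
  obtain ⟨t₁, ht₁S, ht₁⟩ := hQmem t (hQ ((le_sup_left : Subgroup.zpowers t ≤ _)
    (Subgroup.mem_zpowers t)))
  obtain ⟨t₂, ht₂S, ht₂⟩ := hQmem t' (hQ ((le_sup_right : Subgroup.zpowers t' ≤ _)
    (Subgroup.mem_zpowers t')))
  set Zh := Z.map (φ hh).toMonoidHom with hZh
  have hcardZh : Nat.card Zh = p := by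
    rw [hZh, Subgroup.card_map_of_injective (φ hh).injective, hcardZ]
  -- `Z = Zh`
  have hmove : ∀ x ∈ C, x ≠ 1 → ∃ a : A, a⁻¹ * φ x a ≠ 1 := by
    intro x hxC hx1
    by_contra hcon
    push Not at hcon
    apply hx1
    apply h.faith x hxC
    apply MulEquiv.ext
    intro a
    have := hcon a
    rw [inv_mul_eq_one] at this
    rw [MulAut.one_apply]
    exact this.symm
  have hZZh : Z = Zh := by
    obtain ⟨a, ha⟩ := hmove t htC ht1
    have h1 : a⁻¹ * φ t a ∈ Z := h.quad t htS a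
    have h2 : a⁻¹ * φ t a ∈ Zh := by
      have := conj_quad h hh t₁ ht₁S a
      rwa [ht₁] at this
    exact eq_of_card_prime_of_mem hp.out Z Zh hcardZ hcardZh _ h1 h2 ha
  have hZgZh : Zg = Zh := by
    obtain ⟨a, ha⟩ := hmove t' ht'C ht'1
    have h1 : a⁻¹ * φ t' a ∈ Zg := conj_quad h g t₀ ht₀S a
    have h2 : a⁻¹ * φ t' a ∈ Zh := by
      have := conj_quad h hh t₂ ht₂S a
      rwa [ht₂] at this
    exact eq_of_card_prime_of_mem hp.out Zg Zh hcardZg hcardZh _ h1 h2 ha
  apply hz'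
  show z' ∈ Z
  rw [hZZh, ← hZgZh]
  exact hz'Zg

/-- when `S` has order `p`, the module `A` has order dividing `p ^ 2` -/
theorem card_dvd_sq (h : Ctx φ p S C) (hZ1 : fixOf φ S ≠ ⊥) (hS : Nat.card S = p) :
    Nat.card A ∣ p ^ 2 := by
  classical
  set Z := fixOf φ S with hZ
  have hcardZ := card_fix_eq h hZ1
  obtain ⟨s, hsS, hs1⟩ : ∃ s ∈ S, s ≠ 1 := by
    by_contra hcon
    push Not at hcon
    apply h.ne
    rw [eq_bot_iff]
    intro x hx
    rw [Subgroup.mem_bot]
    exact hcon x hx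
  have hzS : Subgroup.zpowers s = S := by
    have hpow : s ^ p = 1 := h.sexp s hsS
    have hcz : Nat.card (Subgroup.zpowers s) = p := by
      rw [Nat.card_zpowers]; exact orderOf_eq_prime hpow hs1
    exact Subgroup.eq_of_le_of_card_ge (Subgroup.zpowers_le.2 hsS) (by rw [hcz, hS])
  let χ : A →* ↥Z := MonoidHom.mk' (fun a => ⟨a⁻¹ * φ s a, h.quad s hsS a⟩) (by
    intro a b
    apply Subtype.ext
    show (a * b)⁻¹ * φ s (a * b) = (a⁻¹ * φ s a) * (b⁻¹ * φ s b)
    rw [map_mul, mul_inv_rev, h.comm b⁻¹ a⁻¹]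
    calc a⁻¹ * b⁻¹ * (φ s a * φ s b) = a⁻¹ * (b⁻¹ * φ s a) * φ s b := by group
      _ = a⁻¹ * (φ s a * b⁻¹) * φ s b := by rw [h.comm b⁻¹ (φ s a)]
      _ = _ := by group)
  have hχ : ∀ a : A, ((χ a : Z) : A) = a⁻¹ * φ s a := fun a => rfl
  have hker : χ.ker ≤ Z := by
    intro a ha
    rw [MonoidHom.mem_ker] at ha
    have h1 : a⁻¹ * φ s a = 1 := by
      have := congrArg Subtype.val ha
      rwa [hχ] at this
    rw [inv_mul_eq_one] at h1
    intro b hb
    rw [← hzS] at hb
    obtain ⟨i, rfl⟩ := Subgroup.mem_zpowers_iff.1 hb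
    rw [map_zpow]
    have h2 : ∀ n : ℕ, ((φ s) ^ n) a = a := by
      intro n
      induction n with
      | zero => simp
      | succ n ih => rw [pow_succ, MulAut.mul_apply, ← h1, ih]
    cases i with
    | ofNat n => rw [Int.ofNat_eq_natCast, zpow_natCast]; exact h2 n
    | negSucc n =>
      rw [zpow_negSucc]
      have := h2 (n + 1)
      calc ((φ s ^ (n + 1))⁻¹) a = ((φ s ^ (n + 1))⁻¹) (((φ s) ^ (n + 1)) a) := by rw [this]
        _ = a := by rw [← MulAut.mul_apply, inv_mul_cancel, MulAut.one_apply]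
  have h1 := Subgroup.card_eq_card_quotient_mul_card_subgroup χ.ker
  have h2 : Nat.card (A ⧸ χ.ker) = Nat.card χ.range :=
    Nat.card_congr (QuotientGroup.quotientKerEquivRange χ).toEquiv
  have h3 : Nat.card χ.range ∣ p := by
    rw [← hcardZ]; exact Subgroup.card_subgroup_dvd_card _
  have h4 : Nat.card χ.ker ∣ p := by
    rw [← hcardZ]; exact Subgroup.card_dvd_of_le hker
  rw [h1, h2, pow_two]
  exact Nat.mul_dvd_mul h3 h4

end AB

end Cfsg.Agent.Helper7.SchSyl
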