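import Mathlib
import Cfsg.Agent.Helper7.SchSylA
import Cfsg.Agent.Helper7.SchSylC
import Cfsg.Agent.Helper4.HallHigman
import Cfsg.Agent.Helper4.PCore
import Cfsg.Agent.Helper1.Basic

set_option autoImplicit false

/-!
Application of the abstract module argument of `SchSylC` inside a `p`-solvable group `G` with
`O_{p'}(G) = 1`: the module is `Z(O_p(G))`, acted on by `G / O_p(G)`.
-/

namespace Cfsg.Agent.Helper7.SchSyl

open scoped commutatorElement

universe u

section D

variable {G : Type u} [Group G]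

/-- the properties of `SchSyl` for a subgroup, stated inside the ambient group -/
structure SchIn (p : ℕ) (T : Subgroup G) : Prop where
  class2 : ∀ x ∈ T, ∀ y ∈ T, ⁅x, y⁆ ∈ Subgroup.centralizer (T : Set G)
  pow_mem : ∀ x ∈ T, x ^ p ∈ Subgroup.centralizer (T : Set G)
  se : ∀ x ∈ T, x ∉ Subgroup.centralizer (T : Set G) → ∀ z ∈ T,
    z ∈ Subgroup.centralizer (T : Set G) → ∃ s ∈ T, ⁅x, s⁆ = z
  three : p = 3 → Nat.card T ≠ 27
  two : p = 2 → Nat.card T = 8 → ∀ x ∈ T, x ∉ Subgroup.centralizer (T : Set G) → x ^ 2 ≠ 1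

theorem mem_center_subtype_iff (T : Subgroup G) (x : ↥T) :
    x ∈ Subgroup.center ↥T ↔ (x : G) ∈ Subgroup.centralizer (T : Set G) := by
  rw [Subgroup.mem_center_iff, Subgroup.mem_centralizer_iff]
  constructor
  · intro h t ht
    exact congrArg Subtype.val (h ⟨t, ht⟩)
  · intro h t
    exact Subtype.ext (h t t.2)

theorem SchIn.of_schSyl {p : ℕ} {T : Subgroup G} (h : SchSyl p ↥T) : SchIn p T := by
  refine ⟨?_, ?_, ?_, h.three, ?_⟩
  · intro x hx y hy
    have := h.class2 ⟨x, hx⟩ ⟨y, hy⟩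
    rw [mem_center_subtype_iff] at this
    exact this
  · intro x hx
    have := h.pow_mem ⟨x, hx⟩
    rw [mem_center_subtype_iff] at this
    exact this
  · intro x hx hxc z hz hzc
    obtain ⟨s, hs⟩ := h.se ⟨x, hx⟩ (fun hmem => hxc ((mem_center_subtype_iff T _).1 hmem))
      ⟨z, hz⟩ ((mem_center_subtype_iff T _).2 hzc)
    exact ⟨s, s.2, congrArg Subtype.val hs⟩
  · intro hp hcard x hx hxc hx2
    apply h.two hp hcard ⟨x, hx⟩ (fun hmem => hxc ((mem_center_subtype_iff T _).1 hmem))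
    exact Subtype.ext hx2

/-- `Z(O_p(G))` -/
def zR (p : ℕ) (G : Type u) [Group G] : Subgroup G :=
  Cfsg.pCore p G ⊓ Subgroup.centralizer (Cfsg.pCore p G : Set G)

instance zR_normal (p : ℕ) : (zR p G).Normal := by
  unfold zR
  infer_instance

theorem zR_le_pCore (p : ℕ) : zR p G ≤ Cfsg.pCore p G := inf_le_left

theorem zR_le_centralizer (p : ℕ) :
    zR p G ≤ Subgroup.centralizer (Cfsg.pCore p G : Set G) := inf_le_right

/-- the action of `G / O_p(G)` on `Z(O_p(G))` -/
noncomputable def actR (p : ℕ) (G : Type u) [Group G] :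
    G ⧸ Cfsg.pCore p G →* MulAut ↥(zR p G) :=
  QuotientGroup.lift (Cfsg.pCore p G) (MulAut.conjNormal (H := zR p G)) (by
    intro r hr
    rw [MonoidHom.mem_ker]
    apply MulEquiv.ext
    intro a
    apply Subtype.ext
    rw [MulAut.conjNormal_apply, MulAut.one_apply]
    have h1 := (Subgroup.mem_centralizer_iff.1 (zR_le_centralizer p a.2)) r hr
    rw [h1, mul_assoc, mul_inv_cancel, mul_one])

theorem actR_mk (p : ℕ) (g : G) (a : ↥(zR p G)) :
    ((actR p G (QuotientGroup.mk g) a : ↥(zR p G)) : G) = g * a * g⁻¹ := by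
  unfold actR
  rw [QuotientGroup.lift_mk, MulAut.conjNormal_apply]

/-- the centralizer of `O_p(G) / Z(O_p(G))` -/
def cR (p : ℕ) (G : Type u) [Group G] : Subgroup G :=
  (Subgroup.centralizer (((Cfsg.pCore p G).map (QuotientGroup.mk' (zR p G)) :
    Subgroup (G ⧸ zR p G)) : Set (G ⧸ zR p G))).comap (QuotientGroup.mk' (zR p G))

instance cR_normal (p : ℕ) : (cR p G).Normal := by
  unfold cR
  have : ((Cfsg.pCore p G).map (QuotientGroup.mk' (zR p G))).Normal :=
    Subgroup.Normal.map inferInstance _ (QuotientGroup.mk'_surjective _)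
  infer_instance

theorem mem_cR (p : ℕ) (g : G) :
    g ∈ cR p G ↔ ∀ r ∈ Cfsg.pCore p G, ⁅g, r⁆ ∈ zR p G := by
  unfold cR
  rw [Subgroup.mem_comap, Subgroup.mem_centralizer_iff]
  constructor
  · intro h r hr
    have h1 := h (QuotientGroup.mk' (zR p G) r) (Subgroup.mem_map_of_mem _ hr)
    rw [← map_mul, ← map_mul, QuotientGroup.mk'_apply, QuotientGroup.mk'_apply,
      QuotientGroup.eq] at h1
    have h2 := (inferInstance : (zR p G).Normal).mem_comm h1
    have h3 : g * r * (r * g)⁻¹ = ⁅g, r⁆ := by rw [commutatorElement_def]; group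
    rw [h3] at h2
    exact h2
  · intro h x hx
    obtain ⟨r, hr, rfl⟩ := Subgroup.mem_map.1 hx
    rw [← map_mul, ← map_mul, QuotientGroup.mk'_apply, QuotientGroup.mk'_apply,
      QuotientGroup.eq]
    have h2 := h r hr
    have h3 : ⁅g, r⁆ = g * r * (r * g)⁻¹ := by rw [commutatorElement_def]; group
    rw [h3] at h2
    exact (inferInstance : (zR p G).Normal).mem_comm h2

section Fin

variable [Finite G] {p : ℕ} [hp : Fact p.Prime]

omit [Finite G] hp in
theorem mem_fixOf_actR_iff (T : Subgroup G) (a : ↥(zR p G)) :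
    a ∈ fixOf (actR p G) (T.map (QuotientGroup.mk' (Cfsg.pCore p G))) ↔
      (a : G) ∈ Subgroup.centralizer (T : Set G) := by
  rw [mem_fixOf, Subgroup.mem_centralizer_iff]
  constructor
  · intro h t ht
    have h1 := h (QuotientGroup.mk' (Cfsg.pCore p G) t) (Subgroup.mem_map_of_mem _ ht)
    have h2 := congrArg Subtype.val h1
    rw [QuotientGroup.mk'_apply, actR_mk] at h2
    calc t * (a : G) = t * a * t⁻¹ * t := by group
      _ = a * t := by rw [h2]
  · intro h b hb
    obtain ⟨t, ht, rfl⟩ := Subgroup.mem_map.1 hb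
    apply Subtype.ext
    rw [QuotientGroup.mk'_apply, actR_mk, h t ht, mul_assoc, mul_inv_cancel, mul_one]

theorem mem_zR_of_mem_centralizer (hG : Cfsg.IsPSolvable p G) (hO : Cfsg.pPrimeCore p G = ⊥)
    (S : Sylow p G) {z : G} (hz : z ∈ Subgroup.centralizer ((S : Subgroup G) : Set G)) :
    z ∈ zR p G := by
  have hRS : Cfsg.pCore p G ≤ (S : Subgroup G) := Cfsg.Agent.Helper4.pCore_le_sylow S
  have h1 : z ∈ Subgroup.centralizer (Cfsg.pCore p G : Set G) :=
    Subgroup.centralizer_le (by exact_mod_cast hRS) hz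
  exact ⟨Cfsg.Agent.Helper4.centralizer_pCore_le_of_isPSolvable hG hO h1, h1⟩

/-- elements of `cR` centralizing `Z(O_p(G))` lie in `O_p(G)` -/
theorem mem_pCore_of_mem_cR (hG : Cfsg.IsPSolvable p G) (hO : Cfsg.pPrimeCore p G = ⊥)
    (u : G) (hu : u ∈ cR p G) (hc : ∀ a ∈ zR p G, u * a * u⁻¹ = a) : u ∈ Cfsg.pCore p G := by
  set R := Cfsg.pCore p G with hR
  have hRp : IsPGroup p R := Cfsg.Agent.Helper4.pCore_isPGroup
  have hAp : IsPGroup p (zR p G) := hRp.to_le (zR_le_pCore p)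
  obtain ⟨a, ha⟩ := IsPGroup.iff_card.1 hAp
  obtain ⟨b, hb⟩ := IsPGroup.iff_card.1 hRp
  set D := cR p G ⊓ Subgroup.centralizer (zR p G : Set G) with hD
  have hDn : D.Normal := by rw [hD]; infer_instance
  have hDp : IsPGroup p D := by
    rintro ⟨d, hd⟩
    refine ⟨a + b, Subtype.ext ?_⟩
    show d ^ p ^ (a + b) = 1
    have hd1 : d ∈ cR p G := hd.1
    have hd2 : ∀ c ∈ zR p G, d * c * d⁻¹ = c := by
      intro c hc
      have := Subgroup.mem_centralizer_iff.1 hd.2 c hc
      rw [← this, mul_assoc, mul_inv_cancel, mul_one]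
    have key : ∀ r ∈ R, ∀ n : ℕ, d ^ n * r * (d ^ n)⁻¹ = ⁅d, r⁆ ^ n * r := by
      intro r hr n
      induction n with
      | zero => simp
      | succ n ih =>
        have hcz : ⁅d, r⁆ ∈ zR p G := (mem_cR p d).1 hd1 r hr
        have e1 : d ^ (n + 1) * r * (d ^ (n + 1))⁻¹ = d * (d ^ n * r * (d ^ n)⁻¹) * d⁻¹ := by
          rw [pow_succ']; group
        rw [e1, ih]
        have e2 : d * (⁅d, r⁆ ^ n * r) * d⁻¹ = (d * ⁅d, r⁆ ^ n * d⁻¹) * (d * r * d⁻¹) := by group
        have e3 : d * ⁅d, r⁆ ^ n * d⁻¹ = ⁅d, r⁆ ^ n := hd2 _ (Subgroup.pow_mem _ hcz n)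
        have e4 : d * r * d⁻¹ = ⁅d, r⁆ * r := by rw [commutatorElement_def]; group
        rw [e2, e3, e4, ← mul_assoc, ← pow_succ]
    have hcen : d ^ p ^ a ∈ Subgroup.centralizer (R : Set G) := by
      rw [Subgroup.mem_centralizer_iff]
      intro r hr
      have hcz : ⁅d, r⁆ ∈ zR p G := (mem_cR p d).1 hd1 r hr
      have h1 : ⁅d, r⁆ ^ p ^ a = 1 := by
        have : (⟨_, hcz⟩ : zR p G) ^ Nat.card (zR p G) = 1 := pow_card_eq_one'
        rw [ha] at this
        exact congrArg Subtype.val this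
      have h2 := key r hr (p ^ a)
      rw [h1, one_mul] at h2
      calc r * d ^ p ^ a = d ^ p ^ a * r * (d ^ p ^ a)⁻¹ * d ^ p ^ a := by rw [h2]
        _ = d ^ p ^ a * r := by group
    have hmem : d ^ p ^ a ∈ R :=
      Cfsg.Agent.Helper4.centralizer_pCore_le_of_isPSolvable hG hO hcen
    have h3 : (d ^ p ^ a) ^ p ^ b = 1 := by
      have : (⟨_, hmem⟩ : R) ^ Nat.card R = 1 := pow_card_eq_one'
      rw [hb] at this
      exact congrArg Subtype.val this
    rw [pow_add, pow_mul]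
    exact h3
  have huD : u ∈ D := by
    refine Subgroup.mem_inf.2 ⟨hu, ?_⟩
    rw [Subgroup.mem_centralizer_iff]
    intro c hc'
    have := hc c hc'
    calc c * u = u * c * u⁻¹ * u := by rw [this]
      _ = u * c := by group
  exact Cfsg.Agent.Helper4.le_pCore D hDn hDp huD

/-- the standing hypotheses of `SchSylC` hold for the action of `G / O_p(G)` on `Z(O_p(G))` -/
theorem ctx_of_schIn (hG : Cfsg.IsPSolvable p G) (hO : Cfsg.pPrimeCore p G = ⊥) (S : Sylow p G)
    (hS : SchIn p (S : Subgroup G)) (hSR : ¬ (S : Subgroup G) ≤ Cfsg.pCore p G) :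
    Ctx (actR p G) p ((S : Subgroup G).map (QuotientGroup.mk' (Cfsg.pCore p G)))
      ((cR p G).map (QuotientGroup.mk' (Cfsg.pCore p G))) := by
  have hRS : Cfsg.pCore p G ≤ (S : Subgroup G) := Cfsg.Agent.Helper4.pCore_le_sylow S
  have hZ : ∀ z : G, z ∈ Subgroup.centralizer ((S : Subgroup G) : Set G) → z ∈ zR p G :=
    fun z hz => mem_zR_of_mem_centralizer hG hO S hz
  have hAS : ∀ a : ↥(zR p G), (a : G) ∈ (S : Subgroup G) := fun a => hRS (zR_le_pCore p a.2)
  refine
    { comm := ?_, pgrp := ?_, sol := ?_, core := ?_, ne := ?_, spg := ?_, scomm := ?_,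
      sexp := ?_, quad := ?_, unif := ?_, cn := ?_, sc := ?_, faith := ?_ }
  · intro a b
    apply Subtype.ext
    rw [Subgroup.coe_mul, Subgroup.coe_mul]
    exact Subgroup.mem_centralizer_iff.1 (zR_le_centralizer p b.2) a (zR_le_pCore p a.2)
  · exact (Cfsg.Agent.Helper4.pCore_isPGroup).to_le (zR_le_pCore p)
  · exact Cfsg.Agent.Helper4.isPSolvable_quotient hG _
  · exact Cfsg.Agent.Helper3.HHAb.pCore_quotient_pCore p
  · intro h
    apply hSR
    intro s hs
    have h1 : QuotientGroup.mk' (Cfsg.pCore p G) s ∈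
        (S : Subgroup G).map (QuotientGroup.mk' (Cfsg.pCore p G)) :=
      Subgroup.mem_map_of_mem _ hs
    rw [h, Subgroup.mem_bot] at h1
    exact (QuotientGroup.eq_one_iff s).1 h1
  · exact S.isPGroup'.map _
  · intro sb hsb tb htb
    obtain ⟨s, hs, rfl⟩ := Subgroup.mem_map.1 hsb
    obtain ⟨t, ht, rfl⟩ := Subgroup.mem_map.1 htb
    rw [← map_mul, ← map_mul, QuotientGroup.mk'_apply, QuotientGroup.mk'_apply,
      QuotientGroup.eq]
    have h1 : (s * t)⁻¹ * (t * s) = ⁅t⁻¹, s⁻¹⁆ := by rw [commutatorElement_def]; group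
    rw [h1]
    exact zR_le_pCore p (hZ _ (hS.class2 _ (Subgroup.inv_mem _ ht) _ (Subgroup.inv_mem _ hs)))
  · intro sb hsb
    obtain ⟨s, hs, rfl⟩ := Subgroup.mem_map.1 hsb
    rw [← map_pow, QuotientGroup.mk'_apply, QuotientGroup.eq_one_iff]
    exact zR_le_pCore p (hZ _ (hS.pow_mem s hs))
  · intro sb hsb a
    obtain ⟨s, hs, rfl⟩ := Subgroup.mem_map.1 hsb
    rw [mem_fixOf_actR_iff, Subgroup.coe_mul, Subgroup.coe_inv, QuotientGroup.mk'_apply, actR_mk]
    have h1 : (a : G)⁻¹ * (s * a * s⁻¹) = ⁅(a : G)⁻¹, s⁆ := by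
      rw [commutatorElement_def]; group
    rw [h1]
    exact hS.class2 _ (Subgroup.inv_mem _ (hAS a)) _ hs
  · intro a ha z hz
    rw [mem_fixOf_actR_iff] at ha hz
    have ha' : (a : G)⁻¹ ∉ Subgroup.centralizer ((S : Subgroup G) : Set G) := by
      intro h
      apply ha
      have := Subgroup.inv_mem _ h
      rwa [inv_inv] at this
    obtain ⟨s, hs, hsz⟩ := hS.se _ (Subgroup.inv_mem _ (hAS a)) ha' z (hAS z) hz
    refine ⟨QuotientGroup.mk' (Cfsg.pCore p G) s, Subgroup.mem_map_of_mem _ hs, ?_⟩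
    apply Subtype.ext
    rw [Subgroup.coe_mul, Subgroup.coe_inv, QuotientGroup.mk'_apply, actR_mk, ← hsz,
      commutatorElement_def]
    group
  · exact Subgroup.Normal.map inferInstance _ (QuotientGroup.mk'_surjective _)
  · apply Subgroup.map_mono
    intro s hs
    rw [mem_cR]
    intro r hr
    exact hZ _ (hS.class2 s hs r (hRS hr))
  · intro h hh hφ
    obtain ⟨u, hu, rfl⟩ := Subgroup.mem_map.1 hh
    rw [QuotientGroup.mk'_apply, QuotientGroup.eq_one_iff]
    apply mem_pCore_of_mem_cR hG hO u hu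
    intro a ha
    have h1 : actR p G (QuotientGroup.mk u) ⟨a, ha⟩ = ⟨a, ha⟩ := by
      rw [QuotientGroup.mk'_apply] at hφ
      rw [hφ, MulAut.one_apply]
    have h2 := congrArg Subtype.val h1
    rw [actR_mk] at h2
    exact h2

set_option maxHeartbeats 1000000 in
/-- Step C: a non-abelian Sylow `p`-subgroup of Schmidt type that is not normal has order `p ^ 3`
and contains a non-central element of order dividing `p` -/
theorem card_eq_cube (hG : Cfsg.IsPSolvable p G) (hO : Cfsg.pPrimeCore p G = ⊥) (S : Sylow p G)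
    (hS : SchIn p (S : Subgroup G))
    (hnab : ¬ (S : Subgroup G) ≤ Subgroup.centralizer ((S : Subgroup G) : Set G))
    (hSR : ¬ (S : Subgroup G) ≤ Cfsg.pCore p G) :
    Nat.card (S : Subgroup G) = p ^ 3 ∧
      ∃ x ∈ (S : Subgroup G), x ∉ Subgroup.centralizer ((S : Subgroup G) : Set G) ∧
        x ^ p = 1 := by
  classical
  have hctx := ctx_of_schIn hG hO S hS hSR
  have hRS : Cfsg.pCore p G ≤ (S : Subgroup G) := Cfsg.Agent.Helper4.pCore_le_sylow S
  have hZ : ∀ z : G, z ∈ Subgroup.centralizer ((S : Subgroup G) : Set G) → z ∈ zR p G :=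
    fun z hz => mem_zR_of_mem_centralizer hG hO S hz
  have hfix := mem_fixOf_actR_iff (p := p) (S : Subgroup G)
  set Sb := (S : Subgroup G).map (QuotientGroup.mk' (Cfsg.pCore p G)) with hSb
  set φ := actR p G with hφ
  -- the fixed points are nontrivial
  have hSne : (S : Subgroup G) ≠ ⊥ := by
    intro h
    apply hSR
    rw [h]
    exact bot_le
  haveI : Nontrivial ↥(S : Subgroup G) := (Subgroup.nontrivial_iff_ne_bot _).2 hSne
  haveI : Nontrivial (Subgroup.center ↥(S : Subgroup G)) := S.isPGroup'.center_nontrivial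
  obtain ⟨z₀, hz₀⟩ := exists_ne (1 : Subgroup.center ↥(S : Subgroup G))
  have hz₀c : ((z₀ : ↥(S : Subgroup G)) : G) ∈
      Subgroup.centralizer ((S : Subgroup G) : Set G) :=
    (mem_center_subtype_iff _ _).1 z₀.2
  have hZ1 : fixOf φ Sb ≠ ⊥ := by
    intro h
    have h1 : (⟨_, hZ _ hz₀c⟩ : ↥(zR p G)) ∈ fixOf φ Sb := (hfix _).2 hz₀c
    rw [h, Subgroup.mem_bot] at h1
    apply hz₀
    have h2 : ((z₀ : ↥(S : Subgroup G)) : G) = 1 := congrArg Subtype.val h1
    exact Subtype.ext (Subtype.ext h2)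
  have hcardZ := card_fix_eq hctx hZ1
  obtain ⟨gb, z, hz, hgz⟩ := exists_not_mem_fix hctx hZ1
  have hcardSb : Nat.card Sb = p :=
    card_eq_prime hctx hZ1 (S.mapSurjective (QuotientGroup.mk'_surjective _))
      (Sylow.coe_mapSurjective _ S)
  have hcardA := card_dvd_sq hctx hZ1 hcardSb
  obtain ⟨g, rfl⟩ := QuotientGroup.mk_surjective gb
  have hpowfix : ∀ w ∈ fixOf φ Sb, w ^ p = 1 := by
    intro w hw
    have : (⟨w, hw⟩ : fixOf φ Sb) ^ Nat.card (fixOf φ Sb) = 1 := pow_card_eq_one'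
    rw [hcardZ] at this
    exact congrArg Subtype.val this
  -- `O_p(G)` is abelian
  have hRab : Cfsg.pCore p G ≤ Subgroup.centralizer (Cfsg.pCore p G : Set G) := by
    by_contra hcon
    obtain ⟨r₂, hr₂, hr₂c⟩ := SetLike.not_le_iff_exists.1 hcon
    rw [Subgroup.mem_centralizer_iff] at hr₂c
    push Not at hr₂c
    obtain ⟨r₁, hr₁, hne⟩ := hr₂c
    have hr₁' : r₁ ∈ Cfsg.pCore p G := hr₁
    have hcc : ⁅r₁, r₂⁆ ∈ Subgroup.centralizer ((S : Subgroup G) : Set G) :=
      hS.class2 _ (hRS hr₁') _ (hRS hr₂)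
    have hc1 : ⁅r₁, r₂⁆ ≠ 1 := by
      intro h
      apply hne
      rw [commutatorElement_eq_one_iff_mul_comm] at h
      exact h
    set c : ↥(zR p G) := ⟨_, hZ _ hcc⟩ with hc
    have hcfix : c ∈ fixOf φ Sb := (hfix c).2 hcc
    have hcne : c ≠ 1 := by
      intro h
      apply hc1
      exact congrArg Subtype.val h
    have hcp : c ^ p = 1 := hpowfix c hcfix
    have hzp : Subgroup.zpowers c = fixOf φ Sb := by
      apply Subgroup.eq_of_le_of_card_ge (Subgroup.zpowers_le.2 hcfix)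
      rw [hcardZ, Nat.card_zpowers, orderOf_eq_prime hcp hcne]
    have hgc : φ (QuotientGroup.mk g) c ∈ fixOf φ Sb := by
      rw [hfix, hφ, actR_mk]
      have e1 : g * (c : G) * g⁻¹ = ⁅g * r₁ * g⁻¹, g * r₂ * g⁻¹⁆ := by
        show g * ⁅r₁, r₂⁆ * g⁻¹ = ⁅g * r₁ * g⁻¹, g * r₂ * g⁻¹⁆
        rw [commutatorElement_def, commutatorElement_def]; group
      rw [e1]
      have hn : (Cfsg.pCore p G).Normal := inferInstance
      exact hS.class2 _ (hRS (hn.conj_mem _ hr₁' g)) _ (hRS (hn.conj_mem _ hr₂ g))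
    apply hgz
    rw [← hzp] at hz
    obtain ⟨i, rfl⟩ := Subgroup.mem_zpowers_iff.1 hz
    rw [map_zpow]
    exact Subgroup.zpow_mem _ hgc i
  have hAR : zR p G = Cfsg.pCore p G :=
    le_antisymm (zR_le_pCore p) (fun r hr => Subgroup.mem_inf.2 ⟨hr, hRab hr⟩)
  have hcardR : Nat.card (Cfsg.pCore p G) ∣ p ^ 2 := by
    rw [← hAR]; exact hcardA
  obtain ⟨m, hm, hRm⟩ := (Nat.dvd_prime_pow hp.out).1 hcardR
  have hcardS : Nat.card (S : Subgroup G) = p ^ (m + 1) := by
    have h1 := Cfsg.Agent.Helper1.relIndex_mul_card_of_le hRS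
    have h2 : (Cfsg.pCore p G).relIndex (S : Subgroup G) = Nat.card Sb := by
      have := Subgroup.relIndex_ker (K := (S : Subgroup G)) (QuotientGroup.mk' (Cfsg.pCore p G))
      rw [QuotientGroup.ker_mk'] at this
      exact this
    rw [h2, hcardSb, hRm] at h1
    rw [← h1, pow_succ']
  have hm2 : m = 2 := by
    by_contra hm2
    apply hnab
    have hcomm : ∀ a b : ↥(S : Subgroup G), a * b = b * a := by
      have hm' : m = 0 ∨ m = 1 := by omega
      rcases hm' with rfl | rfl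
      · rw [zero_add, pow_one] at hcardS
        have := isCyclic_of_prime_card hcardS
        exact fun a b => (IsCyclic.isMulCommutative (α := ↥(S : Subgroup G))).is_comm.comm a b
      · have hcardS' : Nat.card ↥(S : Subgroup G) = p ^ 2 := hcardS
        exact fun a b =>
          ((IsPGroup.isMulCommutative_of_card_eq_prime_sq hcardS').is_comm).comm a b
    intro s hs
    rw [Subgroup.mem_centralizer_iff]
    intro t ht
    exact congrArg Subtype.val (hcomm ⟨t, ht⟩ ⟨s, hs⟩)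
  refine ⟨by rw [hcardS, hm2], ?_⟩
  refine ⟨(φ (QuotientGroup.mk g) z : ↥(zR p G)), hRS (zR_le_pCore p (φ _ z).2), ?_, ?_⟩
  · intro h
    exact hgz ((hfix _).2 h)
  · rw [← Subgroup.coe_pow, ← map_pow, hpowfix z hz, map_one, Subgroup.coe_one]

/-- the primes `2` and `3` -/
theorem false_of_two_or_three (hp23 : p = 2 ∨ p = 3) (hG : Cfsg.IsPSolvable p G)
    (hO : Cfsg.pPrimeCore p G = ⊥) (S : Sylow p G) (hS : SchIn p (S : Subgroup G))
    (hnab : ¬ (S : Subgroup G) ≤ Subgroup.centralizer ((S : Subgroup G) : Set G))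
    (hSR : ¬ (S : Subgroup G) ≤ Cfsg.pCore p G) : False := by
  obtain ⟨hcard, x, hxS, hxc, hxp⟩ := card_eq_cube hG hO S hS hnab hSR
  rcases hp23 with h2 | h3
  · subst h2
    exact hS.two rfl (by rw [hcard]; norm_num) x hxS hxc hxp
  · subst h3
    exact hS.three rfl (by rw [hcard]; norm_num)

end Fin

end D

end Cfsg.Agent.Helper7.SchSyl
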