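import Mathlib
import Cfsg.Agent.Helper7.SchSylD
import Cfsg.Agent.Helper3.FrMod
import Cfsg.Agent.Helper3.ShHHBabs
import Cfsg.Agent.Helper3.HHAbA

set_option autoImplicit false

/-!
The primes `p > 3`: a `p`-element outside `O_p(G)` acting quadratically on `O_p(G)` contradicts
Hall–Higman's Theorem B.  Then the assembly: in a `p`-solvable group with `O_{p'}(G) = 1` a Sylow
`p`-subgroup of Schmidt type is normal.
-/

namespace Cfsg.Agent.Helper7.SchSyl

open scoped commutatorElement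

open Module Cfsg.Agent.Helper3.Shult Cfsg.Agent.Helper3.Wr

universe u

variable {G : Type u} [Group G] [Finite G] {p : ℕ} [hp : Fact p.Prime]

set_option maxHeartbeats 2000000 in
/-- quadratic action of a `p`-element outside `O_p(G)` is impossible for `p > 3` -/
theorem false_of_quadratic (hp3 : 3 < p) (hG : Cfsg.IsPSolvable p G)
    (hO : Cfsg.pPrimeCore p G = ⊥) (x : G) (hxA : x ∉ Cfsg.pCore p G)
    (hxp : x ^ p ∈ Cfsg.pCore p G)
    (hquad : ∀ k ∈ Cfsg.pCore p G, x * ⁅x, k⁆ * x⁻¹ = ⁅x, k⁆) : False := by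
  classical
  have hxbp : (QuotientGroup.mk x : G ⧸ Cfsg.pCore p G) ^ p = 1 := by
    rw [← QuotientGroup.mk_pow, QuotientGroup.eq_one_iff]
    exact hxp
  have hPp : IsPGroup p (Cfsg.pCore p G) := Cfsg.Agent.Helper4.pCore_isPGroup
  have hRn : (Cfsg.pCore p G).Normal := inferInstance
  obtain ⟨V, instV, instM, instF, θ₀, ρ₀, hθsurj, hθker, hequiv⟩ :=
    exists_frattini_module p (Cfsg.pCore p G) hPp
  -- triviality on the core
  have htriv : ∀ u ∈ Cfsg.pCore p G, ρ₀ u = 1 := by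
    intro u hu
    apply LinearMap.ext
    intro w
    obtain ⟨u', hu'⟩ := hθsurj (Multiplicative.ofAdd w)
    have hw : w = Multiplicative.toAdd (θ₀ u') := by rw [hu']; rfl
    rw [hw, hequiv, Module.End.one_apply]
    congr 1
    have hmem : u * (u' : G) * u⁻¹ ∈ Cfsg.pCore p G :=
      (inferInstance : (Cfsg.pCore p G).Normal).conj_mem _ u'.2 u
    have e1 : (⟨u * u' * u⁻¹, hmem⟩ : ↥(Cfsg.pCore p G)) = ⟨u, hu⟩ * u' * ⟨u, hu⟩⁻¹ :=
      Subtype.ext (by simp)
    rw [e1, map_mul, map_mul, map_inv, mul_comm (θ₀ ⟨u, hu⟩), mul_assoc, mul_inv_cancel,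
      mul_one]
  obtain ⟨ρb, hρb⟩ : ∃ ρb : G ⧸ Cfsg.pCore p G →* Module.End (ZMod p) V,
      ∀ g : G, ρb (QuotientGroup.mk g) = ρ₀ g :=
    ⟨QuotientGroup.lift (Cfsg.pCore p G) ρ₀ htriv, fun g => QuotientGroup.lift_mk _ _ g⟩
  have hfaith : ∀ g : G ⧸ Cfsg.pCore p G, ρb g = 1 → g = 1 := by
    intro g hg
    obtain ⟨g, rfl⟩ := QuotientGroup.mk_surjective g
    rw [hρb] at hg
    rw [QuotientGroup.eq_one_iff]
    apply Cfsg.Agent.Helper4.mem_pCore_of_commutator_mem_frattini hG hO g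
    intro k hk
    have h1 := hequiv g ⟨k, hk⟩
    rw [hg, Module.End.one_apply] at h1
    have hmem : g * k * g⁻¹ ∈ Cfsg.pCore p G :=
      (inferInstance : (Cfsg.pCore p G).Normal).conj_mem k hk g
    have h2 : θ₀ ⟨g * k * g⁻¹, hmem⟩ = θ₀ ⟨k, hk⟩ := (congrArg Multiplicative.ofAdd h1).symm
    have h3 : θ₀ (⟨g * k * g⁻¹, hmem⟩ * ⟨k, hk⟩⁻¹) = 1 := by
      rw [map_mul, map_inv, h2, mul_inv_cancel]
    rw [hθker] at h3
    exact ⟨_, h3, rfl⟩
  haveI : FiniteDimensional (ZMod p) V := Module.Finite.of_finite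
  have hsolH : Cfsg.IsPSolvable p (G ⧸ Cfsg.pCore p G) :=
    Cfsg.Agent.Helper4.isPSolvable_quotient hG _
  have hOpH : Cfsg.pCore p (G ⧸ Cfsg.pCore p G) = ⊥ :=
    Cfsg.Agent.Helper3.HHAb.pCore_quotient_pCore p
  -- the quadratic action
  have hstep : ∀ u : ↥(Cfsg.pCore p G), (ρ₀ x - 1) (Multiplicative.toAdd (θ₀ u)) =
      Multiplicative.toAdd (θ₀ ⟨⁅x, (u : G)⁆, by
        rw [commutatorElement_def]
        exact Subgroup.mul_mem _ (hRn.conj_mem _ u.2 x) (Subgroup.inv_mem _ u.2)⟩) := by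
    intro u
    rw [LinearMap.sub_apply, Module.End.one_apply, hequiv, ← toAdd_div, ← map_div]
    congr 2
    apply Subtype.ext
    rw [div_eq_mul_inv, Subgroup.coe_mul, Subgroup.coe_inv]
    exact (commutatorElement_def x (u : G)).symm
  have hT : (ρ₀ x - 1) ^ 2 = 0 := by
    apply LinearMap.ext
    intro w
    obtain ⟨u', hu'⟩ := hθsurj (Multiplicative.ofAdd w)
    have hw : w = Multiplicative.toAdd (θ₀ u') := by rw [hu']; rfl
    rw [hw, pow_two, Module.End.mul_apply, hstep, hstep, LinearMap.zero_apply]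
    have h1 : ⁅x, ⁅x, (u' : G)⁆⁆ = 1 := by
      have := hquad u' u'.2
      rw [commutatorElement_def x ⁅x, (u' : G)⁆, this, mul_inv_cancel]
    have h2 : ∀ (y : G) (hy : y ∈ Cfsg.pCore p G), y = 1 →
        Multiplicative.toAdd (θ₀ ⟨y, hy⟩) = 0 := by
      intro y hy hy1
      subst hy1
      have : (⟨1, hy⟩ : ↥(Cfsg.pCore p G)) = 1 := rfl
      rw [this, map_one]
      rfl
    exact h2 _ _ h1
  have hB := hh_B_abs p hsolH hOpH ρb (fun g _ => hfaith g) (QuotientGroup.mk x) 1 le_rfl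
    (by rw [pow_one]; exact hxbp)
    (by
      rw [Nat.sub_self, pow_zero, pow_one]
      intro h
      exact hxA ((QuotientGroup.eq_one_iff x).1 h))
    2 (by rw [hρb]; exact hT)
  rcases hB with h | ⟨n₀, q, m, h1, h2, hq, -, hm, heq, -, hle⟩
  · rw [pow_one] at h
    omega
  · have hn₀ : n₀ = 1 := le_antisymm h2 h1
    rw [hn₀, Nat.sub_self, pow_zero, one_mul, pow_one] at hle
    omega

/-- in a `p`-solvable group with `O_{p'}(G) = 1`, a Sylow `p`-subgroup that is abelian or of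
Schmidt type is normal -/
theorem sylow_le_pCore (hG : Cfsg.IsPSolvable p G) (hO : Cfsg.pPrimeCore p G = ⊥)
    (S : Sylow p G)
    (hS : (∀ a b : ↥(S : Subgroup G), a * b = b * a) ∨ SchSyl p ↥(S : Subgroup G)) :
    (S : Subgroup G) ≤ Cfsg.pCore p G := by
  have hRS : Cfsg.pCore p G ≤ (S : Subgroup G) := Cfsg.Agent.Helper4.pCore_le_sylow S
  have hab : (S : Subgroup G) ≤ Subgroup.centralizer ((S : Subgroup G) : Set G) →
      (S : Subgroup G) ≤ Cfsg.pCore p G := by
    intro h s hs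
    exact zR_le_pCore p (mem_zR_of_mem_centralizer hG hO S (h hs))
  rcases hS with hS | hS
  · apply hab
    intro s hs
    rw [Subgroup.mem_centralizer_iff]
    intro t ht
    exact congrArg Subtype.val (hS ⟨t, ht⟩ ⟨s, hs⟩)
  · by_contra hSR
    have hnab : ¬ (S : Subgroup G) ≤ Subgroup.centralizer ((S : Subgroup G) : Set G) :=
      fun h => hSR (hab h)
    have hS' : SchIn p (S : Subgroup G) := SchIn.of_schSyl hS
    by_cases hp3 : 3 < p
    · obtain ⟨x, hxS, hxR⟩ := SetLike.not_le_iff_exists.1 hSR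
      apply false_of_quadratic hp3 hG hO x hxR
      · exact zR_le_pCore p (mem_zR_of_mem_centralizer hG hO S (hS'.pow_mem x hxS))
      · intro k hk
        have h1 := hS'.class2 x hxS k (hRS hk)
        have h2 := Subgroup.mem_centralizer_iff.1 h1 x hxS
        rw [h2, mul_assoc, mul_inv_cancel, mul_one]
    · have h2 := hp.out.two_le
      have hp23 : p = 2 ∨ p = 3 := by omega
      exact false_of_two_or_three hp23 hG hO S hS' hnab hSR

end Cfsg.Agent.Helper7.SchSyl
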