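import Mathlib

set_option autoImplicit false

namespace Cfsg.Agent.Helper7.Singer

open Polynomial

variable {F L : Type*} [Field F] [Fintype F] [Field L] [Fintype L] [Algebra F L]

/-- The `n`-th power of the `F`-Frobenius is trivial on an extension of degree `n`. -/
theorem frob_pow_card (x : L) : x ^ (Fintype.card F ^ Module.finrank F L) = x := by
  rw [← Module.card_eq_pow_finrank]
  exact FiniteField.pow_card x

/-- Artin independence for the powers of the Frobenius, by counting roots. -/
theorem frob_indep (a : ℕ → F) (m : ℕ) (hm : m ≤ Module.finrank F L)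
    (h : ∀ x : L, ∑ j ∈ Finset.range m, a j • x ^ (Fintype.card F ^ j) = 0) :
    ∀ j < m, a j = 0 := by
  classical
  intro j hj
  have hq : 2 ≤ Fintype.card F := Fintype.one_lt_card
  obtain ⟨P, hP⟩ : ∃ P : L[X], P = ∑ i ∈ Finset.range m,
      C (algebraMap F L (a i)) * X ^ (Fintype.card F ^ i) := ⟨_, rfl⟩
  have heval : ∀ x : L, P.eval x = 0 := by
    intro x
    rw [hP, Polynomial.eval_finset_sum, ← h x]
    refine Finset.sum_congr rfl (fun i _ => ?_)
    rw [Polynomial.eval_mul, Polynomial.eval_C, Polynomial.eval_pow, Polynomial.eval_X,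
      Algebra.smul_def]
  have hdeg : P.natDegree ≤ Fintype.card F ^ (m - 1) := by
    rw [hP]
    apply Polynomial.natDegree_sum_le_of_forall_le
    intro i hi
    rw [Finset.mem_range] at hi
    refine (Polynomial.natDegree_C_mul_X_pow_le _ _).trans ?_
    exact Nat.pow_le_pow_right (by omega) (by omega)
  have hcard : P.natDegree < Fintype.card L := by
    rw [Module.card_eq_pow_finrank (K := F) (V := L)]
    refine hdeg.trans_lt ?_
    exact Nat.pow_lt_pow_right (by omega) (by omega)
  have hP0 : P = 0 :=
    Polynomial.eq_zero_of_natDegree_lt_card_of_eval_eq_zero P Function.injective_id heval hcard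
  have hc : P.coeff (Fintype.card F ^ j) = algebraMap F L (a j) := by
    rw [hP, Polynomial.finset_sum_coeff, Finset.sum_eq_single j]
    · rw [Polynomial.coeff_C_mul_X_pow, if_pos rfl]
    · intro i _ hij
      rw [Polynomial.coeff_C_mul_X_pow, if_neg]
      intro hpow
      exact hij (Nat.pow_right_injective hq hpow).symm
    · intro hjm
      exact absurd (Finset.mem_range.2 hj) hjm
  rw [hP0, Polynomial.coeff_zero] at hc
  exact (map_eq_zero_iff _ (algebraMap F L).injective).1 hc.symm

end Cfsg.Agent.Helper7.Singer
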