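import Mathlib
import Cfsg.Agent.Helper7.SingerA
import Cfsg.Agent.Helper7.InvolF

set_option autoImplicit false

namespace Cfsg.Agent.Helper7.Singer

open Matrix Cfsg.Agent.Helper7.Invol

variable {F : Type*} [Field F] {n : ℕ}

/-- The base vector of the orbit map. -/
def baseVec (hn : 0 < n) : Fin n → F := Pi.single ⟨0, hn⟩ 1

theorem baseVec_ne_zero (hn : 0 < n) : (baseVec hn : Fin n → F) ≠ 0 := by
  intro h
  have := congrFun h ⟨0, hn⟩
  simp [baseVec] at this

/-- The orbit map `k ↦ k v₀` of a subalgebra. -/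
def orbitMap (K : Subalgebra F (Matrix (Fin n) (Fin n) F)) (hn : 0 < n) :
    K →ₗ[F] (Fin n → F) where
  toFun k := (k : Matrix (Fin n) (Fin n) F) *ᵥ baseVec hn
  map_add' a b := by simp [Matrix.add_mulVec]
  map_smul' c a := by simp [Matrix.smul_mulVec]

theorem orbitMap_apply (K : Subalgebra F (Matrix (Fin n) (Fin n) F)) (hn : 0 < n) (k : K) :
    orbitMap K hn k = (k : Matrix (Fin n) (Fin n) F) *ᵥ baseVec hn := rfl

theorem orbitMap_injective {r : ℕ} (K : Subalgebra F (Matrix (Fin n) (Fin n) F))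
    (hK : Cfsg.Geo.IsFieldSubalgebra r K) (hn : 0 < n) : Function.Injective (orbitMap K hn) := by
  rw [← LinearMap.ker_eq_bot, LinearMap.ker_eq_bot']
  intro k hk
  by_contra hk0
  rw [orbitMap_apply] at hk
  exact baseVec_ne_zero hn (mulVec_eq_zero_of_mem K hK k k.2
    (fun h => hk0 (Subtype.ext h)) _ hk)

/-- The orbit map is a linear equivalence when the degree equals the dimension. -/
noncomputable def orbitEquiv (K : Subalgebra F (Matrix (Fin n) (Fin n) F))
    (hK : Cfsg.Geo.IsFieldSubalgebra n K) (hn : 0 < n) : K ≃ₗ[F] (Fin n → F) :=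
  LinearMap.linearEquivOfInjective (orbitMap K hn) (orbitMap_injective K hK hn)
    (by rw [hK.finrank_eq, Module.finrank_fin_fun])

theorem orbitEquiv_apply (K : Subalgebra F (Matrix (Fin n) (Fin n) F))
    (hK : Cfsg.Geo.IsFieldSubalgebra n K) (hn : 0 < n) (k : K) :
    orbitEquiv K hK hn k = (k : Matrix (Fin n) (Fin n) F) *ᵥ baseVec hn := rfl

/-- Every vector is `k v₀` for some `k ∈ K`. -/
theorem exists_rep (K : Subalgebra F (Matrix (Fin n) (Fin n) F))
    (hK : Cfsg.Geo.IsFieldSubalgebra n K) (hn : 0 < n) (v : Fin n → F) :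
    ∃ k ∈ K, v = k *ᵥ baseVec hn := by
  refine ⟨((orbitEquiv K hK hn).symm v : K), ((orbitEquiv K hK hn).symm v).2, ?_⟩
  rw [← orbitEquiv_apply K hK hn, LinearEquiv.apply_symm_apply]

theorem add_pow_card_of_commute [Fintype F] (hn : 0 < n) (A B : Matrix (Fin n) (Fin n) F)
    (h : Commute A B) :
    (A + B) ^ Fintype.card F = A ^ Fintype.card F + B ^ Fintype.card F := by
  classical
  haveI : Nonempty (Fin n) := ⟨⟨0, hn⟩⟩
  haveI : Fact (ringChar F).Prime := ⟨CharP.char_is_prime F _⟩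
  obtain ⟨f, -, hf⟩ := FiniteField.card F (ringChar F)
  rw [hf]
  exact add_pow_char_pow_of_commute _ _ h

/-- The Frobenius `k ↦ k^q` on a field subalgebra, as a linear map. -/
noncomputable def frobLin [Fintype F] {r : ℕ} (K : Subalgebra F (Matrix (Fin n) (Fin n) F))
    (hK : Cfsg.Geo.IsFieldSubalgebra r K) (hn : 0 < n) : K →ₗ[F] K where
  toFun k := k ^ Fintype.card F
  map_add' a b := Subtype.ext (by
    simp only [SubmonoidClass.coe_pow, Subalgebra.coe_add]
    exact add_pow_card_of_commute hn _ _ (hK.comm _ a.2 _ b.2))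
  map_smul' c a := Subtype.ext (by
    simp only [SubmonoidClass.coe_pow, Subalgebra.coe_smul, RingHom.id_apply]
    rw [smul_pow, FiniteField.pow_card])

theorem frobLin_apply [Fintype F] {r : ℕ} (K : Subalgebra F (Matrix (Fin n) (Fin n) F))
    (hK : Cfsg.Geo.IsFieldSubalgebra r K) (hn : 0 < n) (k : K) :
    ((frobLin K hK hn k : K) : Matrix (Fin n) (Fin n) F) =
      (k : Matrix (Fin n) (Fin n) F) ^ Fintype.card F := by
  simp [frobLin]

/-- The matrix of the Frobenius of `K`, transported to `F^n` by the orbit map. -/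
noncomputable def frobMat [Fintype F] (K : Subalgebra F (Matrix (Fin n) (Fin n) F))
    (hK : Cfsg.Geo.IsFieldSubalgebra n K) (hn : 0 < n) : Matrix (Fin n) (Fin n) F :=
  LinearMap.toMatrix' ((orbitEquiv K hK hn).toLinearMap ∘ₗ frobLin K hK hn ∘ₗ
    (orbitEquiv K hK hn).symm.toLinearMap)

theorem frobMat_mulVec [Fintype F] (K : Subalgebra F (Matrix (Fin n) (Fin n) F))
    (hK : Cfsg.Geo.IsFieldSubalgebra n K) (hn : 0 < n) (k : Matrix (Fin n) (Fin n) F)
    (hk : k ∈ K) :
    frobMat K hK hn *ᵥ (k *ᵥ baseVec hn) = (k ^ Fintype.card F) *ᵥ baseVec hn := by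
  have h1 : k *ᵥ baseVec hn = orbitEquiv K hK hn ⟨k, hk⟩ := rfl
  rw [h1, ← Matrix.toLin'_apply, frobMat, Matrix.toLin'_toMatrix']
  simp only [LinearMap.comp_apply, LinearEquiv.coe_coe, LinearEquiv.symm_apply_apply]
  rw [orbitEquiv_apply, frobLin_apply]

theorem frobMat_mul [Fintype F] (K : Subalgebra F (Matrix (Fin n) (Fin n) F))
    (hK : Cfsg.Geo.IsFieldSubalgebra n K) (hn : 0 < n) (k : Matrix (Fin n) (Fin n) F)
    (hk : k ∈ K) :
    frobMat K hK hn * k = k ^ Fintype.card F * frobMat K hK hn := by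
  apply Matrix.toLin'.injective
  apply LinearMap.ext
  intro v
  obtain ⟨k', hk', rfl⟩ := exists_rep K hK hn v
  rw [Matrix.toLin'_apply, Matrix.toLin'_apply, ← Matrix.mulVec_mulVec, ← Matrix.mulVec_mulVec,
    Matrix.mulVec_mulVec (baseVec hn) k k', frobMat_mulVec K hK hn _ (K.mul_mem hk hk'),
    frobMat_mulVec K hK hn _ hk', Matrix.mulVec_mulVec, Commute.mul_pow (hK.comm k hk k' hk')]

theorem frobMat_pow_mulVec [Fintype F] (K : Subalgebra F (Matrix (Fin n) (Fin n) F))
    (hK : Cfsg.Geo.IsFieldSubalgebra n K) (hn : 0 < n) (k : Matrix (Fin n) (Fin n) F)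
    (hk : k ∈ K) (j : ℕ) :
    (frobMat K hK hn ^ j) *ᵥ (k *ᵥ baseVec hn) = (k ^ (Fintype.card F ^ j)) *ᵥ baseVec hn := by
  induction j with
  | zero => simp
  | succ j ih =>
    rw [pow_succ', ← Matrix.mulVec_mulVec, ih, frobMat_mulVec K hK hn _ (K.pow_mem hk _),
      ← pow_mul, ← pow_succ]

end Cfsg.Agent.Helper7.Singer
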