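import Mathlib
import Cfsg.Agent.Helper7.SingerB

set_option autoImplicit false

namespace Cfsg.Agent.Helper7.Singer

open Matrix Cfsg.Agent.Helper7.Invol

variable {F : Type*} [Field F] {n : ℕ}

/-- Elements of a field subalgebra of degree `r` are fixed by the `r`-th power of Frobenius. -/
theorem pow_card_pow_of_mem [Fintype F] {r : ℕ} (K : Subalgebra F (Matrix (Fin n) (Fin n) F))
    (hK : Cfsg.Geo.IsFieldSubalgebra r K) (hn : 0 < n) (k : Matrix (Fin n) (Fin n) F)
    (hk : k ∈ K) : k ^ (Fintype.card F ^ r) = k := by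
  classical
  letI : Field K := fieldOfSub K hK hn
  letI : Fintype K := Fintype.ofFinite K
  have h := frob_pow_card (F := F) (L := K) ⟨k, hk⟩
  rw [hK.finrank_eq] at h
  have h' := congrArg Subtype.val h
  exact h'

/-- Artin independence on a field subalgebra. -/
theorem indep_of_mem [Fintype F] {r : ℕ} (K : Subalgebra F (Matrix (Fin n) (Fin n) F))
    (hK : Cfsg.Geo.IsFieldSubalgebra r K) (hn : 0 < n) (a : ℕ → F) (m : ℕ) (hm : m ≤ r)
    (h : ∀ k ∈ K, ∑ j ∈ Finset.range m, a j • k ^ (Fintype.card F ^ j) = 0) :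
    ∀ j < m, a j = 0 := by
  classical
  letI : Field K := fieldOfSub K hK hn
  letI : Fintype K := Fintype.ofFinite K
  refine frob_indep (F := F) (L := K) a m (by rw [hK.finrank_eq]; exact hm) ?_
  intro x
  apply Subtype.ext
  have h1 := h x x.2
  have h2 : ((∑ j ∈ Finset.range m, a j • x ^ (Fintype.card F ^ j) : K) :
      Matrix (Fin n) (Fin n) F) =
      ∑ j ∈ Finset.range m, a j • (x : Matrix (Fin n) (Fin n) F) ^ (Fintype.card F ^ j) := by
    rw [AddSubmonoidClass.coe_finset_sum]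
    rfl
  exact h2.trans h1

theorem frobMat_pow_self [Fintype F] (K : Subalgebra F (Matrix (Fin n) (Fin n) F))
    (hK : Cfsg.Geo.IsFieldSubalgebra n K) (hn : 0 < n) : frobMat K hK hn ^ n = 1 := by
  apply Matrix.toLin'.injective
  apply LinearMap.ext
  intro v
  obtain ⟨k, hk, rfl⟩ := exists_rep K hK hn v
  rw [Matrix.toLin'_apply, frobMat_pow_mulVec K hK hn k hk, pow_card_pow_of_mem K hK hn k hk,
    Matrix.toLin'_one, LinearMap.id_apply]

theorem frobMat_indep [Fintype F] (K : Subalgebra F (Matrix (Fin n) (Fin n) F))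
    (hK : Cfsg.Geo.IsFieldSubalgebra n K) (hn : 0 < n) (a : ℕ → F)
    (h : ∑ j ∈ Finset.range n, a j • frobMat K hK hn ^ j = 0) : ∀ j < n, a j = 0 := by
  apply indep_of_mem K hK hn a n le_rfl
  intro k hk
  have hmem : ∑ j ∈ Finset.range n, a j • k ^ (Fintype.card F ^ j) ∈ K :=
    K.sum_mem (fun j _ => K.smul_mem (K.pow_mem hk _) _)
  by_contra hne
  apply baseVec_ne_zero (F := F) hn
  apply mulVec_eq_zero_of_mem K hK _ hmem hne
  have h2 := congrArg (fun M => M *ᵥ (k *ᵥ baseVec hn)) h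
  simp only [Matrix.zero_mulVec, Matrix.sum_mulVec, Matrix.smul_mulVec] at h2
  rw [Matrix.sum_mulVec]
  rw [← h2]
  refine Finset.sum_congr rfl (fun j _ => ?_)
  rw [Matrix.smul_mulVec, frobMat_pow_mulVec K hK hn k hk]

/-- Conjugation by the Frobenius matrix preserves the subalgebra. -/
theorem frobMat_conj_mem [Fintype F] (K : Subalgebra F (Matrix (Fin n) (Fin n) F))
    (hK : Cfsg.Geo.IsFieldSubalgebra n K) (hn : 0 < n) (k : Matrix (Fin n) (Fin n) F)
    (hk : k ∈ K) : frobMat K hK hn * k * frobMat K hK hn ^ (n - 1) ∈ K := by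
  rw [frobMat_mul K hK hn k hk, Matrix.mul_assoc, ← pow_succ']
  have : n - 1 + 1 = n := by omega
  rw [this, frobMat_pow_self, Matrix.mul_one]
  exact K.pow_mem hk _

end Cfsg.Agent.Helper7.Singer
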