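import Mathlib
import Cfsg.Prelude.Def_GeometricClasses
import Cfsg.Agent.Helper7.SingerFrameB
import Cfsg.Agent.Helper7.FExA
import Cfsg.Agent.Helper3.AschOm10Dual

set_option autoImplicit false
set_option maxHeartbeats 800000

/-! A field of degree five over the field with four elements, closed under adjoints for the
hermitian form (helper7): an element of order eleven preserving the form, a vector whose form
with its multiples is the trace, and the elements of the field preserving the form. -/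

namespace Cfsg.Agent.Helper7.SingerFrame

open Matrix

theorem exists_singer_frame {F : Type*} [Field F] [Fintype F] (hF : Fintype.card F = 4)
    (K : Subalgebra F (Matrix (Fin 5) (Fin 5) F)) (hK : Cfsg.Geo.IsFieldSubalgebra 5 K)
    (hadj : Cfsg.Geo.IsAdjointClosedFor (Cfsg.hermForm 5 F 2) K) :
    ∃ (ζ : Matrix (Fin 5) (Fin 5) F) (x₀ : Fin 5 → F), ζ ∈ K ∧ ζ ^ 11 = 1 ∧ ζ ≠ 1 ∧
      (∀ u v, Cfsg.hermForm 5 F 2 (ζ *ᵥ u) (ζ *ᵥ v) = Cfsg.hermForm 5 F 2 u v) ∧
      (∀ k ∈ K, Cfsg.hermForm 5 F 2 (k *ᵥ x₀) x₀ = Matrix.trace k) ∧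
      (∀ a ∈ K, (∀ u v, Cfsg.hermForm 5 F 2 (a *ᵥ u) (a *ᵥ v) = Cfsg.hermForm 5 F 2 u v) →
        ∃ (c : F) (i : ℕ), a = c • ζ ^ i) := by
  classical
  haveI := charTwo hF
  letI := FEx.fieldOfSub K hK
  haveI : Finite (Matrix (Fin 5) (Fin 5) F) :=
    inferInstanceAs (Finite (Fin 5 → Fin 5 → F))
  haveI : Finite ↥K := Subtype.finite
  haveI : FiniteDimensional F ↥K := FEx.finrank_pos_of (by norm_num) hK
  haveI : Fintype ↥K := Fintype.ofFinite _
  have hcardK : Nat.card ↥K = 1024 := by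
    have h1 : Fintype.card ↥K = Fintype.card F ^ Module.finrank F ↥K := Module.card_eq_pow_finrank
    rw [Nat.card_eq_fintype_card, h1, hF, hK.finrank_eq]
    norm_num
  -- the involution
  let σ : ↥K ≃+* ↥K :=
    { toFun := fun k => ⟨adj k.1, adj_mem hF K hadj k.2⟩
      invFun := fun k => ⟨adj k.1, adj_mem hF K hadj k.2⟩
      left_inv := fun k => Subtype.ext (adj_adj hF _)
      right_inv := fun k => Subtype.ext (adj_adj hF _)
      map_mul' := fun k l => Subtype.ext (by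
        show adj (k.1 * l.1) = adj k.1 * adj l.1
        rw [adj_mul hF]
        exact hK.comm _ (adj_mem hF K hadj l.2) _ (adj_mem hF K hadj k.2))
      map_add' := fun k l => Subtype.ext (adj_add hF _ _) }
  have hσv : ∀ k : ↥K, ((σ k : ↥K) : Matrix (Fin 5) (Fin 5) F) = adj k.1 := fun k => rfl
  have hσ2 : ∀ x, σ (σ x) = x := fun x => Subtype.ext (adj_adj hF _)
  -- a primitive cube root of unity in `F`
  obtain ⟨ω₀, hω0, hω1⟩ : ∃ ω₀ : F, ω₀ ≠ 0 ∧ ω₀ ≠ 1 := by
    by_contra hcon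
    push Not at hcon
    have : Fintype.card F ≤ 2 := by
      have hsub : (Finset.univ : Finset F) ⊆ {0, 1} := by
        intro x _
        by_cases hx : x = 0
        · rw [hx]; simp
        · rw [hcon x hx]; simp
      calc Fintype.card F = (Finset.univ : Finset F).card := rfl
        _ ≤ ({0, 1} : Finset F).card := Finset.card_le_card hsub
        _ ≤ 2 := Finset.card_le_two
    omega
  have hω3 : ω₀ ^ 3 = 1 := by
    have h4 := pow_four hF ω₀
    have : ω₀ * ω₀ ^ 3 = ω₀ * 1 := by rw [mul_one, ← pow_succ', h4]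
    exact mul_left_cancel₀ hω0 this
  have hω2 : ω₀ ^ 2 ≠ ω₀ := by
    intro h
    have : ω₀ * ω₀ = ω₀ * 1 := by rw [mul_one, ← pow_two, h]
    exact hω1 (mul_left_cancel₀ hω0 this)
  set ω : ↥K := algebraMap F ↥K ω₀ with hωdef
  have hωv : (ω : Matrix (Fin 5) (Fin 5) F) = ω₀ • (1 : Matrix (Fin 5) (Fin 5) F) := by
    rw [hωdef, Subalgebra.coe_algebraMap, Algebra.algebraMap_eq_smul_one]
  have hσω : σ ω ≠ ω := by
    intro h
    have h1 := congrArg Subtype.val h
    rw [hσv, hωv, adj_smul, adj_one] at h1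
    have h2 := congrFun (congrFun h1 0) 0
    simp only [Matrix.smul_apply, Matrix.one_apply_eq, smul_eq_mul, mul_one] at h2
    exact hω2 h2
  have hσpow := sigma_eq_pow hcardK σ hσ2 ⟨ω, hσω⟩
  have hpowv : ∀ (k : ↥K) (m : ℕ), ((k ^ m : ↥K) : Matrix (Fin 5) (Fin 5) F) = k.1 ^ m :=
    fun k m => SubmonoidClass.coe_pow k m
  have hadjpow : ∀ k : ↥K, adj k.1 = k.1 ^ 32 := by
    intro k
    rw [← hσv, hσpow, hpowv]
  have hω3' : ω ^ 3 = 1 := by
    rw [hωdef, ← map_pow, hω3, map_one]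
  have hω1' : ω ≠ 1 := by
    intro h
    have h1 := congrArg Subtype.val h
    rw [hωv] at h1
    have h2 := congrFun (congrFun h1 0) 0
    rw [OneMemClass.coe_one] at h2
    simp only [Matrix.smul_apply, Matrix.one_apply_eq, smul_eq_mul, mul_one] at h2
    exact hω1 h2
  -- the element of order eleven
  obtain ⟨ζ, hζ11, hζ1⟩ := exists_zeta hcardK
  have hζ33 : adj ζ.1 * ζ.1 = 1 := by
    rw [hadjpow, ← pow_succ, ← hpowv, show 32 + 1 = 11 * 3 by norm_num, pow_mul, hζ11, one_pow]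
    rfl
  -- the frame vector
  let T : ↥K →ₗ[F] F :=
    { toFun := fun k => k.1 0 0
      map_add' := fun _ _ => rfl
      map_smul' := fun _ _ => rfl }
  let θ : ↥K →ₗ[F] F := (Matrix.traceLinearMap (Fin 5) F F).comp K.val.toLinearMap
  have hT : ∀ k : ↥K, T k = k.1 0 0 := fun k => rfl
  have hθ : ∀ k : ↥K, θ k = Matrix.trace k.1 := fun k => rfl
  have h51 : ((5 : ℕ) : F) = 1 := by
    have : ((5 : ℕ) : F) = 2 * 2 + 1 := by norm_num
    rw [this, CharTwo.two_eq_zero, zero_mul, zero_add]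
  have hθ0 : θ ≠ 0 := by
    intro h
    have h1 : θ 1 = 0 := by rw [h]; rfl
    rw [hθ, OneMemClass.coe_one, Matrix.trace_one, Fintype.card_fin, h51] at h1
    exact one_ne_zero h1
  obtain ⟨b, hb⟩ := Cfsg.Agent.Helper3.AschOm10.exists_dual θ hθ0 T
  have hσb : σ b = b := by
    apply Cfsg.Agent.Helper3.AschOm10.dual_unique θ hθ0
    intro x
    have h1 : x * σ b = σ (σ x * b) := by rw [map_mul, hσ2]
    rw [h1, hθ, hσv, trace_adj hF, ← hθ, ← hb, hT, hσv, adj_apply, ← pow_mul, ← hb, hT]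
    exact pow_four hF _
  have hb0 : b ≠ 0 := by
    intro h
    have h1 := hb 1
    rw [h, mul_zero, map_zero, hT, OneMemClass.coe_one, Matrix.one_apply_eq] at h1
    exact one_ne_zero h1
  set a : ↥K := (b⁻¹) ^ 512 with hadef
  have hσa : σ a = a := by
    rw [hadef, map_pow, map_inv₀, hσb]
  have haa : a * a = b⁻¹ := by
    rw [hadef, ← pow_add]
    exact pow_card' hcardK _
  have hadja : adj a.1 = a.1 := by
    rw [← hσv, hσa]
  refine ⟨ζ.1, a.1 *ᵥ Pi.single 0 1, ζ.2, ?_, ?_, preserves_of_adj_mul_self hF hζ33, ?_, ?_⟩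
  · rw [← hpowv, hζ11]; rfl
  · intro h
    exact hζ1 (Subtype.ext h)
  · intro k hk
    have h1 : Cfsg.hermForm 5 F 2 (k *ᵥ (a.1 *ᵥ Pi.single 0 1)) (a.1 *ᵥ Pi.single 0 1) =
        Cfsg.hermForm 5 F 2 ((a.1 * (k * a.1)) *ᵥ Pi.single 0 1) (Pi.single 0 1) := by
      rw [← Matrix.mulVec_mulVec (M := a.1) (N := k * a.1), herm_adj hF a.1, hadja,
        Matrix.mulVec_mulVec]
    rw [h1]
    have h2 := herm_single (F := F) (n := 5) (by norm_num) (a.1 * (k * a.1))
    rw [show (⟨0, by norm_num⟩ : Fin 5) = 0 from rfl] at h2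
    rw [h2]
    have h3 : a.1 * (k * a.1) = ((⟨k, hk⟩ * b⁻¹ : ↥K) : Matrix (Fin 5) (Fin 5) F) := by
      rw [← haa]
      show a.1 * (k * a.1) = k * (a.1 * a.1)
      rw [← mul_assoc, hK.comm a.1 a.2 k hk, mul_assoc]
    rw [h3, ← hT, hb, mul_assoc, inv_mul_cancel₀ hb0, mul_one, hθ]
  · intro a' ha' hpres
    have h1 := adj_mul_self_of_preserves hF hpres
    have h2 : (⟨a', ha'⟩ : ↥K) ^ 33 = 1 := by
      apply Subtype.ext
      rw [hpowv, show 33 = 32 + 1 by norm_num, pow_succ, ← hadjpow ⟨a', ha'⟩]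
      exact h1
    obtain ⟨j, i, hji⟩ := eq_of_pow_33 hζ11 hζ1 hω3' hω1' h2
    refine ⟨ω₀ ^ j, i, ?_⟩
    have h3 : a' = ((ω ^ j * ζ ^ i : ↥K) : Matrix (Fin 5) (Fin 5) F) := congrArg Subtype.val hji
    rw [MulMemClass.coe_mul, hpowv, hpowv, hωv] at h3
    rw [h3, smul_pow, one_pow, smul_mul_assoc, one_mul]

end Cfsg.Agent.Helper7.SingerFrame
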