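import Mathlib
import Cfsg.Agent.Helper7.SingerH

set_option autoImplicit false

namespace Cfsg.Agent.Helper7.Singer

open Matrix Cfsg.Agent.Helper7.Invol

variable {F : Type*} [Field F]

/-- The model matrix for an element of order 3 when `t² + t + 1` has no root. -/
def order3Model : Matrix (Fin 3) (Fin 3) F := !![1, 0, 0; 0, 0, -1; 0, 1, -1]

theorem order3Model_det : (order3Model : Matrix (Fin 3) (Fin 3) F).det = 1 := by
  rw [order3Model, Matrix.det_fin_three]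
  simp

/-- The centraliser of the model matrix has all determinants. -/
theorem order3Model_centralizer (δ : F) :
    ∃ C : Matrix (Fin 3) (Fin 3) F, C * order3Model = order3Model * C ∧ C.det = δ := by
  refine ⟨!![δ, 0, 0; 0, 1, 0; 0, 0, 1], ?_, ?_⟩
  · rw [order3Model]
    ext i j
    fin_cases i <;> fin_cases j <;> simp [Matrix.mul_apply, Fin.sum_univ_three]
  · rw [Matrix.det_fin_three]
    simp

/-- A 3 × 3 matrix of order 3 over a field without primitive cube roots of unity (and of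
characteristic not 3) acts through the model matrix on a suitable basis. -/
theorem exists_basis_order3 (Y : Matrix (Fin 3) (Fin 3) F) (h3 : (3 : F) ≠ 0)
    (hroot : ∀ c : F, c ^ 2 + c + 1 ≠ 0) (hY : Y ^ 3 = 1) (hne : Y ≠ 1) :
    ∃ b : Module.Basis (Fin 3) F (Fin 3 → F), ActsVia Y b order3Model := by
  have hY3 : ∀ v, Y *ᵥ (Y *ᵥ (Y *ᵥ v)) = v := by
    intro v
    rw [Matrix.mulVec_mulVec, Matrix.mulVec_mulVec, ← pow_two, ← pow_succ, hY, Matrix.one_mulVec]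
  -- no eigenvectors in the kernel of `Y² + Y + 1`
  have hnoeig : ∀ w : Fin 3 → F, w ≠ 0 → Y *ᵥ (Y *ᵥ w) + Y *ᵥ w + w = 0 →
      ∀ lam : F, Y *ᵥ w ≠ lam • w := by
    intro w hw hM lam h
    rw [h, Matrix.mulVec_smul, h, smul_smul] at hM
    have h1 : (lam ^ 2 + lam + 1) • w = 0 := by
      rw [← hM]; module
    exact hroot lam ((smul_eq_zero.1 h1).resolve_right hw)
  have hpair : ∀ w : Fin 3 → F, w ≠ 0 → Y *ᵥ (Y *ᵥ w) + Y *ᵥ w + w = 0 →
      ∀ a b : F, a • w + b • Y *ᵥ w = 0 → a = 0 ∧ b = 0 := by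
    intro w hw hM a b h
    have hb : b = 0 := by
      by_contra hb
      apply hnoeig w hw hM (-(b⁻¹ * a))
      have h1 : b • Y *ᵥ w = -(a • w) := eq_neg_of_add_eq_zero_right h
      have h2 := congrArg (fun u => b⁻¹ • u) h1
      simp only [smul_smul, inv_mul_cancel₀ hb, one_smul, smul_neg] at h2
      rw [h2, neg_smul]
    subst hb
    rw [zero_smul, add_zero] at h
    exact ⟨(smul_eq_zero.1 h).resolve_right hw, rfl⟩
  -- a nonzero vector in the kernel of `Y² + Y + 1`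
  obtain ⟨w, hw, hMw⟩ : ∃ w : Fin 3 → F, w ≠ 0 ∧ Y *ᵥ (Y *ᵥ w) + Y *ᵥ w + w = 0 := by
    have : ∃ v, Y *ᵥ v ≠ v := by
      by_contra hcon
      push_neg at hcon
      apply hne
      apply Matrix.toLin'.injective
      apply LinearMap.ext
      intro v
      rw [Matrix.toLin'_apply, hcon, Matrix.toLin'_one, LinearMap.id_apply]
    obtain ⟨v, hv⟩ := this
    refine ⟨Y *ᵥ v - v, sub_ne_zero.2 hv, ?_⟩
    rw [Matrix.mulVec_sub, Matrix.mulVec_sub, hY3]
    abel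
  have hYYw : Y *ᵥ (Y *ᵥ w) = -(Y *ᵥ w) - w := by
    linear_combination hMw
  -- `Y² + Y + 1` is not zero
  have hMne : ∃ v, Y *ᵥ (Y *ᵥ v) + Y *ᵥ v + v ≠ 0 := by
    by_contra hcon
    push_neg at hcon
    have hli2 : LinearIndependent F ![w, Y *ᵥ w] := by
      rw [LinearIndependent.pair_iff]
      exact hpair w hw hMw
    obtain ⟨e, he⟩ := exists_linearIndependent_cons_of_lt_finrank hli2
      (by rw [Module.finrank_fin_fun]; norm_num)
    obtain ⟨b, hb⟩ := exists_basis_of_li _ he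
    have hb0 : b 0 = e := by rw [hb]; rfl
    have hb1 : b 1 = w := by rw [hb]; rfl
    have hb2 : b 2 = Y *ᵥ w := by rw [hb]; rfl
    have hrep := b.sum_repr (Y *ᵥ e)
    rw [Fin.sum_univ_three, hb0, hb1, hb2] at hrep
    obtain ⟨γ, hγ⟩ : ∃ γ : F, γ = b.repr (Y *ᵥ e) 0 := ⟨_, rfl⟩
    obtain ⟨c₁, hc₁⟩ : ∃ c₁ : F, c₁ = b.repr (Y *ᵥ e) 1 := ⟨_, rfl⟩
    obtain ⟨c₂, hc₂⟩ : ∃ c₂ : F, c₂ = b.repr (Y *ᵥ e) 2 := ⟨_, rfl⟩
    rw [← hγ, ← hc₁, ← hc₂] at hrep
    have hYYe : Y *ᵥ (Y *ᵥ e) = γ • Y *ᵥ e + c₁ • Y *ᵥ w + c₂ • (-(Y *ᵥ w) - w) := by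
      nth_rewrite 1 [← hrep]
      rw [Matrix.mulVec_add, Matrix.mulVec_add, Matrix.mulVec_smul, Matrix.mulVec_smul,
        Matrix.mulVec_smul, hYYw]
    have hMe := hcon e
    rw [hYYe] at hMe
    nth_rewrite 1 [← hrep] at hMe
    nth_rewrite 1 [← hrep] at hMe
    have hcomb : (γ ^ 2 + γ + 1) • e + ((γ + 1) * c₁ - c₂) • w + (γ * c₂ + c₁) • Y *ᵥ w = 0 := by
      rw [← hMe]; module
    exact hroot γ (li3_elim e w (Y *ᵥ w) he _ _ _ hcomb).1
  obtain ⟨v, hv⟩ := hMne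
  obtain ⟨u, hu⟩ : ∃ u, u = Y *ᵥ (Y *ᵥ v) + Y *ᵥ v + v := ⟨_, rfl⟩
  rw [← hu] at hv
  have hYu : Y *ᵥ u = u := by
    rw [hu, Matrix.mulVec_add, Matrix.mulVec_add, hY3]
    abel
  have hli : LinearIndependent F ![u, w, Y *ᵥ w] := by
    apply li3
    intro a b c hg
    have h1 := congrArg (fun t => Y *ᵥ (Y *ᵥ t) + Y *ᵥ t + t) hg
    simp only [Matrix.mulVec_add, Matrix.mulVec_smul, Matrix.mulVec_zero, add_zero, hYu] at h1
    have h2 : (3 * a) • u = 0 := by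
      rw [hY3, hYYw] at h1
      rw [← h1]; module
    have hg0 : a = 0 := by
      have := (smul_eq_zero.1 h2).resolve_right hv
      exact (mul_eq_zero.1 this).resolve_left h3
    rw [hg0, zero_smul, zero_add] at hg
    obtain ⟨hg1, hg2⟩ := hpair w hw hMw _ _ hg
    exact ⟨hg0, hg1, hg2⟩
  obtain ⟨b, hb⟩ := exists_basis_of_li _ hli
  have hb0 : b 0 = u := by rw [hb]; rfl
  have hb1 : b 1 = w := by rw [hb]; rfl
  have hb2 : b 2 = Y *ᵥ w := by rw [hb]; rfl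
  refine ⟨b, ?_⟩
  intro i
  rw [Fin.sum_univ_three, order3Model]
  fin_cases i
  · simp [hb0, hYu]
  · simp [hb1, hb2]
  · simp only [Fin.reduceFinMk]
    rw [hb2, hb1, hYYw]
    simp
    abel

end Cfsg.Agent.Helper7.Singer
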