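import Mathlib
import Cfsg.Agent.Helper7.SingerC
import Cfsg.Agent.Helper7.SingerG
import Cfsg.Agent.Helper7.SingerI
import Cfsg.Agent.Helper7.InvolJ
import Cfsg.Agent.Helper7.InvolC

set_option autoImplicit false

namespace Cfsg.Agent.Helper7.Singer

open Matrix Cfsg.Agent.Helper7.Invol

variable {F : Type*} [Field F] [Fintype F]

/-- The Frobenius matrix in dimension 3. -/
noncomputable def frob3 (K : Subalgebra F (Matrix (Fin 3) (Fin 3) F))
    (hK : Cfsg.Geo.IsFieldSubalgebra 3 K) : Matrix (Fin 3) (Fin 3) F :=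
  frobMat K hK (by norm_num)

theorem frob3_cube (K : Subalgebra F (Matrix (Fin 3) (Fin 3) F))
    (hK : Cfsg.Geo.IsFieldSubalgebra 3 K) : frob3 K hK ^ 3 = 1 :=
  frobMat_pow_self K hK (by norm_num)

theorem frob3_indep (K : Subalgebra F (Matrix (Fin 3) (Fin 3) F))
    (hK : Cfsg.Geo.IsFieldSubalgebra 3 K) (α β γ : F)
    (h : α • (1 : Matrix (Fin 3) (Fin 3) F) + β • frob3 K hK + γ • frob3 K hK ^ 2 = 0) :
    α = 0 ∧ β = 0 ∧ γ = 0 := by
  have h1 := frobMat_indep K hK (by norm_num) (fun j => if j = 0 then α else if j = 1 then β else γ)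
    (by
      rw [Finset.sum_range_succ, Finset.sum_range_succ, Finset.sum_range_one]
      simpa [frob3] using h)
  exact ⟨by simpa using h1 0 (by norm_num), by simpa using h1 1 (by norm_num),
    by simpa using h1 2 (by norm_num)⟩

theorem frob3_mul_sq (K : Subalgebra F (Matrix (Fin 3) (Fin 3) F))
    (hK : Cfsg.Geo.IsFieldSubalgebra 3 K) :
    frob3 K hK * frob3 K hK ^ 2 = 1 ∧ frob3 K hK ^ 2 * frob3 K hK = 1 := by
  constructor
  · rw [← pow_succ', frob3_cube]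
  · rw [← pow_succ, frob3_cube]

theorem frob3_norm1 (K : Subalgebra F (Matrix (Fin 3) (Fin 3) F))
    (hK : Cfsg.Geo.IsFieldSubalgebra 3 K) (k : Matrix (Fin 3) (Fin 3) F) (hk : k ∈ K) :
    frob3 K hK * k * frob3 K hK ^ 2 ∈ K :=
  frobMat_conj_mem K hK (by norm_num) k hk

theorem frob3_norm2 (K : Subalgebra F (Matrix (Fin 3) (Fin 3) F))
    (hK : Cfsg.Geo.IsFieldSubalgebra 3 K) (k : Matrix (Fin 3) (Fin 3) F) (hk : k ∈ K) :
    frob3 K hK ^ 2 * k * frob3 K hK ∈ K := by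
  have h1 := frobMat_mul K hK (by norm_num) k hk
  have h2 := frobMat_mul K hK (by norm_num) _ (K.pow_mem hk (Fintype.card F))
  have h3 : frob3 K hK ^ 2 * k = (k ^ Fintype.card F) ^ Fintype.card F * frob3 K hK ^ 2 := by
    rw [pow_two, Matrix.mul_assoc, frob3, h1, ← Matrix.mul_assoc, h2, Matrix.mul_assoc]
  rw [h3, Matrix.mul_assoc, (frob3_mul_sq K hK).2, Matrix.mul_one]
  exact K.pow_mem (K.pow_mem hk _) _

/-- Anything `SL₃`-conjugate to the Frobenius matrix is conjugate into the normaliser. -/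
theorem mem_of_conj_frob3 (K : Subalgebra F (Matrix (Fin 3) (Fin 3) F))
    (hK : Cfsg.Geo.IsFieldSubalgebra 3 K) (x P : Matrix.SpecialLinearGroup (Fin 3) F)
    (hXP : (x : Matrix (Fin 3) (Fin 3) F) * (P : Matrix (Fin 3) (Fin 3) F) =
      (P : Matrix (Fin 3) (Fin 3) F) * frob3 K hK) :
    P⁻¹ * x * P ∈ (Cfsg.Geo.subalgebraNormalizer K).comap
      (Matrix.SpecialLinearGroup.toGL : Matrix.SpecialLinearGroup (Fin 3) F →* GL (Fin 3) F) :=
  mem_comap_of K x P (frob3 K hK) (frob3 K hK ^ 2) hXP (frob3_mul_sq K hK).1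
    (frob3_mul_sq K hK).2 (frob3_norm1 K hK) (frob3_norm2 K hK)

/-- With cube roots of unity in `F`: non-scalar elements of order 3 and determinant 1 are
conjugate to the Frobenius matrix. -/
theorem conj_frob_of_omega (K : Subalgebra F (Matrix (Fin 3) (Fin 3) F))
    (hK : Cfsg.Geo.IsFieldSubalgebra 3 K) (ω : F) (hω : ω ^ 2 + ω + 1 = 0) (h3 : (3 : F) ≠ 0)
    (x : Matrix.SpecialLinearGroup (Fin 3) F)
    (hx : (x : Matrix (Fin 3) (Fin 3) F) ^ 3 = 1)
    (hns : ∀ z : F, (x : Matrix (Fin 3) (Fin 3) F) ≠ z • (1 : Matrix (Fin 3) (Fin 3) F)) :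
    ∃ P : Matrix.SpecialLinearGroup (Fin 3) F, P⁻¹ * x * P ∈
      (Cfsg.Geo.subalgebraNormalizer K).comap
      (Matrix.SpecialLinearGroup.toGL : Matrix.SpecialLinearGroup (Fin 3) F →* GL (Fin 3) F) := by
  obtain ⟨c, hc⟩ := std_eigenbasis_of_det (x : Matrix (Fin 3) (Fin 3) F) ω hω h3 hx x.2 hns
  obtain ⟨c', hc'⟩ := std_eigenbasis_of_indep (frob3 K hK) ω hω h3 (frob3_cube K hK)
    (fun α β γ h => (frob3_indep K hK α β γ h).2.2)
  obtain ⟨P, hP⟩ := conj_of_diag (x : Matrix (Fin 3) (Fin 3) F) (frob3 K hK) c c'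
    (fun i => ω ^ (i : ℕ)) (fun i => ω ^ (i : ℕ)) hc hc' (Equiv.refl _) (fun _ => rfl)
  exact ⟨P, mem_of_conj_frob3 K hK x P hP⟩

/-- Without cube roots of unity in `F`: elements of order 3 are conjugate to the Frobenius
matrix. -/
theorem conj_frob_of_no_omega (K : Subalgebra F (Matrix (Fin 3) (Fin 3) F))
    (hK : Cfsg.Geo.IsFieldSubalgebra 3 K) (h3 : (3 : F) ≠ 0)
    (hroot : ∀ c : F, c ^ 2 + c + 1 ≠ 0)
    (x : Matrix.SpecialLinearGroup (Fin 3) F)
    (hx : (x : Matrix (Fin 3) (Fin 3) F) ^ 3 = 1)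
    (hne : (x : Matrix (Fin 3) (Fin 3) F) ≠ 1) :
    ∃ P : Matrix.SpecialLinearGroup (Fin 3) F, P⁻¹ * x * P ∈
      (Cfsg.Geo.subalgebraNormalizer K).comap
      (Matrix.SpecialLinearGroup.toGL : Matrix.SpecialLinearGroup (Fin 3) F →* GL (Fin 3) F) := by
  obtain ⟨b, hb⟩ := exists_basis_order3 (x : Matrix (Fin 3) (Fin 3) F) h3 hroot hx hne
  have hS1 : frob3 K hK ≠ 1 := by
    intro h
    have := (frob3_indep K hK 1 (-1) 0 (by rw [h]; simp)).1
    exact one_ne_zero this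
  obtain ⟨b', hb'⟩ := exists_basis_order3 (frob3 K hK) h3 hroot (frob3_cube K hK) hS1
  obtain ⟨P, hP⟩ := conj_of_actsVia (x : Matrix (Fin 3) (Fin 3) F) (frob3 K hK) b b' order3Model
    hb hb' (fun δ _ => order3Model_centralizer δ)
  exact ⟨P, mem_of_conj_frob3 K hK x P hP⟩

/-- Without cube roots of unity the Frobenius matrix has determinant 1. -/
theorem frob3_det_of_no_omega (K : Subalgebra F (Matrix (Fin 3) (Fin 3) F))
    (hK : Cfsg.Geo.IsFieldSubalgebra 3 K) (h3 : (3 : F) ≠ 0)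
    (hroot : ∀ c : F, c ^ 2 + c + 1 ≠ 0) : (frob3 K hK).det = 1 ∧ frob3 K hK ≠ 1 := by
  have hS1 : frob3 K hK ≠ 1 := by
    intro h
    have := (frob3_indep K hK 1 (-1) 0 (by rw [h]; simp)).1
    exact one_ne_zero this
  obtain ⟨b', hb'⟩ := exists_basis_order3 (frob3 K hK) h3 hroot (frob3_cube K hK) hS1
  exact ⟨by rw [det_of_actsVia _ b' _ hb', order3Model_det], hS1⟩

end Cfsg.Agent.Helper7.Singer
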