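import Mathlib
import Cfsg.Agent.Helper7.SingerD
import Cfsg.Agent.Helper7.SingerJ

set_option autoImplicit false

namespace Cfsg.Agent.Helper7.Singer

open Matrix Cfsg.Agent.Helper7.Invol

variable {F : Type*} [Field F]

theorem one_add_single_cube {n : ℕ} (i j : Fin n) (c : F) :
    (1 + Matrix.single i j c : Matrix (Fin n) (Fin n) F) ^ 3 =
      1 + Matrix.single i j (c + c + c) + (Matrix.single i j c * Matrix.single i j c +
        Matrix.single i j c * Matrix.single i j c + Matrix.single i j c * Matrix.single i j c)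
        + Matrix.single i j c * Matrix.single i j c * Matrix.single i j c := by
  rw [Matrix.single_add, Matrix.single_add]
  noncomm_ring

/-- A determinant-one scalar multiple of a rank-one perturbation of the identity whose cube is
scalar contradicts the all-conjugate hypothesis. -/
theorem forward_aux3 (K : Subalgebra F (Matrix (Fin 3) (Fin 3) F))
    (hK : Cfsg.Geo.IsFieldSubalgebra 3 K)
    (hall : ∀ x : Matrix.SpecialLinearGroup (Fin 3) F,
      (∃ z : F, ((x ^ 3 : Matrix.SpecialLinearGroup (Fin 3) F) : Matrix (Fin 3) (Fin 3) F) =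
        z • (1 : Matrix (Fin 3) (Fin 3) F)) →
      (∀ z : F, (x : Matrix (Fin 3) (Fin 3) F) ≠ z • (1 : Matrix (Fin 3) (Fin 3) F)) →
      ∃ P : Matrix.SpecialLinearGroup (Fin 3) F, P⁻¹ * x * P ∈
        ((Cfsg.Geo.subalgebraNormalizer K).comap (Matrix.SpecialLinearGroup.toGL :
          Matrix.SpecialLinearGroup (Fin 3) F →* GL (Fin 3) F)))
    (μ c : F) (i₀ j₀ : Fin 3) (hμ : μ ≠ 0) (hc : c ≠ 0)
    (hdet : (μ • (1 + Matrix.single i₀ j₀ c) : Matrix (Fin 3) (Fin 3) F).det = 1) (z : F)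
    (hcube : (μ • (1 + Matrix.single i₀ j₀ c) : Matrix (Fin 3) (Fin 3) F) ^ 3 = z • 1) :
    False := by
  classical
  obtain ⟨x, hx⟩ : ∃ x : Matrix.SpecialLinearGroup (Fin 3) F,
      (x : Matrix (Fin 3) (Fin 3) F) = μ • (1 + Matrix.single i₀ j₀ c) := ⟨⟨_, hdet⟩, rfl⟩
  have h1 : ∃ z : F, ((x ^ 3 : Matrix.SpecialLinearGroup (Fin 3) F) :
      Matrix (Fin 3) (Fin 3) F) = z • (1 : Matrix (Fin 3) (Fin 3) F) := by
    refine ⟨z, ?_⟩
    rw [Matrix.SpecialLinearGroup.coe_pow, hx]
    exact hcube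
  have h2 : ∀ z' : F, (x : Matrix (Fin 3) (Fin 3) F) ≠ z' • (1 : Matrix (Fin 3) (Fin 3) F) := by
    intro z' heq
    rw [hx] at heq
    obtain ⟨l, hl⟩ : ∃ l : Fin 3, l ≠ i₀ := by
      by_cases h0 : i₀.val = 0
      · exact ⟨⟨1, by omega⟩, fun h => by rw [← h] at h0; simp at h0⟩
      · exact ⟨⟨0, by omega⟩, fun h => by rw [← h] at h0; simp at h0⟩
    have e1 := congrFun (congrFun heq l) l
    simp only [Matrix.smul_apply, Matrix.add_apply, Matrix.one_apply_eq, smul_eq_mul, mul_one] at e1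
    rw [Matrix.single_apply, if_neg (fun h => hl h.1.symm), add_zero, mul_one] at e1
    have e2 := congrFun (congrFun heq i₀) j₀
    simp only [Matrix.smul_apply, Matrix.add_apply, Matrix.single_apply_same, smul_eq_mul] at e2
    rw [← e1, mul_add, mul_comm μ ((1 : Matrix (Fin 3) (Fin 3) F) i₀ j₀)] at e2
    have : μ * c = 0 := by linear_combination e2
    rcases mul_eq_zero.1 this with h | h
    · exact hμ h
    · exact hc h
  obtain ⟨P, hP⟩ := hall x h1 h2
  exact rank_one_contra' (by norm_num : 2 ≤ 3) (le_refl 3) K hK x P μ c i₀ j₀ hμ hc hx hP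

/-- In characteristic 3 a transvection is not conjugate into the normaliser. -/
theorem forward_char3 (K : Subalgebra F (Matrix (Fin 3) (Fin 3) F))
    (hK : Cfsg.Geo.IsFieldSubalgebra 3 K)
    (hall : ∀ x : Matrix.SpecialLinearGroup (Fin 3) F,
      (∃ z : F, ((x ^ 3 : Matrix.SpecialLinearGroup (Fin 3) F) : Matrix (Fin 3) (Fin 3) F) =
        z • (1 : Matrix (Fin 3) (Fin 3) F)) →
      (∀ z : F, (x : Matrix (Fin 3) (Fin 3) F) ≠ z • (1 : Matrix (Fin 3) (Fin 3) F)) →
      ∃ P : Matrix.SpecialLinearGroup (Fin 3) F, P⁻¹ * x * P ∈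
        ((Cfsg.Geo.subalgebraNormalizer K).comap (Matrix.SpecialLinearGroup.toGL :
          Matrix.SpecialLinearGroup (Fin 3) F →* GL (Fin 3) F))) :
    (3 : F) ≠ 0 := by
  intro h3
  have hij : (0 : Fin 3) ≠ 1 := by decide
  refine forward_aux3 K hK hall 1 1 0 1 one_ne_zero one_ne_zero ?_ 1 ?_
  · rw [one_smul]; exact Matrix.det_transvection_of_ne _ _ hij 1
  · rw [one_smul, one_smul, one_add_single_cube, Matrix.single_mul_single_of_ne _ _ _ _ hij.symm]
    have : (1 : F) + 1 + 1 = 0 := by linear_combination h3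
    rw [this, Matrix.single_zero]
    simp

/-- When the primitive cube roots of unity are cubes, a pseudo-reflection of order 3 (mod scalars)
is not conjugate into the normaliser. -/
theorem forward_omega_cube (K : Subalgebra F (Matrix (Fin 3) (Fin 3) F))
    (hK : Cfsg.Geo.IsFieldSubalgebra 3 K)
    (hall : ∀ x : Matrix.SpecialLinearGroup (Fin 3) F,
      (∃ z : F, ((x ^ 3 : Matrix.SpecialLinearGroup (Fin 3) F) : Matrix (Fin 3) (Fin 3) F) =
        z • (1 : Matrix (Fin 3) (Fin 3) F)) →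
      (∀ z : F, (x : Matrix (Fin 3) (Fin 3) F) ≠ z • (1 : Matrix (Fin 3) (Fin 3) F)) →
      ∃ P : Matrix.SpecialLinearGroup (Fin 3) F, P⁻¹ * x * P ∈
        ((Cfsg.Geo.subalgebraNormalizer K).comap (Matrix.SpecialLinearGroup.toGL :
          Matrix.SpecialLinearGroup (Fin 3) F →* GL (Fin 3) F)))
    (h3 : (3 : F) ≠ 0) (ω μ : F) (hω : ω ^ 2 + ω + 1 = 0) (hμ : μ ≠ 0) (hμω : μ ^ 3 * ω = 1) :
    False := by
  have hω3 := omega_cube ω hω
  have hc : ω - 1 ≠ 0 := sub_ne_zero.2 (omega_ne_one ω hω h3)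
  refine forward_aux3 K hK hall μ (ω - 1) 0 0 hμ hc ?_ (μ ^ 3) ?_
  · rw [Matrix.det_smul, Fintype.card_fin]
    have : (1 + Matrix.single (0 : Fin 3) 0 (ω - 1) : Matrix (Fin 3) (Fin 3) F) =
        Matrix.diagonal (fun i => if i = (0 : Fin 3) then ω else 1) := by
      ext i j
      fin_cases i <;> fin_cases j <;> simp [Matrix.single_apply, Matrix.one_apply]
    rw [this, Matrix.det_diagonal, Finset.prod_ite_eq' Finset.univ]
    simpa using hμω
  · rw [smul_pow, one_add_single_cube, Matrix.single_mul_single_same,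
      Matrix.single_mul_single_same, add_assoc, add_assoc, ← Matrix.single_add,
      ← Matrix.single_add, ← Matrix.single_add, ← Matrix.single_add]
    have : ω - 1 + (ω - 1) + (ω - 1) + ((ω - 1) * (ω - 1) + (ω - 1) * (ω - 1) + (ω - 1) * (ω - 1)
        + (ω - 1) * (ω - 1) * (ω - 1)) = 0 := by linear_combination hω3
    rw [this, Matrix.single_zero, add_zero]

end Cfsg.Agent.Helper7.Singer
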