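import Mathlib
import Cfsg.Agent.Helper7.SingerK
import Cfsg.Agent.Helper7.SingerJ
import Cfsg.Agent.Helper8.UnipCommuteCard

set_option autoImplicit false

namespace Cfsg.Agent.Helper7.Singer

open Matrix Cfsg.Agent.Helper7.Invol

variable {F : Type*} [Field F] [Fintype F]

theorem card_SL3_not_dvd (h : Fintype.card F % 9 = 2 ∨ Fintype.card F % 9 = 5) :
    ¬ 9 ∣ Nat.card (Matrix.SpecialLinearGroup (Fin 3) F) := by
  have hf := Cfsg.Agent.Helper8.UnipComm.card_SL_formula (F := F) 2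
  have hf' : Nat.card (Matrix.SpecialLinearGroup (Fin 3) F) =
      (∑ j ∈ Finset.range (2 + 1), Fintype.card F ^ j) *
        ∏ i ∈ Finset.range 2, (Fintype.card F ^ (2 + 1) - Fintype.card F ^ (i + 1)) := hf
  rw [hf', Finset.sum_range_succ, Finset.sum_range_succ, Finset.sum_range_one,
    Finset.prod_range_succ, Finset.prod_range_one]
  obtain ⟨s, hs⟩ : ∃ s, Fintype.card F = s + 1 := by
    have := Fintype.one_lt_card (α := F)
    exact ⟨Fintype.card F - 1, by omega⟩
  rw [hs] at h ⊢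
  have e1 : (s + 1) ^ (2 + 1) - (s + 1) ^ (0 + 1) = (s + 1) * s * (s + 2) := by
    apply Nat.sub_eq_of_eq_add; ring
  have e2 : (s + 1) ^ (2 + 1) - (s + 1) ^ (1 + 1) = (s + 1) ^ 2 * s := by
    apply Nat.sub_eq_of_eq_add; ring
  rw [e1, e2]
  intro hdvd
  have h0 := (ZMod.natCast_eq_zero_iff _ 9).2 hdvd
  push_cast at h0
  have hs' : (s : ZMod 9) = 1 ∨ (s : ZMod 9) = 4 := by
    rcases h with h | h
    · left
      have : s % 9 = 1 := by omega
      rw [← ZMod.natCast_mod, this]; rfl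
    · right
      have : s % 9 = 4 := by omega
      rw [← ZMod.natCast_mod, this]; rfl
  rcases hs' with h1 | h1 <;> rw [h1] at h0 <;> revert h0 <;> decide

/-- If `q ≡ 2, 5 (mod 9)` then the index of the normaliser is prime to 3. -/
theorem index_not_dvd (K : Subalgebra F (Matrix (Fin 3) (Fin 3) F))
    (hK : Cfsg.Geo.IsFieldSubalgebra 3 K)
    (h : Fintype.card F % 9 = 2 ∨ Fintype.card F % 9 = 5) :
    ¬ 3 ∣ ((Cfsg.Geo.subalgebraNormalizer K).comap (Matrix.SpecialLinearGroup.toGL :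
      Matrix.SpecialLinearGroup (Fin 3) F →* GL (Fin 3) F)).index := by
  intro hdvd
  have hq3 : Fintype.card F % 3 = 2 := by omega
  have h3 : (3 : F) ≠ 0 := by
    rw [Ne, three_eq_zero_iff_card]
    omega
  obtain ⟨hdet, hne⟩ := frob3_det_of_no_omega K hK h3 (no_omega hq3)
  obtain ⟨S, hS⟩ : ∃ S : Matrix.SpecialLinearGroup (Fin 3) F,
      (S : Matrix (Fin 3) (Fin 3) F) = frob3 K hK := ⟨⟨_, hdet⟩, rfl⟩
  have hmem : S ∈ (Cfsg.Geo.subalgebraNormalizer K).comap (Matrix.SpecialLinearGroup.toGL :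
      Matrix.SpecialLinearGroup (Fin 3) F →* GL (Fin 3) F) := by
    have := mem_of_conj_frob3 K hK S 1 (by rw [hS]; simp)
    simpa using this
  have hS3 : S ^ 3 = 1 := by
    apply Subtype.ext
    rw [Matrix.SpecialLinearGroup.coe_pow, hS, frob3_cube]
    rfl
  have hS1 : S ≠ 1 := by
    intro h1
    apply hne
    rw [← hS, h1]
    rfl
  have hord : orderOf S = 3 := by
    haveI : Fact (Nat.Prime 3) := ⟨by norm_num⟩
    exact orderOf_eq_prime hS3 hS1
  have h3card : 3 ∣ Nat.card ((Cfsg.Geo.subalgebraNormalizer K).comap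
      (Matrix.SpecialLinearGroup.toGL :
      Matrix.SpecialLinearGroup (Fin 3) F →* GL (Fin 3) F)) := by
    have := Subgroup.orderOf_dvd_natCard _ hmem
    rwa [hord] at this
  apply card_SL3_not_dvd h
  rw [← Subgroup.index_mul_card ((Cfsg.Geo.subalgebraNormalizer K).comap
      (Matrix.SpecialLinearGroup.toGL :
      Matrix.SpecialLinearGroup (Fin 3) F →* GL (Fin 3) F))]
  exact Nat.mul_dvd_mul hdvd h3card

end Cfsg.Agent.Helper7.Singer
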