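import Mathlib
import Cfsg.Agent.Helper7.SingerL
import Cfsg.Agent.Helper7.SingerM

set_option autoImplicit false

namespace Cfsg.Agent.Helper7.Singer

open Matrix Cfsg.Agent.Helper7.Invol

variable {F : Type*} [Field F] [Fintype F]

theorem cube_scalar_cube (x : Matrix.SpecialLinearGroup (Fin 3) F) (z : F)
    (hz : (x : Matrix (Fin 3) (Fin 3) F) ^ 3 = z • (1 : Matrix (Fin 3) (Fin 3) F)) :
    z ^ 3 = 1 := by
  have h := congrArg Matrix.det hz
  rw [Matrix.det_pow, x.2, one_pow, Matrix.det_smul, Matrix.det_one, mul_one,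
    Fintype.card_fin] at h
  exact h.symm

/-- All elements of order 3 (mod scalars) are conjugate into the normaliser when
`q ≡ 4, 7, 8 (mod 9)`. -/
theorem backward3 (K : Subalgebra F (Matrix (Fin 3) (Fin 3) F))
    (hK : Cfsg.Geo.IsFieldSubalgebra 3 K)
    (hq : Fintype.card F % 9 = 4 ∨ Fintype.card F % 9 = 7 ∨ Fintype.card F % 9 = 8)
    (x : Matrix.SpecialLinearGroup (Fin 3) F)
    (hx : ∃ z : F, ((x ^ 3 : Matrix.SpecialLinearGroup (Fin 3) F) :
      Matrix (Fin 3) (Fin 3) F) = z • (1 : Matrix (Fin 3) (Fin 3) F))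
    (hns : ∀ z : F, (x : Matrix (Fin 3) (Fin 3) F) ≠ z • (1 : Matrix (Fin 3) (Fin 3) F)) :
    ∃ P : Matrix.SpecialLinearGroup (Fin 3) F, P⁻¹ * x * P ∈
      ((Cfsg.Geo.subalgebraNormalizer K).comap (Matrix.SpecialLinearGroup.toGL :
        Matrix.SpecialLinearGroup (Fin 3) F →* GL (Fin 3) F)) := by
  obtain ⟨z, hz⟩ := hx
  rw [Matrix.SpecialLinearGroup.coe_pow] at hz
  have hz3 := cube_scalar_cube x z hz
  have h3 : (3 : F) ≠ 0 := by
    rw [Ne, three_eq_zero_iff_card]
    omega
  have hqpos := Fintype.one_lt_card (α := F)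
  by_cases hq8 : Fintype.card F % 9 = 8
  · have hq3 : Fintype.card F % 3 = 2 := by omega
    have hz1 : z = 1 := eq_one_of_cube_eq_one hq3 z hz3
    rw [hz1, one_smul] at hz
    refine conj_frob_of_no_omega K hK h3 (no_omega hq3) x hz ?_
    intro h
    exact hns 1 (by rw [h, one_smul])
  · have hd3 : 3 ∣ Fintype.card F - 1 := by omega
    have hd9 : ¬ 9 ∣ Fintype.card F - 1 := by omega
    obtain ⟨ω, hω⟩ := exists_omega hd3
    have hz1 : z = 1 := by
      have hprod : (z - 1) * ((z - ω) * (z - ω ^ 2)) = 0 := by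
        linear_combination hz3 + (z - 1) * (ω - 1 - z) * hω
      have hcase : ∀ w : F, (w = ω ∨ w = ω ^ 2) → z ≠ w := by
        intro w hw hzw
        have hnc : ∀ c : F, c ^ 3 ≠ z := by
          intro c
          rcases hw with hw | hw
          · rw [hzw, hw]; exact (omega_noncube hd9 h3 ω hω c).1
          · rw [hzw, hw]; exact (omega_noncube hd9 h3 ω hω c).2
        have hdet := det_eq_of_noncube (x : Matrix (Fin 3) (Fin 3) F) z hz hnc
        rw [x.2] at hdet
        rcases hw with hw | hw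
        · exact omega_ne_one ω hω h3 (by rw [← hw, ← hzw, ← hdet])
        · exact omega_sq_ne_one ω hω h3 (by rw [← hw, ← hzw, ← hdet])
      rcases mul_eq_zero.1 hprod with h | h
      · exact sub_eq_zero.1 h
      · rcases mul_eq_zero.1 h with h | h
        · exact absurd (sub_eq_zero.1 h) (hcase ω (Or.inl rfl))
        · exact absurd (sub_eq_zero.1 h) (hcase (ω ^ 2) (Or.inr rfl))
    rw [hz1, one_smul] at hz
    exact conj_frob_of_omega K hK ω hω h3 x hz hns

/-- If all elements of order 3 (mod scalars) are conjugate into the normaliser and 3 divides the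
index, then `q ≡ 4, 7, 8 (mod 9)`. -/
theorem forward3 (K : Subalgebra F (Matrix (Fin 3) (Fin 3) F))
    (hK : Cfsg.Geo.IsFieldSubalgebra 3 K)
    (hΩ : 3 ∣ ((Cfsg.Geo.subalgebraNormalizer K).comap (Matrix.SpecialLinearGroup.toGL :
      Matrix.SpecialLinearGroup (Fin 3) F →* GL (Fin 3) F)).index)
    (hall : ∀ x : Matrix.SpecialLinearGroup (Fin 3) F,
      (∃ z : F, ((x ^ 3 : Matrix.SpecialLinearGroup (Fin 3) F) : Matrix (Fin 3) (Fin 3) F) =
        z • (1 : Matrix (Fin 3) (Fin 3) F)) →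
      (∀ z : F, (x : Matrix (Fin 3) (Fin 3) F) ≠ z • (1 : Matrix (Fin 3) (Fin 3) F)) →
      ∃ P : Matrix.SpecialLinearGroup (Fin 3) F, P⁻¹ * x * P ∈
        ((Cfsg.Geo.subalgebraNormalizer K).comap (Matrix.SpecialLinearGroup.toGL :
          Matrix.SpecialLinearGroup (Fin 3) F →* GL (Fin 3) F))) :
    Fintype.card F % 9 = 4 ∨ Fintype.card F % 9 = 7 ∨ Fintype.card F % 9 = 8 := by
  have h3 := forward_char3 K hK hall
  have hq0 : ¬ 3 ∣ Fintype.card F := fun h => h3 (three_eq_zero_iff_card.2 h)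
  have hqpos := Fintype.one_lt_card (α := F)
  have hq1 : Fintype.card F % 9 ≠ 1 := by
    intro h1
    have hd9 : 9 ∣ Fintype.card F - 1 := by omega
    obtain ⟨ω, μ, hω, hμ, hμω⟩ := exists_cube_root_omega hd9
    exact forward_omega_cube K hK hall h3 ω μ hω hμ hμω
  have hq25 : ¬ (Fintype.card F % 9 = 2 ∨ Fintype.card F % 9 = 5) := fun h =>
    index_not_dvd K hK h hΩ
  omega

end Cfsg.Agent.Helper7.Singer
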