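import Mathlib
import Cfsg.Agent.Helper7.SingerC

set_option autoImplicit false

namespace Cfsg.Agent.Helper7.Singer

open Matrix Cfsg.Agent.Helper7.Invol

variable {F : Type*} [Field F] {n : ℕ}

theorem frobMat_pow_mul [Fintype F] (K : Subalgebra F (Matrix (Fin n) (Fin n) F))
    (hK : Cfsg.Geo.IsFieldSubalgebra n K) (hn : 0 < n) (k : Matrix (Fin n) (Fin n) F)
    (hk : k ∈ K) (j : ℕ) :
    frobMat K hK hn ^ j * k = k ^ (Fintype.card F ^ j) * frobMat K hK hn ^ j := by
  induction j with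
  | zero => simp
  | succ j ih =>
    rw [pow_succ', Matrix.mul_assoc, ih, ← Matrix.mul_assoc,
      frobMat_mul K hK hn _ (K.pow_mem hk _), Matrix.mul_assoc, ← pow_mul, ← pow_succ]

theorem frobMat_conj_mem' [Fintype F] (K : Subalgebra F (Matrix (Fin n) (Fin n) F))
    (hK : Cfsg.Geo.IsFieldSubalgebra n K) (hn : 0 < n) (k : Matrix (Fin n) (Fin n) F)
    (hk : k ∈ K) : frobMat K hK hn ^ (n - 1) * k * frobMat K hK hn ∈ K := by
  rw [frobMat_pow_mul K hK hn k hk, Matrix.mul_assoc, ← pow_succ]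
  have : n - 1 + 1 = n := by omega
  rw [this, frobMat_pow_self, Matrix.mul_one]
  exact K.pow_mem hk _

theorem frobMat_mul_pow_pred [Fintype F] (K : Subalgebra F (Matrix (Fin n) (Fin n) F))
    (hK : Cfsg.Geo.IsFieldSubalgebra n K) (hn : 0 < n) :
    frobMat K hK hn * frobMat K hK hn ^ (n - 1) = 1 ∧
      frobMat K hK hn ^ (n - 1) * frobMat K hK hn = 1 := by
  have : n - 1 + 1 = n := by omega
  constructor
  · rw [← pow_succ', this, frobMat_pow_self]
  · rw [← pow_succ, this, frobMat_pow_self]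

/-- The commutant of a field subalgebra of full degree is the subalgebra itself. -/
theorem commutant_mem (K : Subalgebra F (Matrix (Fin n) (Fin n) F))
    (hK : Cfsg.Geo.IsFieldSubalgebra n K) (hn : 0 < n) (Y : Matrix (Fin n) (Fin n) F)
    (hcomm : ∀ k ∈ K, Y * k = k * Y) : Y ∈ K := by
  obtain ⟨k₀, hk₀, hk₀v⟩ := exists_rep K hK hn (Y *ᵥ baseVec hn)
  have : Y = k₀ := by
    apply Matrix.toLin'.injective
    apply LinearMap.ext
    intro v
    obtain ⟨k, hk, rfl⟩ := exists_rep K hK hn v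
    rw [Matrix.toLin'_apply, Matrix.toLin'_apply, Matrix.mulVec_mulVec, hcomm k hk,
      ← Matrix.mulVec_mulVec, hk₀v, Matrix.mulVec_mulVec, Matrix.mulVec_mulVec,
      hK.comm k hk k₀ hk₀]
  rw [this]
  exact hk₀

theorem rank_add_le' (A B : Matrix (Fin n) (Fin n) F) : (A + B).rank ≤ A.rank + B.rank := by
  unfold Matrix.rank
  rw [Matrix.mulVecLin_add]
  exact (Submodule.finrank_mono (LinearMap.range_add_le _ _)).trans
    (Submodule.finrank_add_le_finrank_add_finrank _ _)

theorem rank_neg' (A : Matrix (Fin n) (Fin n) F) : (-A).rank = A.rank := by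
  unfold Matrix.rank
  have : (-A).mulVecLin = -A.mulVecLin := by
    ext v
    simp [Matrix.neg_mulVec]
  rw [this, LinearMap.range_neg]

/-- A matrix `1 + N` normalising a field subalgebra of full degree `n`, with `2 rank N < n`, is
the identity. -/
theorem no_low_rank_normalizer (hn : 0 < n) (K : Subalgebra F (Matrix (Fin n) (Fin n) F))
    (hK : Cfsg.Geo.IsFieldSubalgebra n K) (Y Yi N : Matrix (Fin n) (Fin n) F)
    (hY : Y = 1 + N) (hrank : 2 * N.rank < n)
    (hYiY : Yi * Y = 1) (hnorm : ∀ k ∈ K, Y * k * Yi ∈ K) : N = 0 := by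
  classical
  have hinv_rank : ∀ κ ∈ K, κ ≠ 0 → κ.rank = n := by
    intro κ hκ hκ0
    obtain ⟨y, hy, hκy⟩ := hK.inv κ hκ hκ0
    have hu : IsUnit κ := ⟨⟨κ, y, hκy, by rw [hK.comm y hy κ hκ]; exact hκy⟩, rfl⟩
    rw [Matrix.rank_of_isUnit κ hu, Fintype.card_fin]
  have hcomm : ∀ κ ∈ K, Y * κ = κ * Y := by
    intro κ hκK
    have hκ'K := hnorm κ hκK
    obtain ⟨κ', hκ'⟩ : ∃ κ', κ' = Y * κ * Yi := ⟨_, rfl⟩
    rw [← hκ'] at hκ'K
    have h1 : Y * κ = κ' * Y := by
      rw [hκ', Matrix.mul_assoc, hYiY, Matrix.mul_one]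
    have h3 : κ - κ' = κ' * N + -(N * κ) := by
      rw [hY, add_mul, mul_add, Matrix.one_mul, Matrix.mul_one] at h1
      rw [← sub_eq_add_neg, sub_eq_sub_iff_add_eq_add, add_comm (κ' * N), ← h1, add_comm]
    by_cases hκκ : κ' = κ
    · rw [h1, hκκ]
    · exfalso
      have hmem : κ - κ' ∈ K := K.sub_mem hκK hκ'K
      have hne : κ - κ' ≠ 0 := fun h => hκκ (sub_eq_zero.1 h).symm
      have hr := hinv_rank _ hmem hne
      rw [h3] at hr
      have h4 := rank_add_le' (κ' * N) (-(N * κ))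
      rw [rank_neg'] at h4
      have h5 := Matrix.rank_mul_le_right κ' N
      have h6 := Matrix.rank_mul_le_left N κ
      omega
  have hYK : Y ∈ K := commutant_mem K hK hn Y hcomm
  have hNK : N ∈ K := by
    have : N = Y - 1 := by rw [hY]; abel
    rw [this]
    exact K.sub_mem hYK K.one_mem
  by_contra hN0
  have := hinv_rank N hNK hN0
  omega

end Cfsg.Agent.Helper7.Singer
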