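import Mathlib

set_option autoImplicit false

namespace Cfsg.Agent.Helper7.Singer

open Matrix

variable {F : Type*} [Field F] {n : ℕ}

/-- A subspace invariant under a matrix of prime order `p` without nonzero fixed vectors has
`q^dim ≡ 1 (mod p)`. -/
theorem card_invariant_modEq [Fintype F] (p : ℕ) [Fact p.Prime] (Y : Matrix (Fin n) (Fin n) F)
    (hY : Y ^ p = 1) (U : Submodule F (Fin n → F)) (hU : ∀ u ∈ U, Y *ᵥ u ∈ U)
    (hfix : ∀ u ∈ U, Y *ᵥ u = u → u = 0) :
    Fintype.card F ^ Module.finrank F U ≡ 1 [MOD p] := by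
  classical
  letI : Fintype U := Fintype.ofFinite U
  let f : Function.End U := fun u => ⟨Y *ᵥ (u : Fin n → F), hU u u.2⟩
  have hpow : ∀ (k : ℕ) (u : U), (((f ^ k) u : U) : Fin n → F) = (Y ^ k) *ᵥ (u : Fin n → F) := by
    intro k
    induction k with
    | zero => intro u; simp [Function.End.one_def]
    | succ k ih =>
      intro u
      have e : (f ^ (k + 1)) u = (f ^ k) (f u) := by rw [pow_succ]; rfl
      rw [e, ih, pow_succ, ← Matrix.mulVec_mulVec]
  have hf : f ^ p ^ 1 = 1 := by
    funext u
    apply Subtype.ext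
    rw [pow_one, hpow, hY, Matrix.one_mulVec]
    rfl
  have h1 := Equiv.Perm.card_fixedPoints_modEq (p := p) (n := 1) hf
  have h2 : Fintype.card (Function.fixedPoints f) = 1 := by
    rw [Fintype.card_eq_one_iff]
    refine ⟨⟨0, ?_⟩, ?_⟩
    · show f 0 = 0
      apply Subtype.ext
      simp [f]
    · rintro ⟨u, hu⟩
      apply Subtype.ext
      apply Subtype.ext
      have h3 : f u = u := hu
      have h4 := congrArg Subtype.val h3
      exact hfix u u.2 h4
  have h3 : Fintype.card U = Fintype.card F ^ Module.finrank F U := by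
    have := Module.natCard_eq_pow_finrank (K := F) (V := U)
    rw [Nat.card_eq_fintype_card, Nat.card_eq_fintype_card] at this
    exact this
  rw [h2, h3] at h1
  exact h1

end Cfsg.Agent.Helper7.Singer
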