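import Mathlib

set_option autoImplicit false

namespace Cfsg.Agent.Helper7.Singer

open Matrix

variable {F : Type*} [Field F]

/-- A matrix of order `m + 1`, such that invariant subspaces without fixed vectors have
dimension divisible by `m`, has a cyclic vector. -/
theorem exists_cyclic_vector (m : ℕ) (hm : 2 ≤ m)
    (Y : Matrix (Fin (m + 1)) (Fin (m + 1)) F) (hY : Y ^ (m + 1) = 1) (hne : Y ≠ 1)
    (hnF : ((m + 1 : ℕ) : F) ≠ 0)
    (hdvd : ∀ U : Submodule F (Fin (m + 1) → F), (∀ u ∈ U, Y *ᵥ u ∈ U) →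
      (∀ u ∈ U, Y *ᵥ u = u → u = 0) → m ∣ Module.finrank F U) :
    ∃ v : Fin (m + 1) → F, LinearIndependent F (fun j : Fin (m + 1) => (Y ^ (j : ℕ)) *ᵥ v) := by
  classical
  obtain ⟨N, hN⟩ : ∃ N : Matrix (Fin (m + 1)) (Fin (m + 1)) F,
      N = ∑ j ∈ Finset.range (m + 1), Y ^ j := ⟨_, rfl⟩
  have hYN : Y * N = N := by
    have := mul_geom_sum Y (m + 1)
    rw [hY, sub_self, ← hN, sub_mul, Matrix.one_mul, sub_eq_zero] at this
    exact this
  have hNY : N * Y = N := by
    have := geom_sum_mul Y (m + 1)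
    rw [hY, sub_self, ← hN, mul_sub, Matrix.mul_one, sub_eq_zero] at this
    exact this
  have hNYj : ∀ j : ℕ, N * Y ^ j = N := by
    intro j
    induction j with
    | zero => simp
    | succ j ih => rw [pow_succ, ← Matrix.mul_assoc, ih, hNY]
  -- fixed vectors
  have hfixpow : ∀ u : Fin (m + 1) → F, Y *ᵥ u = u → ∀ j : ℕ, (Y ^ j) *ᵥ u = u := by
    intro u hu j
    induction j with
    | zero => simp
    | succ j ih => rw [pow_succ, ← Matrix.mulVec_mulVec, hu, ih]
  have hNfix : ∀ u : Fin (m + 1) → F, Y *ᵥ u = u → N *ᵥ u = ((m + 1 : ℕ) : F) • u := by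
    intro u hu
    rw [hN, Matrix.sum_mulVec]
    simp only [hfixpow u hu]
    rw [Finset.sum_const, Finset.card_range, Nat.cast_smul_eq_nsmul]
  have hnofix : ∀ u : Fin (m + 1) → F, N *ᵥ u = 0 → Y *ᵥ u = u → u = 0 := by
    intro u hNu hu
    have := hNfix u hu
    rw [hNu] at this
    exact (smul_eq_zero.1 this.symm).resolve_left hnF
  -- lower bound for invariant subspaces killed by `N`
  have hbound : ∀ U : Submodule F (Fin (m + 1) → F), (∀ u ∈ U, Y *ᵥ u ∈ U) →
      (∀ u ∈ U, N *ᵥ u = 0) → (∃ u ∈ U, u ≠ 0) → m ≤ Module.finrank F U := by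
    intro U hU hUN ⟨u, huU, hu0⟩
    have h1 := hdvd U hU (fun u hu hfix => hnofix u (hUN u hu) hfix)
    have h2 : 0 < Module.finrank F U := by
      rw [Module.finrank_pos_iff_exists_ne_zero]
      exact ⟨⟨u, huU⟩, fun h => hu0 (congrArg Subtype.val h)⟩
    exact Nat.le_of_dvd h2 h1
  -- the vector `w`
  obtain ⟨w, hw0, hNw⟩ : ∃ w : Fin (m + 1) → F, w ≠ 0 ∧ N *ᵥ w = 0 := by
    have : ∃ v, Y *ᵥ v ≠ v := by
      by_contra hcon
      push_neg at hcon
      apply hne
      apply Matrix.toLin'.injective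
      apply LinearMap.ext
      intro v
      rw [Matrix.toLin'_apply, hcon, Matrix.toLin'_one, LinearMap.id_apply]
    obtain ⟨v, hv⟩ := this
    refine ⟨Y *ᵥ v - v, sub_ne_zero.2 hv, ?_⟩
    rw [Matrix.mulVec_sub, Matrix.mulVec_mulVec, hNY, sub_self]
  have hrel : (Y ^ m) *ᵥ w = -∑ j : Fin m, (Y ^ (j : ℕ)) *ᵥ w := by
    have h1 := hNw
    rw [hN, Matrix.sum_mulVec, Finset.sum_range_succ] at h1
    have e : ∑ j : Fin m, (Y ^ (j : ℕ)) *ᵥ w = ∑ j ∈ Finset.range m, (Y ^ j) *ᵥ w :=
      Fin.sum_univ_eq_sum_range (fun j => (Y ^ j) *ᵥ w) m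
    rw [eq_neg_iff_add_eq_zero, add_comm ((Y ^ m) *ᵥ w), e]
    exact h1
  -- independence of `w, Yw, ...`
  have hwli : LinearIndependent F (fun j : Fin m => (Y ^ (j : ℕ)) *ᵥ w) := by
    rw [linearIndependent_iff_card_le_finrank_span, Fintype.card_fin]
    obtain ⟨Z, hZ⟩ : ∃ Z : Submodule F (Fin (m + 1) → F),
        Z = Submodule.span F (Set.range (fun j : Fin m => (Y ^ (j : ℕ)) *ᵥ w)) := ⟨_, rfl⟩
    have hgen : ∀ j : Fin m, (Y ^ (j : ℕ)) *ᵥ w ∈ Z := by
      intro j
      rw [hZ]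
      exact Submodule.subset_span ⟨j, rfl⟩
    show m ≤ Module.finrank F (Submodule.span F (Set.range fun j : Fin m => (Y ^ (j : ℕ)) *ᵥ w))
    rw [← hZ]
    apply hbound Z
    · -- invariance
      have : Z.map (Matrix.toLin' Y) ≤ Z := by
        rw [hZ, Submodule.map_span_le]
        rintro _ ⟨j, rfl⟩
        rw [← hZ, Matrix.toLin'_apply, Matrix.mulVec_mulVec, ← pow_succ']
        by_cases hj : (j : ℕ) + 1 < m
        · exact hgen ⟨(j : ℕ) + 1, hj⟩
        · have hj' : (j : ℕ) + 1 = m := by have := j.2; omega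
          rw [hj', hrel]
          exact Z.neg_mem (Z.sum_mem (fun i _ => hgen i))
      intro u hu
      have := this (Submodule.mem_map_of_mem hu)
      rwa [Matrix.toLin'_apply] at this
    · -- killed by N
      have : Z ≤ LinearMap.ker (Matrix.toLin' N) := by
        rw [hZ, Submodule.span_le]
        rintro _ ⟨j, rfl⟩
        rw [SetLike.mem_coe, LinearMap.mem_ker, Matrix.toLin'_apply, Matrix.mulVec_mulVec, hNYj,
          hNw]
      intro u hu
      have := this hu
      rwa [LinearMap.mem_ker, Matrix.toLin'_apply] at this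
    · refine ⟨w, ?_, hw0⟩
      have := hgen ⟨0, by omega⟩
      simpa using this
  -- the fixed vector `u`
  obtain ⟨u, hu0, hYu⟩ : ∃ u : Fin (m + 1) → F, u ≠ 0 ∧ Y *ᵥ u = u := by
    have hN0 : N ≠ 0 := by
      intro hN0
      have h1 := hdvd ⊤ (fun u _ => Submodule.mem_top) (fun u _ hfix => by
        apply hnofix u _ hfix
        rw [hN0, Matrix.zero_mulVec])
      rw [finrank_top, Module.finrank_fin_fun] at h1
      have h2 : m ∣ 1 := (Nat.dvd_add_right (dvd_refl m)).1 h1
      have := Nat.le_of_dvd one_pos h2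
      omega
    have : ∃ v, N *ᵥ v ≠ 0 := by
      by_contra hcon
      push_neg at hcon
      apply hN0
      apply Matrix.toLin'.injective
      apply LinearMap.ext
      intro v
      rw [Matrix.toLin'_apply, hcon, map_zero, LinearMap.zero_apply]
    obtain ⟨v, hv⟩ := this
    exact ⟨N *ᵥ v, hv, by rw [Matrix.mulVec_mulVec, hYN]⟩
  -- the cyclic vector
  refine ⟨u + w, ?_⟩
  rw [Fintype.linearIndependent_iff]
  intro g hg
  have hpow : ∀ j : ℕ, (Y ^ j) *ᵥ (u + w) = u + (Y ^ j) *ᵥ w := by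
    intro j
    rw [Matrix.mulVec_add, hfixpow u hYu]
  simp only [hpow, smul_add] at hg
  rw [Finset.sum_add_distrib, ← Finset.sum_smul] at hg
  -- apply N
  have hsum : ∑ j, g j = 0 := by
    have h1 := congrArg (fun t => N *ᵥ t) hg
    simp only [Matrix.mulVec_add, Matrix.mulVec_smul, Matrix.mulVec_zero, Matrix.mulVec_sum,
      Matrix.mulVec_mulVec, hNYj, hNw, smul_zero, Finset.sum_const_zero, add_zero] at h1
    rw [hNfix u hYu, smul_smul] at h1
    have := (smul_eq_zero.1 h1).resolve_right hu0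
    exact (mul_eq_zero.1 this).resolve_right hnF
  rw [hsum, zero_smul, zero_add, Fin.sum_univ_castSucc] at hg
  simp only [Fin.val_castSucc, Fin.val_last] at hg
  rw [hrel, smul_neg, Finset.smul_sum, ← sub_eq_add_neg, ← Finset.sum_sub_distrib] at hg
  simp only [← sub_smul] at hg
  rw [Fintype.linearIndependent_iff] at hwli
  have hcoef := hwli (fun j => g (Fin.castSucc j) - g (Fin.last m)) hg
  have hall : ∀ j : Fin (m + 1), g j = g (Fin.last m) := by
    intro j
    refine Fin.lastCases rfl (fun i => ?_) j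
    exact sub_eq_zero.1 (hcoef i)
  have hlast : g (Fin.last m) = 0 := by
    rw [Finset.sum_congr rfl (fun j _ => hall j), Finset.sum_const, Finset.card_univ,
      Fintype.card_fin, ← Nat.cast_smul_eq_nsmul F, smul_eq_mul] at hsum
    exact (mul_eq_zero.1 hsum).resolve_left hnF
  intro j
  rw [hall j, hlast]

end Cfsg.Agent.Helper7.Singer
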