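import Mathlib
import Cfsg.Agent.Helper7.SingerQ
import Cfsg.Agent.Helper7.InvolB

set_option autoImplicit false

namespace Cfsg.Agent.Helper7.Singer

open Matrix Cfsg.Agent.Helper7.Invol

variable {F : Type*} [Field F]

/-- The cyclic shift matrix. -/
def shiftMat (m : ℕ) : Matrix (Fin (m + 1)) (Fin (m + 1)) F :=
  Matrix.of fun i j => if i = j + 1 then 1 else 0

theorem shiftMat_apply (m : ℕ) (i j : Fin (m + 1)) :
    (shiftMat m : Matrix (Fin (m + 1)) (Fin (m + 1)) F) i j = if i = j + 1 then 1 else 0 := rfl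

/-- A matrix of order `m + 1` acts on the orbit basis of a cyclic vector via the shift matrix. -/
theorem actsVia_shift (m : ℕ) (Y : Matrix (Fin (m + 1)) (Fin (m + 1)) F) (hY : Y ^ (m + 1) = 1)
    (v : Fin (m + 1) → F) (b : Module.Basis (Fin (m + 1)) F (Fin (m + 1) → F))
    (hb : ∀ j : Fin (m + 1), b j = (Y ^ (j : ℕ)) *ᵥ v) : ActsVia Y b (shiftMat m) := by
  intro j
  simp only [shiftMat_apply]
  rw [Finset.sum_eq_single (j + 1)]
  · rw [if_pos rfl, one_smul, hb, hb, Matrix.mulVec_mulVec, ← pow_succ', Fin.val_add,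
      ← pow_eq_pow_mod _ hY, pow_eq_pow_mod (↑j + ↑(1 : Fin (m + 1))) hY,
      pow_eq_pow_mod (↑j + 1) hY]
    congr 2
    rw [Fin.val_one', Nat.add_mod_mod]
  · intro i _ hi
    rw [if_neg hi, zero_smul]
  · intro h
    exact absurd (Finset.mem_univ _) h

theorem shiftMat_centralizer (m : ℕ) (hnF : ((m + 1 : ℕ) : F) ≠ 0) (δ : F) :
    ∃ C : Matrix (Fin (m + 1)) (Fin (m + 1)) F, C * shiftMat m = shiftMat m * C ∧ C.det = δ := by
  obtain ⟨β, hβ⟩ : ∃ β : F, β = (δ - 1) / ((m + 1 : ℕ) : F) := ⟨_, rfl⟩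
  obtain ⟨B, hB⟩ : ∃ B : Matrix (Fin (m + 1)) (Fin (m + 1)) F, B = Matrix.of (fun _ _ => β) :=
    ⟨_, rfl⟩
  have hBA : B * shiftMat m = B := by
    ext i k
    rw [Matrix.mul_apply]
    simp only [hB, Matrix.of_apply, shiftMat_apply]
    rw [Finset.sum_eq_single (k + 1)]
    · rw [if_pos rfl, mul_one]
    · intro j _ hj
      rw [if_neg hj, mul_zero]
    · intro h
      exact absurd (Finset.mem_univ _) h
  have hAB : shiftMat m * B = B := by
    ext i k
    rw [Matrix.mul_apply]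
    simp only [hB, Matrix.of_apply, shiftMat_apply]
    rw [Finset.sum_eq_single (i - 1)]
    · rw [if_pos (sub_add_cancel i 1).symm, one_mul]
    · intro j _ hj
      rw [if_neg, zero_mul]
      intro h
      apply hj
      rw [h, add_sub_cancel_right]
    · intro h
      exact absurd (Finset.mem_univ _) h
  refine ⟨1 + B, ?_, ?_⟩
  · rw [add_mul, mul_add, Matrix.one_mul, Matrix.mul_one, hBA, hAB]
  · have hB' : B = Matrix.replicateCol Unit (fun _ : Fin (m + 1) => β) *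
        Matrix.replicateRow Unit (fun _ : Fin (m + 1) => (1 : F)) := by
      ext i k
      rw [hB, Matrix.mul_apply]
      simp
    rw [hB', Matrix.det_one_add_replicateCol_mul_replicateRow]
    simp only [dotProduct, one_mul, Finset.sum_const, Finset.card_univ, Fintype.card_fin]
    rw [← Nat.cast_smul_eq_nsmul F, smul_eq_mul, hβ, mul_div_cancel₀ _ hnF]
    ring

/-- Two matrices of order `m + 1` satisfying the divisibility condition on invariant subspaces are
conjugate under the special linear group. -/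
theorem conj_of_cyclic (m : ℕ) (hm : 2 ≤ m) (hnF : ((m + 1 : ℕ) : F) ≠ 0)
    (X Y : Matrix (Fin (m + 1)) (Fin (m + 1)) F) (hX : X ^ (m + 1) = 1) (hX1 : X ≠ 1)
    (hY : Y ^ (m + 1) = 1) (hY1 : Y ≠ 1)
    (hdvdX : ∀ U : Submodule F (Fin (m + 1) → F), (∀ u ∈ U, X *ᵥ u ∈ U) →
      (∀ u ∈ U, X *ᵥ u = u → u = 0) → m ∣ Module.finrank F U)
    (hdvdY : ∀ U : Submodule F (Fin (m + 1) → F), (∀ u ∈ U, Y *ᵥ u ∈ U) →
      (∀ u ∈ U, Y *ᵥ u = u → u = 0) → m ∣ Module.finrank F U) :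
    ∃ P : Matrix.SpecialLinearGroup (Fin (m + 1)) F,
      X * (P : Matrix (Fin (m + 1)) (Fin (m + 1)) F) =
        (P : Matrix (Fin (m + 1)) (Fin (m + 1)) F) * Y := by
  obtain ⟨v, hv⟩ := exists_cyclic_vector m hm X hX hX1 hnF hdvdX
  obtain ⟨v', hv'⟩ := exists_cyclic_vector m hm Y hY hY1 hnF hdvdY
  have hcard : Fintype.card (Fin (m + 1)) = Module.finrank F (Fin (m + 1) → F) := by
    rw [Module.finrank_fin_fun, Fintype.card_fin]
  obtain ⟨b, hb⟩ : ∃ b : Module.Basis (Fin (m + 1)) F (Fin (m + 1) → F),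
      ∀ j : Fin (m + 1), b j = (X ^ (j : ℕ)) *ᵥ v :=
    ⟨basisOfLinearIndependentOfCardEqFinrank hv hcard, fun j => by
      rw [coe_basisOfLinearIndependentOfCardEqFinrank]⟩
  obtain ⟨b', hb'⟩ : ∃ b' : Module.Basis (Fin (m + 1)) F (Fin (m + 1) → F),
      ∀ j : Fin (m + 1), b' j = (Y ^ (j : ℕ)) *ᵥ v' :=
    ⟨basisOfLinearIndependentOfCardEqFinrank hv' hcard, fun j => by
      rw [coe_basisOfLinearIndependentOfCardEqFinrank]⟩
  exact conj_of_actsVia X Y b b' (shiftMat m) (actsVia_shift m X hX v b hb)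
    (actsVia_shift m Y hY v' b' hb') (fun δ _ => shiftMat_centralizer m hnF δ)

end Cfsg.Agent.Helper7.Singer
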