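import Mathlib

set_option autoImplicit false

namespace Cfsg.Agent.Helper7.Singer

open Matrix

variable {F : Type*} [Field F]

/-- The index equivalence for the block embedding. -/
def blockEquiv (m n : ℕ) (hmn : m ≤ n) : Fin m ⊕ Fin (n - m) ≃ Fin n :=
  finSumFinEquiv.trans (finCongr (by omega))

/-- The block embedding `A ↦ diag(A, 1)` of `m × m` matrices into `n × n` matrices. -/
def blockEmb (m n : ℕ) (hmn : m ≤ n) :
    Matrix (Fin m) (Fin m) F →* Matrix (Fin n) (Fin n) F where
  toFun A := Matrix.reindex (blockEquiv m n hmn) (blockEquiv m n hmn)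
    (Matrix.fromBlocks A 0 0 (1 : Matrix (Fin (n - m)) (Fin (n - m)) F))
  map_one' := by
    rw [Matrix.fromBlocks_one, Matrix.reindex_apply, Matrix.submatrix_one_equiv]
  map_mul' A B := by
    rw [Matrix.reindex_apply, Matrix.reindex_apply, Matrix.reindex_apply,
      Matrix.submatrix_mul_equiv, Matrix.fromBlocks_multiply]
    simp

theorem blockEmb_apply (m n : ℕ) (hmn : m ≤ n) (A : Matrix (Fin m) (Fin m) F) :
    blockEmb m n hmn A = Matrix.reindex (blockEquiv m n hmn) (blockEquiv m n hmn)
      (Matrix.fromBlocks A 0 0 (1 : Matrix (Fin (n - m)) (Fin (n - m)) F)) := rfl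

theorem blockEmb_det (m n : ℕ) (hmn : m ≤ n) (A : Matrix (Fin m) (Fin m) F) :
    (blockEmb m n hmn A).det = A.det := by
  rw [blockEmb_apply, Matrix.det_reindex_self, Matrix.det_fromBlocks_zero₂₁, Matrix.det_one,
    mul_one]

theorem blockEmb_injective (m n : ℕ) (hmn : m ≤ n) :
    Function.Injective (blockEmb (F := F) m n hmn) := by
  intro A B h
  rw [blockEmb_apply, blockEmb_apply] at h
  have h' := (Matrix.reindex (blockEquiv m n hmn) (blockEquiv m n hmn)).injective h
  exact (Matrix.fromBlocks_inj.1 h').1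

theorem blockEmb_sub_one_rank (m n : ℕ) (hmn : m ≤ n) (A : Matrix (Fin m) (Fin m) F) :
    (blockEmb m n hmn A - 1).rank ≤ m := by
  have h1 : blockEmb m n hmn A - 1 = Matrix.reindex (blockEquiv m n hmn) (blockEquiv m n hmn)
      (Matrix.fromBlocks (A - 1) 0 0 (0 : Matrix (Fin (n - m)) (Fin (n - m)) F)) := by
    ext i j
    obtain ⟨a, rfl⟩ := (blockEquiv m n hmn).surjective i
    obtain ⟨b, rfl⟩ := (blockEquiv m n hmn).surjective j
    simp only [Matrix.sub_apply, blockEmb_apply, Matrix.reindex_apply, Matrix.submatrix_apply,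
      Equiv.symm_apply_apply, Matrix.one_apply, (blockEquiv m n hmn).injective.eq_iff]
    rcases a with a | a <;> rcases b with b | b <;> simp [Matrix.one_apply]
  have h2 : Matrix.fromBlocks (A - 1) 0 0 (0 : Matrix (Fin (n - m)) (Fin (n - m)) F) =
      Matrix.fromRows (A - 1) (0 : Matrix (Fin (n - m)) (Fin m) F) *
        Matrix.fromCols (1 : Matrix (Fin m) (Fin m) F) (0 : Matrix (Fin m) (Fin (n - m)) F) := by
    rw [Matrix.fromRows_mul_fromCols]
    simp
  rw [h1, Matrix.rank_reindex, h2]
  refine (Matrix.rank_mul_le_left _ _).trans ?_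
  refine (Matrix.rank_le_card_width _).trans ?_
  rw [Fintype.card_fin]

end Cfsg.Agent.Helper7.Singer
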