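import Mathlib
import Cfsg.Agent.Helper7.SingerO
import Cfsg.Agent.Helper7.SingerP
import Cfsg.Agent.Helper7.SingerR
import Cfsg.Agent.Helper7.SingerS
import Cfsg.Agent.Helper7.SingerJ
import Cfsg.Agent.Helper7.InvolJ
import Cfsg.Agent.Helper8.UnipCommuteCard

set_option autoImplicit false

namespace Cfsg.Agent.Helper7.Singer

open Matrix Cfsg.Agent.Helper7.Invol

variable {F : Type*} [Field F]

/-- A conjugate of `x` lying in the normaliser of a field subalgebra of full degree, where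
`2 rank (x - 1) < n`, forces `x = 1`. -/
theorem low_rank_contra {n : ℕ} (hn : 0 < n) (K : Subalgebra F (Matrix (Fin n) (Fin n) F))
    (hK : Cfsg.Geo.IsFieldSubalgebra n K)
    (x P : Matrix.SpecialLinearGroup (Fin n) F)
    (hrank : 2 * ((x : Matrix (Fin n) (Fin n) F) - 1).rank < n)
    (hmem : P⁻¹ * x * P ∈ (Cfsg.Geo.subalgebraNormalizer K).comap
      (Matrix.SpecialLinearGroup.toGL : Matrix.SpecialLinearGroup (Fin n) F →* GL (Fin n) F)) :
    (x : Matrix (Fin n) (Fin n) F) = 1 := by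
  classical
  rw [Subgroup.mem_comap] at hmem
  obtain ⟨g, hg⟩ : ∃ g : GL (Fin n) F, g = Matrix.SpecialLinearGroup.toGL (P⁻¹ * x * P) :=
    ⟨_, rfl⟩
  rw [← hg] at hmem
  have hPiP : ((P⁻¹ : Matrix.SpecialLinearGroup (Fin n) F) : Matrix (Fin n) (Fin n) F) *
      (P : Matrix (Fin n) (Fin n) F) = 1 := by
    rw [← Matrix.SpecialLinearGroup.coe_mul, inv_mul_cancel, Matrix.SpecialLinearGroup.coe_one]
  have hPPi : (P : Matrix (Fin n) (Fin n) F) *
      ((P⁻¹ : Matrix.SpecialLinearGroup (Fin n) F) : Matrix (Fin n) (Fin n) F) = 1 := by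
    rw [← Matrix.SpecialLinearGroup.coe_mul, mul_inv_cancel, Matrix.SpecialLinearGroup.coe_one]
  obtain ⟨N, hN⟩ : ∃ N : Matrix (Fin n) (Fin n) F,
      N = ((P⁻¹ : Matrix.SpecialLinearGroup (Fin n) F) : Matrix (Fin n) (Fin n) F) *
        ((x : Matrix (Fin n) (Fin n) F) - 1) * (P : Matrix (Fin n) (Fin n) F) := ⟨_, rfl⟩
  have hY : (g : Matrix (Fin n) (Fin n) F) = 1 + N := by
    rw [hg]
    change ((P⁻¹ * x * P : Matrix.SpecialLinearGroup (Fin n) F) : Matrix (Fin n) (Fin n) F) = _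
    rw [Matrix.SpecialLinearGroup.coe_mul, Matrix.SpecialLinearGroup.coe_mul, hN, mul_sub,
      sub_mul, Matrix.mul_one, hPiP]
    abel
  have hNrank : 2 * N.rank < n := by
    have h1 : N.rank ≤ ((x : Matrix (Fin n) (Fin n) F) - 1).rank := by
      rw [hN]
      exact (Matrix.rank_mul_le_left _ _).trans (Matrix.rank_mul_le_right _ _)
    omega
  have hN0 := no_low_rank_normalizer hn K hK (g : Matrix (Fin n) (Fin n) F)
    ((g⁻¹ : GL (Fin n) F) : Matrix (Fin n) (Fin n) F) N hY hNrank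
    (by rw [← Units.val_mul, inv_mul_cancel, Units.val_one])
    (fun k hk => (hmem k).1 hk)
  have h2 : (x : Matrix (Fin n) (Fin n) F) - 1 = (P : Matrix (Fin n) (Fin n) F) * N *
      ((P⁻¹ : Matrix.SpecialLinearGroup (Fin n) F) : Matrix (Fin n) (Fin n) F) := by
    rw [hN]
    calc (x : Matrix (Fin n) (Fin n) F) - 1 = 1 * ((x : Matrix (Fin n) (Fin n) F) - 1) * 1 := by
          rw [Matrix.one_mul, Matrix.mul_one]
      _ = _ := by rw [← hPPi]; simp only [Matrix.mul_assoc]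
  rw [hN0, Matrix.mul_zero, Matrix.zero_mul] at h2
  exact sub_eq_zero.1 h2

variable [Fintype F]

theorem natCast_ne_zero_of_ne_char (p : ℕ) [Fact p.Prime] [CharP F p] (n : ℕ) (hn : n.Prime)
    (hnp : n ≠ p) : ((n : ℕ) : F) ≠ 0 := by
  intro h
  have h1 := (CharP.cast_eq_zero_iff F p n).1 h
  exact hnp ((Nat.prime_dvd_prime_iff_eq (Fact.out : p.Prime) hn).1 h1).symm

theorem card_ne_zero_mod (p : ℕ) [Fact p.Prime] [CharP F p] (n : ℕ) (hn : n.Prime)
    (hnp : n ≠ p) : ((Fintype.card F : ℕ) : ZMod n) ≠ 0 := by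
  rw [Ne, ZMod.natCast_eq_zero_iff]
  obtain ⟨f, hp, hf⟩ := FiniteField.card F p
  rw [hf]
  intro h
  exact hnp ((Nat.prime_dvd_prime_iff_eq hn hp).1 (hn.dvd_of_dvd_pow h))

theorem dvd_finrank_of_order (n : ℕ) [Fact n.Prime]
    (hord : orderOf ((Fintype.card F : ℕ) : ZMod n) = n - 1)
    (Y : Matrix (Fin n) (Fin n) F) (hY : Y ^ n = 1) (U : Submodule F (Fin n → F))
    (hU : ∀ u ∈ U, Y *ᵥ u ∈ U) (hfix : ∀ u ∈ U, Y *ᵥ u = u → u = 0) :
    (n - 1) ∣ Module.finrank F U := by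
  have h1 := card_invariant_modEq n Y hY U hU hfix
  rw [← hord]
  apply orderOf_dvd_of_pow_eq_one
  have h2 := (ZMod.natCast_eq_natCast_iff _ _ _).2 h1
  push_cast at h2
  exact h2

theorem eq_one_of_pow_prime_eq_one (n : ℕ) [Fact n.Prime] (hn3 : 3 < n)
    (hord : orderOf ((Fintype.card F : ℕ) : ZMod n) = n - 1) (z : F) (hz : z ^ n = 1) :
    z = 1 := by
  by_contra h
  have h1 : orderOf z = n := orderOf_eq_prime hz h
  have h2 := dvd_card_sub_one_of_pow_eq_one z n h1 (by omega)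
  have hq := Fintype.one_lt_card (α := F)
  have h3 : ((Fintype.card F : ℕ) : ZMod n) = 1 := by
    have e : Fintype.card F = (Fintype.card F - 1) + 1 := by omega
    rw [e, Nat.cast_add, (ZMod.natCast_eq_zero_iff _ _).2 h2, zero_add, Nat.cast_one]
  rw [h3, orderOf_one] at hord
  omega

end Cfsg.Agent.Helper7.Singer
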