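import Mathlib
import Cfsg.Agent.Helper7.SingerT

set_option autoImplicit false

namespace Cfsg.Agent.Helper7.Singer

open Matrix Cfsg.Agent.Helper7.Invol

variable {F : Type*} [Field F] [Fintype F]

theorem frobMat_ne_one {n : ℕ} (hn : 2 ≤ n) (K : Subalgebra F (Matrix (Fin n) (Fin n) F))
    (hK : Cfsg.Geo.IsFieldSubalgebra n K) : frobMat K hK (by omega) ≠ 1 := by
  intro h
  have h1 := frobMat_indep K hK (by omega)
    (fun j => (if j = 0 then (1 : F) else 0) + (if j = 1 then (-1 : F) else 0)) (by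
      simp only [h, one_pow]
      rw [← Finset.sum_smul, Finset.sum_add_distrib, Finset.sum_ite_eq' (Finset.range n) 0,
        Finset.sum_ite_eq' (Finset.range n) 1, if_pos (Finset.mem_range.2 (by omega)),
        if_pos (Finset.mem_range.2 (by omega))]
      simp) 0 (by omega)
  simp at h1

/-- If `q` is a primitive root modulo the prime `n > 3`, every non-scalar element with scalar
`n`-th power is conjugate into the normaliser of the Singer field. -/
theorem backward_prime (p : ℕ) [Fact p.Prime] [CharP F p] (n : ℕ) (hnpr : n.Prime) (hn3 : 3 < n)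
    (hnp : n ≠ p) (K : Subalgebra F (Matrix (Fin n) (Fin n) F))
    (hK : Cfsg.Geo.IsFieldSubalgebra n K)
    (hord : orderOf ((Fintype.card F : ℕ) : ZMod n) = n - 1)
    (x : Matrix.SpecialLinearGroup (Fin n) F)
    (hx : ∃ z : F, ((x ^ n : Matrix.SpecialLinearGroup (Fin n) F) :
      Matrix (Fin n) (Fin n) F) = z • (1 : Matrix (Fin n) (Fin n) F))
    (hns : ∀ z : F, (x : Matrix (Fin n) (Fin n) F) ≠ z • (1 : Matrix (Fin n) (Fin n) F)) :
    ∃ P : Matrix.SpecialLinearGroup (Fin n) F, P⁻¹ * x * P ∈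
      ((Cfsg.Geo.subalgebraNormalizer K).comap (Matrix.SpecialLinearGroup.toGL :
        Matrix.SpecialLinearGroup (Fin n) F →* GL (Fin n) F)) := by
  haveI : Fact n.Prime := ⟨hnpr⟩
  obtain ⟨z, hz⟩ := hx
  rw [Matrix.SpecialLinearGroup.coe_pow] at hz
  have hzn : z ^ n = 1 := by
    have h := congrArg Matrix.det hz
    rw [Matrix.det_pow, x.2, one_pow, Matrix.det_smul, Matrix.det_one, mul_one,
      Fintype.card_fin] at h
    exact h.symm
  have hz1 := eq_one_of_pow_prime_eq_one n hn3 hord z hzn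
  rw [hz1, one_smul] at hz
  have hx1 : (x : Matrix (Fin n) (Fin n) F) ≠ 1 := fun h => hns 1 (by rw [h, one_smul])
  have hnF := natCast_ne_zero_of_ne_char (F := F) p n hnpr hnp
  obtain ⟨m, rfl⟩ : ∃ m, n = m + 1 := ⟨n - 1, by omega⟩
  have hS := frobMat_pow_self K hK (Nat.succ_pos m)
  have hS1 := frobMat_ne_one (by omega) K hK
  have hdvd : ∀ Y : Matrix (Fin (m + 1)) (Fin (m + 1)) F, Y ^ (m + 1) = 1 →
      ∀ U : Submodule F (Fin (m + 1) → F), (∀ u ∈ U, Y *ᵥ u ∈ U) →
      (∀ u ∈ U, Y *ᵥ u = u → u = 0) → m ∣ Module.finrank F U := by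
    intro Y hY U hU hfix
    have := dvd_finrank_of_order (m + 1) hord Y hY U hU hfix
    simpa using this
  obtain ⟨P, hP⟩ := conj_of_cyclic m (by omega) hnF (x : Matrix (Fin (m + 1)) (Fin (m + 1)) F)
    (frobMat K hK (Nat.succ_pos m)) hz hx1 hS hS1 (hdvd _ hz) (hdvd _ hS)
  refine ⟨P, mem_comap_of K x P (frobMat K hK (Nat.succ_pos m))
    (frobMat K hK (Nat.succ_pos m) ^ m) hP ?_ ?_ ?_ ?_⟩
  · exact (frobMat_mul_pow_pred K hK (Nat.succ_pos m)).1
  · exact (frobMat_mul_pow_pred K hK (Nat.succ_pos m)).2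
  · intro k hk
    exact frobMat_conj_mem K hK (Nat.succ_pos m) k hk
  · intro k hk
    exact frobMat_conj_mem' K hK (Nat.succ_pos m) k hk

/-- If every non-scalar element with scalar `n`-th power is conjugate into the normaliser of the
Singer field (`n > 3` a prime different from the characteristic), then `q` is a primitive root
modulo `n`. -/
theorem forward_prime (p : ℕ) [Fact p.Prime] [CharP F p] (n : ℕ) (hnpr : n.Prime) (hn3 : 3 < n)
    (hnp : n ≠ p) (K : Subalgebra F (Matrix (Fin n) (Fin n) F))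
    (hK : Cfsg.Geo.IsFieldSubalgebra n K)
    (hall : ∀ x : Matrix.SpecialLinearGroup (Fin n) F,
      (∃ z : F, ((x ^ n : Matrix.SpecialLinearGroup (Fin n) F) : Matrix (Fin n) (Fin n) F) =
        z • (1 : Matrix (Fin n) (Fin n) F)) →
      (∀ z : F, (x : Matrix (Fin n) (Fin n) F) ≠ z • (1 : Matrix (Fin n) (Fin n) F)) →
      ∃ P : Matrix.SpecialLinearGroup (Fin n) F, P⁻¹ * x * P ∈
        ((Cfsg.Geo.subalgebraNormalizer K).comap (Matrix.SpecialLinearGroup.toGL :
          Matrix.SpecialLinearGroup (Fin n) F →* GL (Fin n) F))) :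
    orderOf ((Fintype.card F : ℕ) : ZMod n) = n - 1 := by
  classical
  haveI : Fact n.Prime := ⟨hnpr⟩
  by_contra hne
  obtain ⟨d, hd⟩ : ∃ d, d = orderOf ((Fintype.card F : ℕ) : ZMod n) := ⟨_, rfl⟩
  rw [← hd] at hne
  have hdvd : d ∣ n - 1 := by
    rw [hd]
    exact ZMod.orderOf_dvd_card_sub_one (card_ne_zero_mod p n hnpr hnp)
  have hdpos : 0 < d := Nat.pos_of_dvd_of_pos hdvd (by omega)
  have h2d : 2 * d ≤ n - 1 := by
    obtain ⟨t, ht⟩ := hdvd
    have ht2 : 2 ≤ t := by
      by_contra hcon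
      have : t = 0 ∨ t = 1 := by omega
      rcases this with rfl | rfl
      · omega
      · apply hne; rw [ht, mul_one]
    calc 2 * d = d * 2 := by ring
      _ ≤ d * t := Nat.mul_le_mul_left d ht2
      _ = n - 1 := ht.symm
  have hn5 : 5 ≤ n := by
    by_contra hcon
    have : n = 4 := by omega
    rw [this] at hnpr
    exact absurd hnpr (by decide)
  obtain ⟨m, hm⟩ : ∃ m, m = max d 2 := ⟨_, rfl⟩
  have hm2 : 2 ≤ m := by rw [hm]; exact le_max_right _ _
  have hdm : d ≤ m := by rw [hm]; exact le_max_left _ _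
  have h2m : 2 * m < n := by
    rw [hm]
    rcases max_cases d 2 with ⟨h, _⟩ | ⟨h, _⟩ <;> rw [h] <;> omega
  have hmn : m ≤ n := by omega
  have hq := Fintype.one_lt_card (α := F)
  have hdiv : n ∣ Fintype.card F ^ d - 1 := by
    have h1 : (((Fintype.card F : ℕ) : ZMod n)) ^ d = 1 := by rw [hd]; exact pow_orderOf_eq_one _
    rw [← ZMod.natCast_eq_zero_iff, Nat.cast_sub (Nat.one_le_pow _ _ (by omega))]
    push_cast
    rw [h1, sub_self]
  have hcard : n ∣ Nat.card (Matrix.SpecialLinearGroup (Fin m) F) :=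
    Cfsg.Agent.Helper8.UnipComm.prime_dvd_card_SL p m hm2 n hnpr (Or.inr ⟨d, hdpos, hdm, hdiv⟩)
  obtain ⟨y, hy⟩ := exists_prime_orderOf_dvd_card' n hcard
  obtain ⟨X, hX⟩ : ∃ X : Matrix.SpecialLinearGroup (Fin n) F,
      (X : Matrix (Fin n) (Fin n) F) = blockEmb m n hmn (y : Matrix (Fin m) (Fin m) F) :=
    ⟨⟨_, by rw [blockEmb_det, y.2]⟩, rfl⟩
  have hXn : (X : Matrix (Fin n) (Fin n) F) ^ n = 1 := by
    have hyn : y ^ n = 1 := by
      have := pow_orderOf_eq_one y
      rwa [hy] at this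
    rw [hX, ← map_pow, ← Matrix.SpecialLinearGroup.coe_pow, hyn,
      Matrix.SpecialLinearGroup.coe_one, map_one]
  have hX1 : (X : Matrix (Fin n) (Fin n) F) ≠ 1 := by
    intro h
    rw [hX, ← map_one (blockEmb (F := F) m n hmn)] at h
    have h1 := blockEmb_injective m n hmn h
    have h2 : y = 1 := Subtype.ext h1
    rw [h2, orderOf_one] at hy
    omega
  have hrank : 2 * ((X : Matrix (Fin n) (Fin n) F) - 1).rank < n := by
    have := blockEmb_sub_one_rank (F := F) m n hmn (y : Matrix (Fin m) (Fin m) F)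
    rw [← hX] at this
    omega
  have hns : ∀ z : F, (X : Matrix (Fin n) (Fin n) F) ≠ z • (1 : Matrix (Fin n) (Fin n) F) := by
    intro z hz
    by_cases hz1 : z = 1
    · rw [hz1, one_smul] at hz
      exact hX1 hz
    · have h1 : (X : Matrix (Fin n) (Fin n) F) - 1 = (z - 1) • (1 : Matrix (Fin n) (Fin n) F) := by
        rw [hz, sub_smul, one_smul]
      have hu : IsUnit ((z - 1) • (1 : Matrix (Fin n) (Fin n) F)) := by
        refine ⟨⟨(z - 1) • 1, (z - 1)⁻¹ • 1, ?_, ?_⟩, rfl⟩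
        · rw [Matrix.smul_mul, Matrix.mul_smul, Matrix.one_mul, smul_smul,
            mul_inv_cancel₀ (sub_ne_zero.2 hz1), one_smul]
        · rw [Matrix.smul_mul, Matrix.mul_smul, Matrix.one_mul, smul_smul,
            inv_mul_cancel₀ (sub_ne_zero.2 hz1), one_smul]
      rw [h1, Matrix.rank_of_isUnit _ hu, Fintype.card_fin] at hrank
      omega
  obtain ⟨P, hP⟩ := hall X ⟨1, by rw [Matrix.SpecialLinearGroup.coe_pow, hXn, one_smul]⟩ hns
  exact hX1 (low_rank_contra (by omega) K hK X P hrank hP)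

end Cfsg.Agent.Helper7.Singer
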