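import Mathlib
import Cfsg.Agent.Helper7.SpCPD

set_option autoImplicit false
set_option linter.unusedSectionVars false

/-! A symplectic matrix of prime order `r ∣ q^i + 1` with fixed space of dimension `2(d - i)`
(helper7). -/

namespace Cfsg.Agent.Helper7.SpCP

open Matrix Module Cfsg.Agent.Helper8.SpS Cfsg.Agent.Helper8.SpStab

variable {F : Type*} [Field F] [Fintype F]

theorem two_ne_zero_of_odd_card (p : ℕ) [Fact p.Prime] [CharP F p] (hodd : Odd (Fintype.card F)) :
    (2 : F) ≠ 0 := by
  intro h2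
  have h3 : ((2 : ℕ) : F) = 0 := by exact_mod_cast h2
  have hp2 : p ∣ 2 := (CharP.cast_eq_zero_iff F p 2).mp h3
  have hp : p = 2 := (Nat.prime_dvd_prime_iff_eq (Fact.out : p.Prime) Nat.prime_two).mp hp2
  have hc : ringChar F = 2 := by rw [← hp]; exact (ringChar.eq F p)
  have := FiniteField.even_card_of_char_two hc
  rw [Nat.odd_iff] at hodd
  omega

/-- **the element**: a symplectic matrix of order `r` whose fixed space has dimension `2(d - i)`. -/
theorem exists_elt (p : ℕ) [Fact p.Prime] [CharP F p] (hodd : Odd (Fintype.card F)) (r : ℕ)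
    [Fact r.Prime] (i d : ℕ) (hi : 1 ≤ i) (hid : i ≤ d) (hri : r ∣ Fintype.card F ^ i + 1) :
    ∃ x : symplecticGroup (Fin d) F, x ^ r = 1 ∧ x ≠ 1 ∧
      finrank F (fixS (x : Matrix (Fin d ⊕ Fin d) (Fin d ⊕ Fin d) F)) = 2 * (d - i) := by
  classical
  haveI : NeZero (2 * i) := ⟨by omega⟩
  have hr : r.Prime := Fact.out
  have h2F := two_ne_zero_of_odd_card p hodd
  obtain ⟨q, hq⟩ : ∃ q, q = Fintype.card F := ⟨_, rfl⟩
  have hqN : Nat.card F = q := by rw [Nat.card_eq_fintype_card, hq]
  have hq2 : 2 ≤ q := by rw [hq]; exact Fintype.one_lt_card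
  rw [← hq] at hri
  -- the field
  have hcardL : Nat.card (FiniteField.Extension F p (2 * i)) = q ^ (2 * i) := by
    rw [FiniteField.natCard_extension, hqN]
  have hfr : finrank F (FiniteField.Extension F p (2 * i)) = 2 * i :=
    FiniteField.finrank_extension F p (2 * i)
  letI : Fintype (FiniteField.Extension F p (2 * i)) := Fintype.ofFinite _
  have hpowL : ∀ x : FiniteField.Extension F p (2 * i), x ^ (q ^ (2 * i)) = x := by
    intro x
    rw [← hcardL, Nat.card_eq_fintype_card]
    exact FiniteField.pow_card x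
  -- the involution
  obtain ⟨σ, hσdef⟩ : ∃ σ : FiniteField.Extension F p (2 * i) ≃ₐ[F] FiniteField.Extension F p (2 * i),
      σ = (FiniteField.Extension.frob F p (2 * i)) ^ i := ⟨_, rfl⟩
  have hσ : ∀ x, σ x = x ^ (q ^ i) := by
    intro x
    rw [hσdef, FiniteField.Extension.frob_iterate_apply, hqN]
  have hσ2 : ∀ x, σ (σ x) = x := by
    intro x
    rw [hσ, hσ, ← pow_mul, ← pow_add, ← two_mul, hpowL]
  have hσne : ∃ y, σ y ≠ y := by
    by_contra hcon
    push Not at hcon
    have h1 : (FiniteField.Extension.frob F p (2 * i)) ^ i = 1 := by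
      rw [← hσdef]
      ext y
      exact hcon y
    have h2 : orderOf (FiniteField.Extension.frob F p (2 * i)) = 2 * i := by
      unfold FiniteField.Extension.frob
      rw [FiniteField.orderOf_frobeniusAlgEquivOfAlgebraic, hfr]
    have h3 := orderOf_dvd_of_pow_eq_one h1
    rw [h2] at h3
    have := Nat.le_of_dvd (by omega) h3
    omega
  obtain ⟨y, hy⟩ := hσne
  obtain ⟨θ, hθdef⟩ : ∃ θ, θ = y - σ y := ⟨_, rfl⟩
  have hθ0 : θ ≠ 0 := by
    rw [hθdef]
    exact sub_ne_zero.mpr (Ne.symm hy)
  have hθ : σ θ = -θ := by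
    rw [hθdef, map_sub, hσ2]
    ring
  -- the element of order r
  have hdvd : r ∣ Nat.card (FiniteField.Extension F p (2 * i))ˣ := by
    rw [Nat.card_units, hcardL]
    have : q ^ (2 * i) - 1 = (q ^ i - 1) * (q ^ i + 1) := by
      have h1 : 1 ≤ q ^ i := Nat.one_le_pow _ _ (by omega)
      zify [h1, Nat.one_le_pow (2 * i) q (by omega)]
      ring
    rw [this]
    exact Dvd.dvd.mul_left hri _
  obtain ⟨ζu, hζu⟩ := exists_prime_orderOf_dvd_card' r hdvd
  obtain ⟨ζ, hζdef⟩ : ∃ ζ : FiniteField.Extension F p (2 * i), ζ = (ζu : _) := ⟨_, rfl⟩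
  have hζr : ζ ^ r = 1 := by
    rw [hζdef, ← Units.val_pow_eq_pow_val, ← hζu, pow_orderOf_eq_one, Units.val_one]
  have hζ1 : ζ ≠ 1 := by
    intro h
    have : ζu = 1 := Units.ext (by rw [← hζdef, h, Units.val_one])
    rw [this, orderOf_one] at hζu
    exact hr.one_lt.ne hζu
  have hζσ : ζ * σ ζ = 1 := by
    rw [hσ, ← pow_succ']
    obtain ⟨c, hc⟩ := hri
    rw [hc, pow_mul, hζr, one_pow]
  -- the space
  have hAlt := prodB_alt (twB_alt σ hθ hσ2 h2F) (sB_alt (F := F) (m := d - i))
  have hND := prodB_nondeg (twB_nondeg σ hθ0) (sB_nondeg (F := F) (m := d - i))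
  have hidInv : Inv (sB (d - i) F) (LinearMap.id) := fun u v => rfl
  have hInv := prodB_inv (twB_inv σ θ hζσ) hidInv
  obtain ⟨φ, hφdef⟩ : ∃ φ : Module.End F
      (FiniteField.Extension F p (2 * i) × (Fin (d - i) ⊕ Fin (d - i) → F)),
      φ = LinearMap.prodMap (LinearMap.mulLeft F ζ) LinearMap.id := ⟨_, rfl⟩
  rw [← hφdef] at hInv
  have hφapp : ∀ x, φ x = (ζ * x.1, x.2) := by
    intro x
    rw [hφdef]
    rfl
  have hφpow : ∀ (n : ℕ) x, (φ ^ n) x = (ζ ^ n * x.1, x.2) := by
    intro n
    induction n with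
    | zero => intro x; simp
    | succ n ih =>
      intro x
      rw [pow_succ, Module.End.mul_apply, ih, hφapp]
      show (ζ ^ n * (ζ * x.1), x.2) = _
      rw [pow_succ, mul_assoc]
  have hφr : φ ^ r = 1 := by
    apply LinearMap.ext
    intro x
    rw [hφpow, hζr, one_mul]
    rfl
  have hdimE : finrank F (FiniteField.Extension F p (2 * i) × (Fin (d - i) ⊕ Fin (d - i) → F)) =
      2 * d := by
    rw [Module.finrank_prod, hfr, Module.finrank_fintype_fun_eq_card, Fintype.card_sum,
      Fintype.card_fin]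
    omega
  obtain ⟨x, hx1, hx2, hx3⟩ := exists_symp_of_isometry _ hAlt hND φ hInv r d hφr hdimE
  refine ⟨x, hx1, fun h => ?_, ?_⟩
  · have h1 := hx2 h
    have h2 := congrArg (fun f : Module.End F _ => f (1, 0)) h1
    simp only [hφapp, Module.End.one_apply] at h2
    have h3 := congrArg Prod.fst h2
    simp only [mul_one] at h3
    exact hζ1 h3
  · rw [hx3]
    have hfix : fixE φ = LinearMap.range (LinearMap.inr F (FiniteField.Extension F p (2 * i))
        (Fin (d - i) ⊕ Fin (d - i) → F)) := by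
      ext x
      rw [mem_fixE, hφapp, LinearMap.mem_range]
      constructor
      · intro h
        have h1 := congrArg Prod.fst h
        simp only at h1
        have h2 : (ζ - 1) * x.1 = 0 := by linear_combination h1
        have h3 : x.1 = 0 := (mul_eq_zero.mp h2).resolve_left (sub_ne_zero.mpr hζ1)
        refine ⟨x.2, ?_⟩
        apply Prod.ext
        · simp [h3]
        · simp
      · rintro ⟨v, rfl⟩
        simp
    rw [hfix, LinearMap.finrank_range_of_inj LinearMap.inr_injective,
      Module.finrank_fintype_fun_eq_card, Fintype.card_sum, Fintype.card_fin]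
    omega

end Cfsg.Agent.Helper7.SpCP
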