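import Mathlib
import Cfsg.Agent.Helper7.SpMaxA

set_option autoImplicit false

/-! # Maximality of the stabiliser of a non-degenerate subspace in `Sp_{2m}(F)` -/

namespace Cfsg.Agent.Helper7.SpMax

open Matrix Cfsg Cfsg.Agent.Helper7.Symp

variable {F : Type*} [Field F] {m : ℕ}

local notation "V" => (Fin m ⊕ Fin m → F)
local notation "Sp" => Matrix.symplecticGroup (Fin m) F
local notation "MM" => Matrix (Fin m ⊕ Fin m) (Fin m ⊕ Fin m) F

/-- The orthogonal complement of a subspace for the symplectic form. -/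
noncomputable def perp (W : Submodule F V) : Submodule F V := (sympB m F).orthogonal W

theorem mem_perp {W : Submodule F V} {x : V} : x ∈ perp W ↔ ∀ w ∈ W, sympForm m F w x = 0 := by
  unfold perp
  rw [LinearMap.BilinForm.mem_orthogonal_iff]
  constructor
  · intro h w hw
    have := h w hw
    rw [sympB_apply] at this
    exact this
  · intro h w hw
    rw [sympB_apply]
    exact h w hw

theorem mem_perp' {W : Submodule F V} {x : V} : x ∈ perp W ↔ ∀ w ∈ W, sympForm m F x w = 0 := by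
  rw [mem_perp]
  constructor
  · intro h w hw
    rw [sympForm_swap, h w hw, neg_zero]
  · intro h w hw
    rw [sympForm_swap, h w hw, neg_zero]

theorem finrank_perp (W : Submodule F V) :
    Module.finrank F (perp W) = 2 * m - Module.finrank F W := by
  unfold perp
  rw [LinearMap.BilinForm.finrank_orthogonal sympB_nondegenerate]
  congr 1
  rw [Module.finrank_pi]
  simp [two_mul]

theorem isCompl_perp {W : Submodule F V}
    (hW : ∀ w ∈ W, w ≠ 0 → ∃ x ∈ W, sympForm m F w x ≠ 0) : IsCompl W (perp W) := by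
  unfold perp
  rw [LinearMap.BilinForm.isCompl_orthogonal_iff_disjoint sympB_isRefl]
  rw [Submodule.disjoint_def]
  intro w hw hw'
  by_contra h0
  obtain ⟨x, hx, hne⟩ := hW w hw h0
  apply hne
  have : w ∈ perp W := hw'
  rw [mem_perp'] at this
  exact this x hx

theorem exists_decomp {W : Submodule F V}
    (hW : ∀ w ∈ W, w ≠ 0 → ∃ x ∈ W, sympForm m F w x ≠ 0) (v : V) :
    ∃ a ∈ W, ∃ a' ∈ perp W, v = a + a' := by
  obtain ⟨a, a', ha, ha', e⟩ := Submodule.codisjoint_iff_exists_add_eq.mp (isCompl_perp hW).codisjoint v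
  exact ⟨a, ha, a', ha', e.symm⟩

theorem perp_nondeg {W : Submodule F V}
    (hW : ∀ w ∈ W, w ≠ 0 → ∃ x ∈ W, sympForm m F w x ≠ 0) :
    ∀ x ∈ perp W, x ≠ 0 → ∃ y ∈ perp W, sympForm m F x y ≠ 0 := by
  intro x hx hx0
  obtain ⟨z, hz⟩ := exists_sympForm_ne_zero hx0
  obtain ⟨b, hb, b', hb', rfl⟩ := exists_decomp hW z
  refine ⟨b', hb', ?_⟩
  rw [sympForm_add_right, (mem_perp'.mp hx) b hb, zero_add] at hz
  exact hz

/-- The main dichotomy for a non-degenerate subspace of small dimension. -/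
theorem stab_or_top_nondeg [Finite F] (W : Submodule F V)
    (hW : ∀ w ∈ W, w ≠ 0 → ∃ x ∈ W, sympForm m F w x ≠ 0)
    (hdim : Module.finrank F W < m)
    (M : Subgroup Sp)
    (hPM : ∀ A : Sp, (∀ v : V, v ∈ W ↔ (A : MM) *ᵥ v ∈ W) → A ∈ M) :
    (∀ A ∈ M, ∀ v : V, v ∈ W ↔ (A : MM) *ᵥ v ∈ W) ∨ M = ⊤ := by
  have hSinv : ∀ (A : Sp), A ∈ M → ∀ v : V, (∀ c, T v c ∈ M) → ∀ c, T ((A : MM) *ᵥ v) c ∈ M := by
    intro A hA v hv c
    rw [← conj_T]
    exact M.mul_mem (M.mul_mem hA (hv c)) (M.inv_mem hA)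
  have hHW : HS W ≤ M := by
    intro g hg
    apply hPM
    apply stab_of_mapsTo
    exact (HS_fix hg).2
  have hHWp : HS (perp W) ≤ M := by
    intro g hg
    apply hPM
    apply stab_of_mapsTo
    intro x hx
    rw [(HS_fix hg).1 x (fun s hs => (mem_perp.mp hs) x hx)]
    exact hx
  have hSW : ∀ v ∈ W, ∀ c, T v c ∈ M := fun v hv c => hHW (T_mem_HS hv c)
  have hSWp : ∀ v ∈ perp W, ∀ c, T v c ∈ M := fun v hv c => hHWp (T_mem_HS hv c)
  by_cases hcase : ∀ A ∈ M, ∀ x ∈ perp W, (A : MM) *ᵥ x ∈ perp W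
  · left
    intro A hA
    apply stab_of_mapsTo
    intro w hw
    apply mem_of_double_perp
    intro x hx
    have h1 := hcase A⁻¹ (M.inv_mem hA) x (mem_perp.mpr hx)
    have h2 := sympForm_mulVec A⁻¹ x ((A : MM) *ᵥ w)
    rw [coe_inv_mulVec_eq A rfl] at h2
    rw [← h2]
    exact (mem_perp'.mp h1) w hw
  · right
    push Not at hcase
    obtain ⟨A, hA, x₁, hx₁, hy₁⟩ := hcase
    -- `A` does not map `perp W` into `W`, by dimension
    have hx₂ : ∃ x₂ ∈ perp W, (A : MM) *ᵥ x₂ ∉ W := by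
      by_contra hcon
      push Not at hcon
      let φ : ↥(perp W) →ₗ[F] ↥W :=
        { toFun := fun x => ⟨(A : MM) *ᵥ (x : V), hcon x x.2⟩
          map_add' := fun x y => Subtype.ext (by
            change (A : MM) *ᵥ ((x : V) + (y : V)) = (A : MM) *ᵥ (x : V) + (A : MM) *ᵥ (y : V)
            exact mulVec_add _ _ _)
          map_smul' := fun c x => Subtype.ext (by
            change (A : MM) *ᵥ (c • (x : V)) = c • ((A : MM) *ᵥ (x : V))
            exact mulVec_smul _ _ _) }
      have hφ : Function.Injective φ := by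
        intro x y hxy
        apply Subtype.ext
        apply mulVec_injective A
        exact congrArg Subtype.val hxy
      have hle := LinearMap.finrank_le_finrank_of_injective hφ
      rw [finrank_perp] at hle
      omega
    obtain ⟨x₂, hx₂, hy₂⟩ := hx₂
    -- a vector of the set, outside `W` and `perp W`
    have hy : ∃ y : V, (∀ c, T y c ∈ M) ∧ y ∉ W ∧ y ∉ perp W := by
      by_cases h1 : (A : MM) *ᵥ x₁ ∉ W
      · exact ⟨_, hSinv A hA x₁ (hSWp x₁ hx₁), h1, hy₁⟩
      · push Not at h1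
        by_cases h2 : (A : MM) *ᵥ x₂ ∉ perp W
        · exact ⟨_, hSinv A hA x₂ (hSWp x₂ hx₂), hy₂, h2⟩
        · push Not at h2
          refine ⟨(A : MM) *ᵥ (x₁ + x₂), hSinv A hA _ (hSWp _ ((perp W).add_mem hx₁ hx₂)), ?_, ?_⟩
          · intro h
            rw [mulVec_add] at h
            exact hy₂ ((W.add_mem_iff_right h1).mp h)
          · intro h
            rw [mulVec_add] at h
            exact hy₁ (((perp W).add_mem_iff_left h2).mp h)
    obtain ⟨y, hyS, hyW, hyWp⟩ := hy
    obtain ⟨b, hb, b', hb', rfl⟩ := exists_decomp hW y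
    have hb0 : b ≠ 0 := by
      rintro rfl
      rw [zero_add] at hyWp
      exact hyWp hb'
    have hb'0 : b' ≠ 0 := by
      rintro rfl
      rw [add_zero] at hyW
      exact hyW hb
    have hall : ∀ v : V, ∀ c, T v c ∈ M := by
      intro v
      obtain ⟨a, ha, a', ha', rfl⟩ := exists_decomp hW v
      by_cases ha0 : a = 0
      · rw [ha0, zero_add]
        exact hSWp a' ha'
      by_cases ha'0 : a' = 0
      · rw [ha'0, add_zero]
        exact hSW a ha
      obtain ⟨g₁, hg₁, e₁⟩ := exists_mem_mulVec_eq_rel hW hb ha hb0 ha0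
      obtain ⟨g₂, hg₂, e₂⟩ := exists_mem_mulVec_eq_rel (perp_nondeg hW) hb' ha' hb'0 ha'0
      have f₁ : (g₁ : MM) *ᵥ b' = b' := (HS_fix hg₁).1 b' (fun s hs => (mem_perp'.mp hb') s hs)
      have f₂ : (g₂ : MM) *ᵥ a = a := (HS_fix hg₂).1 a (fun s hs => (mem_perp.mp hs) a ha)
      have := hSinv (g₂ * g₁) (M.mul_mem (hHWp hg₂) (hHW hg₁)) _ hyS
      rw [coe_mul_mulVec, mulVec_add, e₁, f₁, mulVec_add, f₂, e₂] at this
      exact this
    rw [eq_top_iff, ← transvectionSubgroup_eq_top m F]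
    unfold transvectionSubgroup
    rw [Subgroup.closure_le]
    rintro B ⟨w, c, hB⟩
    have : B = T w c := Subtype.ext hB
    rw [this]
    exact hall w c

end Cfsg.Agent.Helper7.SpMax
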