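import Mathlib
import Cfsg.Agent.Helper7.SpMaxB

set_option autoImplicit false

/-! # Maximality of the orthogonal groups in `Sp_{2m}(F)`, `F` of characteristic two -/

namespace Cfsg.Agent.Helper7.SpMax

open Matrix Cfsg Cfsg.Agent.Helper7.Symp

variable {F : Type*} [Field F] {m : ℕ}

local notation "V" => (Fin m ⊕ Fin m → F)
local notation "Sp" => Matrix.symplecticGroup (Fin m) F
local notation "MM" => Matrix (Fin m ⊕ Fin m) (Fin m ⊕ Fin m) F

/-- Three vectors have two non-orthogonal common perpendiculars. -/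
theorem exists_perp_pair (hm : 4 ≤ m) (x₁ x₂ x₃ : V) :
    ∃ z₁ z₂ : V, (sympForm m F z₁ x₁ = 0 ∧ sympForm m F z₁ x₂ = 0 ∧ sympForm m F z₁ x₃ = 0) ∧
      (sympForm m F z₂ x₁ = 0 ∧ sympForm m F z₂ x₂ = 0 ∧ sympForm m F z₂ x₃ = 0) ∧
      sympForm m F z₁ z₂ ≠ 0 := by
  classical
  set U : Submodule F V := Submodule.span F (({x₁, x₂, x₃} : Finset V) : Set V) with hU
  have hx₁ : x₁ ∈ U := Submodule.subset_span (by simp)
  have hx₂ : x₂ ∈ U := Submodule.subset_span (by simp)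
  have hx₃ : x₃ ∈ U := Submodule.subset_span (by simp)
  have hUdim : Module.finrank F U ≤ 3 :=
    (finrank_span_finset_le_card ({x₁, x₂, x₃} : Finset V)).trans Finset.card_le_three
  by_contra hcon
  push Not at hcon
  have hle : perp U ≤ U := by
    intro z hz
    have hpp : perp (perp U) = U := by
      unfold perp
      exact LinearMap.BilinForm.orthogonal_orthogonal sympB_nondegenerate sympB_isRefl U
    rw [← hpp, mem_perp]
    intro w hw
    by_contra hne
    have hw' := mem_perp'.mp hw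
    have hz' := mem_perp'.mp hz
    exact hne (hcon w z ⟨hw' x₁ hx₁, hw' x₂ hx₂, hw' x₃ hx₃⟩ ⟨hz' x₁ hx₁, hz' x₂ hx₂, hz' x₃ hx₃⟩)
  have h1 := Submodule.finrank_mono hle
  rw [finrank_perp] at h1
  omega

/-- Three vectors have a non-singular common perpendicular. -/
theorem exists_perp_nonsingular (hm : 4 ≤ m) (Q : V → F)
    (hpol : ∀ u v : V, Q (u + v) = Q u + Q v + sympForm m F u v) (x₁ x₂ x₃ : V) :
    ∃ z : V, sympForm m F z x₁ = 0 ∧ sympForm m F z x₂ = 0 ∧ sympForm m F z x₃ = 0 ∧ Q z ≠ 0 := by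
  obtain ⟨z₁, z₂, h1, h2, h12⟩ := exists_perp_pair hm x₁ x₂ x₃
  by_cases hq1 : Q z₁ ≠ 0
  · exact ⟨z₁, h1.1, h1.2.1, h1.2.2, hq1⟩
  push Not at hq1
  by_cases hq2 : Q z₂ ≠ 0
  · exact ⟨z₂, h2.1, h2.2.1, h2.2.2, hq2⟩
  push Not at hq2
  refine ⟨z₁ + z₂, ?_, ?_, ?_, ?_⟩
  · rw [sympForm_add_left, h1.1, h2.1, add_zero]
  · rw [sympForm_add_left, h1.2.1, h2.2.1, add_zero]
  · rw [sympForm_add_left, h1.2.2, h2.2.2, add_zero]
  · rw [hpol, hq1, hq2, zero_add, zero_add]
    exact h12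

/-- In characteristic two the transvection `T u (Q u)⁻¹` preserves `Q`. -/
theorem T_isom (h2 : (2 : F) = 0) (Q : V → F) (hsmul : ∀ (c : F) (v : V), Q (c • v) = c ^ 2 * Q v)
    (hpol : ∀ u v : V, Q (u + v) = Q u + Q v + sympForm m F u v) {u : V} (hu : Q u ≠ 0) (x : V) :
    Q ((T u (Q u)⁻¹ : MM) *ᵥ x) = Q x := by
  rw [T_mulVec, hpol, hsmul, sympForm_smul_right]
  have : ((Q u)⁻¹ * sympForm m F x u) ^ 2 * Q u = (Q u)⁻¹ * sympForm m F x u * sympForm m F x u := by
    field_simp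
  rw [this]
  linear_combination ((Q u)⁻¹ * sympForm m F x u * sympForm m F x u) * h2

/-- A reflection moves `v` to any prescribed level of the functional `f(·, a)`. -/
theorem exists_isom_level (h2 : (2 : F) = 0) (hsq : ∀ r : F, ∃ t : F, t * t = r) (hm : 4 ≤ m) (Q : V → F)
    (hsmul : ∀ (c : F) (v : V), Q (c • v) = c ^ 2 * Q v)
    (hpol : ∀ u v : V, Q (u + v) = Q u + Q v + sympForm m F u v)
    {v a : V} (hv : v ≠ 0) (ha : a ≠ 0) (t : F) :
    ∃ k : Sp, (∀ x : V, Q ((k : MM) *ᵥ x) = Q x) ∧ sympForm m F ((k : MM) *ᵥ v) a = t := by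
  by_cases hd : t - sympForm m F v a = 0
  · refine ⟨1, fun x => by rw [coe_one_mulVec], ?_⟩
    rw [coe_one_mulVec]
    exact (sub_eq_zero.mp hd).symm
  obtain ⟨d, hd'⟩ : ∃ d : F, d = t - sympForm m F v a := ⟨_, rfl⟩
  rw [← hd'] at hd
  -- a vector `u₀` with `f(v,u₀) = 1` and `f(u₀,a) ≠ 0`
  obtain ⟨y₁, hy₁⟩ := exists_sympForm_ne_zero hv
  obtain ⟨y₂, hy₂⟩ := exists_sympForm_ne_zero ha
  have hy₂' : sympForm m F y₂ a ≠ 0 := by
    rw [sympForm_swap]; exact neg_ne_zero.mpr hy₂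
  have hu₀ : ∃ u₀ : V, sympForm m F v u₀ ≠ 0 ∧ sympForm m F u₀ a ≠ 0 := by
    by_cases h1 : sympForm m F y₁ a ≠ 0
    · exact ⟨y₁, hy₁, h1⟩
    push Not at h1
    by_cases h3 : sympForm m F v y₂ ≠ 0
    · exact ⟨y₂, h3, hy₂'⟩
    push Not at h3
    refine ⟨y₁ + y₂, ?_, ?_⟩
    · rw [sympForm_add_right, h3, add_zero]; exact hy₁
    · rw [sympForm_add_left, h1, zero_add]; exact hy₂'
  obtain ⟨u₁, hu₁v, hu₁a⟩ := hu₀
  obtain ⟨u₀, hu₀⟩ : ∃ u₀ : V, u₀ = (sympForm m F v u₁)⁻¹ • u₁ := ⟨_, rfl⟩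
  have hvu₀ : sympForm m F v u₀ = 1 := by
    rw [hu₀, sympForm_smul_right, inv_mul_cancel₀ hu₁v]
  obtain ⟨e, he⟩ : ∃ e : F, e = sympForm m F u₀ a := ⟨_, rfl⟩
  have he0 : e ≠ 0 := by
    rw [he, hu₀, sympForm_smul_left]
    exact mul_ne_zero (inv_ne_zero hu₁v) hu₁a
  obtain ⟨z, hzv, hza, hzu, hQz⟩ := exists_perp_nonsingular hm Q hpol v a u₀
  obtain ⟨l, hl⟩ := hsq ((e * d⁻¹ - Q u₀) * (Q z)⁻¹)
  obtain ⟨u, hu⟩ : ∃ u : V, u = u₀ + l • z := ⟨_, rfl⟩
  have hQu : Q u = e * d⁻¹ := by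
    rw [hu, hpol, hsmul, sympForm_smul_right]
    have hzu' : sympForm m F u₀ z = 0 := by rw [sympForm_swap, hzu, neg_zero]
    rw [hzu', mul_zero, add_zero, pow_two, hl, mul_assoc, inv_mul_cancel₀ hQz, mul_one]
    ring
  have hQu0 : Q u ≠ 0 := by
    rw [hQu]; exact mul_ne_zero he0 (inv_ne_zero hd)
  have hvu : sympForm m F v u = 1 := by
    have hvz : sympForm m F v z = 0 := by rw [sympForm_swap, hzv, neg_zero]
    rw [hu, sympForm_add_right, sympForm_smul_right, hvz, mul_zero, add_zero, hvu₀]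
  have hua : sympForm m F u a = e := by
    rw [hu, sympForm_add_left, sympForm_smul_left, hza, mul_zero, add_zero, he]
  refine ⟨T u (Q u)⁻¹, T_isom h2 Q hsmul hpol hQu0, ?_⟩
  rw [T_mulVec, sympForm_add_left, sympForm_smul_left, hvu, hua, hQu, mul_one, mul_inv, inv_inv,
    mul_comm e⁻¹ d, mul_assoc, inv_mul_cancel₀ he0, mul_one, hd']
  ring

/-- The dichotomy: a subgroup of `Sp` containing the isometries of `Q` consists of isometries or is
everything. -/
theorem isom_or_top (h2 : (2 : F) = 0) (hsq : ∀ r : F, ∃ t : F, t * t = r) (hm : 4 ≤ m) (Q : V → F)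
    (hsmul : ∀ (c : F) (v : V), Q (c • v) = c ^ 2 * Q v)
    (hpol : ∀ u v : V, Q (u + v) = Q u + Q v + sympForm m F u v)
    (M : Subgroup Sp)
    (hPM : ∀ A : Sp, (∀ v : V, Q ((A : MM) *ᵥ v) = Q v) → A ∈ M) :
    (∀ A ∈ M, ∀ v : V, Q ((A : MM) *ᵥ v) = Q v) ∨ M = ⊤ := by
  by_cases hcase : ∀ A ∈ M, ∀ v : V, Q ((A : MM) *ᵥ v) = Q v
  · exact Or.inl hcase
  right
  push Not at hcase
  obtain ⟨g, hg, v₀, hv₀⟩ := hcase
  -- the difference of the two quadratic forms, and its square root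
  have hφadd : ∀ x y : V, Q ((g : MM) *ᵥ (x + y)) - Q (x + y) =
      (Q ((g : MM) *ᵥ x) - Q x) + (Q ((g : MM) *ᵥ y) - Q y) := by
    intro x y
    rw [mulVec_add, hpol, hpol, sympForm_mulVec]
    ring
  have hφsmul : ∀ (c : F) (x : V), Q ((g : MM) *ᵥ (c • x)) - Q (c • x) =
      c ^ 2 * (Q ((g : MM) *ᵥ x) - Q x) := by
    intro c x
    rw [mulVec_smul, hsmul, hsmul]
    ring
  have hsqinj : ∀ s t : F, s * s = t * t → s = t := by
    intro s t hst
    have : (s - t) * (s - t) = 0 := by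
      linear_combination hst - (s * t) * h2 + (t * t) * h2
    have := mul_self_eq_zero.mp this
    exact sub_eq_zero.mp this
  choose sq hsq' using hsq
  let ψ : V →ₗ[F] F :=
    { toFun := fun x => sq (Q ((g : MM) *ᵥ x) - Q x)
      map_add' := fun x y => by
        apply hsqinj
        rw [hsq', hφadd]
        have e1 := hsq' (Q ((g : MM) *ᵥ x) - Q x)
        have e2 := hsq' (Q ((g : MM) *ᵥ y) - Q y)
        linear_combination -e1 - e2 -
          (sq (Q ((g : MM) *ᵥ x) - Q x) * sq (Q ((g : MM) *ᵥ y) - Q y)) * h2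
      map_smul' := fun c x => by
        apply hsqinj
        rw [hsq', hφsmul, RingHom.id_apply, smul_eq_mul]
        have e1 := hsq' (Q ((g : MM) *ᵥ x) - Q x)
        linear_combination -(c ^ 2) * e1 }
  have hψ : ∀ x : V, ψ x * ψ x = Q ((g : MM) *ᵥ x) - Q x := fun x => hsq' _
  -- represent `ψ` by a vector
  set a : V := ((sympB m F).toDual sympB_nondegenerate).symm ψ with ha
  have hψa : ∀ x : V, sympForm m F a x = ψ x := by
    intro x
    rw [← sympB_apply, ha, LinearMap.BilinForm.apply_toDual_symm_apply]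
  have ha0 : a ≠ 0 := by
    intro h0
    have h1 := hψa v₀
    rw [h0] at h1
    unfold sympForm at h1
    rw [zero_dotProduct] at h1
    have h3 := hψ v₀
    rw [← h1, mul_zero] at h3
    exact hv₀ (sub_eq_zero.mp h3.symm)
  have hall : ∀ (v : V) (c : F), T v c ∈ M := by
    intro v c
    by_cases hv : v = 0
    · rw [hv, T_zero_left]; exact M.one_mem
    by_cases hc : c = 0
    · rw [hc, T_zero_right]; exact M.one_mem
    -- `t` with `Q v + t² = c⁻¹`
    obtain ⟨k, hk, hkv⟩ := exists_isom_level h2 (fun r => ⟨sq r, hsq' r⟩) hm Q hsmul hpol hv ha0 (-(sq (c⁻¹ - Q v)))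
    have hkM : k ∈ M := hPM k hk
    have h1 : ψ ((k : MM) *ᵥ v) = sq (c⁻¹ - Q v) := by
      rw [← hψa, sympForm_swap, hkv, neg_neg]
    have h3 := hψ ((k : MM) *ᵥ v)
    rw [h1, hsq', hk] at h3
    have hQw : Q (((g * k : Sp) : MM) *ᵥ v) = c⁻¹ := by
      rw [coe_mul_mulVec]
      linear_combination -h3
    have hQw0 : Q (((g * k : Sp) : MM) *ᵥ v) ≠ 0 := by
      rw [hQw]; exact inv_ne_zero hc
    have hTM : T (((g * k : Sp) : MM) *ᵥ v) c ∈ M := by
      have := hPM _ (T_isom h2 Q hsmul hpol hQw0)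
      rw [hQw, inv_inv] at this
      exact this
    have hgk : g * k ∈ M := M.mul_mem hg hkM
    have hconj := conj_T (g * k)⁻¹ (((g * k : Sp) : MM) *ᵥ v) c
    rw [coe_inv_mulVec_eq (g * k) rfl] at hconj
    rw [← hconj]
    exact M.mul_mem (M.mul_mem (M.inv_mem hgk) hTM) (M.inv_mem (M.inv_mem hgk))
  rw [eq_top_iff, ← transvectionSubgroup_eq_top m F]
  unfold transvectionSubgroup
  rw [Subgroup.closure_le]
  rintro B ⟨w, c, hB⟩
  have : B = T w c := Subtype.ext hB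
  rw [this]
  exact hall w c

end Cfsg.Agent.Helper7.SpMax

namespace Cfsg.Agent.Helper7.SpMax

open Matrix Cfsg Cfsg.Agent.Helper7.Symp

variable {F : Type*} [Field F] {m : ℕ}

local notation "V" => (Fin m ⊕ Fin m → F)
local notation "Sp" => Matrix.symplecticGroup (Fin m) F
local notation "MM" => Matrix (Fin m ⊕ Fin m) (Fin m ⊕ Fin m) F

/-- Some symplectic matrix is not a similarity of `Q`. -/
theorem exists_not_similarity (h2 : (2 : F) = 0) (hm : 4 ≤ m) (Q : V → F)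
    (hsmul : ∀ (c : F) (v : V), Q (c • v) = c ^ 2 * Q v)
    (hpol : ∀ u v : V, Q (u + v) = Q u + Q v + sympForm m F u v) :
    ∃ A : Sp, ¬ ∃ c : F, ∀ v : V, Q ((A : MM) *ᵥ v) = c * Q v := by
  by_contra hall
  push Not at hall
  have hone : ∀ u : V, u ≠ 0 → Q u = 1 := by
    intro u hu
    obtain ⟨c, hc⟩ := hall (T u 1)
    obtain ⟨x, hxu, _, _, hQx⟩ := exists_perp_nonsingular hm Q hpol u u u
    have hc1 : c = 1 := by
      have := hc x
      rw [T_mulVec, hxu, mul_zero, zero_smul, add_zero] at this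
      have h3 : (1 - c) * Q x = 0 := by linear_combination this
      rcases mul_eq_zero.mp h3 with h | h
      · exact (sub_eq_zero.mp h).symm
      · exact absurd h hQx
    obtain ⟨y, hy⟩ := exists_sympForm_ne_zero hu
    have hy' : sympForm m F y u ≠ 0 := by
      rw [sympForm_swap]; exact neg_ne_zero.mpr hy
    have := hc y
    rw [T_mulVec, hc1, one_mul, one_mul, hpol, hsmul, sympForm_smul_right] at this
    have h3 : sympForm m F y u ^ 2 * (Q u + 1) = 0 := by linear_combination this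
    rcases mul_eq_zero.mp h3 with h | h
    · exact absurd ((pow_eq_zero_iff (two_ne_zero)).mp h) hy'
    · linear_combination h - h2
  have hu : (Pi.single (Sum.inl ⟨0, by omega⟩) 1 : V) ≠ 0 := by
    intro h
    have := congrFun h (Sum.inl ⟨0, by omega⟩)
    rw [Pi.single_eq_same] at this
    exact one_ne_zero this
  obtain ⟨z₁, z₂, h1, h2', h12⟩ := exists_perp_pair hm (Pi.single (Sum.inl ⟨0, by omega⟩) 1 : V)
    (Pi.single (Sum.inl ⟨0, by omega⟩) 1) (Pi.single (Sum.inl ⟨0, by omega⟩) 1)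
  set u : V := Pi.single (Sum.inl ⟨0, by omega⟩) 1 with hu'
  have hz₁ : z₁ ≠ 0 := by
    rintro rfl
    apply h12
    unfold sympForm
    rw [zero_dotProduct]
  have huz : u + z₁ ≠ 0 := by
    intro h
    apply h12
    have : z₁ = -u := by rw [eq_neg_iff_add_eq_zero, add_comm]; exact h
    rw [this, sympForm_swap, sympForm_neg_right, h2'.1, neg_zero, neg_zero]
  have e1 := hone u hu
  have e2 := hone z₁ hz₁
  have e3 := hone _ huz
  rw [hpol, e1, e2] at e3
  have : sympForm m F u z₁ = 0 := by rw [sympForm_swap, h1.1, neg_zero]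
  rw [this] at e3
  have : (1 : F) = 0 := by linear_combination h2 - e3
  exact one_ne_zero this

end Cfsg.Agent.Helper7.SpMax
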