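import Mathlib
import Cfsg.Agent.Helper7.SpMaxC

set_option autoImplicit false

/-! # Orthogonal decompositions of the symplectic space: components -/

namespace Cfsg.Agent.Helper7.SpMax

open Matrix Cfsg Cfsg.Agent.Helper7.Symp

variable {F : Type*} [Field F] {m : ℕ}

local notation "V" => (Fin m ⊕ Fin m → F)
local notation "Sp" => Matrix.symplecticGroup (Fin m) F
local notation "MM" => Matrix (Fin m ⊕ Fin m) (Fin m ⊕ Fin m) F

/-- A decomposition into pairwise orthogonal non-degenerate subspaces. -/
structure ODecomp {t : ℕ} (D : Fin t → Submodule F V) : Prop where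
  nd : ∀ i, ∀ w ∈ D i, w ≠ 0 → ∃ x ∈ D i, sympForm m F w x ≠ 0
  orth : ∀ i j, i ≠ j → ∀ u ∈ D i, ∀ v ∈ D j, sympForm m F u v = 0
  sup : iSup D = ⊤

variable {t : ℕ} {D : Fin t → Submodule F (Fin m ⊕ Fin m → F)}

/-- The component of a vector in the `i`-th member. -/
noncomputable def cp (hD : ODecomp D) (i : Fin t) : V →ₗ[F] V :=
  (D i).projection (perp (D i)) (isCompl_perp (hD.nd i))

theorem cp_mem (hD : ODecomp D) (i : Fin t) (v : V) : cp hD i v ∈ D i :=
  Submodule.projection_apply_mem _ v

theorem cp_of_mem (hD : ODecomp D) {i : Fin t} {v : V} (hv : v ∈ D i) : cp hD i v = v :=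
  Submodule.projection_apply_of_mem_left _ hv

theorem cp_of_perp (hD : ODecomp D) {i : Fin t} {v : V} (hv : v ∈ perp (D i)) : cp hD i v = 0 :=
  Submodule.projection_apply_of_mem_right _ hv

theorem mem_perp_of_ne (hD : ODecomp D) {i j : Fin t} (hij : j ≠ i) {v : V} (hv : v ∈ D j) :
    v ∈ perp (D i) := by
  rw [mem_perp']
  intro w hw
  exact hD.orth j i hij v hv w hw

theorem cp_of_mem_ne (hD : ODecomp D) {i j : Fin t} (hij : j ≠ i) {v : V} (hv : v ∈ D j) :
    cp hD i v = 0 :=
  cp_of_perp hD (mem_perp_of_ne hD hij hv)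

theorem sub_cp_mem_perp (hD : ODecomp D) (i : Fin t) (v : V) : v - cp hD i v ∈ perp (D i) := by
  unfold cp
  rw [← Submodule.projection_eq_self_sub_projection]
  exact Submodule.projection_apply_mem _ v

theorem sum_cp (hD : ODecomp D) (v : V) : v = ∑ i, cp hD i v := by
  have hv : v ∈ iSup D := by rw [hD.sup]; exact Submodule.mem_top
  induction hv using Submodule.iSup_induction' with
  | mem j x hx =>
    rw [Finset.sum_eq_single j]
    · exact (cp_of_mem hD hx).symm
    · intro i _ hij
      exact cp_of_mem_ne hD hij.symm hx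
    · intro h
      exact absurd (Finset.mem_univ j) h
  | zero => simp
  | add x y _ _ hx hy =>
    simp only [map_add, Finset.sum_add_distrib]
    rw [← hx, ← hy]

theorem eq_zero_of_cp (hD : ODecomp D) {v : V} (h : ∀ i, cp hD i v = 0) : v = 0 := by
  rw [sum_cp hD v]
  exact Finset.sum_eq_zero (fun i _ => h i)

/-- Pairing with an element of `D j` only sees the `j`-th component. -/
theorem sympForm_cp_left (hD : ODecomp D) {j : Fin t} (v : V) {d : V} (hd : d ∈ D j) :
    sympForm m F v d = sympForm m F (cp hD j v) d := by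
  have h := (mem_perp'.mp (sub_cp_mem_perp hD j v)) d hd
  rw [sympForm_sub_left] at h
  exact sub_eq_zero.mp h

theorem sympForm_cp_right (hD : ODecomp D) {j : Fin t} (v : V) {d : V} (hd : d ∈ D j) :
    sympForm m F d v = sympForm m F d (cp hD j v) := by
  rw [sympForm_swap, sympForm_cp_left hD v hd, ← sympForm_swap]

/-- A vector with a single non-zero component lies in that member. -/
theorem mem_of_cp_eq_zero (hD : ODecomp D) {j : Fin t} {v : V} (h : ∀ i, i ≠ j → cp hD i v = 0) :
    v ∈ D j := by
  have : v = cp hD j v := by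
    have h0 : v - cp hD j v = 0 := by
      apply eq_zero_of_cp hD
      intro i
      rw [map_sub]
      by_cases hij : i = j
      · subst hij
        rw [cp_of_mem hD (cp_mem hD i v), sub_self]
      · rw [h i hij, cp_of_mem_ne hD (Ne.symm hij) (cp_mem hD j v), sub_self]
    exact sub_eq_zero.mp h0
  rw [this]
  exact cp_mem hD j v

/-- The subgroup generated by the transvections of one member fixes the other components. -/
theorem HS_member_mulVec (hD : ODecomp D) {j : Fin t} {g : Sp} (hg : g ∈ HS (D j)) (v : V) :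
    (g : MM) *ᵥ v = (g : MM) *ᵥ (cp hD j v) + (v - cp hD j v) := by
  have h1 : (g : MM) *ᵥ (v - cp hD j v) = v - cp hD j v :=
    (HS_fix hg).1 _ (fun s hs => (mem_perp'.mp (sub_cp_mem_perp hD j v)) s hs)
  have : v = cp hD j v + (v - cp hD j v) := by abel
  conv_lhs => rw [this]
  rw [mulVec_add, h1]

/-- Elements of `HS (D j)` preserve each member. -/
theorem HS_member_maps (hD : ODecomp D) {j : Fin t} {g : Sp} (hg : g ∈ HS (D j)) (i : Fin t) :
    ∀ x ∈ D i, (g : MM) *ᵥ x ∈ D i := by
  intro x hx
  by_cases hij : i = j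
  · subst hij
    exact (HS_fix hg).2 x hx
  · rw [(HS_fix hg).1 x (fun s hs => hD.orth i j hij x hx s hs)]
    exact hx

end Cfsg.Agent.Helper7.SpMax
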