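import Mathlib
import Cfsg.Agent.Helper7.SpMaxD

set_option autoImplicit false

/-! # A Witt-type lemma: moving a non-degenerate subspace onto another -/

namespace Cfsg.Agent.Helper7.SpMax

open Matrix Cfsg Cfsg.Agent.Helper7.Symp

variable {F : Type*} [Field F] {m : ℕ}

local notation "V" => (Fin m ⊕ Fin m → F)
local notation "Sp" => Matrix.symplecticGroup (Fin m) F
local notation "MM" => Matrix (Fin m ⊕ Fin m) (Fin m ⊕ Fin m) F

/-- A symplectic matrix as a linear equivalence. -/
noncomputable def lin (g : Sp) : (Fin m ⊕ Fin m → F) ≃ₗ[F] (Fin m ⊕ Fin m → F) :=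
  LinearEquiv.ofLinear (Matrix.mulVecLin (g : MM)) (Matrix.mulVecLin ((g⁻¹ : Sp) : MM))
    (by
      apply LinearMap.ext
      intro x
      exact coe_mul_inv_mulVec g x)
    (by
      apply LinearMap.ext
      intro x
      exact coe_inv_mulVec_eq g rfl)

theorem lin_apply (g : Sp) (x : V) : lin g x = (g : MM) *ᵥ x := rfl

/-- Non-degeneracy of a subspace, in the one-sided form. -/
def NDeg (A : Submodule F V) : Prop := ∀ w ∈ A, w ≠ 0 → ∃ x ∈ A, sympForm m F w x ≠ 0

theorem NDeg.map {A : Submodule F V} (hA : NDeg A) (g : Sp) : NDeg (A.map (lin g).toLinearMap) := by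
  intro w hw hw0
  obtain ⟨y, hy, rfl⟩ := Submodule.mem_map.mp hw
  have hy0 : y ≠ 0 := by
    rintro rfl
    exact hw0 (map_zero _)
  obtain ⟨z, hz, hne⟩ := hA y hy hy0
  refine ⟨(lin g) z, Submodule.mem_map_of_mem hz, ?_⟩
  change sympForm m F ((g : MM) *ᵥ y) ((g : MM) *ᵥ z) ≠ 0
  rw [sympForm_mulVec]
  exact hne

/-- The part of `X` orthogonal to `b` and `b'`. -/
def cut (X : Submodule F V) (b b' : V) : Submodule F V where
  carrier := {x | x ∈ X ∧ sympForm m F x b = 0 ∧ sympForm m F x b' = 0}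
  add_mem' := by
    rintro x y ⟨hx, hx1, hx2⟩ ⟨hy, hy1, hy2⟩
    refine ⟨X.add_mem hx hy, ?_, ?_⟩
    · rw [sympForm_add_left, hx1, hy1, add_zero]
    · rw [sympForm_add_left, hx2, hy2, add_zero]
  zero_mem' := by
    refine ⟨X.zero_mem, ?_, ?_⟩ <;>
    · unfold sympForm
      rw [zero_dotProduct]
  smul_mem' := by
    rintro c x ⟨hx, hx1, hx2⟩
    refine ⟨X.smul_mem c hx, ?_, ?_⟩
    · rw [sympForm_smul_left, hx1, mul_zero]
    · rw [sympForm_smul_left, hx2, mul_zero]

theorem mem_cut {X : Submodule F V} {b b' x : V} :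
    x ∈ cut X b b' ↔ x ∈ X ∧ sympForm m F x b = 0 ∧ sympForm m F x b' = 0 := Iff.rfl

theorem cut_le (X : Submodule F V) (b b' : V) : cut X b b' ≤ X := fun _ hx => hx.1

/-- The splitting of a vector along a hyperbolic pair. -/
theorem sub_pair_mem_cut {X : Submodule F V} {b b' : V} (hb : b ∈ X) (hb' : b' ∈ X)
    (h : sympForm m F b b' = 1) {x : V} (hx : x ∈ X) :
    x - (sympForm m F x b' • b - sympForm m F x b • b') ∈ cut X b b' := by
  have h' : sympForm m F b' b = -1 := by rw [sympForm_swap, h]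
  refine ⟨X.sub_mem hx (X.sub_mem (X.smul_mem _ hb) (X.smul_mem _ hb')), ?_, ?_⟩
  · rw [sympForm_sub_left, sympForm_sub_left, sympForm_smul_left, sympForm_smul_left, sympForm_self, h']
    ring
  · rw [sympForm_sub_left, sympForm_sub_left, sympForm_smul_left, sympForm_smul_left, sympForm_self, h]
    ring

theorem NDeg.cut {X : Submodule F V} (hX : NDeg X) {b b' : V} (hb : b ∈ X) (hb' : b' ∈ X)
    (h : sympForm m F b b' = 1) : NDeg (cut X b b') := by
  intro x hx hx0
  obtain ⟨y, hy, hne⟩ := hX x hx.1 hx0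
  refine ⟨_, sub_pair_mem_cut hb hb' h hy, ?_⟩
  rw [sympForm_sub_right, sympForm_sub_right, sympForm_smul_right, sympForm_smul_right, hx.2.1, hx.2.2,
    mul_zero, mul_zero, sub_zero, sub_zero]
  exact hne

/-- Dimension bookkeeping: `X = span{b,b'} ⊕ cut X b b'`. -/
theorem finrank_cut {X : Submodule F V} {b b' : V} (hb : b ∈ X) (hb' : b' ∈ X)
    (h : sympForm m F b b' = 1) :
    Module.finrank F X =
      Module.finrank F (Submodule.span F ({b, b'} : Set V)) + Module.finrank F (cut X b b') := by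
  have h' : sympForm m F b' b = -1 := by rw [sympForm_swap, h]
  set L : Submodule F V := Submodule.span F ({b, b'} : Set V) with hL
  have hLX : L ≤ X := by
    rw [hL, Submodule.span_le]
    intro x hx
    rcases hx with rfl | rfl
    · exact hb
    · exact hb'
  have hsup : L ⊔ cut X b b' = X := by
    apply le_antisymm (sup_le hLX (cut_le X b b'))
    intro x hx
    have h1 := sub_pair_mem_cut hb hb' h hx
    have h2 : sympForm m F x b' • b - sympForm m F x b • b' ∈ L :=
      L.sub_mem (L.smul_mem _ (Submodule.subset_span (by simp)))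
        (L.smul_mem _ (Submodule.subset_span (by simp)))
    have : x = (sympForm m F x b' • b - sympForm m F x b • b') +
        (x - (sympForm m F x b' • b - sympForm m F x b • b')) := by abel
    rw [this]
    exact Submodule.add_mem_sup h2 h1
  have hinf : L ⊓ cut X b b' = ⊥ := by
    rw [eq_bot_iff]
    rintro x ⟨hxL, hxc⟩
    rw [hL] at hxL
    obtain ⟨α, β, rfl⟩ := Submodule.mem_span_pair.mp hxL
    have e1 := hxc.2.1
    have e2 := hxc.2.2
    rw [sympForm_add_left, sympForm_smul_left, sympForm_smul_left, sympForm_self, h'] at e1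
    rw [sympForm_add_left, sympForm_smul_left, sympForm_smul_left, sympForm_self, h] at e2
    have hβ : β = 0 := by linear_combination -e1
    have hα : α = 0 := by linear_combination e2
    rw [hα, hβ, zero_smul, zero_smul, add_zero]
    exact Submodule.zero_mem _
  have := Submodule.finrank_sup_add_finrank_inf_eq L (cut X b b')
  rw [hsup, hinf, finrank_bot, add_zero] at this
  exact this

theorem finrank_span_pair_pos {b b' : V} (hb : b ≠ 0) :
    0 < Module.finrank F (Submodule.span F ({b, b'} : Set V)) := by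
  rw [Module.finrank_pos_iff_exists_ne_zero]
  exact ⟨⟨b, Submodule.subset_span (by simp)⟩, fun h => hb (congrArg Subtype.val h)⟩

/-- A hyperbolic pair in a non-trivial non-degenerate subspace. -/
theorem NDeg.exists_pair {A : Submodule F V} (hA : NDeg A) {a : V} (ha : a ∈ A) (ha0 : a ≠ 0) :
    ∃ a' ∈ A, sympForm m F a a' = 1 := by
  obtain ⟨x, hx, hne⟩ := hA a ha ha0
  refine ⟨(sympForm m F a x)⁻¹ • x, A.smul_mem _ hx, ?_⟩
  rw [sympForm_smul_right, inv_mul_cancel₀ hne]

/-- The Witt-type lemma. -/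
theorem witt_move : ∀ (n : ℕ) (U A B : Submodule F V), NDeg U → A ≤ U → B ≤ U → NDeg A → NDeg B →
    Module.finrank F A = n → Module.finrank F B = n →
    ∃ g ∈ HS U, ∀ x ∈ A, (g : MM) *ᵥ x ∈ B := by
  intro n
  induction n using Nat.strong_induction_on with
  | _ n ih =>
  intro U A B hU hAU hBU hA hB hAn hBn
  by_cases hA0 : ∀ a ∈ A, a = 0
  · refine ⟨1, (HS U).one_mem, fun x hx => ?_⟩
    rw [hA0 x hx, mulVec_zero]
    exact B.zero_mem
  push Not at hA0
  obtain ⟨a, ha, ha0⟩ := hA0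
  have hnpos : 0 < n := by
    rw [← hAn, Module.finrank_pos_iff_exists_ne_zero]
    exact ⟨⟨a, ha⟩, fun h => ha0 (congrArg Subtype.val h)⟩
  have hB0 : ∃ b ∈ B, b ≠ 0 := by
    have : 0 < Module.finrank F B := by rw [hBn]; exact hnpos
    rw [Module.finrank_pos_iff_exists_ne_zero] at this
    obtain ⟨⟨b, hb⟩, hne⟩ := this
    exact ⟨b, hb, fun h => hne (Subtype.ext h)⟩
  obtain ⟨b, hb, hb0⟩ := hB0
  obtain ⟨a', ha', haa'⟩ := hA.exists_pair ha ha0
  obtain ⟨b', hb', hbb'⟩ := hB.exists_pair hb hb0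
  obtain ⟨g₁, hg₁, e₁, e₁'⟩ := exists_mem_mulVec_pair_rel hU (hAU ha) (hAU ha') (hBU hb) (hBU hb')
    haa' hbb'
  -- transport `A`
  set A' : Submodule F V := A.map (lin g₁).toLinearMap with hA'
  have hA'nd : NDeg A' := hA.map g₁
  have hA'U : A' ≤ U := by
    intro x hx
    obtain ⟨y, hy, rfl⟩ := Submodule.mem_map.mp hx
    exact (HS_fix hg₁).2 y (hAU hy)
  have hA'n : Module.finrank F A' = n := by
    rw [hA', LinearEquiv.finrank_map_eq, hAn]
  have hbA' : b ∈ A' := by
    rw [← e₁]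
    exact Submodule.mem_map_of_mem ha
  have hb'A' : b' ∈ A' := by
    rw [← e₁']
    exact Submodule.mem_map_of_mem ha'
  -- cut everything along the pair
  have hposL := finrank_span_pair_pos (b' := b') hb0
  have hcA := finrank_cut hbA' hb'A' hbb'
  have hcB := finrank_cut hb hb' hbb'
  have hlt : Module.finrank F (cut A' b b') < n := by omega
  have hU₁ : NDeg (cut U b b') := hU.cut (hBU hb) (hBU hb') hbb'
  obtain ⟨g₂, hg₂, hmap⟩ := ih _ hlt (cut U b b') (cut A' b b') (cut B b b') hU₁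
    (fun x hx => ⟨hA'U hx.1, hx.2⟩) (fun x hx => ⟨hBU hx.1, hx.2⟩)
    (hA'nd.cut hbA' hb'A' hbb') (hB.cut hb hb' hbb') rfl (by omega)
  have hfix_b : (g₂ : MM) *ᵥ b = b :=
    (HS_fix hg₂).1 b (fun s hs => by rw [sympForm_swap, hs.2.1, neg_zero])
  have hfix_b' : (g₂ : MM) *ᵥ b' = b' :=
    (HS_fix hg₂).1 b' (fun s hs => by rw [sympForm_swap, hs.2.2, neg_zero])
  refine ⟨g₂ * g₁, (HS U).mul_mem (HS_mono (cut_le U b b') hg₂) hg₁, fun x hx => ?_⟩
  rw [coe_mul_mulVec]
  have hx' : (g₁ : MM) *ᵥ x ∈ A' := Submodule.mem_map_of_mem hx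
  set y := (g₁ : MM) *ᵥ x with hy
  have h1 := sub_pair_mem_cut hbA' hb'A' hbb' hx'
  have h2 := hmap _ h1
  have : y = (sympForm m F y b' • b - sympForm m F y b • b') +
      (y - (sympForm m F y b' • b - sympForm m F y b • b')) := by abel
  rw [this, mulVec_add, mulVec_sub, mulVec_smul, mulVec_smul, hfix_b, hfix_b']
  exact B.add_mem (B.sub_mem (B.smul_mem _ hb) (B.smul_mem _ hb')) h2.1

end Cfsg.Agent.Helper7.SpMax
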