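import Mathlib
import Cfsg.Agent.Helper7.SpMaxE

set_option autoImplicit false

/-! # Maximality of the stabiliser of an orthogonal decomposition in `Sp_{2m}(F)` -/

namespace Cfsg.Agent.Helper7.SpMax

open Matrix Cfsg Cfsg.Agent.Helper7.Symp

variable {F : Type*} [Field F] {m : ℕ}

local notation "V" => (Fin m ⊕ Fin m → F)
local notation "Sp" => Matrix.symplecticGroup (Fin m) F
local notation "MM" => Matrix (Fin m ⊕ Fin m) (Fin m ⊕ Fin m) F

variable {t : ℕ} {D : Fin t → Submodule F (Fin m ⊕ Fin m → F)}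

theorem ndeg_sup (hD : ODecomp D) {a b : Fin t} (hab : a ≠ b) : NDeg (D a ⊔ D b) := by
  intro w hw hw0
  obtain ⟨α, hα, β, hβ, rfl⟩ := Submodule.mem_sup.mp hw
  by_cases hα0 : α = 0
  · have hβ0 : β ≠ 0 := by
      rintro rfl
      apply hw0
      rw [hα0, add_zero]
    obtain ⟨x, hx, hne⟩ := hD.nd b β hβ hβ0
    refine ⟨x, Submodule.mem_sup_right hx, ?_⟩
    rw [sympForm_add_left, hD.orth a b hab α hα x hx, zero_add]
    exact hne
  · obtain ⟨x, hx, hne⟩ := hD.nd a α hα hα0
    refine ⟨x, Submodule.mem_sup_left hx, ?_⟩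
    rw [sympForm_add_left, hD.orth b a hab.symm β hβ x hx, add_zero]
    exact hne

/-- An isometry interchanging two members and fixing the others pointwise. -/
theorem exists_swap (hD : ODecomp D) {k : ℕ} (hk : ∀ i, Module.finrank F (D i) = k) {a b : Fin t}
    (hab : a ≠ b) :
    ∃ g : Sp, ∀ i, ∀ x ∈ D i, (g : MM) *ᵥ x ∈ D (Equiv.swap a b i) := by
  obtain ⟨g, hg, hmap⟩ := witt_move k (D a ⊔ D b) (D a) (D b) (ndeg_sup hD hab) le_sup_left le_sup_right
    (hD.nd a) (hD.nd b) (hk a) (hk b)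
  -- `g` maps `D a` onto `D b`
  have honto : (D a).map (lin g).toLinearMap = D b := by
    apply Submodule.eq_of_le_of_finrank_eq
    · intro x hx
      obtain ⟨y, hy, rfl⟩ := Submodule.mem_map.mp hx
      exact hmap y hy
    · rw [LinearEquiv.finrank_map_eq, hk a, hk b]
  refine ⟨g, fun i x hx => ?_⟩
  by_cases hia : i = a
  · subst hia
    rw [Equiv.swap_apply_left]
    exact hmap x hx
  by_cases hib : i = b
  · subst hib
    rw [Equiv.swap_apply_right]
    have hU := (HS_fix hg).2 x (Submodule.mem_sup_right hx)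
    obtain ⟨α, hα, β, hβ, e⟩ := Submodule.mem_sup.mp hU
    have hβ0 : β = 0 := by
      by_contra hne
      obtain ⟨z, hz, hzne⟩ := hD.nd i β hβ hne
      apply hzne
      rw [← honto] at hz
      obtain ⟨y, hy, rfl⟩ := Submodule.mem_map.mp hz
      have h1 : sympForm m F ((g : MM) *ᵥ x) ((g : MM) *ᵥ y) = 0 := by
        rw [sympForm_mulVec]
        exact hD.orth i a hia x hx y hy
      rw [← e, sympForm_add_left] at h1
      have h2 : sympForm m F α ((g : MM) *ᵥ y) = 0 := hD.orth a i hab α hα _ (hmap y hy)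
      rw [h2, zero_add] at h1
      exact h1
    rw [← e, hβ0, add_zero]
    exact hα
  · rw [Equiv.swap_apply_of_ne_of_ne hia hib]
    rw [(HS_fix hg).1 x (fun s hs => ?_)]
    · exact hx
    · obtain ⟨α, hα, β, hβ, rfl⟩ := Submodule.mem_sup.mp hs
      rw [sympForm_add_right, hD.orth i a hia x hx α hα, hD.orth i b hib x hx β hβ, add_zero]

/-- The main dichotomy for decompositions. -/
theorem decomp_or_top [Finite F] (hD : ODecomp D) {k : ℕ} (hk : ∀ i, Module.finrank F (D i) = k)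
    (hex : ∀ j, ∀ d ∈ D j, d ≠ 0 → ∃ c ∈ D j, c ≠ 0 ∧ c ≠ d ∧ sympForm m F d c = 0)
    (M : Subgroup Sp)
    (hPM : ∀ A : Sp, (∃ σ : Equiv.Perm (Fin t), ∀ i, ∀ x ∈ D i, (A : MM) *ᵥ x ∈ D (σ i)) → A ∈ M) :
    (∀ A ∈ M, ∀ i, ∀ x ∈ D i, ∃ j, (A : MM) *ᵥ x ∈ D j) ∨ M = ⊤ := by
  have hSinv : ∀ (A : Sp), A ∈ M → ∀ v : V, (∀ c, T v c ∈ M) → ∀ c, T ((A : MM) *ᵥ v) c ∈ M := by
    intro A hA v hv c
    rw [← conj_T]
    exact M.mul_mem (M.mul_mem hA (hv c)) (M.inv_mem hA)
  have hHS : ∀ j, HS (D j) ≤ M := by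
    intro j g hg
    exact hPM g ⟨1, fun i x hx => HS_member_maps hD hg i x hx⟩
  have hSD : ∀ j, ∀ v ∈ D j, ∀ c, T v c ∈ M := fun j v hv c => hHS j (T_mem_HS hv c)
  -- the closure property of the set of centres
  have hSadd : ∀ u w : V, (∀ c, T u c ∈ M) → (∀ c, T w c ∈ M) → sympForm m F u w ≠ 0 →
      ∀ l : F, ∀ c, T (u + l • w) c ∈ M := by
    intro u w hu hw hne l
    have := hSinv _ (hw (l * (sympForm m F u w)⁻¹)) u hu
    rw [T_mulVec, mul_assoc, inv_mul_cancel₀ hne, mul_one] at this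
    exact this
  -- replacing one component
  have hrepl : ∀ (v : V), (∀ c, T v c ∈ M) → ∀ j, cp hD j v ≠ 0 → ∀ d' ∈ D j, d' ≠ 0 →
      ∀ c, T (v - cp hD j v + d') c ∈ M := by
    intro v hv j hj d' hd' hd'0
    obtain ⟨g, hg, e⟩ := exists_mem_mulVec_eq_rel (hD.nd j) (cp_mem hD j v) hd' hj hd'0
    have := hSinv g (hHS j hg) v hv
    rw [HS_member_mulVec hD hg v, e, add_comm] at this
    exact this
  by_cases hcase : ∀ A ∈ M, ∀ i, ∀ x ∈ D i, ∃ j, (A : MM) *ᵥ x ∈ D j
  · exact Or.inl hcase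
  right
  push Not at hcase
  obtain ⟨A, hA, i₀, x₀, hx₀, hnot⟩ := hcase
  -- a centre with two non-zero components
  set v₀ := (A : MM) *ᵥ x₀ with hv₀
  have hv₀S : ∀ c, T v₀ c ∈ M := hSinv A hA x₀ (hSD i₀ x₀ hx₀)
  have hv₀0 : v₀ ≠ 0 := by
    intro h
    apply hnot i₀
    rw [h]
    exact (D i₀).zero_mem
  have hj₁ : ∃ j₁, cp hD j₁ v₀ ≠ 0 := by
    by_contra hcon
    push Not at hcon
    exact hv₀0 (eq_zero_of_cp hD hcon)
  obtain ⟨j₁, hj₁⟩ := hj₁
  have hj₂ : ∃ j₂, j₂ ≠ j₁ ∧ cp hD j₂ v₀ ≠ 0 := by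
    by_contra hcon
    push Not at hcon
    exact hnot j₁ (mem_of_cp_eq_zero hD hcon)
  obtain ⟨j₂, hj₂₁, hj₂⟩ := hj₂
  -- a centre with exactly two non-zero components
  have hpair₀ : ∀ α ∈ D j₁, α ≠ 0 → ∀ β ∈ D j₂, β ≠ 0 → ∀ c, T (α + β) c ∈ M := by
    -- first one such vector
    have hone : ∃ α ∈ D j₁, α ≠ 0 ∧ ∃ β ∈ D j₂, β ≠ 0 ∧ ∀ c, T (α + β) c ∈ M := by
      obtain ⟨b, hb, hb1⟩ := (show NDeg (D j₁) from hD.nd j₁).exists_pair (cp_mem hD j₁ v₀) hj₁
      obtain ⟨c₂, hc₂, hc₂0, hc₂ne, hc₂f⟩ := hex j₂ _ (cp_mem hD j₂ v₀) hj₂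
      have hb0 : b ≠ 0 := by
        rintro rfl
        unfold sympForm at hb1
        rw [mulVec_zero, dotProduct_zero] at hb1
        exact zero_ne_one hb1
      -- modify the two components
      have h1 := hrepl v₀ hv₀S j₁ hj₁ b hb hb0
      set v₁ := v₀ - cp hD j₁ v₀ + b with hv₁
      have hv₁2 : cp hD j₂ v₁ = cp hD j₂ v₀ := by
        rw [hv₁, map_add, map_sub, cp_of_mem_ne hD hj₂₁.symm (cp_mem hD j₁ v₀),
          cp_of_mem_ne hD hj₂₁.symm hb, sub_zero, add_zero]
      have h2 := hrepl v₁ h1 j₂ (by rw [hv₁2]; exact hj₂) c₂ hc₂ hc₂0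
      rw [hv₁2] at h2
      set v₂ := v₁ - cp hD j₂ v₀ + c₂ with hv₂
      -- `f(v₀, v₂) = f(v₀_{j₁}, b) = 1`
      have hv₂' : v₂ = v₀ - (cp hD j₁ v₀ - b) - (cp hD j₂ v₀ - c₂) := by
        rw [hv₂, hv₁]; abel
      have hf : sympForm m F v₀ v₂ = 1 := by
        rw [hv₂', sympForm_sub_right, sympForm_sub_right, sympForm_self,
          sympForm_cp_left hD v₀ ((D j₁).sub_mem (cp_mem hD j₁ v₀) hb),
          sympForm_cp_left hD v₀ ((D j₂).sub_mem (cp_mem hD j₂ v₀) hc₂),
          sympForm_sub_right, sympForm_sub_right, sympForm_self, sympForm_self, hb1, hc₂f]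
        ring
      have h3 := hSadd v₀ v₂ hv₀S h2 (by rw [hf]; exact one_ne_zero) (-1)
      have e : v₀ + (-1 : F) • v₂ = (cp hD j₁ v₀ - b) + (cp hD j₂ v₀ - c₂) := by
        rw [hv₂']; simp only [neg_smul, one_smul]; abel
      rw [e] at h3
      refine ⟨_, (D j₁).sub_mem (cp_mem hD j₁ v₀) hb, ?_, _, (D j₂).sub_mem (cp_mem hD j₂ v₀) hc₂, ?_, h3⟩
      · intro h
        have : sympForm m F (cp hD j₁ v₀) (cp hD j₁ v₀ - b) = 0 := by
          rw [h]; unfold sympForm; rw [mulVec_zero, dotProduct_zero]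
        rw [sympForm_sub_right, sympForm_self, hb1] at this
        exact one_ne_zero (by linear_combination -this)
      · intro h
        exact hc₂ne (sub_eq_zero.mp h).symm
    obtain ⟨α₀, hα₀, hα₀0, β₀, hβ₀, hβ₀0, hS₀⟩ := hone
    intro α hα hα0 β hβ hβ0
    have e1 : cp hD j₁ (α₀ + β₀) = α₀ := by
      rw [map_add, cp_of_mem hD hα₀, cp_of_mem_ne hD hj₂₁ hβ₀, add_zero]
    have h1 := hrepl _ hS₀ j₁ (by rw [e1]; exact hα₀0) α hα hα0
    rw [e1] at h1
    have e2 : α₀ + β₀ - α₀ + α = β₀ + α := by abel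
    rw [e2] at h1
    have e3 : cp hD j₂ (β₀ + α) = β₀ := by
      rw [map_add, cp_of_mem hD hβ₀, cp_of_mem_ne hD hj₂₁.symm hα, add_zero]
    have h2 := hrepl _ h1 j₂ (by rw [e3]; exact hβ₀0) β hβ hβ0
    rw [e3] at h2
    have e4 : β₀ + α - β₀ + β = α + β := by abel
    rw [e4] at h2
    exact h2
  -- all pairs of indices
  have hpair_swap : ∀ (a b : Fin t), a ≠ b →
      (∀ α ∈ D a, α ≠ 0 → ∀ β ∈ D b, β ≠ 0 → ∀ c, T (α + β) c ∈ M) →
      ∀ (p q : Fin t), p ≠ q →
      (∀ α ∈ D (Equiv.swap p q a), α ≠ 0 → ∀ β ∈ D (Equiv.swap p q b), β ≠ 0 →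
        ∀ c, T (α + β) c ∈ M) := by
    intro a b _ hab' p q hpq α hα hα0 β hβ hβ0
    obtain ⟨g, hg⟩ := exists_swap hD hk hpq
    have hgM : g ∈ M := hPM g ⟨Equiv.swap p q, hg⟩
    -- pull back `α`, `β` by `g`
    have hα' := hg _ _ hα
    have hβ' := hg _ _ hβ
    rw [Equiv.swap_apply_self] at hα' hβ'
    have hα'0 : (g : MM) *ᵥ α ≠ 0 := fun h => hα0 (mulVec_injective g (by
      change (g : MM) *ᵥ α = (g : MM) *ᵥ 0
      rw [h, mulVec_zero]))
    have hβ'0 : (g : MM) *ᵥ β ≠ 0 := fun h => hβ0 (mulVec_injective g (by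
      change (g : MM) *ᵥ β = (g : MM) *ᵥ 0
      rw [h, mulVec_zero]))
    have h1 := hab' _ hα' hα'0 _ hβ' hβ'0
    have h2 := hSinv g⁻¹ (M.inv_mem hgM) _ h1
    rw [← mulVec_add, coe_inv_mulVec_eq g rfl] at h2
    exact h2
  have hpair : ∀ (p q : Fin t), p ≠ q →
      ∀ α ∈ D p, α ≠ 0 → ∀ β ∈ D q, β ≠ 0 → ∀ c, T (α + β) c ∈ M := by
    -- step 1: a pair containing `p`
    have hstep1 : ∀ p : Fin t, ∃ x, x ≠ p ∧
        ∀ α ∈ D p, α ≠ 0 → ∀ β ∈ D x, β ≠ 0 → ∀ c, T (α + β) c ∈ M := by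
      intro p
      by_cases hp1 : p = j₁
      · exact ⟨j₂, by rw [hp1]; exact hj₂₁, by rw [hp1]; exact hpair₀⟩
      by_cases hp2 : p = j₂
      · refine ⟨j₁, by rw [hp2]; exact hj₂₁.symm, ?_⟩
        rw [hp2]
        intro α hα hα0 β hβ hβ0
        rw [add_comm]
        exact hpair₀ β hβ hβ0 α hα hα0
      · have := hpair_swap j₁ j₂ hj₂₁.symm hpair₀ j₁ p (Ne.symm hp1)
        rw [Equiv.swap_apply_left, Equiv.swap_apply_of_ne_of_ne hj₂₁ (fun h => hp2 h.symm)] at this
        exact ⟨j₂, Ne.symm hp2, this⟩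
    intro p q hpq
    obtain ⟨x, hxp, hx⟩ := hstep1 p
    by_cases hxq : x = q
    · rw [← hxq]; exact hx
    · have := hpair_swap p x hxp.symm hx x q hxq
      rw [Equiv.swap_apply_of_ne_of_ne hxp.symm hpq, Equiv.swap_apply_left] at this
      exact this
  -- build up all vectors, by induction on the number of leading indices that may be non-zero
  have hbuild : ∀ n : ℕ, ∀ v : V, (∀ i : Fin t, n ≤ i.val → cp hD i v = 0) → ∀ c, T v c ∈ M := by
    intro n
    induction n with
    | zero =>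
      intro v hv c
      have : v = 0 := eq_zero_of_cp hD (fun i => hv i (Nat.zero_le _))
      rw [this, T_zero_left]
      exact M.one_mem
    | succ n ih =>
      intro v hv
      by_cases hnt : n < t
      · set j : Fin t := ⟨n, hnt⟩ with hj
        by_cases hvj : cp hD j v = 0
        · apply ih
          intro i hi
          by_cases hin : i = j
          · rw [hin]; exact hvj
          · apply hv
            have : i.val ≠ n := fun h => hin (Fin.ext h)
            omega
        by_cases hother : ∀ i : Fin t, i ≠ j → cp hD i v = 0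
        · exact hSD j v (mem_of_cp_eq_zero hD hother)
        push Not at hother
        obtain ⟨i, hij, hvi⟩ := hother
        have hilt : i.val < n := by
          by_contra hcon
          push Not at hcon
          have : i.val ≠ n := fun h => hij (Fin.ext h)
          exact hvi (hv i (by omega))
        obtain ⟨a', ha', hfa⟩ := (show NDeg (D i) from hD.nd i).exists_pair (cp_mem hD i v) hvi
        have ha'0 : a' ≠ 0 := by
          rintro rfl
          unfold sympForm at hfa
          rw [mulVec_zero, dotProduct_zero] at hfa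
          exact zero_ne_one hfa
        -- `v = u + w`
        set u : V := v - cp hD j v - a' with hu
        set w : V := a' + cp hD j v with hw
        have huS : ∀ c, T u c ∈ M := by
          apply ih
          intro l hl
          rw [hu, map_sub, map_sub]
          by_cases hlj : l = j
          · rw [hlj, cp_of_mem hD (cp_mem hD j v), sub_self, cp_of_mem_ne hD hij ha', sub_zero]
          · have hl' : n + 1 ≤ l.val := by
              have : l.val ≠ n := fun h => hlj (Fin.ext h)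
              omega
            have hli : l ≠ i := by
              intro h
              rw [h] at hl'
              omega
            rw [hv l hl', cp_of_mem_ne hD (Ne.symm hlj) (cp_mem hD j v),
              cp_of_mem_ne hD (Ne.symm hli) ha', sub_zero, sub_zero]
        have hwS : ∀ c, T w c ∈ M := hpair i j hij a' ha' ha'0 _ (cp_mem hD j v) hvj
        have hf : sympForm m F u w ≠ 0 := by
          have h1 : sympForm m F u a' = 1 := by
            rw [sympForm_cp_left hD u ha', hu, map_sub, map_sub,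
              cp_of_mem_ne hD (Ne.symm hij) (cp_mem hD j v), cp_of_mem hD ha', sub_zero,
              sympForm_sub_left, sympForm_self, sub_zero, hfa]
          have h2 : sympForm m F u (cp hD j v) = 0 := by
            rw [sympForm_cp_left hD u (cp_mem hD j v), hu, map_sub, map_sub,
              cp_of_mem hD (cp_mem hD j v), sub_self, cp_of_mem_ne hD hij ha', sub_zero]
            unfold sympForm
            rw [zero_dotProduct]
          rw [hw, sympForm_add_right, h1, h2, add_zero]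
          exact one_ne_zero
        have := hSadd u w huS hwS hf 1
        have e : u + (1 : F) • w = v := by
          rw [hu, hw, one_smul]; abel
        rw [e] at this
        exact this
      · apply ih
        intro i _
        apply hv
        have := i.isLt
        omega
  have hall : ∀ v : V, ∀ c, T v c ∈ M := fun v => hbuild t v (fun i hi => absurd i.isLt (by omega))
  rw [eq_top_iff, ← transvectionSubgroup_eq_top m F]
  unfold transvectionSubgroup
  rw [Subgroup.closure_le]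
  rintro B ⟨w, c, hB⟩
  have : B = T w c := Subtype.ext hB
  rw [this]
  exact hall w c

end Cfsg.Agent.Helper7.SpMax
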