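import Mathlib
import Cfsg.Agent.Helper7.SpMaxF

set_option autoImplicit false

/-! # Decomposition stabilisers in `Sp_{2m}(F)`: auxiliary facts -/

namespace Cfsg.Agent.Helper7.SpMax

open Matrix Cfsg Cfsg.Agent.Helper7.Symp

variable {F : Type*} [Field F] {m : ℕ}

local notation "V" => (Fin m ⊕ Fin m → F)
local notation "Sp" => Matrix.symplecticGroup (Fin m) F
local notation "MM" => Matrix (Fin m ⊕ Fin m) (Fin m ⊕ Fin m) F

variable {t : ℕ} {D : Fin t → Submodule F (Fin m ⊕ Fin m → F)}

theorem exists_ne_zero_of_finrank {k : ℕ} (hk0 : 0 < k) {W : Submodule F V}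
    (hW : Module.finrank F W = k) : ∃ d ∈ W, d ≠ 0 := by
  have : 0 < Module.finrank F W := by rw [hW]; exact hk0
  rw [Module.finrank_pos_iff_exists_ne_zero] at this
  obtain ⟨⟨b, hb⟩, hne⟩ := this
  exact ⟨b, hb, fun h => hne (Subtype.ext h)⟩

/-- A map sending a member into a member sends it onto that member. -/
theorem map_eq_of_maps {k : ℕ} (hk : ∀ i, Module.finrank F (D i) = k) (A : Sp) {i j : Fin t}
    (h : ∀ x ∈ D i, (A : MM) *ᵥ x ∈ D j) : (D i).map (lin A).toLinearMap = D j := by
  apply Submodule.eq_of_le_of_finrank_eq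
  · intro x hx
    obtain ⟨y, hy, rfl⟩ := Submodule.mem_map.mp hx
    exact h y hy
  · rw [LinearEquiv.finrank_map_eq, hk i, hk j]

/-- If every vector of every member is sent into some member, the members are permuted. -/
theorem perm_of_maps (hD : ODecomp D) {k : ℕ} (hk0 : 0 < k) (hk : ∀ i, Module.finrank F (D i) = k)
    (A : Sp) (h : ∀ i, ∀ x ∈ D i, ∃ j, (A : MM) *ᵥ x ∈ D j) :
    ∃ σ : Equiv.Perm (Fin t), ∀ i, ∀ x ∈ D i, (A : MM) *ᵥ x ∈ D (σ i) := by
  have hne : ∀ x : V, x ≠ 0 → (A : MM) *ᵥ x ≠ 0 := fun x hx hAx => hx (mulVec_injective A (by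
    change (A : MM) *ᵥ x = (A : MM) *ᵥ 0
    rw [hAx, mulVec_zero]))
  -- a uniform target for each member
  have hunif : ∀ i, ∃ j, ∀ x ∈ D i, (A : MM) *ᵥ x ∈ D j := by
    intro i
    obtain ⟨d₀, hd₀, hd₀0⟩ := exists_ne_zero_of_finrank hk0 (hk i)
    obtain ⟨j, hj⟩ := h i d₀ hd₀
    refine ⟨j, fun x hx => ?_⟩
    by_cases hx0 : x = 0
    · rw [hx0, mulVec_zero]; exact (D j).zero_mem
    obtain ⟨j', hj'⟩ := h i x hx
    obtain ⟨j'', hj''⟩ := h i (x + d₀) ((D i).add_mem hx hd₀)
    rw [mulVec_add] at hj''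
    by_cases hjj : j' = j
    · rw [← hjj]; exact hj'
    exfalso
    -- two non-zero components
    have c1 : cp hD j' ((A : MM) *ᵥ x + (A : MM) *ᵥ d₀) = (A : MM) *ᵥ x := by
      rw [map_add, cp_of_mem hD hj', cp_of_mem_ne hD (Ne.symm hjj) hj, add_zero]
    have c2 : cp hD j ((A : MM) *ᵥ x + (A : MM) *ᵥ d₀) = (A : MM) *ᵥ d₀ := by
      rw [map_add, cp_of_mem hD hj, cp_of_mem_ne hD hjj hj', zero_add]
    have e1 : j'' = j' := by
      by_contra hne'
      have := cp_of_mem_ne hD hne' hj''
      rw [c1] at this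
      exact hne x hx0 this
    have e2 : j'' = j := by
      by_contra hne'
      have := cp_of_mem_ne hD hne' hj''
      rw [c2] at this
      exact hne d₀ hd₀0 this
    exact hjj (e1.symm.trans e2)
  choose σ hσ using hunif
  have hinj : Function.Injective σ := by
    intro i i' hii
    by_contra hne'
    obtain ⟨d', hd', hd'0⟩ := exists_ne_zero_of_finrank hk0 (hk i')
    have h1 := map_eq_of_maps hk A (hσ i)
    have h2 : (A : MM) *ᵥ d' ∈ D (σ i) := by rw [hii]; exact hσ i' d' hd'
    rw [← h1] at h2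
    obtain ⟨y, hy, hyd⟩ := Submodule.mem_map.mp h2
    have : y = d' := mulVec_injective A hyd
    rw [this] at hy
    -- `d' ∈ D i ⊓ D i'`
    obtain ⟨x, hx, hfx⟩ := hD.nd i' d' hd' hd'0
    exact hfx (hD.orth i i' hne' d' hy x hx)
  exact ⟨Equiv.ofBijective σ ⟨hinj, Finite.surjective_of_injective hinj⟩, fun i x hx => hσ i x hx⟩

/-- Except for planes over the field with two elements, every non-zero vector of a member has a perpendicular
in the member different from `0` and itself. -/
theorem exists_perp_in_member [Fintype F] {k : ℕ} (hex : ¬ (k = 2 ∧ Fintype.card F = 2))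
    {W : Submodule F V} (hW : NDeg W) (hk : Module.finrank F W = k) {d : V} (hd : d ∈ W) (hd0 : d ≠ 0) :
    ∃ c ∈ W, c ≠ 0 ∧ c ≠ d ∧ sympForm m F d c = 0 := by
  classical
  by_cases hq : ∃ ν : F, ν ≠ 0 ∧ ν ≠ 1
  · obtain ⟨ν, hν0, hν1⟩ := hq
    refine ⟨ν • d, W.smul_mem ν hd, smul_ne_zero hν0 hd0, ?_, ?_⟩
    · intro h
      have : (ν - 1) • d = 0 := by rw [sub_smul, one_smul, h, sub_self]
      rcases smul_eq_zero.mp this with h' | h'
      · exact hν1 (sub_eq_zero.mp h')
      · exact hd0 h'
    · rw [sympForm_smul_right, sympForm_self, mul_zero]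
  · push Not at hq
    have hcard : Fintype.card F = 2 := by
      apply le_antisymm
      · have : (Finset.univ : Finset F) ⊆ {0, 1} := by
          intro ν _
          by_cases h0 : ν = 0
          · simp [h0]
          · simp [hq ν h0]
        calc Fintype.card F = (Finset.univ : Finset F).card := rfl
          _ ≤ ({0, 1} : Finset F).card := Finset.card_le_card this
          _ ≤ 2 := Finset.card_le_two
      · exact Fintype.one_lt_card
    have hk2 : k ≠ 2 := fun h => hex ⟨h, hcard⟩
    have hk1 : k ≠ 1 := by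
      intro h1
      rw [h1] at hk
      obtain ⟨x, hx, hfx⟩ := hW d hd hd0
      have := (finrank_eq_one_iff_of_nonzero' (⟨d, hd⟩ : W) (fun h => hd0 (congrArg Subtype.val h))).mp hk
        ⟨x, hx⟩
      obtain ⟨c, hc⟩ := this
      have hc' : c • d = x := congrArg Subtype.val hc
      rw [← hc', sympForm_smul_right, sympForm_self, mul_zero] at hfx
      exact hfx rfl
    have hk0 : k ≠ 0 := by
      intro h0
      rw [h0, Submodule.finrank_eq_zero] at hk
      rw [hk, Submodule.mem_bot] at hd
      exact hd0 hd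
    have hk3 : 3 ≤ k := by omega
    -- the perpendicular of `d` inside `W`
    set L : Submodule F V := Submodule.span F {d} with hL
    have hLdim : Module.finrank F L = 1 := finrank_span_singleton hd0
    have hPdim : Module.finrank F (perp L) = 2 * m - 1 := by rw [finrank_perp, hLdim]
    have hsum := Submodule.finrank_sup_add_finrank_inf_eq W (perp L)
    have htop : Module.finrank F (W ⊔ perp L : Submodule F V) ≤ 2 * m := by
      have := Submodule.finrank_le (W ⊔ perp L)
      rw [Module.finrank_pi] at this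
      simpa [two_mul] using this
    have h2m : 1 ≤ 2 * m := by
      have := Submodule.finrank_le L
      rw [Module.finrank_pi, hLdim] at this
      simpa [two_mul] using this
    have hKdim : 2 ≤ Module.finrank F (W ⊓ perp L : Submodule F V) := by omega
    have hc : ∃ c ∈ W ⊓ perp L, c ∉ L := by
      by_contra hcon
      push Not at hcon
      have hle : W ⊓ perp L ≤ L := hcon
      have := Submodule.finrank_mono hle
      omega
    obtain ⟨c, hcK, hcL⟩ := hc
    refine ⟨c, hcK.1, ?_, ?_, ?_⟩
    · rintro rfl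
      exact hcL L.zero_mem
    · rintro rfl
      exact hcL (Submodule.subset_span rfl)
    · exact (mem_perp.mp hcK.2) d (Submodule.subset_span rfl)

/-- A transvection that does not permute the members. -/
theorem exists_not_perm (hD : ODecomp D) {k : ℕ} (hk0 : 0 < k) (hk : ∀ i, Module.finrank F (D i) = k)
    {i j : Fin t} (hij : i ≠ j) :
    ∃ A : Sp, ¬ ∀ x ∈ D i, ∃ l, (A : MM) *ᵥ x ∈ D l := by
  obtain ⟨a, ha, ha0⟩ := exists_ne_zero_of_finrank hk0 (hk i)
  obtain ⟨a', ha', ha'0⟩ := exists_ne_zero_of_finrank hk0 (hk j)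
  obtain ⟨d, hd, hfd⟩ := hD.nd i a ha ha0
  have hda : sympForm m F d a ≠ 0 := by
    rw [sympForm_swap]; exact neg_ne_zero.mpr hfd
  refine ⟨T (a + a') 1, fun hcon => ?_⟩
  obtain ⟨l, hl⟩ := hcon d hd
  rw [T_mulVec, one_mul, sympForm_add_right, hD.orth i j hij d hd a' ha', add_zero] at hl
  have c1 : cp hD i (d + sympForm m F d a • (a + a')) = d + sympForm m F d a • a := by
    rw [map_add, map_smul, map_add, cp_of_mem hD hd, cp_of_mem hD ha, cp_of_mem_ne hD hij.symm ha',
      add_zero]
  have c2 : cp hD j (d + sympForm m F d a • (a + a')) = sympForm m F d a • a' := by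
    rw [map_add, map_smul, map_add, cp_of_mem_ne hD hij hd, cp_of_mem_ne hD hij ha, cp_of_mem hD ha',
      zero_add, zero_add]
  have e1 : l = i := by
    by_contra hne'
    have := cp_of_mem_ne hD hne' hl
    rw [c1] at this
    have h3 : sympForm m F (d + sympForm m F d a • a) a = 0 := by
      rw [this]; unfold sympForm; rw [zero_dotProduct]
    rw [sympForm_add_left, sympForm_smul_left, sympForm_self, mul_zero, add_zero] at h3
    exact hda h3
  have e2 : l = j := by
    by_contra hne'
    have := cp_of_mem_ne hD hne' hl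
    rw [c2] at this
    rcases smul_eq_zero.mp this with h' | h'
    · exact hda h'
    · exact ha'0 h'
  exact hij (e1.symm.trans e2)

end Cfsg.Agent.Helper7.SpMax
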