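import Cfsg.Agent.Helper5.TensA2S1

set_option autoImplicit false
set_option linter.unusedSectionVars false
set_option linter.unusedVariables false
set_option maxHeartbeats 800000

/-! `Sp(U) ⊗ O(W) < Sp(U ⊗ W)` (S5666), the case `dim U = 2`, step (S6) of helper4's direct route
(helper7): a pure linear algebra lemma choosing the pair `(y', e₁)` in `z^⊥`. -/

namespace Cfsg.Agent.Helper7.SpOA2

open Module

variable {F : Type*} [Field F] {U W : Type*} [AddCommGroup U] [Module F U]
  [AddCommGroup W] [Module F W]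

/-- (S6): if `K : W → U` maps `z^⊥` onto a set with trivial `f₁`-perp, there are
`y', e₁ ∈ z^⊥`, `y'` nonsingular, `e₁ ⊥ y'`, with `f₁ (K e₁) (K y') ≠ 0`. -/
theorem exists_pair_S6 [FiniteDimensional F W] (f₂ : LinearMap.BilinForm F W)
    (symm₂ : ∀ w w', f₂ w w' = f₂ w' w) (nd₂ : ∀ w, (∀ y, f₂ w y = 0) → w = 0)
    (h2 : (2 : F) ≠ 0) (hb : 4 ≤ finrank F W) (f₁ : LinearMap.BilinForm F U)
    (alt₁ : ∀ u, f₁ u u = 0) (nd₁ : ∀ u, (∀ v, f₁ u v = 0) → u = 0)
    (hU2 : finrank F U = 2) {z : W} (hz0 : z ≠ 0) (hzz : f₂ z z = 0) (K : W →ₗ[F] U)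
    (hK : ∀ a : U, (∀ w, f₂ w z = 0 → f₁ (K w) a = 0) → a = 0) :
    ∃ y' e₁ : W, f₂ y' z = 0 ∧ f₂ e₁ z = 0 ∧ f₂ y' y' ≠ 0 ∧ f₂ e₁ y' = 0 ∧
      f₁ (K e₁) (K y') ≠ 0 := by
  -- a nonsingular vector of `z^⊥`
  obtain ⟨y, hzy, hyy⟩ := Cfsg.Agent.Helper5.TensA2.exists_nonsing_perp f₂ symm₂ nd₂ h2
    (by omega) hz0
  have hyz : f₂ y z = 0 := by rw [symm₂, hzy]
  -- `U ≠ 0`
  obtain ⟨a₀, ha₀⟩ : ∃ a₀ : U, a₀ ≠ 0 := by
    by_contra hcon
    push Not at hcon
    have hsub : Subsingleton U := ⟨fun a b => by rw [hcon a, hcon b]⟩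
    have := finrank_zero_of_subsingleton (R := F) (M := U)
    omega
  -- Step 1: a nonsingular `y' ∈ z^⊥` with `K y' ≠ 0`
  obtain ⟨y', hy'z, hy'y', hKy'⟩ : ∃ y' : W, f₂ y' z = 0 ∧ f₂ y' y' ≠ 0 ∧ K y' ≠ 0 := by
    by_contra hcon
    push Not at hcon
    -- `K` vanishes on `z^⊥`
    have hK0 : ∀ w, f₂ w z = 0 → K w = 0 := by
      intro w hw
      by_cases hww : f₂ w w = 0
      · have hKy : K y = 0 := hcon y hyz hyy
        have hnorm : ∀ s : F, f₂ (w + s • y) (w + s • y) = 2 * s * f₂ w y + s * s * f₂ y y := by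
          intro s
          simp only [map_add, map_smul, LinearMap.add_apply, LinearMap.smul_apply, smul_eq_mul,
            hww, symm₂ y w]
          ring
        by_cases hp : f₂ (w + y) (w + y) = 0
        · -- then `w - y` is nonsingular
          have hm : f₂ (w + (-1 : F) • y) (w + (-1 : F) • y) ≠ 0 := by
            intro h0
            have e1 := hnorm 1
            rw [one_smul, hp] at e1
            rw [hnorm (-1)] at h0
            apply hyy
            have : 2 * f₂ y y = 0 := by linear_combination e1.symm + h0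
            rcases mul_eq_zero.mp this with h3 | h3
            · exact absurd h3 h2
            · exact h3
          have h4 := hcon (w + (-1 : F) • y)
            (by rw [map_add, map_smul, LinearMap.add_apply, LinearMap.smul_apply, hw, hyz,
              smul_zero, add_zero]) hm
          rw [map_add, map_smul, hKy, smul_zero, add_zero] at h4
          exact h4
        · have h4 := hcon (w + y)
            (by rw [map_add, LinearMap.add_apply, hw, hyz, add_zero]) hp
          rw [map_add, hKy, add_zero] at h4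
          exact h4
      · exact hcon w hw hww
    apply ha₀
    apply hK
    intro w hw
    rw [hK0 w hw, map_zero, LinearMap.zero_apply]
  -- Step 2
  by_contra hcon
  push Not at hcon
  apply hKy'
  apply hK
  intro w hw
  set c : F := f₂ w y' / f₂ y' y' with hc
  have he : f₂ (w - c • y') y' = 0 := by
    rw [map_sub, map_smul, LinearMap.sub_apply, LinearMap.smul_apply, smul_eq_mul, hc,
      div_mul_cancel₀ _ hy'y', sub_self]
  have hez : f₂ (w - c • y') z = 0 := by
    rw [map_sub, map_smul, LinearMap.sub_apply, LinearMap.smul_apply, hw, hy'z, smul_zero,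
      sub_zero]
  have h5 := hcon y' (w - c • y') hy'z hez hy'y' he
  rw [map_sub, map_smul, map_sub, LinearMap.sub_apply, map_smul, LinearMap.smul_apply, alt₁,
    smul_zero, sub_zero] at h5
  exact h5

end Cfsg.Agent.Helper7.SpOA2
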