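import Cfsg.Agent.Helper7.SpOStabC
import Cfsg.Agent.Helper3.SpOSimExt

set_option autoImplicit false
set_option linter.unusedSectionVars false
set_option linter.unusedVariables false
set_option maxHeartbeats 800000

/-! `Sp(U) ⊗ O(W) < Sp(U ⊗ W)` (S5666), leaf [STAB] (helper7): an element of `X` stabilising a
fibre `u ⊗ W` preserves the tensor decomposition, given that the centre `Q_S` of the unipotent
radical of the stabiliser of `S = u ⊗ W` meets `X` in the root group of `u` (`hLQ`) and that the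
elements of `X` in the unipotent radical `R_S` preserve the tensor decomposition (`hA2`). -/

namespace Cfsg.Agent.Helper6.SpO

open Module Cfsg.Agent.Helper7.ExtF Cfsg.Agent.Helper8.Tens

variable {F : Type*} [Field F] {U W V : Type*} [AddCommGroup U] [Module F U]
  [AddCommGroup W] [Module F W] [AddCommGroup V] [Module F V]
  {t : U →ₗ[F] W →ₗ[F] V} {B : LinearMap.BilinForm F V} {f₁ : LinearMap.BilinForm F U}
  {f₂ : LinearMap.BilinForm F W} {X : Subgroup (V ≃ₗ[F] V)}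
  [FiniteDimensional F U] [FiniteDimensional F W] [FiniteDimensional F V]

theorem stabU (ht : IsTensorProduct t) (h : Hyp t B f₁ f₂ X) (ha : 2 ≤ finrank F U)
    (hb : 3 ≤ finrank F W)
    (hLQ : ∀ u : U, u ≠ 0 → ∀ g ∈ X, InQU ht f₁ u g → ∃ c : F, g = yA ht f₁ h.alt₁ u c)
    (hA2 : ∀ u : U, u ≠ 0 → ∀ g ∈ X, InRU ht f₁ u g → IsTens t g)
    {u : U} (hu : u ≠ 0) {g : V ≃ₗ[F] V} (hg : g ∈ X) (hS : img g (fibU t u) = fibU t u) :
    IsTens t g := by
  obtain ⟨w₁, hw₁⟩ : ∃ w₁ : W, w₁ ≠ 0 := by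
    by_contra hcon
    push Not at hcon
    have hsub : Subsingleton W := ⟨fun a b => by rw [hcon a, hcon b]⟩
    have := finrank_zero_of_subsingleton (R := F) (M := W)
    omega
  obtain ⟨β, hβ⟩ := stabU_exists_beta ht hu hS
  obtain ⟨lam, hlam⟩ := stabU_exists_lambda ht h hu hg hβ (hLQ u hu)
  have hlam0 : lam ≠ 0 := stabU_lam_ne_zero ht h hu hlam hw₁
  have hsim₂ : ∀ w w', f₂ (β w) (β w') = lam * f₂ w w' := stabU_beta_sim ht h hu hg hβ hlam
  have hk : ∀ p x, f₁ p u = 0 → f₁ x u = 0 →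
      ∃ k : F, ∀ w, stabU_c ht f₁ p (g (t x w)) = k • β w :=
    fun p x hp hx => stabU_exists_k ht h hu hg hβ (hA2 u hu) hw₁ hp hx
  have hβw₁ : β w₁ ≠ 0 := fun h0 => hw₁ (β.map_eq_zero_iff.mp h0)
  obtain ⟨l₁, hl₁⟩ := exists_dual_eq_one (F := F) hβw₁
  obtain ⟨hA0u, hA0perp, hfib⟩ := stabU_A0_props ht h hu hg hβ hk hl₁
  have hA0sim := stabU_A0_sim ht h hu hg hlam0 hsim₂ hw₁ hA0perp hfib
  obtain ⟨A, hAu, hAsim, hAk⟩ := exists_sim_ext f₁ h.alt₁ h.nd₁ hu lam⁻¹ (inv_ne_zero hlam0)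
    (stabU_A0 ht g l₁ w₁) hA0u hA0perp hA0sim
  obtain ⟨hh, hhX, hht⟩ := h.movT A β lam⁻¹ hAsim
    (fun w w' => by rw [hsim₂, ← mul_assoc, inv_mul_cancel₀ hlam0, one_mul])
  have hhu : ∀ w, hh (t u w) = t u (β w) := fun w => by rw [hht, hAu]
  have hhinv : ∀ w, hh⁻¹ (t u w) = t u (β.symm w) := stabU_inv_fib hhu
  have hkX : hh⁻¹ * g ∈ X := X.mul_mem (X.inv_mem hhX) hg
  have hR : InRU ht f₁ u (hh⁻¹ * g) := by
    constructor
    · intro y hy
      obtain ⟨w, rfl⟩ := mem_fibU.mp hy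
      rw [LinearEquiv.mul_apply, hβ, hhinv, β.symm_apply_apply]
    · refine stabU_Sperp_induction ht h hu (p := fun v => (hh⁻¹ * g) v - v ∈ fibU t u) ?_ ?_ ?_
      · show (hh⁻¹ * g) 0 - 0 ∈ fibU t u
        rw [map_zero, sub_zero]; exact (fibU t u).zero_mem
      · intro a b ha' hb'
        show (hh⁻¹ * g) (a + b) - (a + b) ∈ fibU t u
        have e : (hh⁻¹ * g) (a + b) - (a + b) = ((hh⁻¹ * g) a - a) + ((hh⁻¹ * g) b - b) := by
          rw [map_add]; abel
        rw [e]; exact (fibU t u).add_mem ha' hb'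
      · intro x w hx
        show (hh⁻¹ * g) (t x w) - t x w ∈ fibU t u
        obtain ⟨z, hz⟩ := mem_fibU.mp (hfib x w hx)
        obtain ⟨k, hk'⟩ := hAk x hx
        have e : g (t x w) = hh (t x w) + t u (z - k • β w) := by
          have e1 : g (t x w) = t (stabU_A0 ht g l₁ w₁ x) (β w) + t u z := by rw [hz]; abel
          rw [e1, hht, hk', map_add, LinearMap.add_apply, map_sub, map_smul, map_smul,
            LinearMap.smul_apply]
          abel
        rw [LinearEquiv.mul_apply, e, map_add, stabU_inv_apply, hhinv, add_sub_cancel_left]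
        exact mem_fibU.mpr ⟨_, rfl⟩
  have hT : IsTens t (hh⁻¹ * g) := hA2 u hu _ hkX hR
  have hhT : IsTens t hh := ⟨A, β, hht⟩
  have e : g = hh * (hh⁻¹ * g) := by rw [mul_inv_cancel_left]
  rw [e]; exact hhT.mul ht hT

end Cfsg.Agent.Helper6.SpO
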