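import Cfsg.Agent.Helper6.SpOA

set_option autoImplicit false
set_option linter.unusedSectionVars false
set_option linter.unusedVariables false
set_option maxHeartbeats 800000

/-! `Sp(U) ⊗ O(W) < Sp(U ⊗ W)` (S5666), leaf [STAB], part A (helper7): contractions, the
perpendicular space of a fibre `u ⊗ W`, root elements and the elements `T_p ⊗ 1` of the unipotent
radical. -/

namespace Cfsg.Agent.Helper6.SpO

open Module Cfsg.Agent.Helper7.ExtF Cfsg.Agent.Helper8.Tens

variable {F : Type*} [Field F] {U W V : Type*} [AddCommGroup U] [Module F U]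
  [AddCommGroup W] [Module F W] [AddCommGroup V] [Module F V]
  {t : U →ₗ[F] W →ₗ[F] V} {B : LinearMap.BilinForm F V} {f₁ : LinearMap.BilinForm F U}
  {f₂ : LinearMap.BilinForm F W} {X : Subgroup (V ≃ₗ[F] V)}

/-- the contraction `c_x : t u' w ↦ f₁ u' x • w`. -/
noncomputable abbrev stabU_c (ht : IsTensorProduct t) (f₁ : LinearMap.BilinForm F U) (x : U) :
    V →ₗ[F] W := evU ht (f₁.flip x)

theorem stabU_c_t (ht : IsTensorProduct t) (x u' : U) (w : W) :
    stabU_c ht f₁ x (t u' w) = f₁ u' x • w := by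
  rw [stabU_c, evU_t]; rfl

theorem stabU_c_add (ht : IsTensorProduct t) (x y : U) (v : V) :
    stabU_c ht f₁ (x + y) v = stabU_c ht f₁ x v + stabU_c ht f₁ y v := by
  have : stabU_c ht f₁ (x + y) = stabU_c ht f₁ x + stabU_c ht f₁ y := by
    apply ext_pure ht; intro u' w
    rw [LinearMap.add_apply, stabU_c_t, stabU_c_t, stabU_c_t, map_add, add_smul]
  rw [this]; rfl

theorem stabU_c_smul (ht : IsTensorProduct t) (a : F) (x : U) (v : V) :
    stabU_c ht f₁ (a • x) v = a • stabU_c ht f₁ x v := by
  have : stabU_c ht f₁ (a • x) = a • stabU_c ht f₁ x := by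
    apply ext_pure ht; intro u' w
    rw [LinearMap.smul_apply, stabU_c_t, stabU_c_t, map_smul, smul_eq_mul, mul_smul]
  rw [this]; rfl

theorem stabU_skew (h : Hyp t B f₁ f₂ X) (x y : U) : f₁ x y = - f₁ y x := by
  have := h.alt₁ (x + y)
  simp only [map_add, LinearMap.add_apply, h.alt₁, zero_add, add_zero] at this
  exact eq_neg_of_add_eq_zero_right this

theorem stabU_skewB (h : Hyp t B f₁ f₂ X) (x y : V) : B x y = - B y x := by
  have := h.altB (x + y)
  simp only [map_add, LinearMap.add_apply, h.altB, zero_add, add_zero] at this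
  exact eq_neg_of_add_eq_zero_right this

/-- the form against a pure tensor. -/
theorem stabU_B_pure (ht : IsTensorProduct t) (h : Hyp t B f₁ f₂ X) (v : V) (x : U) (w : W) :
    B v (t x w) = f₂ (stabU_c ht f₁ x v) w := by
  have : B.flip (t x w) = (f₂.flip w).comp (stabU_c ht f₁ x) := by
    apply ext_pure ht; intro u' w'
    rw [LinearMap.comp_apply, stabU_c_t]
    show B (t u' w') (t x w) = f₂ (f₁ u' x • w') w
    rw [h.pol, map_smul, LinearMap.smul_apply, smul_eq_mul]
  exact LinearMap.congr_fun this v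

/-- a vector all of whose contractions vanish is zero. -/
theorem stabU_eq_zero_of_c (ht : IsTensorProduct t) (h : Hyp t B f₁ f₂ X) {v : V}
    (hv : ∀ x, stabU_c ht f₁ x v = 0) : v = 0 := by
  apply h.ndB
  intro v'
  refine ht.inductionOn v' ?_ ?_ ?_
  · rw [map_zero]
  · intro x w
    rw [stabU_B_pure ht h, hv, map_zero, LinearMap.zero_apply]
  · intro a b ha hb
    rw [map_add, ha, hb, add_zero]

/-- a partner of a non-zero vector. -/
theorem stabU_exists_partner (h : Hyp t B f₁ f₂ X) {u : U} (hu : u ≠ 0) :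
    ∃ us : U, f₁ us u = 1 := by
  by_contra hcon
  push Not at hcon
  apply hu
  apply h.nd₁
  intro y
  by_contra hy
  apply hcon ((f₁ y u)⁻¹ • y)
  rw [map_smul, LinearMap.smul_apply, smul_eq_mul, inv_mul_cancel₀]
  rw [stabU_skew h]
  exact neg_ne_zero.mpr hy

/-- membership in the perpendicular space. -/
theorem stabU_mem_Sperp (ht : IsTensorProduct t) {u : U} {v : V} :
    v ∈ SperpU ht f₁ u ↔ stabU_c ht f₁ u v = 0 := LinearMap.mem_ker

/-- induction principle for the perpendicular space `u^⊥ ⊗ W` of the fibre `u ⊗ W`. -/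
theorem stabU_Sperp_induction (ht : IsTensorProduct t) (h : Hyp t B f₁ f₂ X) {u : U} (hu : u ≠ 0)
    {p : V → Prop} (h0 : p 0) (hadd : ∀ x y, p x → p y → p (x + y))
    (hpure : ∀ x w, f₁ x u = 0 → p (t x w)) : ∀ v ∈ SperpU ht f₁ u, p v := by
  obtain ⟨us, hus⟩ := stabU_exists_partner h hu
  have key : ∀ v : V, p (v - t us (stabU_c ht f₁ u v)) := by
    intro v
    refine ht.inductionOn v ?_ ?_ ?_
    · simpa using h0
    · intro x w
      have e : t x w - t us (stabU_c ht f₁ u (t x w)) = t (x - f₁ x u • us) w := by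
        rw [stabU_c_t, map_smul, map_sub, map_smul, LinearMap.sub_apply, LinearMap.smul_apply]
      rw [e]
      apply hpure
      rw [map_sub, map_smul, LinearMap.sub_apply, LinearMap.smul_apply, hus, smul_eq_mul, mul_one,
        sub_self]
    · intro a b ha hb
      have e : a + b - t us (stabU_c ht f₁ u (a + b)) =
          (a - t us (stabU_c ht f₁ u a)) + (b - t us (stabU_c ht f₁ u b)) := by
        rw [map_add, map_add]; abel
      rw [e]
      exact hadd _ _ ha hb
  intro v hv
  have := key v
  rwa [(stabU_mem_Sperp ht).mp hv, map_zero, sub_zero] at this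

/-- a vector whose contractions with `u^⊥` vanish lies in the fibre `u ⊗ W`. -/
theorem stabU_mem_fib_of_c (ht : IsTensorProduct t) (h : Hyp t B f₁ f₂ X) {u : U} (hu : u ≠ 0)
    {v : V} (hv : ∀ p, f₁ p u = 0 → stabU_c ht f₁ p v = 0) : v ∈ fibU t u := by
  obtain ⟨us, hus⟩ := stabU_exists_partner h hu
  have hus' : f₁ u us = -1 := by rw [stabU_skew h, hus]
  set z : W := stabU_c ht f₁ us v with hz
  have hv' : v + t u z = 0 := by
    apply stabU_eq_zero_of_c ht h
    intro p
    -- decompose `p = p' + a • us`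
    have hp : p = (p - f₁ p u • us) + f₁ p u • us := by abel
    have hp' : f₁ (p - f₁ p u • us) u = 0 := by
      rw [map_sub, map_smul, LinearMap.sub_apply, LinearMap.smul_apply, hus, smul_eq_mul, mul_one,
        sub_self]
    rw [hp, stabU_c_add, stabU_c_smul, map_add, map_add, stabU_c_t, stabU_c_t, hv _ hp', zero_add,
      hus', ← hz, neg_smul, one_smul, smul_add, smul_neg, add_neg_cancel, add_zero]
    -- the remaining term: `f₁ u (p - f₁ p u • us) • z = 0`
    rw [stabU_skew h u, hp', neg_zero, zero_smul]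
  rw [mem_fibU]
  refine ⟨-z, ?_⟩
  rw [map_neg]
  exact (eq_neg_of_add_eq_zero_left hv').symm

end Cfsg.Agent.Helper6.SpO
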