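import Cfsg.Agent.Helper7.SpOStabB

set_option autoImplicit false
set_option linter.unusedSectionVars false
set_option linter.unusedVariables false
set_option maxHeartbeats 800000

/-! `Sp(U) ⊗ O(W) < Sp(U ⊗ W)` (S5666), leaf [STAB], part C (helper7): an element `g` of `X`
stabilising the fibre `u ⊗ W`: the induced similitude `β` of `W`, its multiplier, and the shape of
`g` on the perpendicular space `u^⊥ ⊗ W`. -/

namespace Cfsg.Agent.Helper6.SpO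

open Module Cfsg.Agent.Helper7.ExtF Cfsg.Agent.Helper8.Tens

variable {F : Type*} [Field F] {U W V : Type*} [AddCommGroup U] [Module F U]
  [AddCommGroup W] [Module F W] [AddCommGroup V] [Module F V]
  {t : U →ₗ[F] W →ₗ[F] V} {B : LinearMap.BilinForm F V} {f₁ : LinearMap.BilinForm F U}
  {f₂ : LinearMap.BilinForm F W} {X : Subgroup (V ≃ₗ[F] V)}

theorem stabU_inv_apply (g : V ≃ₗ[F] V) (v : V) : g⁻¹ (g v) = v := by
  rw [← LinearEquiv.mul_apply g⁻¹ g, inv_mul_cancel]; rfl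

theorem stabU_apply_inv (g : V ≃ₗ[F] V) (v : V) : g (g⁻¹ v) = v := by
  rw [← LinearEquiv.mul_apply g g⁻¹, mul_inv_cancel]; rfl

/-- the inverse on the fibre. -/
theorem stabU_inv_fib {u : U} {g : V ≃ₗ[F] V} {β : W ≃ₗ[F] W}
    (hβ : ∀ w, g (t u w) = t u (β w)) (w : W) : g⁻¹ (t u w) = t u (β.symm w) := by
  have := hβ (β.symm w)
  rw [β.apply_symm_apply] at this
  rw [← this, stabU_inv_apply]

/-- `(♠)`: the contraction with `u` before and after `g`. -/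
theorem stabU_spade (ht : IsTensorProduct t) (h : Hyp t B f₁ f₂ X) {u : U} {g : V ≃ₗ[F] V}
    (hg : g ∈ X) {β : W ≃ₗ[F] W} (hβ : ∀ w, g (t u w) = t u (β w)) (v : V) (w : W) :
    f₂ (stabU_c ht f₁ u (g v)) (β w) = f₂ (stabU_c ht f₁ u v) w := by
  rw [← stabU_B_pure ht h, ← stabU_B_pure ht h, ← hβ, h.isom g hg]

/-- `g` preserves the perpendicular space of the fibre, in both directions. -/
theorem stabU_c_g_eq_zero_iff (ht : IsTensorProduct t) (h : Hyp t B f₁ f₂ X) {u : U}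
    {g : V ≃ₗ[F] V} (hg : g ∈ X) {β : W ≃ₗ[F] W} (hβ : ∀ w, g (t u w) = t u (β w)) (v : V) :
    stabU_c ht f₁ u (g v) = 0 ↔ stabU_c ht f₁ u v = 0 := by
  constructor
  · intro h0
    apply h.nd₂; intro w
    rw [← stabU_spade ht h hg hβ, h0, map_zero, LinearMap.zero_apply]
  · intro h0
    apply h.nd₂; intro w
    have := stabU_spade ht h hg hβ v (β.symm w)
    rw [β.apply_symm_apply, h0, map_zero, LinearMap.zero_apply] at this
    exact this

/-- the multiplier of `β`, from the conjugate of the root group of `u`. -/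
theorem stabU_exists_lambda (ht : IsTensorProduct t) (h : Hyp t B f₁ f₂ X) {u : U} (hu : u ≠ 0)
    {g : V ≃ₗ[F] V} (hg : g ∈ X) {β : W ≃ₗ[F] W} (hβ : ∀ w, g (t u w) = t u (β w))
    (hLQ : ∀ g ∈ X, InQU ht f₁ u g → ∃ c : F, g = yA ht f₁ h.alt₁ u c) :
    ∃ lam : F, ∀ v, β (stabU_c ht f₁ u v) = lam • stabU_c ht f₁ u (g v) := by
  have hy : g * yA ht f₁ h.alt₁ u 1 * g⁻¹ ∈ X :=
    X.mul_mem (X.mul_mem hg (stabU_yA_mem ht h u 1)) (X.inv_mem hg)
  have hQ : InQU ht f₁ u (g * yA ht f₁ h.alt₁ u 1 * g⁻¹) := by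
    intro x hx
    have hx' : stabU_c ht f₁ u (g⁻¹ x) = 0 := by
      rw [← stabU_c_g_eq_zero_iff ht h hg hβ, stabU_apply_inv]
      exact (stabU_mem_Sperp ht).mp hx
    rw [LinearEquiv.mul_apply, LinearEquiv.mul_apply, stabU_yA_apply ht h, hx', smul_zero, map_zero,
      add_zero, stabU_apply_inv]
  obtain ⟨lam, hlam⟩ := hLQ _ hy hQ
  refine ⟨lam, fun v => ?_⟩
  have e : (g * yA ht f₁ h.alt₁ u 1 * g⁻¹) (g v) = yA ht f₁ h.alt₁ u lam (g v) := by rw [hlam]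
  rw [LinearEquiv.mul_apply, LinearEquiv.mul_apply, stabU_inv_apply, stabU_yA_apply ht h,
    stabU_yA_apply ht h, one_smul, map_add, hβ] at e
  exact t_right_injective ht hu (add_left_cancel e)

/-- `β` is a similitude of `f₂` with multiplier `lam`. -/
theorem stabU_beta_sim (ht : IsTensorProduct t) (h : Hyp t B f₁ f₂ X) {u : U} (hu : u ≠ 0)
    {g : V ≃ₗ[F] V} (hg : g ∈ X) {β : W ≃ₗ[F] W} (hβ : ∀ w, g (t u w) = t u (β w)) {lam : F}
    (hlam : ∀ v, β (stabU_c ht f₁ u v) = lam • stabU_c ht f₁ u (g v)) (w w' : W) :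
    f₂ (β w) (β w') = lam * f₂ w w' := by
  obtain ⟨us, hus⟩ := stabU_exists_partner h hu
  have e1 : stabU_c ht f₁ u (t us w) = w := by rw [stabU_c_t, hus, one_smul]
  have e2 := hlam (t us w)
  rw [e1] at e2
  rw [e2, map_smul, LinearMap.smul_apply, smul_eq_mul, stabU_spade ht h hg hβ, e1]

theorem stabU_lam_ne_zero (ht : IsTensorProduct t) (h : Hyp t B f₁ f₂ X) {u : U} (hu : u ≠ 0)
    {g : V ≃ₗ[F] V} {β : W ≃ₗ[F] W} {lam : F}
    (hlam : ∀ v, β (stabU_c ht f₁ u v) = lam • stabU_c ht f₁ u (g v)) {w₁ : W} (hw₁ : w₁ ≠ 0) :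
    lam ≠ 0 := by
  intro h0
  obtain ⟨us, hus⟩ := stabU_exists_partner h hu
  have e2 := hlam (t us w₁)
  rw [stabU_c_t, hus, one_smul, h0, zero_smul] at e2
  exact hw₁ (β.map_eq_zero_iff.mp e2)

section

variable [FiniteDimensional F U] [FiniteDimensional F W] [FiniteDimensional F V]

/-- the automorphism of `W` induced on the stabilised fibre. -/
theorem stabU_exists_beta (ht : IsTensorProduct t) {u : U} (hu : u ≠ 0) {g : V ≃ₗ[F] V}
    (hS : img g (fibU t u) = fibU t u) : ∃ β : W ≃ₗ[F] W, ∀ w, g (t u w) = t u (β w) := by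
  obtain ⟨A, hA⟩ := exists_A (Cfsg.Agent.Helper9.TensFlip.isTP_flip ht) hu hS
  exact ⟨A, fun w => hA w⟩

/-- `(♦)`: for `p, x ⊥ u` the contraction with `p` of `g (x ⊗ w)` is a fixed multiple of `β w`. -/
theorem stabU_exists_k (ht : IsTensorProduct t) (h : Hyp t B f₁ f₂ X) {u : U} (hu : u ≠ 0)
    {g : V ≃ₗ[F] V} (hg : g ∈ X) {β : W ≃ₗ[F] W} (hβ : ∀ w, g (t u w) = t u (β w))
    (hA2 : ∀ g ∈ X, InRU ht f₁ u g → IsTens t g) {w₁ : W} (hw₁ : w₁ ≠ 0)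
    {p x : U} (hp : f₁ p u = 0) (hx : f₁ x u = 0) :
    ∃ k : F, ∀ w, stabU_c ht f₁ p (g (t x w)) = k • β w := by
  set r := stabU_r ht f₁ h.alt₁ u p with hr
  have hginv : ∀ w, g⁻¹ (t u w) = t u (β.symm w) := stabU_inv_fib hβ
  have hy : g⁻¹ * r * g ∈ X := X.mul_mem (X.mul_mem (X.inv_mem hg) (stabU_r_mem ht h u p)) hg
  have hsub : ∀ v ∈ SperpU ht f₁ u,
      (g⁻¹ * r * g) v - v = t u (β.symm (stabU_c ht f₁ p (g v))) := by
    intro v hv
    have hgv : g v ∈ SperpU ht f₁ u := by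
      rw [stabU_mem_Sperp, stabU_c_g_eq_zero_iff ht h hg hβ]
      exact (stabU_mem_Sperp ht).mp hv
    have e := stabU_r_sub ht h hu hp (g v) hgv
    have e' : r (g v) = g v + t u (stabU_c ht f₁ p (g v)) := by rw [← e]; abel
    rw [LinearEquiv.mul_apply, LinearEquiv.mul_apply, e', map_add, stabU_inv_apply, hginv,
      add_sub_cancel_left]
  have hR : InRU ht f₁ u (g⁻¹ * r * g) := by
    constructor
    · intro y hy
      obtain ⟨w, rfl⟩ := mem_fibU.mp hy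
      rw [LinearEquiv.mul_apply, LinearEquiv.mul_apply, hβ, hr, stabU_r_fix ht h hp, hginv,
        β.symm_apply_apply]
    · intro y hy
      rw [hsub y hy]; exact mem_fibU.mpr ⟨_, rfl⟩
  have hT := hA2 _ hy hR
  obtain ⟨A, hA, hAu⟩ := stabU_isTens_fix ht hu hw₁ hT
    (fun w => hR.1 _ (mem_fibU.mpr ⟨w, rfl⟩))
  have hmem : ∀ w, t x w ∈ SperpU ht f₁ u := fun w => by
    rw [stabU_mem_Sperp, stabU_c_t, hx, zero_smul]
  have key : ∀ w, t (A x - x) w = t u (β.symm (stabU_c ht f₁ p (g (t x w)))) := by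
    intro w
    rw [← hsub _ (hmem w), hA, map_sub, LinearMap.sub_apply]
  obtain ⟨k, hk⟩ : ∃ k : F, A x - x = k • u := by
    have hin : t.flip w₁ (A x - x) ∈ fib t.flip u := by
      show t (A x - x) w₁ ∈ fibU t u
      rw [key]; exact mem_fibU.mpr ⟨_, rfl⟩
    exact span_of_t_mem_fib (Cfsg.Agent.Helper9.TensFlip.isTP_flip ht) hw₁ hin
  refine ⟨k, fun w => ?_⟩
  have e := key w
  rw [hk, map_smul, LinearMap.smul_apply, ← map_smul] at e
  have e2 := t_right_injective ht hu e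
  rw [← map_smul, e2, β.apply_symm_apply]

end

/-- the candidate for the `U`-component of `g` on `u^⊥`. -/
noncomputable def stabU_A0 (ht : IsTensorProduct t) (g : V ≃ₗ[F] V) (l₁ : Module.Dual F W)
    (w₁ : W) : U →ₗ[F] U :=
  (ev ht l₁).comp ((g : V →ₗ[F] V).comp (t.flip w₁))

theorem stabU_A0_apply (ht : IsTensorProduct t) (g : V ≃ₗ[F] V) (l₁ : Module.Dual F W)
    (w₁ : W) (x : U) : stabU_A0 ht g l₁ w₁ x = ev ht l₁ (g (t x w₁)) := rfl

theorem stabU_A0_props (ht : IsTensorProduct t) (h : Hyp t B f₁ f₂ X) {u : U} (hu : u ≠ 0)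
    {g : V ≃ₗ[F] V} (hg : g ∈ X) {β : W ≃ₗ[F] W} (hβ : ∀ w, g (t u w) = t u (β w))
    (hk : ∀ p x, f₁ p u = 0 → f₁ x u = 0 →
      ∃ k : F, ∀ w, stabU_c ht f₁ p (g (t x w)) = k • β w)
    {l₁ : Module.Dual F W} {w₁ : W} (hl₁ : l₁ (β w₁) = 1) :
    stabU_A0 ht g l₁ w₁ u = u ∧
    (∀ x, f₁ x u = 0 → f₁ (stabU_A0 ht g l₁ w₁ x) u = 0) ∧
    (∀ x w, f₁ x u = 0 → g (t x w) - t (stabU_A0 ht g l₁ w₁ x) (β w) ∈ fibU t u) := by
  refine ⟨?_, ?_, ?_⟩
  · rw [stabU_A0_apply, hβ, ev_t, hl₁, one_smul]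
  · intro x hx
    rw [stabU_A0_apply, stabU_ev_c]
    have : stabU_c ht f₁ u (g (t x w₁)) = 0 := by
      rw [stabU_c_g_eq_zero_iff ht h hg hβ, stabU_c_t, hx, zero_smul]
    rw [this, map_zero]
  · intro x w hx
    apply stabU_mem_fib_of_c ht h hu
    intro p hp
    obtain ⟨k, hk'⟩ := hk p x hp hx
    have e : f₁ (stabU_A0 ht g l₁ w₁ x) p = k := by
      rw [stabU_A0_apply, stabU_ev_c, hk' w₁, map_smul, hl₁, smul_eq_mul, mul_one]
    rw [map_sub, hk' w, stabU_c_t, e, sub_self]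

theorem stabU_A0_sim (ht : IsTensorProduct t) (h : Hyp t B f₁ f₂ X) {u : U} (hu : u ≠ 0)
    {g : V ≃ₗ[F] V} (hg : g ∈ X) {β : W ≃ₗ[F] W} {lam : F} (hlam0 : lam ≠ 0)
    (hsim₂ : ∀ w w', f₂ (β w) (β w') = lam * f₂ w w') {w₁ : W} (hw₁ : w₁ ≠ 0)
    {A₀ : U →ₗ[F] U} (hA0u : ∀ x, f₁ x u = 0 → f₁ (A₀ x) u = 0)
    (hfib : ∀ x w, f₁ x u = 0 → g (t x w) - t (A₀ x) (β w) ∈ fibU t u) :
    ∀ x y, f₁ x u = 0 → f₁ y u = 0 → f₁ (A₀ x) (A₀ y) = lam⁻¹ * f₁ x y := by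
  intro x y hx hy
  obtain ⟨w', hw'⟩ : ∃ w', f₂ w₁ w' ≠ 0 := by
    by_contra hcon
    push Not at hcon
    exact hw₁ (h.nd₂ w₁ hcon)
  obtain ⟨z, hz⟩ := mem_fibU.mp (hfib x w₁ hx)
  obtain ⟨z', hz'⟩ := mem_fibU.mp (hfib y w' hy)
  have e1 : g (t x w₁) = t (A₀ x) (β w₁) + t u z := by rw [hz]; abel
  have e2 : g (t y w') = t (A₀ y) (β w') + t u z' := by rw [hz']; abel
  have e := h.isom g hg (t x w₁) (t y w')
  have hu1 : f₁ u (A₀ y) = 0 := by rw [stabU_skew h, hA0u y hy, neg_zero]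
  rw [e1, e2] at e
  simp only [map_add, LinearMap.add_apply, h.pol, hA0u x hx, hu1, h.alt₁, zero_mul, add_zero,
    hsim₂] at e
  have e3 : lam * f₁ (A₀ x) (A₀ y) = f₁ x y := by
    apply mul_right_cancel₀ hw'
    linear_combination e
  rw [← e3, ← mul_assoc, inv_mul_cancel₀ hlam0, one_mul]

end Cfsg.Agent.Helper6.SpO
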