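import Mathlib
import Cfsg.Agent.Helper7.SpMaxG

set_option autoImplicit false
set_option linter.unusedSectionVars false

/-! Pairs of complementary totally isotropic subspaces of the standard symplectic space: basic
geometry and the Siegel-type elements (helper7). -/

namespace Cfsg.Agent.Helper7.SpPair

open Matrix Cfsg Cfsg.Agent.Helper7.Symp Cfsg.Agent.Helper7.SpMax

variable {K : Type*} [Field K] {m : ℕ}

local notation "V" => (Fin m ⊕ Fin m → K)
local notation "Sp" => Matrix.symplecticGroup (Fin m) K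
local notation "MM" => Matrix (Fin m ⊕ Fin m) (Fin m ⊕ Fin m) K

/-- a vector outside a subspace is separated from it by the form. -/
theorem exists_perp_of_not_mem {X : Submodule K V} {e : V} (h : e ∉ X) :
    ∃ z : V, (∀ x ∈ X, sympForm m K x z = 0) ∧ sympForm m K e z ≠ 0 := by
  by_contra hcon
  push Not at hcon
  apply h
  apply mem_of_double_perp
  intro x hx
  rw [sympForm_swap, hcon x hx, neg_zero]

/-- a pair of complementary totally isotropic subspaces. -/
structure LPair (E F : Submodule K (Fin m ⊕ Fin m → K)) : Prop where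
  tsE : ∀ x ∈ E, ∀ y ∈ E, sympForm m K x y = 0
  tsF : ∀ x ∈ F, ∀ y ∈ F, sympForm m K x y = 0
  inf : E ⊓ F = ⊥
  sup : E ⊔ F = ⊤

namespace LPair

variable {E F : Submodule K (Fin m ⊕ Fin m → K)} (hd : LPair E F)

include hd

theorem symm : LPair F E :=
  ⟨hd.tsF, hd.tsE, by rw [inf_comm]; exact hd.inf, by rw [sup_comm]; exact hd.sup⟩

theorem exists_dec (x : V) : ∃ e ∈ E, ∃ f ∈ F, x = e + f := by
  have : x ∈ E ⊔ F := by rw [hd.sup]; trivial
  obtain ⟨e, he, f, hf, h⟩ := Submodule.mem_sup.mp this
  exact ⟨e, he, f, hf, h.symm⟩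

theorem eq_of_add_eq {e e' f f' : V} (he : e ∈ E) (he' : e' ∈ E) (hf : f ∈ F) (hf' : f' ∈ F)
    (h : e + f = e' + f') : e = e' ∧ f = f' := by
  have h1 : e - e' = f' - f := by
    rw [sub_eq_sub_iff_add_eq_add, h, add_comm]
  have h2 : e - e' ∈ E ⊓ F := ⟨E.sub_mem he he', by rw [h1]; exact F.sub_mem hf' hf⟩
  rw [hd.inf, Submodule.mem_bot] at h2
  refine ⟨sub_eq_zero.mp h2, ?_⟩
  rw [h2] at h1
  exact (sub_eq_zero.mp h1.symm).symm

theorem eq_zero_of_mem_of_mem {x : V} (hE : x ∈ E) (hF : x ∈ F) : x = 0 := by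
  have : x ∈ E ⊓ F := ⟨hE, hF⟩
  rw [hd.inf] at this
  exact (Submodule.mem_bot K).mp this

/-- a vector orthogonal to `E` lies in `E`. -/
theorem mem_E_of_perp {z : V} (h : ∀ x ∈ E, sympForm m K x z = 0) : z ∈ E := by
  obtain ⟨e, he, f, hf, rfl⟩ := hd.exists_dec z
  have hf0 : f = 0 := by
    by_contra hne
    obtain ⟨y, hy⟩ := exists_sympForm_ne_zero hne
    apply hy
    obtain ⟨e', he', f', hf', rfl⟩ := hd.exists_dec y
    rw [sympForm_add_right, hd.tsF f hf f' hf', add_zero]
    have := h e' he'
    rw [sympForm_add_right, hd.tsE e' he' e he, zero_add] at this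
    rw [sympForm_swap, this, neg_zero]
  rw [hf0, add_zero]
  exact he

theorem mem_F_of_perp {z : V} (h : ∀ x ∈ F, sympForm m K x z = 0) : z ∈ F :=
  hd.symm.mem_E_of_perp h

/-- a vector of `F` separating `e ∈ E` from a subspace `A` of `E`. -/
theorem exists_dual_in {A : Submodule K V} (hA : A ≤ E) {e : V} (he : e ∈ E) (hne : e ∉ A) :
    ∃ b ∈ F, (∀ x ∈ A, sympForm m K x b = 0) ∧ sympForm m K e b ≠ 0 := by
  have h1 : e ∉ A ⊔ F := by
    intro h
    obtain ⟨a, ha, f, hf, h2⟩ := Submodule.mem_sup.mp h
    have h3 := hd.eq_of_add_eq (hA ha) he hf F.zero_mem (by rw [h2, add_zero])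
    apply hne
    rw [← h3.1]
    exact ha
  obtain ⟨z, hz, hez⟩ := exists_perp_of_not_mem h1
  refine ⟨z, hd.mem_F_of_perp (fun x hx => hz x (Submodule.mem_sup_right hx)),
    fun x hx => hz x (Submodule.mem_sup_left hx), hez⟩

/-- the Siegel-type elements of the pair preserve `E`. -/
theorem siegel_mem_E {a b : V} (ha : a ∈ E) (hb : b ∈ F) (hab : sympForm m K a b = 0)
    {x : V} (hx : x ∈ E) : (siegel a b : MM) *ᵥ x ∈ E := by
  rw [siegel_mulVec hab, hd.tsE x hx a ha, zero_smul, zero_add]
  exact E.add_mem hx (E.smul_mem _ ha)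

/-- the Siegel-type elements of the pair preserve `F`. -/
theorem siegel_mem_F {a b : V} (ha : a ∈ E) (hb : b ∈ F) (hab : sympForm m K a b = 0)
    {x : V} (hx : x ∈ F) : (siegel a b : MM) *ᵥ x ∈ F := by
  rw [siegel_mulVec hab, hd.tsF x hx b hb, zero_smul, add_zero]
  exact F.add_mem hx (F.smul_mem _ hb)

end LPair

/-- conjugating a Siegel-type element. -/
theorem conj_siegel (g : Sp) (a b : V) :
    g * siegel a b * g⁻¹ = siegel ((g : MM) *ᵥ a) ((g : MM) *ᵥ b) := by
  unfold siegel
  rw [prodT_cons, prodT_cons, prodT_cons, prodT_nil, prodT_cons, prodT_cons, prodT_cons, prodT_nil,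
    mul_one, mul_one, ← mulVec_add, ← conj_T, ← conj_T, ← conj_T]
  group

theorem siegel_symm {a b : V} (hab : sympForm m K a b = 0) : siegel a b = siegel b a := by
  have hba : sympForm m K b a = 0 := by rw [sympForm_swap, hab, neg_zero]
  apply ext_mulVec
  intro x
  rw [siegel_mulVec hab, siegel_mulVec hba, add_comm (sympForm m K x a • b)]

/-- the cocycle of the Siegel-type elements at `a`. -/
theorem siegel_mul {a b b' : V} (hab : sympForm m K a b = 0) (hab' : sympForm m K a b' = 0) :
    siegel a b * siegel a b' = T a (sympForm m K b' b) * siegel a (b + b') := by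
  have hab'' : sympForm m K a (b + b') = 0 := by rw [sympForm_add_right, hab, hab', add_zero]
  have hba : sympForm m K b a = 0 := by rw [sympForm_swap, hab, neg_zero]
  have hb'a : sympForm m K b' a = 0 := by rw [sympForm_swap, hab', neg_zero]
  apply ext_mulVec
  intro x
  rw [coe_mul_mulVec, coe_mul_mulVec, siegel_mulVec hab', siegel_mulVec hab, siegel_mulVec hab'',
    T_mulVec]
  simp only [sympForm_add_left, sympForm_add_right, sympForm_smul_left, sympForm_self, hba, hb'a,
    hab, mul_zero, add_zero]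
  module

theorem siegel_add {a b b' : V} (hab : sympForm m K a b = 0) (hab' : sympForm m K a b' = 0)
    (hbb' : sympForm m K b' b = 0) : siegel a (b + b') = siegel a b * siegel a b' := by
  rw [siegel_mul hab hab', hbb', T_zero_right, one_mul]

theorem siegel_self_smul (a : V) (c : K) : siegel a (c • a) = T a (2 * c) := by
  have haa : sympForm m K a (c • a) = 0 := by rw [sympForm_smul_right, sympForm_self, mul_zero]
  apply ext_mulVec
  intro x
  rw [siegel_mulVec haa, T_mulVec, sympForm_smul_right]
  module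

theorem siegel_zero (a : V) : siegel a (0 : V) = 1 := by
  have := siegel_self_smul a (0 : K)
  rw [zero_smul, mul_zero, T_zero_right] at this
  exact this

theorem siegel_smul_left {a b : V} (hab : sympForm m K a b = 0) (t : K) :
    siegel (t • a) b = siegel a (t • b) := by
  have h1 : sympForm m K (t • a) b = 0 := by rw [sympForm_smul_left, hab, mul_zero]
  have h2 : sympForm m K a (t • b) = 0 := by rw [sympForm_smul_right, hab, mul_zero]
  apply ext_mulVec
  intro x
  rw [siegel_mulVec h1, siegel_mulVec h2, sympForm_smul_right, sympForm_smul_right]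
  module

/-- a Siegel-type element fixes the vectors orthogonal to its parameters. -/
theorem siegel_fix {a b x : V} (hab : sympForm m K a b = 0) (hxa : sympForm m K x a = 0)
    (hxb : sympForm m K x b = 0) : (siegel a b : MM) *ᵥ x = x := by
  rw [siegel_mulVec hab, hxa, hxb, zero_smul, zero_smul, add_zero, add_zero]

end Cfsg.Agent.Helper7.SpPair
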