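import Mathlib
import Cfsg.Agent.Helper7.SpPairA
import Cfsg.Agent.Helper8.MaxSingular

set_option autoImplicit false
set_option linter.unusedSectionVars false

/-! Overgroups of the stabiliser of a pair of complementary totally isotropic subspaces in the
symplectic group: from one extra Siegel-type element to the root groups (helper7). -/

namespace Cfsg.Agent.Helper7.SpPair

open Matrix Module Cfsg Cfsg.Agent.Helper7.Symp Cfsg.Agent.Helper7.SpMax

variable {K : Type*} [Field K] {m : ℕ}

local notation "V" => (Fin m ⊕ Fin m → K)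
local notation "Sp" => Matrix.symplecticGroup (Fin m) K
local notation "MM" => Matrix (Fin m ⊕ Fin m) (Fin m ⊕ Fin m) K

variable {E F : Submodule K (Fin m ⊕ Fin m → K)} (hd : LPair E F)
  (H : Subgroup (Matrix.symplecticGroup (Fin m) K))
  (hPM : ∀ A : Matrix.symplecticGroup (Fin m) K,
    (∀ x ∈ E, (A : Matrix (Fin m ⊕ Fin m) (Fin m ⊕ Fin m) K) *ᵥ x ∈ E) →
    (∀ x ∈ F, (A : Matrix (Fin m ⊕ Fin m) (Fin m ⊕ Fin m) K) *ᵥ x ∈ F) → A ∈ H)

include hd hPM in
theorem siegel_pair_mem {a b : V} (ha : a ∈ E) (hb : b ∈ F) (hab : sympForm m K a b = 0) :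
    siegel a b ∈ H :=
  hPM _ (fun _ hx => hd.siegel_mem_E ha hb hab hx) (fun _ hx => hd.siegel_mem_F ha hb hab hx)

include hd in
/-- the vectors `e` of `E` with all `siegel a (c • e)` in `H`. -/
def ZY {a : V} (ha : a ∈ E) : Submodule K V where
  carrier := {e | e ∈ E ∧ ∀ c : K, siegel a (c • e) ∈ H}
  add_mem' := by
    rintro x y ⟨hx, hx'⟩ ⟨hy, hy'⟩
    refine ⟨E.add_mem hx hy, fun c => ?_⟩
    rw [smul_add, siegel_add (hd.tsE a ha _ (E.smul_mem c hx)) (hd.tsE a ha _ (E.smul_mem c hy))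
      (hd.tsE _ (E.smul_mem c hy) _ (E.smul_mem c hx))]
    exact H.mul_mem (hx' c) (hy' c)
  zero_mem' := by
    refine ⟨E.zero_mem, fun c => ?_⟩
    rw [smul_zero, siegel_zero]
    exact H.one_mem
  smul_mem' := by
    rintro t x ⟨hx, hx'⟩
    refine ⟨E.smul_mem t hx, fun c => ?_⟩
    rw [smul_smul]
    exact hx' _

include hd hPM in
/-- all transvections at `a`, from one Siegel-type element inside `E`. -/
theorem T_mem_of_extra (h2 : (2 : K) ≠ 0) {a y : V} (ha : a ∈ E) (hy : y ∈ E)
    (hyn : y ∉ Submodule.span K {a}) (hs : siegel a y ∈ H) : ∀ c : K, T a c ∈ H := by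
  intro c
  obtain ⟨b, hb, hperp, hyb⟩ := hd.exists_dual_in
    ((Submodule.span_singleton_le_iff_mem a E).mpr ha) hy hyn
  have hab : sympForm m K a b = 0 := hperp a (Submodule.mem_span_singleton_self a)
  obtain ⟨μ, hμ⟩ : ∃ μ : K, μ = c / 2 := ⟨_, rfl⟩
  obtain ⟨b₂, hb₂def⟩ : ∃ b₂ : V, b₂ = (μ / sympForm m K y b) • b := ⟨_, rfl⟩
  have hb₂ : b₂ ∈ F := by rw [hb₂def]; exact F.smul_mem _ hb
  have hab₂ : sympForm m K a b₂ = 0 := by rw [hb₂def, sympForm_smul_right, hab, mul_zero]
  have hyb₂ : sympForm m K y b₂ = μ := by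
    rw [hb₂def, sympForm_smul_right, div_mul_cancel₀ _ hyb]
  have hp : siegel a b₂ ∈ H := siegel_pair_mem hd H hPM ha hb₂ hab₂
  have hpa : (siegel a b₂ : MM) *ᵥ a = a := siegel_fix hab₂ (sympForm_self a) hab₂
  have hpy : (siegel a b₂ : MM) *ᵥ y = y + μ • a := by
    rw [siegel_mulVec hab₂, hd.tsE y hy a ha, zero_smul, zero_add, hyb₂]
  have h1 : siegel a (y + μ • a) ∈ H := by
    have := conj_siegel (siegel a b₂) a y
    rw [hpa, hpy] at this
    rw [← this]
    exact H.mul_mem (H.mul_mem hp hs) (H.inv_mem hp)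
  have hay : sympForm m K a y = 0 := hd.tsE a ha y hy
  have haa : sympForm m K a (μ • a) = 0 := by rw [sympForm_smul_right, sympForm_self, mul_zero]
  have hay' : sympForm m K (μ • a) y = 0 := by rw [sympForm_smul_left, hay, mul_zero]
  rw [siegel_add hay haa hay', siegel_self_smul] at h1
  have h3 : T a (2 * μ) ∈ H := by
    have := H.mul_mem (H.inv_mem hs) h1
    rwa [inv_mul_cancel_left] at this
  have : 2 * μ = c := by rw [hμ]; field_simp
  rwa [this] at h3

include hd hPM in
/-- membership in `ZY` of the vectors of `E` in general position. -/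
theorem mem_ZY_of_extra {a y a₃ : V} (ha : a ∈ E) (hy : y ∈ E) (hs : siegel a y ∈ H)
    (ha₃ : a₃ ∈ E) (hn : y ∉ Submodule.span K {a, a₃}) : a₃ ∈ ZY hd H ha := by
  have hA : Submodule.span K {a, a₃} ≤ E := by
    rw [Submodule.span_le]
    rintro x (rfl | rfl)
    · exact ha
    · exact ha₃
  obtain ⟨b, hb, hperp, hyb⟩ := hd.exists_dual_in hA hy hn
  have hab : sympForm m K a b = 0 := hperp a (Submodule.subset_span (Set.mem_insert _ _))
  have ha₃b : sympForm m K a₃ b = 0 :=
    hperp a₃ (Submodule.subset_span (Set.mem_insert_of_mem _ rfl))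
  refine ⟨ha₃, fun c => ?_⟩
  obtain ⟨b₂, hb₂def⟩ : ∃ b₂ : V, b₂ = (c / sympForm m K y b) • b := ⟨_, rfl⟩
  have hb₂ : b₂ ∈ F := by rw [hb₂def]; exact F.smul_mem _ hb
  have hab₂ : sympForm m K a b₂ = 0 := by rw [hb₂def, sympForm_smul_right, hab, mul_zero]
  have ha₃b₂ : sympForm m K a₃ b₂ = 0 := by rw [hb₂def, sympForm_smul_right, ha₃b, mul_zero]
  have hyb₂ : sympForm m K y b₂ = c := by
    rw [hb₂def, sympForm_smul_right, div_mul_cancel₀ _ hyb]
  have hp : siegel a₃ b₂ ∈ H := siegel_pair_mem hd H hPM ha₃ hb₂ ha₃b₂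
  have hpa : (siegel a₃ b₂ : MM) *ᵥ a = a := siegel_fix ha₃b₂ (hd.tsE a ha a₃ ha₃) hab₂
  have hpy : (siegel a₃ b₂ : MM) *ᵥ y = y + c • a₃ := by
    rw [siegel_mulVec ha₃b₂, hd.tsE y hy a₃ ha₃, zero_smul, zero_add, hyb₂]
  have h1 : siegel a (y + c • a₃) ∈ H := by
    have := conj_siegel (siegel a₃ b₂) a y
    rw [hpa, hpy] at this
    rw [← this]
    exact H.mul_mem (H.mul_mem hp hs) (H.inv_mem hp)
  have hay : sympForm m K a y = 0 := hd.tsE a ha y hy
  have haa : sympForm m K a (c • a₃) = 0 := hd.tsE a ha _ (E.smul_mem c ha₃)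
  have hay' : sympForm m K (c • a₃) y = 0 := hd.tsE _ (E.smul_mem c ha₃) y hy
  rw [siegel_add hay haa hay'] at h1
  have := H.mul_mem (H.inv_mem hs) h1
  rwa [inv_mul_cancel_left] at this

include hd hPM in
/-- `ZY` is everything. -/
theorem ZY_eq_top (h2 : (2 : K) ≠ 0) (h3 : 3 ≤ finrank K E) {a y : V} (ha : a ∈ E) (hy : y ∈ E)
    (hyn : y ∉ Submodule.span K {a}) (hs : siegel a y ∈ H) : ∀ a₂ ∈ E, a₂ ∈ ZY hd H ha := by
  have hgen : ∀ x ∈ E, x ∉ Submodule.span K {a, y} → x ∈ ZY hd H ha := by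
    intro x hx hxn
    apply mem_ZY_of_extra hd H hPM ha hy hs hx
    intro h
    obtain ⟨α, β, hαβ⟩ := Submodule.mem_span_pair.mp h
    have hβ : β ≠ 0 := by
      rintro rfl
      apply hyn
      rw [zero_smul, add_zero] at hαβ
      rw [← hαβ]
      exact Submodule.smul_mem _ _ (Submodule.mem_span_singleton_self a)
    apply hxn
    have : x = β⁻¹ • (y - α • a) := by
      rw [← hαβ, add_sub_cancel_left, smul_smul, inv_mul_cancel₀ hβ, one_smul]
    rw [this]
    apply Submodule.smul_mem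
    apply Submodule.sub_mem
    · exact Submodule.subset_span (Set.mem_insert_of_mem _ rfl)
    · exact Submodule.smul_mem _ _ (Submodule.subset_span (Set.mem_insert _ _))
  obtain ⟨a₃, ha₃, ha₃n⟩ : ∃ a₃ ∈ E, a₃ ∉ Submodule.span K {a, y} := by
    apply Cfsg.Agent.Helper8.MaxSingular.exists_mem_not_mem
    have h4 : finrank K ↥(Submodule.span K {a, y}) ≤ 2 := by
      classical
      have := finrank_span_finset_le_card (R := K) ({a, y} : Finset V)
      rw [Finset.coe_insert, Finset.coe_singleton] at this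
      exact this.trans Finset.card_le_two
    omega
  have h5 := hgen a₃ ha₃ ha₃n
  intro a₂ ha₂
  by_cases hmem : a₂ ∈ Submodule.span K {a, y}
  · have h6 : a₂ + a₃ ∈ ZY hd H ha := by
      apply hgen _ (E.add_mem ha₂ ha₃)
      intro h
      apply ha₃n
      have := Submodule.sub_mem _ h hmem
      rwa [add_sub_cancel_left] at this
    have := (ZY hd H ha).sub_mem h6 h5
    rwa [add_sub_cancel_right] at this
  · exact hgen a₂ ha₂ hmem

include hd hPM in
/-- the root group and the Siegel-type elements at `a`, from one Siegel-type element inside `E`. -/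
theorem full_at (h2 : (2 : K) ≠ 0) (h3 : 3 ≤ finrank K E) {a y : V} (ha : a ∈ E) (hy : y ∈ E)
    (hyn : y ∉ Submodule.span K {a}) (hs : siegel a y ∈ H) :
    (∀ c : K, T a c ∈ H) ∧ ∀ b : V, sympForm m K a b = 0 → siegel a b ∈ H := by
  have hT := T_mem_of_extra hd H hPM h2 ha hy hyn hs
  refine ⟨hT, fun b hab => ?_⟩
  obtain ⟨bE, hbE, bF, hbF, rfl⟩ := hd.exists_dec b
  have h1 : sympForm m K a bE = 0 := hd.tsE a ha bE hbE
  have h4 : sympForm m K a bF = 0 := by
    rw [sympForm_add_right, h1, zero_add] at hab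
    exact hab
  have h5 := siegel_mul h1 h4
  have h6 : siegel a (bE + bF) = (T a (sympForm m K bF bE))⁻¹ * (siegel a bE * siegel a bF) := by
    rw [h5, inv_mul_cancel_left]
  rw [h6]
  apply H.mul_mem (H.inv_mem (hT _))
  apply H.mul_mem
  · have := (ZY_eq_top hd H hPM h2 h3 ha hy hyn hs bE hbE).2 1
    rwa [one_smul] at this
  · exact siegel_pair_mem hd H hPM ha hbF h4

include hd hPM in
/-- **one extra Siegel-type element at a vector of `E` gives all root groups of `E`.** -/
theorem full_all (h2 : (2 : K) ≠ 0) (h3 : 3 ≤ finrank K E) {a z : V} (ha : a ∈ E) (ha0 : a ≠ 0)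
    (haz : sympForm m K a z = 0) (hz : siegel a z ∈ H)
    (hzn : z ∉ F ⊔ Submodule.span K {a}) :
    ∀ a' ∈ E, (∀ c : K, T a' c ∈ H) ∧ ∀ b : V, sympForm m K a' b = 0 → siegel a' b ∈ H := by
  obtain ⟨zE, hzE, zF, hzF, rfl⟩ := hd.exists_dec z
  have h1 : sympForm m K a zE = 0 := hd.tsE a ha zE hzE
  have h4 : sympForm m K a zF = 0 := by
    rw [sympForm_add_right, h1, zero_add] at haz
    exact haz
  have hzEn : zE ∉ Submodule.span K {a} := by
    intro h
    apply hzn
    rw [add_comm]
    exact Submodule.add_mem_sup hzF h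
  -- a Siegel-type element inside `E`
  obtain ⟨μ, hμ⟩ : ∃ μ : K, μ = -(sympForm m K zF zE) / 2 := ⟨_, rfl⟩
  have hy : μ • a + zE ∈ E := E.add_mem (E.smul_mem _ ha) hzE
  have hyn : μ • a + zE ∉ Submodule.span K {a} := by
    intro h
    apply hzEn
    have := Submodule.sub_mem _ h (Submodule.smul_mem _ μ (Submodule.mem_span_singleton_self a))
    rwa [add_sub_cancel_left] at this
  have hs : siegel a (μ • a + zE) ∈ H := by
    have haa : sympForm m K a (μ • a) = 0 := by rw [sympForm_smul_right, sympForm_self, mul_zero]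
    have hza : sympForm m K zE (μ • a) = 0 := hd.tsE zE hzE _ (E.smul_mem μ ha)
    rw [siegel_add haa h1 hza, siegel_self_smul]
    have h5 := siegel_mul h1 h4
    have h6 : T a (2 * μ) * siegel a zE = siegel a (zE + zF) * (siegel a zF)⁻¹ := by
      have h7 : siegel a zE = T a (sympForm m K zF zE) * siegel a (zE + zF) * (siegel a zF)⁻¹ := by
        rw [← h5, mul_inv_cancel_right]
      rw [h7, ← mul_assoc, ← mul_assoc, T_mul]
      have : 2 * μ + sympForm m K zF zE = 0 := by rw [hμ]; field_simp; ring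
      rw [this, T_zero_right, one_mul]
    rw [h6]
    exact H.mul_mem hz (H.inv_mem (siegel_pair_mem hd H hPM ha hzF h4))
  have hfa := full_at hd H hPM h2 h3 ha hy hyn hs
  intro a' ha'
  by_cases hmem : a' ∈ Submodule.span K {a}
  · obtain ⟨t, rfl⟩ := Submodule.mem_span_singleton.mp hmem
    refine ⟨fun c => ?_, fun b hab => ?_⟩
    · rw [T_smul]
      exact hfa.1 _
    · by_cases ht : t = 0
      · rw [ht, zero_smul, siegel_symm (by rw [ht, zero_smul] at hab; exact hab), siegel_zero]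
        exact H.one_mem
      · have hab' : sympForm m K a b = 0 := by
          rw [sympForm_smul_left] at hab
          rcases mul_eq_zero.mp hab with h | h
          · exact absurd h ht
          · exact h
        rw [siegel_smul_left hab']
        exact hfa.2 _ (by rw [sympForm_smul_right, hab', mul_zero])
  · have hane : a ∉ Submodule.span K {a'} := by
      intro h
      obtain ⟨t, ht⟩ := Submodule.mem_span_singleton.mp h
      have ht0 : t ≠ 0 := by
        rintro rfl
        rw [zero_smul] at ht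
        exact ha0 ht.symm
      apply hmem
      have : a' = t⁻¹ • a := by rw [← ht, smul_smul, inv_mul_cancel₀ ht0, one_smul]
      rw [this]
      exact Submodule.smul_mem _ _ (Submodule.mem_span_singleton_self a)
    have hs' : siegel a' a ∈ H := by
      rw [siegel_symm (hd.tsE a' ha' a ha)]
      exact hfa.2 a' (hd.tsE a ha a' ha')
    exact full_at hd H hPM h2 h3 ha' ha hane hs'

end Cfsg.Agent.Helper7.SpPair
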