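import Mathlib
import Cfsg.Agent.Helper7.SpPairB

set_option autoImplicit false
set_option linter.unusedSectionVars false

/-! Overgroups of the stabiliser of a pair of complementary totally isotropic subspaces in the
symplectic group: the whole group from the root groups of a maximal totally isotropic
subspace (helper7). -/

namespace Cfsg.Agent.Helper7.SpPair

open Matrix Module Cfsg Cfsg.Agent.Helper7.Symp Cfsg.Agent.Helper7.SpMax

variable {K : Type*} [Field K] {m : ℕ}

local notation "V" => (Fin m ⊕ Fin m → K)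
local notation "Sp" => Matrix.symplecticGroup (Fin m) K
local notation "MM" => Matrix (Fin m ⊕ Fin m) (Fin m ⊕ Fin m) K

/-- the root groups and Siegel-type elements of a totally isotropic subspace `W`, together with
one root group at a vector not orthogonal to `W`, generate the symplectic group. -/
theorem top_of_roots (W : Submodule K V)
    (M : Subgroup Sp)
    (h1 : ∀ v : V, (∀ w ∈ W, sympForm m K w v = 0) → ∀ c, T v c ∈ M)
    (hWW : ∀ a ∈ W, ∀ w ∈ W, sympForm m K w a = 0)
    (h2 : ∀ a ∈ W, ∀ b : V, sympForm m K a b = 0 → siegel a b ∈ M)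
    {u w₀ : V} (hu : ∀ c, T u c ∈ M) (hw₀ : w₀ ∈ W) (huw₀ : sympForm m K w₀ u ≠ 0) : M = ⊤ := by
  have hSinv : ∀ (A : Sp), A ∈ M → ∀ v : V, (∀ c, T v c ∈ M) → ∀ c, T ((A : MM) *ᵥ v) c ∈ M := by
    intro A hA v hv c
    rw [← conj_T]
    exact M.mul_mem (M.mul_mem hA (hv c)) (M.inv_mem hA)
  have hall : ∀ y : V, ∀ c, T y c ∈ M := by
    intro y
    by_cases hy : ∀ w ∈ W, sympForm m K w y = 0
    · exact h1 y hy
    · push Not at hy
      obtain ⟨w₁, hw₁, hyw₁⟩ := hy
      -- a vector of `W` not orthogonal to both `u` and `y`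
      have ha : ∃ a ∈ W, sympForm m K a u ≠ 0 ∧ sympForm m K a y ≠ 0 := by
        by_cases h1 : sympForm m K w₀ y ≠ 0
        · exact ⟨w₀, hw₀, huw₀, h1⟩
        · push Not at h1
          by_cases h2 : sympForm m K w₁ u ≠ 0
          · exact ⟨w₁, hw₁, h2, hyw₁⟩
          · push Not at h2
            refine ⟨w₀ + w₁, W.add_mem hw₀ hw₁, ?_, ?_⟩
            · rw [sympForm_add_left, h2, add_zero]; exact huw₀
            · rw [sympForm_add_left, h1, zero_add]; exact hyw₁
      obtain ⟨a, haW, hau, hay⟩ := ha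
      have hua : sympForm m K u a ≠ 0 := by
        rw [sympForm_swap]; exact neg_ne_zero.mpr hau
      have hya : sympForm m K y a ≠ 0 := by
        rw [sympForm_swap]; exact neg_ne_zero.mpr hay
      -- `y = l • (u + z)` with `z ⟂ a`
      obtain ⟨l, hl⟩ : ∃ l : K, l = sympForm m K y a * (sympForm m K u a)⁻¹ := ⟨_, rfl⟩
      have hl0 : l ≠ 0 := by rw [hl]; exact mul_ne_zero hya (inv_ne_zero hua)
      obtain ⟨z, hz⟩ : ∃ z : V, z = l⁻¹ • y - u := ⟨_, rfl⟩
      have hza : sympForm m K z a = 0 := by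
        rw [hz, sympForm_sub_left, sympForm_smul_left, hl, mul_inv, inv_inv,
          mul_comm (sympForm m K y a)⁻¹, mul_assoc, inv_mul_cancel₀ hya, mul_one, sub_self]
      have haz : sympForm m K a z = 0 := by rw [sympForm_swap, hza, neg_zero]
      obtain ⟨b, hb⟩ : ∃ b : V, b = (sympForm m K u a)⁻¹ • z := ⟨_, rfl⟩
      have hab : sympForm m K a b = 0 := by rw [hb, sympForm_smul_right, haz, mul_zero]
      have hsie : siegel a b ∈ M := h2 a haW b hab
      have haS : ∀ c, T a c ∈ M := h1 a (hWW a haW)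
      have h1' := hSinv _ hsie u hu
      have h2' := hSinv _ (haS (-(sympForm m K u b * (sympForm m K u a)⁻¹))) _ h1'
      have e : (T a (-(sympForm m K u b * (sympForm m K u a)⁻¹)) : MM) *ᵥ
          ((siegel a b : MM) *ᵥ u) = l⁻¹ • y := by
        rw [siegel_mulVec hab, T_mulVec]
        simp only [sympForm_add_left, sympForm_smul_left, sympForm_self, mul_zero, add_zero]
        have hba : sympForm m K b a = 0 := by rw [sympForm_swap, hab, neg_zero]
        rw [hba, mul_zero, add_zero]
        have e1 : sympForm m K u a • b = z := by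
          rw [hb, smul_smul, mul_inv_cancel₀ hua, one_smul]
        rw [e1, neg_mul, mul_assoc, inv_mul_cancel₀ hua, mul_one, neg_smul, hz]
        abel
      rw [e] at h2'
      intro c
      have : y = l • (l⁻¹ • y) := by rw [smul_smul, mul_inv_cancel₀ hl0, one_smul]
      rw [this, T_smul]
      exact h2' (l * l * c)
  rw [eq_top_iff, ← transvectionSubgroup_eq_top m K]
  unfold transvectionSubgroup
  rw [Subgroup.closure_le]
  rintro A ⟨w, c, hA⟩
  have : A = T w c := Subtype.ext hA
  rw [this]
  exact hall w c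

variable {E F : Submodule K (Fin m ⊕ Fin m → K)} (hd : LPair E F)
  (H : Subgroup (Matrix.symplecticGroup (Fin m) K))
  (hPM : ∀ A : Matrix.symplecticGroup (Fin m) K,
    (∀ x ∈ E, (A : Matrix (Fin m ⊕ Fin m) (Fin m ⊕ Fin m) K) *ᵥ x ∈ E) →
    (∀ x ∈ F, (A : Matrix (Fin m ⊕ Fin m) (Fin m ⊕ Fin m) K) *ᵥ x ∈ F) → A ∈ H)

include hd hPM in
/-- **the good case**: an extra Siegel-type element at a vector of `E` and an element mapping
`E` into `F` give the whole group. -/
theorem top_of_extra (h2 : (2 : K) ≠ 0) (h3 : 3 ≤ finrank K E) {a z : V} (ha : a ∈ E)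
    (ha0 : a ≠ 0) (haz : sympForm m K a z = 0) (hz : siegel a z ∈ H)
    (hzn : z ∉ F ⊔ Submodule.span K {a}) {w₀ : Sp} (hw₀ : w₀ ∈ H)
    (hwE : ∀ x ∈ E, (w₀ : MM) *ᵥ x ∈ F) : H = ⊤ := by
  have hfa := full_all hd H hPM h2 h3 ha ha0 haz hz hzn
  have hy0 : (w₀ : MM) *ᵥ a ≠ 0 := by
    intro h
    apply ha0
    apply mulVec_injective w₀
    beta_reduce
    rw [h, mulVec_zero]
  obtain ⟨w, hw, hyw⟩ : ∃ w ∈ E, sympForm m K w ((w₀ : MM) *ᵥ a) ≠ 0 := by
    by_contra hcon
    push Not at hcon
    apply hy0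
    exact hd.eq_zero_of_mem_of_mem (hd.mem_E_of_perp hcon) (hwE a ha)
  apply top_of_roots E H (fun v hv => (hfa v (hd.mem_E_of_perp hv)).1)
    (fun a' ha' w' hw' => hd.tsE w' hw' a' ha') (fun a' ha' => (hfa a' ha').2) _ hw hyw
  intro c
  rw [← conj_T]
  exact H.mul_mem (H.mul_mem hw₀ ((hfa a ha).1 c)) (H.inv_mem hw₀)

/-- intersecting with the orthogonal of a vector lowers the dimension by at most one. -/
theorem finrank_inf_perp_singleton (A : Submodule K V) (y : V) :
    finrank K A ≤ finrank K ↥(A ⊓ perp (Submodule.span K {y})) + 1 := by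
  have h1 := Submodule.finrank_sup_add_finrank_inf_eq A (perp (Submodule.span K {y}))
  have h2 := finrank_perp (Submodule.span K {y})
  have h3 : finrank K ↥(Submodule.span K {y}) ≤ 1 := by
    by_cases hy : y = 0
    · rw [hy, Submodule.span_zero_singleton, finrank_bot]
      omega
    · rw [finrank_span_singleton hy]
  have h4 : finrank K ↥(A ⊔ perp (Submodule.span K {y})) ≤ 2 * m := by
    have := Submodule.finrank_le (A ⊔ perp (Submodule.span K {y}))
    rw [Module.finrank_pi] at this
    simpa [two_mul] using this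
  have h5 : finrank K ↥(Submodule.span K {y}) ≤ 2 * m := by
    have := Submodule.finrank_le (Submodule.span K {y})
    rw [Module.finrank_pi] at this
    simpa [two_mul] using this
  omega

theorem mem_perp_singleton {x y : V} :
    x ∈ perp (Submodule.span K {y}) ↔ sympForm m K x y = 0 := by
  rw [mem_perp']
  constructor
  · intro h
    exact h y (Submodule.mem_span_singleton_self y)
  · intro h w hw
    obtain ⟨t, rfl⟩ := Submodule.mem_span_singleton.mp hw
    rw [sympForm_smul_right, h, mul_zero]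

end Cfsg.Agent.Helper7.SpPair
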