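import Mathlib
import Cfsg.Agent.Helper7.SpPairD

set_option autoImplicit false
set_option linter.unusedSectionVars false

/-! A symplectic matrix exchanging two complementary totally isotropic subspaces (helper7). -/

namespace Cfsg.Agent.Helper7.SpPair

open Matrix Module Cfsg Cfsg.Agent.Helper7.Symp Cfsg.Agent.Helper7.SpMax
  Cfsg.Agent.Helper8.MaxSingular

variable {K : Type*} [Field K] {m : ℕ}

local notation "V" => (Fin m ⊕ Fin m → K)
local notation "Sp" => Matrix.symplecticGroup (Fin m) K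
local notation "MM" => Matrix (Fin m ⊕ Fin m) (Fin m ⊕ Fin m) K

/-- the quarter turn of a hyperbolic pair. -/
noncomputable def rho (e f : V) : Sp := T e 1 * T f 1 * T e 1

theorem rho_left {e f : V} (hef : sympForm m K e f = 1) : (rho e f : MM) *ᵥ e = f := by
  have hfe : sympForm m K f e = -1 := by rw [sympForm_swap, hef]
  have h1 : (T e 1 : MM) *ᵥ e = e := by
    rw [T_mulVec, sympForm_self, mul_zero, zero_smul, add_zero]
  have h2 : (T f 1 : MM) *ᵥ e = e + f := by
    rw [T_mulVec, hef, mul_one, one_smul]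
  have h3 : (T e 1 : MM) *ᵥ (e + f) = f := by
    rw [T_mulVec, sympForm_add_left, sympForm_self, hfe]
    module
  unfold rho
  rw [coe_mul_mulVec, coe_mul_mulVec, h1, h2, h3]

theorem rho_right {e f : V} (hef : sympForm m K e f = 1) : (rho e f : MM) *ᵥ f = -e := by
  have hfe : sympForm m K f e = -1 := by rw [sympForm_swap, hef]
  have h1 : (T e 1 : MM) *ᵥ f = f - e := by
    rw [T_mulVec, hfe]
    module
  have h2 : (T f 1 : MM) *ᵥ (f - e) = -e := by
    rw [T_mulVec, sympForm_sub_left, sympForm_self, hef]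
    module
  have h3 : (T e 1 : MM) *ᵥ (-e) = -e := by
    rw [T_mulVec, sympForm_swap, sympForm_neg_right, sympForm_self, neg_zero, neg_zero, mul_zero,
      zero_smul, add_zero]
  unfold rho
  rw [coe_mul_mulVec, coe_mul_mulVec, h1, h2, h3]

theorem rho_fix {e f y : V} (hye : sympForm m K y e = 0) (hyf : sympForm m K y f = 0) :
    (rho e f : MM) *ᵥ y = y := by
  have h1 : (T e 1 : MM) *ᵥ y = y := by
    rw [T_mulVec, hye, mul_zero, zero_smul, add_zero]
  have h2 : (T f 1 : MM) *ᵥ y = y := by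
    rw [T_mulVec, hyf, mul_zero, zero_smul, add_zero]
  unfold rho
  rw [coe_mul_mulVec, coe_mul_mulVec, h1, h2, h1]

/-- two totally isotropic subspaces in perfect duality. -/
structure Paired (E F : Submodule K (Fin m ⊕ Fin m → K)) : Prop where
  tsE : ∀ x ∈ E, ∀ y ∈ E, sympForm m K x y = 0
  tsF : ∀ x ∈ F, ∀ y ∈ F, sympForm m K x y = 0
  ndE : ∀ e ∈ E, (∀ f ∈ F, sympForm m K e f = 0) → e = 0
  ndF : ∀ f ∈ F, (∀ e ∈ E, sympForm m K e f = 0) → f = 0

/-- a dual vector. -/
theorem Paired.exists_dual {E F : Submodule K V} (h : Paired E F)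
    {e : V} (he : e ∈ E) (he0 : e ≠ 0) : ∃ f ∈ F, sympForm m K e f = 1 := by
  have : ∃ f ∈ F, sympForm m K e f ≠ 0 := by
    by_contra hcon
    push Not at hcon
    exact he0 (h.ndE e he hcon)
  obtain ⟨f, hf, hef⟩ := this
  refine ⟨(sympForm m K e f)⁻¹ • f, F.smul_mem _ hf, ?_⟩
  rw [sympForm_smul_right, inv_mul_cancel₀ hef]

theorem LPair.paired {E F : Submodule K V} (hd : LPair E F) : Paired E F := by
  refine ⟨hd.tsE, hd.tsF, ?_, ?_⟩
  · intro e he hperp
    apply hd.eq_zero_of_mem_of_mem he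
    apply hd.mem_F_of_perp
    intro x hx
    rw [sympForm_swap, hperp x hx, neg_zero]
  · intro f hf hperp
    apply hd.eq_zero_of_mem_of_mem _ hf
    apply hd.mem_E_of_perp
    intro x hx
    exact hperp x hx

/-- **a symplectic matrix exchanging two dual totally isotropic subspaces**, fixing the vectors
orthogonal to both. -/
theorem exists_swap :
    ∀ (n : ℕ) (E F : Submodule K V), Paired E F → finrank K E = n →
      ∃ w : Sp, (∀ x ∈ E, (w : MM) *ᵥ x ∈ F) ∧ (∀ x ∈ F, (w : MM) *ᵥ x ∈ E) ∧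
        ∀ y, (∀ x ∈ E, sympForm m K x y = 0) → (∀ x ∈ F, sympForm m K x y = 0) →
          (w : MM) *ᵥ y = y := by
  intro n
  induction n with
  | zero =>
    intro E F hp hE
    have hE0 : E = ⊥ := Submodule.finrank_eq_zero.mp hE
    refine ⟨1, ?_, ?_, fun y _ _ => coe_one_mulVec y⟩
    · intro x hx
      rw [hE0, Submodule.mem_bot] at hx
      rw [hx, mulVec_zero]
      exact F.zero_mem
    · intro x hx
      have : x = 0 := hp.ndF x hx (fun e he => by
        rw [hE0, Submodule.mem_bot] at he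
        rw [he, ← zero_smul K (0 : V), sympForm_smul_left, zero_mul])
      rw [this, mulVec_zero]
      exact E.zero_mem
  | succ n ih =>
    intro E F hp hE
    obtain ⟨e₁, he₁, he₁0⟩ : ∃ e₁ ∈ E, e₁ ≠ 0 := by
      by_contra hcon
      push Not at hcon
      have : E = ⊥ := (Submodule.eq_bot_iff E).mpr hcon
      rw [this, finrank_bot] at hE
      omega
    obtain ⟨f₁, hf₁, hef₁⟩ := hp.exists_dual he₁ he₁0
    have hfe₁ : sympForm m K f₁ e₁ = -1 := by rw [sympForm_swap, hef₁]
    -- the smaller pair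
    obtain ⟨E', hE'⟩ : ∃ E' : Submodule K V, E' = E ⊓ perp (Submodule.span K {f₁}) := ⟨_, rfl⟩
    obtain ⟨F', hF'⟩ : ∃ F' : Submodule K V, F' = F ⊓ perp (Submodule.span K {e₁}) := ⟨_, rfl⟩
    have memE' : ∀ x, x ∈ E' ↔ x ∈ E ∧ sympForm m K x f₁ = 0 := by
      intro x
      rw [hE', Submodule.mem_inf, mem_perp_singleton]
    have memF' : ∀ x, x ∈ F' ↔ x ∈ F ∧ sympForm m K x e₁ = 0 := by
      intro x
      rw [hF', Submodule.mem_inf, mem_perp_singleton]
    -- projections
    have projE : ∀ x ∈ E, x - sympForm m K x f₁ • e₁ ∈ E' := by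
      intro x hx
      rw [memE']
      refine ⟨E.sub_mem hx (E.smul_mem _ he₁), ?_⟩
      rw [sympForm_sub_left, sympForm_smul_left, hef₁, mul_one, sub_self]
    have projF : ∀ x ∈ F, x - sympForm m K e₁ x • f₁ ∈ F' := by
      intro x hx
      rw [memF']
      refine ⟨F.sub_mem hx (F.smul_mem _ hf₁), ?_⟩
      rw [sympForm_sub_left, sympForm_smul_left, hfe₁, sympForm_swap x e₁]
      ring
    have hp' : Paired E' F' := by
      refine ⟨fun x hx y hy => hp.tsE x ((memE' x).mp hx).1 y ((memE' y).mp hy).1,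
        fun x hx y hy => hp.tsF x ((memF' x).mp hx).1 y ((memF' y).mp hy).1, ?_, ?_⟩
      · intro e he hperp
        obtain ⟨heE, hef₁'⟩ := (memE' e).mp he
        apply hp.ndE e heE
        intro f hf
        have := hperp _ (projF f hf)
        rw [sympForm_sub_right, sympForm_smul_right, hef₁', mul_zero, sub_zero] at this
        exact this
      · intro f hf hperp
        obtain ⟨hfF, hfe₁'⟩ := (memF' f).mp hf
        apply hp.ndF f hfF
        intro e he
        have := hperp _ (projE e he)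
        have h0 : sympForm m K e₁ f = 0 := by rw [sympForm_swap, hfe₁', neg_zero]
        rw [sympForm_sub_left, sympForm_smul_left, h0, mul_zero, sub_zero] at this
        exact this
    have hfin : finrank K E' = n := by
      have h1 := finrank_inf_perp_singleton E f₁
      rw [← hE'] at h1
      have hE'E : E' ≤ E := fun x hx => ((memE' x).mp hx).1
      have hn1 : e₁ ∉ E' := by
        intro h
        have := ((memE' e₁).mp h).2
        rw [hef₁] at this
        exact one_ne_zero this
      have h3 := finrank_sup_span_singleton E' hn1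
      have hle : E' ⊔ Submodule.span K {e₁} ≤ E :=
        sup_le hE'E ((Submodule.span_singleton_le_iff_mem e₁ E).mpr he₁)
      have h5' := Submodule.finrank_mono hle
      omega
    obtain ⟨w', hw'E, hw'F, hw'fix⟩ := ih E' F' hp' hfin
    -- fixed vectors of `w'`
    have hw'e₁ : (w' : MM) *ᵥ e₁ = e₁ :=
      hw'fix e₁ (fun x hx => hp.tsE x ((memE' x).mp hx).1 e₁ he₁) (fun x hx => ((memF' x).mp hx).2)
    have hw'f₁ : (w' : MM) *ᵥ f₁ = f₁ :=
      hw'fix f₁ (fun x hx => ((memE' x).mp hx).2) (fun x hx => hp.tsF x ((memF' x).mp hx).1 f₁ hf₁)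
    refine ⟨rho e₁ f₁ * w', ?_, ?_, ?_⟩
    · intro x hx
      rw [coe_mul_mulVec]
      obtain ⟨x', hx'def⟩ : ∃ x' : V, x' = x - sympForm m K x f₁ • e₁ := ⟨_, rfl⟩
      have hx' : x' ∈ E' := by rw [hx'def]; exact projE x hx
      have hxeq : x = x' + sympForm m K x f₁ • e₁ := by
        rw [hx'def]
        abel
      have hy' := hw'E x' hx'
      obtain ⟨hy'F, hy'e₁⟩ := (memF' _).mp hy'
      have e1 : (w' : MM) *ᵥ x = (w' : MM) *ᵥ x' + sympForm m K x f₁ • e₁ := by
        conv_lhs => rw [hxeq]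
        rw [mulVec_add, mulVec_smul, hw'e₁]
      rw [e1, mulVec_add, mulVec_smul, rho_fix hy'e₁ (hp.tsF _ hy'F f₁ hf₁), rho_left hef₁]
      exact F.add_mem hy'F (F.smul_mem _ hf₁)
    · intro x hx
      rw [coe_mul_mulVec]
      obtain ⟨x', hx'def⟩ : ∃ x' : V, x' = x - sympForm m K e₁ x • f₁ := ⟨_, rfl⟩
      have hx' : x' ∈ F' := by rw [hx'def]; exact projF x hx
      have hxeq : x = x' + sympForm m K e₁ x • f₁ := by
        rw [hx'def]
        abel
      have hy' := hw'F x' hx'
      obtain ⟨hy'E, hy'f₁⟩ := (memE' _).mp hy'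
      have e1 : (w' : MM) *ᵥ x = (w' : MM) *ᵥ x' + sympForm m K e₁ x • f₁ := by
        conv_lhs => rw [hxeq]
        rw [mulVec_add, mulVec_smul, hw'f₁]
      rw [e1, mulVec_add, mulVec_smul, rho_fix (hp.tsE _ hy'E e₁ he₁) hy'f₁, rho_right hef₁]
      exact E.add_mem hy'E (E.smul_mem _ (E.neg_mem he₁))
    · intro y hyE hyF
      have h1 : sympForm m K y e₁ = 0 := by rw [sympForm_swap, hyE e₁ he₁, neg_zero]
      have h2 : sympForm m K y f₁ = 0 := by rw [sympForm_swap, hyF f₁ hf₁, neg_zero]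
      rw [coe_mul_mulVec, hw'fix y (fun x hx => hyE x ((memE' x).mp hx).1)
        (fun x hx => hyF x ((memF' x).mp hx).1), rho_fix h1 h2]

end Cfsg.Agent.Helper7.SpPair
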