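import Mathlib
import Cfsg.Agent.Helper7.SqT

set_option autoImplicit false

/-!
Table facts for the central closedness of the presented group of Steinberg of type B2 over the fields with
three and four elements.
-/

namespace Cfsg.Agent.Helper7.Chev

open Cfsg Cfsg.Lie

namespace Tab

variable (T : Tab)

/-- The root `r` is the first of two commutator terms of a pair `(p, q)`, with coefficient `± 1` and linear
in both parameters, the roots `p` and the root of the other term commute with `r`, and the pair `(r, q)` has
a single commutator term, with an even coefficient. -/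
def appC (r : ℕ) : Bool :=
  (List.range T.n).any fun p => (List.range T.n).any fun q =>
    decide (q ≠ p) && decide (q ≠ T.neg p) && decide (q ≠ r) && decide (q ≠ T.neg r) &&
    (match T.commTerms p q with
    | [c₁, c₂] => decide (c₁.1 = r) && (decide (c₁.2.1 = 1) || decide (c₁.2.1 = -1)) &&
        decide (c₁.2.2.1 = 1) && decide (c₁.2.2.2 = 1) && T.okB r p && T.okB r c₂.1
    | _ => false) &&
    (match T.commTerms r q with
    | [d] => decide (d.2.1 % 2 = 0) && decide (d.1 < T.n)
    | _ => false)

/-- Each root falls under `appA` or `appC`. -/
def TQ6 : Prop := AllLt T.n (fun r => (T.appA r || T.appC r) = true)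

instance : Decidable T.TQ6 := by unfold TQ6; infer_instance

end Tab

end Cfsg.Agent.Helper7.Chev

namespace Cfsg.Agent.Helper7.Chev

open Cfsg Cfsg.Lie

namespace Tab

variable (T : Tab)

/-- The pairs of roots with the single commutator term `r`, linear in both parameters, with the
coefficient. -/
def srcList (r : ℕ) : List (ℕ × ℕ × ℤ) :=
  (List.range T.n).flatMap fun p => (List.range T.n).filterMap fun q =>
    if q ≠ p ∧ q ≠ T.neg p then
      match T.commTerms p q with
      | [c] => if c.1 = r ∧ c.2.2.1 = 1 ∧ c.2.2.2 = 1 then some (p, q, c.2.1) else none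
      | _ => none
    else none

/-- The first pair of roots with the single commutator term `r`. -/
def srcOf (r : ℕ) : ℕ × ℕ × ℤ := (T.srcList r).headD (0, 0, 0)

/-- The facts on the chosen pair of a root without odd pairings. -/
def srcOK (r : ℕ) : Bool :=
  let d := T.srcOf r
  decide (d.1 < T.n) && decide (d.2.1 < T.n) && decide (d.2.1 ≠ d.1) && decide (d.2.1 ≠ T.neg d.1) &&
    decide (T.commTerms d.1 d.2.1 = [(r, d.2.2, 1, 1)]) && decide (d.2.2 % 3 ≠ 0) &&
    T.okB r d.1 && T.okB r d.2.1 && T.sepP r d.1 && T.sepP r d.2.1 && T.oddB d.1 && T.oddB d.2.1

/-- Each root without odd pairings is the single commutator term of its chosen pair. -/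
def TQ7 : Prop := AllLt T.n (fun r => T.oddB r = false → T.srcOK r = true)

instance : Decidable T.TQ7 := by unfold TQ7; infer_instance

/-- The fundamental reflections preserve the roots with odd pairings, and carry the chosen pair of a root
without odd pairings to the chosen pair of its image, up to the order. -/
def TQ8 : Prop :=
  AllLt T.l (fun i => AllLt T.n (fun r =>
    T.oddB (T.refl (T.simple i) r) = T.oddB r ∧
    (T.oddB r = false →
      ((T.refl (T.simple i) (T.srcOf r).1 = (T.srcOf (T.refl (T.simple i) r)).1 ∧
          T.refl (T.simple i) (T.srcOf r).2.1 = (T.srcOf (T.refl (T.simple i) r)).2.1) ∨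
        (T.refl (T.simple i) (T.srcOf r).1 = (T.srcOf (T.refl (T.simple i) r)).2.1 ∧
          T.refl (T.simple i) (T.srcOf r).2.1 = (T.srcOf (T.refl (T.simple i) r)).1)))))

instance : Decidable T.TQ8 := by unfold TQ8; infer_instance

/-- The pair `(k, s)` is the chosen pair of its single commutator term, up to the order. -/
def pairB (k s : ℕ) : Bool :=
  match T.commTerms k s with
  | [c] => decide (c.1 < T.n) && !(T.oddB c.1) && decide (c.2.2.1 = 1) && decide (c.2.2.2 = 1) &&
      ((decide ((T.srcOf c.1).1 = k) && decide ((T.srcOf c.1).2.1 = s)) ||
        (decide ((T.srcOf c.1).1 = s) && decide ((T.srcOf c.1).2.1 = k)))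
  | _ => false

/-- Two positive roots `k < s` either are separated by an element of order two of the torus fixing `k`, or
commute and are separated by such an element fixing `s` or are interchanged by one of the given words, or
form the chosen pair of their single commutator term. -/
def TQ9 (wits : List (List ℕ)) : Prop :=
  AllLt T.n (fun k => T.n / 2 ≤ k → AllLt T.n (fun s => k < s →
    (T.sepP k s || ((T.commTerms k s).isEmpty && (T.sepP s k || T.excW wits k s)) ||
      T.pairB k s) = true))

instance (wits : List (List ℕ)) : Decidable (T.TQ9 wits) := by unfold TQ9; infer_instance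

end Tab

end Cfsg.Agent.Helper7.Chev
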