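import Mathlib
import Cfsg.Agent.Helper7.SqH
import Cfsg.Agent.Helper7.SqU

set_option autoImplicit false
set_option linter.unusedSectionVars false
set_option linter.unusedVariables false

/-!
Every central extension of the group presented by the relators (R1), (R2) of type B2 splits, over a field of
characteristic two with an element other than zero and one.
-/

namespace Cfsg.Agent.Helper7.Sq

open Cfsg Cfsg.Lie Cfsg.Agent.Helper7.Chev Cfsg.Agent.Helper7.St Cfsg.Agent.Helper7.Sc

set_option maxRecDepth 1000000 in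
set_option maxHeartbeats 0 in
theorem TQ1fast_B2 : fastB2.TQ1 := by decide +kernel

theorem TQ1_B2 : (tabOf chevB2).TQ1 := tab_B2 ▸ TQ1fast_B2

set_option maxRecDepth 1000000 in
set_option maxHeartbeats 0 in
theorem TQ6fast_B2 : fastB2.TQ6 := by decide +kernel

theorem TQ6_B2 : (tabOf chevB2).TQ6 := tab_B2 ▸ TQ6fast_B2

variable {D : ChevalleyDatum} {K : Type*} [Field K] {Γ E : Type*} [Group Γ] [Group E]
  {S : StD D K Γ}

/-- Lifts of root elements of one root commute, when the root is the last of two commutator terms as in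
`appA`, with separation of the roots involved. -/
theorem lc_self_of_appA (C : CExt E Γ) {r : ℕ} (hr : r < D.nroots)
    (happ : (tabOf D).appA r = true)
    (hsep : ∀ p, (tabOf D).okB r p = true → Sep S r p ∨ Sep S p r) (t u : K) :
    C.LC (S.xb r t) (S.xb r u) := by
  unfold Tab.appA at happ
  rw [List.any_eq_true] at happ
  obtain ⟨p, hp, h⟩ := happ
  rw [List.any_eq_true] at h
  obtain ⟨q, hq, h⟩ := h
  rw [List.mem_range] at hp hq
  have hn : (tabOf D).n = D.nroots := rfl
  rw [hn] at hp hq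
  rw [commTerms_eq] at h
  rcases hct : D.commTerms p q with _ | ⟨c₁, _ | ⟨c₂, _ | ⟨c₃, l⟩⟩⟩
  · rw [hct] at h; simp at h
  · rw [hct] at h; simp at h
  · rw [hct] at h
    simp only [Bool.and_eq_true, Bool.or_eq_true, decide_eq_true_eq] at h
    obtain ⟨⟨hqp, hqn⟩, ⟨⟨⟨⟨⟨hc2r, hC⟩, hi1⟩, ok1⟩, ok2⟩, ok3⟩⟩ := h
    apply lc_self_of_closure C hr (fun x => x = p ∨ x = q ∨ x = c₁.1)
    · intro t₀
      have hrel := S.comm p q hp hq hqp hqn (-((c₂.2.1 : ℤ) : K) * t₀) 1
      unfold ChevalleyDatum.commWord at hrel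
      rw [hct] at hrel
      simp only [List.map_cons, List.map_nil, List.prod_cons, List.prod_nil, mul_one] at hrel
      rw [hc2r, hi1] at hrel
      have hCC : ((c₂.2.1 : ℤ) : K) * ((c₂.2.1 : ℤ) : K) = 1 := by
        rcases hC with hC | hC <;> rw [hC] <;> simp
      have eparam : ((c₂.2.1 : ℤ) : K) * (-(-((c₂.2.1 : ℤ) : K) * t₀)) ^ 1 * 1 ^ c₂.2.2.2 = t₀ := by
        rw [one_pow, mul_one, pow_one]
        linear_combination t₀ * hCC
      rw [eparam] at hrel
      have e : S.xb r t₀ = (S.xb c₁.1 (((c₁.2.1 : ℤ) : K) *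
          (-(-((c₂.2.1 : ℤ) : K) * t₀)) ^ c₁.2.2.1 * 1 ^ c₁.2.2.2))⁻¹ *
          ((S.xb p (-((c₂.2.1 : ℤ) : K) * t₀) * S.xb q 1)⁻¹ *
            (S.xb q 1 * S.xb p (-((c₂.2.1 : ℤ) : K) * t₀))) := by
        rw [hrel]
        group
      rw [e]
      apply mul_mem
      · apply inv_mem
        exact Subgroup.subset_closure ⟨c₁.1, _, Or.inr (Or.inr rfl), rfl⟩
      · apply mul_mem
        · apply inv_mem
          apply mul_mem
          · exact Subgroup.subset_closure ⟨p, _, Or.inl rfl, rfl⟩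
          · exact Subgroup.subset_closure ⟨q, _, Or.inr (Or.inl rfl), rfl⟩
        · apply mul_mem
          · exact Subgroup.subset_closure ⟨q, _, Or.inr (Or.inl rfl), rfl⟩
          · exact Subgroup.subset_closure ⟨p, _, Or.inl rfl, rfl⟩
    · rintro x (rfl | rfl | rfl) a u'
      · exact (lc_of_okB_sep C hr ok1 (hsep _ ok1) u' a).symm
      · exact (lc_of_okB_sep C hr ok2 (hsep _ ok2) u' a).symm
      · exact (lc_of_okB_sep C hr ok3 (hsep _ ok3) u' a).symm
  · rw [hct] at h; simp at h

/-- Lifts of root elements of one root commute, in characteristic two, when the root is the first of two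
commutator terms as in `appC`, with separation of the roots involved. -/
theorem lc_self_of_appC (C : CExt E Γ) (h2 : (2 : K) = 0) {r : ℕ} (hr : r < D.nroots)
    (happ : (tabOf D).appC r = true)
    (hsep : ∀ p, p < D.nroots → p ≠ r → p ≠ D.neg r → Sep S r p) (t u : K) :
    C.LC (S.xb r t) (S.xb r u) := by
  unfold Tab.appC at happ
  rw [List.any_eq_true] at happ
  obtain ⟨p, hp, h⟩ := happ
  rw [List.any_eq_true] at h
  obtain ⟨q, hq, h⟩ := h
  rw [List.mem_range] at hp hq
  have hn : (tabOf D).n = D.nroots := rfl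
  rw [hn] at hp hq
  rw [commTerms_eq, commTerms_eq] at h
  rw [Bool.and_eq_true, Bool.and_eq_true] at h
  obtain ⟨⟨hne, h⟩, hrq⟩ := h
  simp only [Bool.and_eq_true, decide_eq_true_eq] at hne
  obtain ⟨⟨⟨hqp, hqn⟩, hqr⟩, hqnr⟩ := hne
  -- the pair `(r, q)` commutes in characteristic two
  have hcommq : ∀ a b : K, S.xb r a * S.xb q b = S.xb q b * S.xb r a := by
    intro a b
    rcases hd : D.commTerms r q with _ | ⟨d, _ | ⟨d₂, l⟩⟩
    · rw [hd] at hrq; simp at hrq
    · rw [hd] at hrq
      simp only [Bool.and_eq_true, decide_eq_true_eq] at hrq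
      obtain ⟨hev, hdlt⟩ := hrq
      have hrel := S.comm r q hr hq hqr hqnr a b
      unfold ChevalleyDatum.commWord at hrel
      rw [hd] at hrel
      simp only [List.map_cons, List.map_nil, List.prod_cons, List.prod_nil, mul_one] at hrel
      have hz : ((d.2.1 : ℤ) : K) = 0 := by
        obtain ⟨m, hm⟩ : ∃ m : ℤ, d.2.1 = 2 * m := ⟨d.2.1 / 2, by omega⟩
        rw [hm]
        push_cast
        rw [h2, zero_mul]
      rw [hz, zero_mul, zero_mul, S.xb_zero hdlt, mul_one] at hrel
      exact hrel.symm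
    · rw [hd] at hrq; simp at hrq
  have hlcq : ∀ a b : K, C.LC (S.xb r a) (S.xb q b) := by
    intro a b
    obtain ⟨h', χ, _, hh, e1, e2⟩ := hsep q hq hqr hqnr
    exact lc_of_torus C hr hq hcommq hh e1 e2 a b
  rcases hct : D.commTerms p q with _ | ⟨c₁, _ | ⟨c₂, _ | ⟨c₃, l⟩⟩⟩
  · rw [hct] at h; simp at h
  · rw [hct] at h; simp at h
  · rw [hct] at h
    simp only [Bool.and_eq_true, Bool.or_eq_true, decide_eq_true_eq] at h
    obtain ⟨⟨⟨⟨⟨hc1r, hC⟩, hi1⟩, hi2⟩, ok1⟩, ok3⟩ := h
    have hsep' : ∀ p', (tabOf D).okB r p' = true → Sep S r p' ∨ Sep S p' r := by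
      intro p' hok
      left
      unfold Tab.okB at hok
      simp only [Bool.and_eq_true, decide_eq_true_eq, List.isEmpty_iff] at hok
      obtain ⟨⟨⟨h1, h2'⟩, h3⟩, _⟩ := hok
      exact hsep p' h1 h2' h3
    apply lc_self_of_closure C hr (fun x => x = p ∨ x = q ∨ x = c₂.1)
    · intro t₀
      have hrel := S.comm p q hp hq hqp hqn (-((c₁.2.1 : ℤ) : K) * t₀) 1
      unfold ChevalleyDatum.commWord at hrel
      rw [hct] at hrel
      simp only [List.map_cons, List.map_nil, List.prod_cons, List.prod_nil, mul_one] at hrel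
      rw [hc1r, hi1, hi2] at hrel
      have hCC : ((c₁.2.1 : ℤ) : K) * ((c₁.2.1 : ℤ) : K) = 1 := by
        rcases hC with hC | hC <;> rw [hC] <;> simp
      have eparam : ((c₁.2.1 : ℤ) : K) * (-(-((c₁.2.1 : ℤ) : K) * t₀)) ^ 1 * 1 ^ 1 = t₀ := by
        rw [one_pow, mul_one, pow_one]
        linear_combination t₀ * hCC
      rw [eparam] at hrel
      have e : S.xb r t₀ = ((S.xb p (-((c₁.2.1 : ℤ) : K) * t₀) * S.xb q 1)⁻¹ *
            (S.xb q 1 * S.xb p (-((c₁.2.1 : ℤ) : K) * t₀))) *
          (S.xb c₂.1 (((c₂.2.1 : ℤ) : K) *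
            (-(-((c₁.2.1 : ℤ) : K) * t₀)) ^ c₂.2.2.1 * 1 ^ c₂.2.2.2))⁻¹ := by
        rw [hrel]
        group
      rw [e]
      apply mul_mem
      · apply mul_mem
        · apply inv_mem
          apply mul_mem
          · exact Subgroup.subset_closure ⟨p, _, Or.inl rfl, rfl⟩
          · exact Subgroup.subset_closure ⟨q, _, Or.inr (Or.inl rfl), rfl⟩
        · apply mul_mem
          · exact Subgroup.subset_closure ⟨q, _, Or.inr (Or.inl rfl), rfl⟩
          · exact Subgroup.subset_closure ⟨p, _, Or.inl rfl, rfl⟩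
      · apply inv_mem
        exact Subgroup.subset_closure ⟨c₂.1, _, Or.inr (Or.inr rfl), rfl⟩
    · rintro x (rfl | rfl | rfl) a u'
      · exact (lc_of_okB_sep C hr ok1 (hsep' _ ok1) u' a).symm
      · exact (hlcq u' a).symm
      · exact (lc_of_okB_sep C hr ok3 (hsep' _ ok3) u' a).symm
  · rw [hct] at h; simp at h

/-- Every central extension of the presented group of type B2 splits, over a field of characteristic two
with an element other than zero and one. -/
theorem cover_splits_B2_even {K : Type*} [Field K] (h2 : (2 : K) = 0) {c : K} (hc0 : c ≠ 0)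
    (hc1 : c ≠ 1) {E : Type*} [Group E] (ψ : E →* chevB2.SteinbergCover K)
    (hψ : Function.Surjective ψ) (hc : ψ.ker ≤ Subgroup.center E) :
    ∃ τ : chevB2.SteinbergCover K →* E, ψ.comp τ = MonoidHom.id _ := by
  have hD7 : chevB2 ∈ [chevG2, chevB2, chevD4, chevF4, chevE6, chevE7, chevE8] := by simp
  have H := coverStd_hyp (K := K) hD7
  have hG1 := H.hG.toGood1
  have tq1 := TQ1_B2
  have tq6 := TQ6_B2
  have hc2 : c ^ 2 ≠ 1 := by
    intro h
    apply hc1
    have h3 : (c - 1) ^ 2 = 0 := by linear_combination h + (1 - c) * h2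
    exact sub_eq_zero.mp (pow_eq_zero_iff (two_ne_zero) |>.mp h3)
  have hperf : commutator (chevB2.SteinbergCover K) = ⊤ :=
    Cfsg.Agent.S2395.result chevB2 hD7 (fun _ => ⟨c, hc0, hc1⟩)
  obtain ⟨C, hC⟩ : ∃ C : CExt E (chevB2.SteinbergCover K), C = ⟨ψ, hψ, hc, hperf⟩ := ⟨_, rfl⟩
  have hsepall : ∀ r s, r < chevB2.nroots → s < chevB2.nroots → s ≠ r → s ≠ chevB2.neg r →
      Sep (coverStd (K := K) hD7) r s :=
    fun r s hr hs h1 h2 => sep_of_sepQ H hc0 hc1 hc2 (tq1 r hr s hs h1 h2)
  obtain ⟨X, hX⟩ : ∃ X : CtxT (coverStd (K := K) hD7) E, X.C = C := by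
    refine ⟨{ C := C
              H := H
              h3 := (good3_of_mem chevB2 hD7).t3
              t7s := T7s_of_mem chevB2 hD7
              orb := T29_of_mem chevB2 hD7
              exHR := ?_
              lcself := ?_
              stepT := ?_ }, rfl⟩
    · intro r hr
      refine ⟨(coverStd (K := K) hD7).hgam r c, _, StD.hgam_mem_Hb r hc0, H.torE_hgam r hc0, ?_⟩
      rw [hG1.pairing_self hr]
      intro hh
      apply hc2
      exact_mod_cast hh
    · intro r hr t u
      have h : ((tabOf chevB2).appA r || (tabOf chevB2).appC r) = true := tq6 r hr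
      rw [Bool.or_eq_true] at h
      rcases h with h | h
      · apply lc_self_of_appA C hr h
        intro p hok
        left
        unfold Tab.okB at hok
        simp only [Bool.and_eq_true, decide_eq_true_eq, List.isEmpty_iff] at hok
        obtain ⟨⟨⟨h1, h2'⟩, h3⟩, _⟩ := hok
        exact hsepall r p hr h1 h2' h3
      · exact lc_self_of_appC C h2 hr h (fun p hp h1 h2' => hsepall r p hr hp h1 h2') t u
    · intro k s hk1 hks hs
      left
      have hk : k < chevB2.nroots := by omega
      exact hsepall k s hk hs (by omega) (ne_neg_of_pos H hk1 hk hks)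
  obtain ⟨τ, hτ⟩ := splits_of_ctxT hD7 X
  rw [hX, hC] at hτ
  exact ⟨τ, hτ⟩

end Cfsg.Agent.Helper7.Sq
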