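import Mathlib
import Cfsg.Agent.Helper7.SqI

set_option autoImplicit false
set_option linter.unusedSectionVars false
set_option linter.unusedVariables false

/-!
Central extensions of a group with elements `xb r t`: the canonical lifts `y r t` of the root elements of the
roots `r` of a given set, each of which is moved by an element of `Hb` and has commuting lifts of its root
elements; their additivity and the action of the lifts of the elements of `Hb` and `Nb`.
-/

namespace Cfsg.Agent.Helper7.Sq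

open Cfsg Cfsg.Lie Cfsg.Agent.Helper7.Chev Cfsg.Agent.Helper7.St Cfsg.Agent.Helper7.Sc

/-- The data of a central extension of a group with elements `xb r t`, with the facts on the torus for the
roots of a set. -/
structure CtxP {D : ChevalleyDatum} {K : Type*} [Field K] {Γ : Type*} [Group Γ] (S : StD D K Γ)
    (E : Type*) [Group E] where
  /-- the central extension -/
  C : CExt E Γ
  H : S.Hyp
  /-- the set of roots -/
  P : ℕ → Prop
  exHR : ∀ r, r < D.nroots → P r → ∃ (h : Γ) (χ : ℕ → K), h ∈ S.Hb ∧ S.TorE h χ ∧ χ r ≠ 1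
  lcself : ∀ r, r < D.nroots → P r → ∀ t u : K, C.LC (S.xb r t) (S.xb r u)

variable {D : ChevalleyDatum} {K : Type*} [Field K] {Γ E : Type*} [Group Γ] [Group E]
  {S : StD D K Γ} (X : CtxP S E)

namespace CtxP

include X in
/-- The root elements are injective in the parameter. -/
theorem xb_injective {r : ℕ} (hr : r < D.nroots) {a b : K} (h : S.xb r a = S.xb r b) : a = b := by
  have hG1 := X.H.hG.toGood1
  have e := congrArg S.π h
  rw [S.π_xb hG1 hr, S.π_xb hG1 hr] at e
  exact xGL_injective X.H.hG X.H.hT X.H.h8 hr e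

include X in
/-- For each root of the set an element of `Hb` acting on it by a scalar other than `1`. -/
theorem exists_hR (r : ℕ) :
    ∃ (h : Γ) (χ : ℕ → K), h ∈ S.Hb ∧ S.TorE h χ ∧ (r < D.nroots → X.P r → χ r ≠ 1) := by
  by_cases hr : r < D.nroots ∧ X.P r
  · obtain ⟨h, χ, h1, h2, h3⟩ := X.exHR r hr.1 hr.2
    exact ⟨h, χ, h1, h2, fun _ _ => h3⟩
  · exact ⟨1, _, one_mem _, S.torE_one, fun h h' => absurd ⟨h, h'⟩ hr⟩

/-- The chosen element of `Hb` for the root `r`. -/
noncomputable def hR (r : ℕ) : Γ := Classical.choose (X.exists_hR r)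

/-- The scalars by which the chosen element acts. -/
noncomputable def chR (r : ℕ) : ℕ → K := Classical.choose (Classical.choose_spec (X.exists_hR r))

theorem hR_mem (r : ℕ) : X.hR r ∈ S.Hb :=
  (Classical.choose_spec (Classical.choose_spec (X.exists_hR r))).1

theorem hR_torE (r : ℕ) : S.TorE (X.hR r) (X.chR r) :=
  (Classical.choose_spec (Classical.choose_spec (X.exists_hR r))).2.1

theorem chR_ne_one {r : ℕ} (hr : r < D.nroots) (hP : X.P r) : X.chR r r ≠ 1 :=
  (Classical.choose_spec (Classical.choose_spec (X.exists_hR r))).2.2 hr hP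

theorem chR_sub_ne_zero {r : ℕ} (hr : r < D.nroots) (hP : X.P r) : X.chR r r - 1 ≠ 0 :=
  sub_ne_zero.mpr (X.chR_ne_one hr hP)

/-- The canonical lift of `xb r t`. -/
noncomputable def y (r : ℕ) (t : K) : E :=
  X.C.cm (X.hR r) (S.xb r ((X.chR r r - 1)⁻¹ * t))

theorem ψ_y {r : ℕ} (hr : r < D.nroots) (hP : X.P r) (t : K) : X.C.ψ (X.y r t) = S.xb r t := by
  unfold y
  rw [X.C.ψ_cm, ((X.hR_torE r) r hr).2, S.xb_inv hr, S.add r hr]
  congr 1
  have := X.chR_sub_ne_zero hr hP
  field_simp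
  ring

theorem y_add {r : ℕ} (hr : r < D.nroots) (hP : X.P r) (t u : K) :
    X.y r t * X.y r u = X.y r (t + u) := by
  unfold y
  rw [mul_add, ← S.add r hr, X.C.cm_mul_right]
  congr 1
  have hlift : X.C.ψ (X.C.cm (X.hR r) (S.xb r ((X.chR r r - 1)⁻¹ * u))) = S.xb r u := X.ψ_y hr hP u
  exact ((X.lcself _ hr hP _ u).kap_eq X.C hlift).symm

theorem y_zero {r : ℕ} (hr : r < D.nroots) (hP : X.P r) : X.y r 0 = 1 := by
  have := X.y_add hr hP 0 0
  rw [add_zero] at this
  exact mul_eq_left.mp this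

theorem y_inv {r : ℕ} (hr : r < D.nroots) (hP : X.P r) (t : K) : (X.y r t)⁻¹ = X.y r (-t) := by
  rw [inv_eq_iff_mul_eq_one, X.y_add hr hP, add_neg_cancel, X.y_zero hr hP]

/-- Conjugation of the canonical lifts by a lift of an element of `Hb`. -/
theorem kap_y_of_Hb {g : Γ} (hg : g ∈ S.Hb) {χ : ℕ → K} (hχ : S.TorE g χ) {r : ℕ} (hr : r < D.nroots)
    (t : K) : X.C.kap g (X.y r t) = X.y r (χ r * t) := by
  unfold y
  rw [X.C.kap_cm, (hχ r hr).2]
  have hz : (X.hR r)⁻¹ * g * ((X.hR r)⁻¹)⁻¹ * g⁻¹ ∈ Subgroup.center Γ :=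
    X.H.Hb_comm_central (inv_mem (X.hR_mem r)) hg
  have e : g * X.hR r * g⁻¹ = X.hR r * ((X.hR r)⁻¹ * g * ((X.hR r)⁻¹)⁻¹ * g⁻¹) := by group
  rw [e, X.C.cm_mul_central hz]
  congr 2
  ring

/-- The commutator of lifts of an element of `Hb` and of a root element. -/
theorem cm_of_Hb {g : Γ} (hg : g ∈ S.Hb) {χ : ℕ → K} (hχ : S.TorE g χ) {r : ℕ} (hr : r < D.nroots)
    (hP : X.P r) (t : K) : X.C.cm g (S.xb r t) = X.y r ((χ r - 1) * t) := by
  rw [X.C.cm_eq_kap (X.ψ_y hr hP t), X.kap_y_of_Hb hg hχ hr, X.y_inv hr hP, X.y_add hr hP]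
  congr 1
  ring

/-- Conjugation of the canonical lifts by a lift of an element acting through a word. -/
theorem kap_y_of_Nb {n : Γ} (hn : n ∈ S.Nb) {w : List ℕ} {ε : ℕ → K} (hM : S.MonE n w ε) {r : ℕ}
    (hr : r < D.nroots) (hP : X.P r) (hP' : X.P ((tabOf D).reflWord w r)) (t : K) :
    X.C.kap n (X.y r t) = X.y ((tabOf D).reflWord w r) (ε r * t) := by
  have hG := X.H.hG
  obtain ⟨hw, hM'⟩ := hM
  obtain ⟨c1, _, c3⟩ := hM' r hr
  have hr' := reflWord_lt hG hw hr
  have hh' : n * X.hR r * n⁻¹ ∈ S.Hb := by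
    have := X.H.Nb_normalizes_Hb hn
    rw [Subgroup.mem_normalizer_iff] at this
    exact (this _).mp (X.hR_mem r)
  obtain ⟨χ', hχ'⟩ := X.H.Hb_torE hh'
  have hsame : χ' ((tabOf D).reflWord w r) = X.chR r r := by
    have e1 := (hχ' _ hr').2 (ε r)
    have e2 : n * X.hR r * n⁻¹ * S.xb ((tabOf D).reflWord w r) (ε r) * (n * X.hR r * n⁻¹)⁻¹ =
        n * (X.hR r * (n⁻¹ * S.xb ((tabOf D).reflWord w r) (ε r) * n) * (X.hR r)⁻¹) * n⁻¹ := by group
    have e3 : n⁻¹ * S.xb ((tabOf D).reflWord w r) (ε r) * n = S.xb r 1 := by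
      have := c3 1
      rw [mul_one] at this
      rw [← this]
      group
    rw [e2, e3, ((X.hR_torE r) r hr).2, c3] at e1
    have := X.xb_injective hr' e1
    rw [mul_one] at this
    field_simp at this
    exact this.symm
  unfold y
  rw [X.C.kap_cm, c3, X.cm_of_Hb hh' hχ' hr' hP', hsame]
  congr 1
  have := X.chR_sub_ne_zero hr hP
  field_simp

end CtxP

end Cfsg.Agent.Helper7.Sq
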