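import Mathlib
import Cfsg.Agent.Helper7.SqJ

set_option autoImplicit false
set_option linter.unusedSectionVars false
set_option linter.unusedVariables false

/-!
Central extensions of a group with elements `xb r t` over a field with three elements: the lifts of the root
elements of a root `r` which is the single commutator term of a pair of roots `(p, q)`, as commutators of
lifts of the root elements of `q` and `p`.
-/

namespace Cfsg.Agent.Helper7.Sq

open Cfsg Cfsg.Lie Cfsg.Agent.Helper7.Chev Cfsg.Agent.Helper7.St Cfsg.Agent.Helper7.Sc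

variable {D : ChevalleyDatum} {K : Type*} [Field K] {Γ E : Type*} [Group Γ] [Group E]
  {S : StD D K Γ}

/-- Elements all of whose lifts commute, commute. -/
theorem comm_of_LC (C : CExt E Γ) {d d' : Γ} (h : C.LC d d') : d * d' = d' * d := by
  have := h _ _ (C.ψ_lf d) (C.ψ_lf d')
  have e := congrArg C.ψ this
  rwa [map_mul, map_mul, C.ψ_lf, C.ψ_lf] at e

/-- The root `r` is the single commutator term of the pair `(p, q)`, with a coefficient which is not zero
in the field, and lifts of the root elements of `r` commute with those of `p` and `q`. -/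
structure Dec (S : StD D K Γ) (C : CExt E Γ) (r p q : ℕ) (N : ℤ) : Prop where
  hr : r < D.nroots
  hp : p < D.nroots
  hq : q < D.nroots
  hqp : q ≠ p
  hqn : q ≠ D.neg p
  hct : D.commTerms p q = [(r, N, 1, 1)]
  hN : ((N : ℤ) : K) ≠ 0
  lcp : ∀ a b : K, C.LC (S.xb r a) (S.xb p b)
  lcq : ∀ a b : K, C.LC (S.xb r a) (S.xb q b)

/-- The lift of `xb r v` as a commutator. -/
noncomputable def yL (S : StD D K Γ) (C : CExt E Γ) (p q : ℕ) (N : ℤ) (v : K) : E :=
  C.cm (S.xb q (-1)) (S.xb p (((N : ℤ) : K)⁻¹ * v))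

namespace Dec

variable {C : CExt E Γ} {r p q : ℕ} {N : ℤ} (d : Dec S C r p q N)

include d in
theorem rel (t u : K) :
    S.xb q u * S.xb p t = S.xb p t * S.xb q u * S.xb r (-((N : ℤ) : K) * t * u) := by
  have h := S.comm p q d.hp d.hq d.hqp d.hqn t u
  unfold ChevalleyDatum.commWord at h
  rw [d.hct] at h
  simp only [List.map_cons, List.map_nil, List.prod_cons, List.prod_nil, mul_one, pow_one] at h
  rw [h]
  congr 2
  ring

include d in
theorem ψ_F (a b : K) :
    C.ψ (C.cm (S.xb q a) (S.xb p b)) = S.xb r (-((N : ℤ) : K) * a * b) := by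
  rw [C.ψ_cm, d.rel b a]
  obtain ⟨c, hc⟩ : ∃ c : K, c = -((N : ℤ) : K) * b * a := ⟨_, rfl⟩
  have e0 : -((N : ℤ) : K) * a * b = c := by rw [hc]; ring
  rw [← hc, e0]
  have h1 := comm_of_LC C (d.lcq c a)
  have h2 := comm_of_LC C (d.lcp c b)
  have e1 : S.xb p b * S.xb q a * S.xb r c * (S.xb q a)⁻¹ * (S.xb p b)⁻¹ =
      S.xb p b * (S.xb q a * S.xb r c * (S.xb q a)⁻¹) * (S.xb p b)⁻¹ := by group
  have e2 : S.xb q a * S.xb r c * (S.xb q a)⁻¹ = S.xb r c := by
    rw [← h1]; group
  have e3 : S.xb p b * S.xb r c * (S.xb p b)⁻¹ = S.xb r c := by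
    rw [← h2]; group
  rw [e1, e2, e3]

include d in
theorem F_add_right (a b b' : K) :
    C.cm (S.xb q a) (S.xb p (b + b')) =
      C.cm (S.xb q a) (S.xb p b) * C.cm (S.xb q a) (S.xb p b') := by
  rw [← S.add p d.hp, C.cm_mul_right]
  congr 1
  exact (d.lcp _ b).symm.kap_eq C (d.ψ_F a b')

include d in
theorem ψ_G (a b : K) :
    C.ψ (C.cm (S.xb p b) (S.xb q a)) = S.xb r (((N : ℤ) : K) * a * b) := by
  rw [← C.cm_inv, map_inv, d.ψ_F, S.xb_inv d.hr]
  congr 1
  ring

include d in
theorem F_add_left (a a' b : K) :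
    C.cm (S.xb q (a + a')) (S.xb p b) =
      C.cm (S.xb q a') (S.xb p b) * C.cm (S.xb q a) (S.xb p b) := by
  have e : ∀ a, C.cm (S.xb q a) (S.xb p b) = (C.cm (S.xb p b) (S.xb q a))⁻¹ :=
    fun a => (C.cm_inv _ _).symm
  have e2 : C.cm (S.xb p b) (S.xb q (a + a')) =
      C.cm (S.xb p b) (S.xb q a) * C.cm (S.xb p b) (S.xb q a') := by
    rw [← S.add q d.hq, C.cm_mul_right]
    congr 1
    exact (d.lcq _ a).symm.kap_eq C (d.ψ_G a' b)
  rw [e, e, e, e2, _root_.mul_inv_rev]

include d in
theorem F_zero_left (b : K) : C.cm (S.xb q 0) (S.xb p b) = 1 := by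
  have := d.F_add_left 0 0 b
  rw [add_zero] at this
  exact mul_eq_left.mp this.symm

include d in
theorem F_zero_right (a : K) : C.cm (S.xb q a) (S.xb p 0) = 1 := by
  have := d.F_add_right a 0 0
  rw [add_zero] at this
  exact mul_eq_left.mp this.symm

include d in
theorem F_neg_left (a b : K) :
    C.cm (S.xb q (-a)) (S.xb p b) = (C.cm (S.xb q a) (S.xb p b))⁻¹ := by
  have := d.F_add_left a (-a) b
  rw [add_neg_cancel, d.F_zero_left] at this
  exact eq_inv_of_mul_eq_one_left this.symm

include d in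
theorem F_neg_right (a b : K) :
    C.cm (S.xb q a) (S.xb p (-b)) = (C.cm (S.xb q a) (S.xb p b))⁻¹ := by
  have := d.F_add_right a b (-b)
  rw [add_neg_cancel, d.F_zero_right] at this
  exact eq_inv_of_mul_eq_one_right this.symm

include d in
/-- The commutator of lifts depends on the product of the parameters only. -/
theorem F_eq (hK3 : ∀ t : K, t = 0 ∨ t = 1 ∨ t = -1) (a b : K) :
    C.cm (S.xb q a) (S.xb p b) = C.cm (S.xb q (-1)) (S.xb p (-(a * b))) := by
  rcases hK3 a with h | h | h
  · rw [h, d.F_zero_left, zero_mul, neg_zero, d.F_zero_right]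
  · rw [h, one_mul, d.F_neg_left, d.F_neg_right, inv_inv]
  · rw [h, neg_one_mul, neg_neg]

include d in
theorem ψ_yL (v : K) : C.ψ (yL S C p q N v) = S.xb r v := by
  unfold yL
  rw [d.ψ_F]
  congr 1
  have := d.hN
  field_simp

include d in
theorem yL_add (v v' : K) : yL S C p q N v * yL S C p q N v' = yL S C p q N (v + v') := by
  unfold yL
  rw [mul_add, d.F_add_right]

include d in
theorem yL_zero : yL S C p q N (0 : K) = 1 := by
  have := d.yL_add 0 0
  rw [add_zero] at this
  exact mul_eq_left.mp this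

include d in
theorem yL_inv (v : K) : (yL S C p q N v)⁻¹ = yL S C p q N (-v) := by
  rw [inv_eq_iff_mul_eq_one, d.yL_add, add_neg_cancel, d.yL_zero]

include d in
/-- The commutator of lifts of root elements of `q` and `p`. -/
theorem F_eq_yL (hK3 : ∀ t : K, t = 0 ∨ t = 1 ∨ t = -1) (a b : K) :
    C.cm (S.xb q a) (S.xb p b) = yL S C p q N (-((N : ℤ) : K) * a * b) := by
  rw [d.F_eq hK3 a b]
  unfold yL
  congr 2
  have := d.hN
  field_simp

include d in
/-- The commutator of lifts of root elements of `p` and `q`. -/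
theorem G_eq_yL (hK3 : ∀ t : K, t = 0 ∨ t = 1 ∨ t = -1) (a b : K) :
    C.cm (S.xb p b) (S.xb q a) = yL S C p q N (((N : ℤ) : K) * a * b) := by
  rw [← C.cm_inv, d.F_eq_yL hK3, d.yL_inv]
  congr 1
  ring

end Dec

end Cfsg.Agent.Helper7.Sq
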