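import Mathlib
import Cfsg.Agent.Helper7.SqK

set_option autoImplicit false
set_option linter.unusedSectionVars false
set_option linter.unusedVariables false

/-!
Central extensions of a group with elements `xb r t` over a field with three elements, when the roots
without odd pairings are single commutator terms of pairs of roots with odd pairings: the lifts of the root
elements, through the torus for the roots with odd pairings and as commutators for the others.
-/

namespace Cfsg.Agent.Helper7.Sq

open Cfsg Cfsg.Lie Cfsg.Agent.Helper7.Chev Cfsg.Agent.Helper7.St Cfsg.Agent.Helper7.Sc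

/-- The data of a central extension of a group with elements `xb r t` over a field with three elements,
with the table facts. -/
structure CtxB3 {D : ChevalleyDatum} {K : Type*} [Field K] {Γ : Type*} [Group Γ] (S : StD D K Γ)
    (E : Type*) [Group E] where
  /-- the central extension -/
  C : CExt E Γ
  H : S.Hyp
  h3 : (tabOf D).T3
  t7s : (tabOf D).T7s
  orb : ∃ orb, (tabOf D).T29 orb
  hK3 : ∀ t : K, t = 0 ∨ t = 1 ∨ t = -1
  h2 : (1 + 1 : K) ≠ 0
  tq7 : (tabOf D).TQ7
  tq8 : (tabOf D).TQ8
  /-- the words interchanging two roots -/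
  wits : List (List ℕ)
  tq9 : (tabOf D).TQ9 wits

variable {D : ChevalleyDatum} {K : Type*} [Field K] {Γ E : Type*} [Group Γ] [Group E]
  {S : StD D K Γ} (X : CtxB3 S E)

namespace CtxB3

include X in
theorem hm1 : (-1 : K) ≠ 1 := by
  intro h
  apply X.h2
  linear_combination -h

/-- The facts on the torus for the roots with odd pairings. -/
noncomputable def toP : CtxP S E where
  C := X.C
  H := X.H
  P := fun r => (tabOf D).oddB r = true
  exHR := by
    intro r hr h
    have hm0 : (-1 : K) ≠ 0 := neg_ne_zero.mpr one_ne_zero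
    unfold Tab.oddB at h
    rw [List.any_eq_true] at h
    obtain ⟨γ, _, hγ⟩ := h
    rw [decide_eq_true_eq] at hγ
    refine ⟨S.hgam γ (-1), _, StD.hgam_mem_Hb γ hm0, X.H.torE_hgam γ hm0, ?_⟩
    rw [Odd.neg_one_zpow (Int.odd_iff.mpr hγ)]
    exact X.hm1
  lcself := fun r hr _ t u => lc_self_of_three X.C X.hK3 hr t u

/-- A root without odd pairings is the single commutator term of its chosen pair. -/
theorem dec_of_long {r : ℕ} (hr : r < D.nroots) (hl : (tabOf D).oddB r = false) :
    Dec S X.C r ((tabOf D).srcOf r).1 ((tabOf D).srcOf r).2.1 ((tabOf D).srcOf r).2.2 := by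
  have h : (tabOf D).srcOK r = true := X.tq7 r hr hl
  unfold Tab.srcOK at h
  simp only [Bool.and_eq_true, decide_eq_true_eq] at h
  obtain ⟨⟨⟨⟨⟨⟨⟨⟨⟨⟨⟨h1, h2⟩, h3⟩, h4⟩, h5⟩, h6⟩, ok1⟩, ok2⟩, s1⟩, s2⟩, _⟩, _⟩ := h
  have hn : (tabOf D).n = D.nroots := rfl
  rw [hn] at h1 h2
  exact { hr := hr
          hp := h1
          hq := h2
          hqp := h3
          hqn := h4
          hct := h5
          hN := intCast_ne_zero_of_three X.hK3 X.h2 h6
          lcp := fun a b => lc_of_okB_sep X.C hr ok1 (Or.inl (sep_of_sepP X.H X.hm1 s1)) a b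
          lcq := fun a b => lc_of_okB_sep X.C hr ok2 (Or.inl (sep_of_sepP X.H X.hm1 s2)) a b }

open Classical in
/-- The lifts of the root elements. -/
noncomputable def y (r : ℕ) (v : K) : E :=
  if (tabOf D).oddB r = true then X.toP.y r v
  else yL S X.C ((tabOf D).srcOf r).1 ((tabOf D).srcOf r).2.1 ((tabOf D).srcOf r).2.2 v

theorem y_short {r : ℕ} (h : (tabOf D).oddB r = true) (v : K) : X.y r v = X.toP.y r v := by
  unfold y
  rw [if_pos h]

theorem y_long {r : ℕ} (h : (tabOf D).oddB r = false) (v : K) :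
    X.y r v = yL S X.C ((tabOf D).srcOf r).1 ((tabOf D).srcOf r).2.1 ((tabOf D).srcOf r).2.2 v := by
  unfold y
  rw [if_neg (by rw [h]; exact Bool.false_ne_true)]

theorem ψ_y {r : ℕ} (hr : r < D.nroots) (v : K) : X.C.ψ (X.y r v) = S.xb r v := by
  rcases hb : (tabOf D).oddB r with _ | _
  · rw [X.y_long hb]
    exact (X.dec_of_long hr hb).ψ_yL v
  · rw [X.y_short hb]
    exact X.toP.ψ_y hr hb v

theorem y_add {r : ℕ} (hr : r < D.nroots) (v v' : K) : X.y r v * X.y r v' = X.y r (v + v') := by
  rcases hb : (tabOf D).oddB r with _ | _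
  · rw [X.y_long hb, X.y_long hb, X.y_long hb]
    exact (X.dec_of_long hr hb).yL_add v v'
  · rw [X.y_short hb, X.y_short hb, X.y_short hb]
    exact X.toP.y_add hr hb v v'

/-- A lift of `xb r v` of the form `y r x` is `y r v`. -/
theorem y_eq_of_ψ {r : ℕ} (hr : r < D.nroots) {x v : K} {e : E} (he : e = X.y r x)
    (hψ : X.C.ψ e = S.xb r v) : e = X.y r v := by
  rw [he, X.ψ_y hr] at hψ
  rw [he, X.toP.xb_injective hr hψ]

end CtxB3

end Cfsg.Agent.Helper7.Sq
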