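import Mathlib
import Cfsg.Agent.Helper7.SqL

set_option autoImplicit false
set_option linter.unusedSectionVars false
set_option linter.unusedVariables false

/-!
The lifts of the root elements of `CtxB3` are permuted by the lifts of the elements of `Hb` and `Nb`, and
satisfy the conditions of `CtxG` on the pairs of positive roots.
-/

namespace Cfsg.Agent.Helper7.Sq

open Cfsg Cfsg.Lie Cfsg.Agent.Helper7.Chev Cfsg.Agent.Helper7.St Cfsg.Agent.Helper7.Sc

variable {D : ChevalleyDatum} {K : Type*} [Field K] {Γ E : Type*} [Group Γ] [Group E]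
  {S : StD D K Γ} (X : CtxB3 S E)

namespace CtxB3

include X in
/-- The words in the fundamental reflections preserve the roots with odd pairings, and carry the chosen pair
of a root without odd pairings to the chosen pair of its image, up to the order. -/
theorem word_inv : ∀ (w : List ℕ), (∀ i ∈ w, i < D.rank) → ∀ r, r < D.nroots →
    (tabOf D).oddB ((tabOf D).reflWord w r) = (tabOf D).oddB r ∧
    ((tabOf D).oddB r = false →
      (((tabOf D).reflWord w ((tabOf D).srcOf r).1 = ((tabOf D).srcOf ((tabOf D).reflWord w r)).1 ∧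
        (tabOf D).reflWord w ((tabOf D).srcOf r).2.1 =
          ((tabOf D).srcOf ((tabOf D).reflWord w r)).2.1) ∨
      ((tabOf D).reflWord w ((tabOf D).srcOf r).1 = ((tabOf D).srcOf ((tabOf D).reflWord w r)).2.1 ∧
        (tabOf D).reflWord w ((tabOf D).srcOf r).2.1 =
          ((tabOf D).srcOf ((tabOf D).reflWord w r)).1))) := by
  intro w
  induction w with
  | nil =>
    intro _ r _
    exact ⟨rfl, fun _ => Or.inl ⟨rfl, rfl⟩⟩
  | cons i w ih =>
    intro hw r hr
    have hi : i < D.rank := hw i List.mem_cons_self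
    have hw' : ∀ j ∈ w, j < D.rank := fun j hj => hw j (List.mem_cons_of_mem _ hj)
    obtain ⟨ih1, ih2⟩ := ih hw' r hr
    have hr' := reflWord_lt X.H.hG hw' hr
    obtain ⟨t1, t2⟩ := X.tq8 i hi _ hr'
    rw [reflWord_cons, reflWord_cons, reflWord_cons]
    refine ⟨?_, fun hl => ?_⟩
    · exact t1.trans ih1
    · have hl' : (tabOf D).oddB ((tabOf D).reflWord w r) = false := by rw [ih1]; exact hl
      rcases ih2 hl with ⟨a1, a2⟩ | ⟨a1, a2⟩ <;> rcases t2 hl' with ⟨b1, b2⟩ | ⟨b1, b2⟩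
      · left; rw [a1, a2]; exact ⟨b1, b2⟩
      · right; rw [a1, a2]; exact ⟨b1, b2⟩
      · right; rw [a1, a2]; exact ⟨b2, b1⟩
      · left; rw [a1, a2]; exact ⟨b2, b1⟩

/-- Conjugation of the lifts of the root elements by a lift of an element of `Hb`. -/
theorem kap_y_of_Hb {g : Γ} (hg : g ∈ S.Hb) {χ : ℕ → K} (hχ : S.TorE g χ) {r : ℕ} (hr : r < D.nroots)
    (v : K) : X.C.kap g (X.y r v) = X.y r (χ r * v) := by
  rcases hb : (tabOf D).oddB r with _ | _
  · have d := X.dec_of_long hr hb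
    apply X.y_eq_of_ψ hr (x := -(((tabOf D).srcOf r).2.2 : K) *
      (χ ((tabOf D).srcOf r).2.1 * (-1)) *
      (χ ((tabOf D).srcOf r).1 * (((((tabOf D).srcOf r).2.2 : ℤ) : K)⁻¹ * v)))
    · rw [X.y_long hb, X.y_long hb]
      unfold yL
      rw [X.C.kap_cm, (hχ _ d.hq).2, (hχ _ d.hp).2, d.F_eq_yL X.hK3]
      rfl
    · rw [X.C.ψ_kap, X.ψ_y hr, (hχ r hr).2]
  · rw [X.y_short hb, X.y_short hb]
    exact X.toP.kap_y_of_Hb hg hχ hr v

/-- Conjugation of the lifts of the root elements by a lift of an element acting through a word. -/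
theorem kap_y_of_Nb {n : Γ} (hn : n ∈ S.Nb) {w : List ℕ} {ε : ℕ → K} (hM : S.MonE n w ε) {r : ℕ}
    (hr : r < D.nroots) (v : K) :
    X.C.kap n (X.y r v) = X.y ((tabOf D).reflWord w r) (ε r * v) := by
  obtain ⟨winv1, winv2⟩ := X.word_inv w hM.1 r hr
  have hr' := reflWord_lt X.H.hG hM.1 hr
  rcases hb : (tabOf D).oddB r with _ | _
  · have hb' : (tabOf D).oddB ((tabOf D).reflWord w r) = false := by rw [winv1]; exact hb
    have d := X.dec_of_long hr hb
    have d' := X.dec_of_long hr' hb'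
    have hψ : X.C.ψ (X.C.kap n (X.y r v)) = S.xb ((tabOf D).reflWord w r) (ε r * v) := by
      rw [X.C.ψ_kap, X.ψ_y hr, (hM.2 r hr).2.2]
    have e0 : X.C.kap n (X.y r v) =
        X.C.cm (S.xb ((tabOf D).reflWord w ((tabOf D).srcOf r).2.1)
            (ε ((tabOf D).srcOf r).2.1 * (-1)))
          (S.xb ((tabOf D).reflWord w ((tabOf D).srcOf r).1)
            (ε ((tabOf D).srcOf r).1 * (((((tabOf D).srcOf r).2.2 : ℤ) : K)⁻¹ * v))) := by
      rw [X.y_long hb]
      unfold yL
      rw [X.C.kap_cm, (hM.2 _ d.hq).2.2, (hM.2 _ d.hp).2.2]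
    obtain ⟨x, hx⟩ : ∃ x : K, X.C.kap n (X.y r v) = X.y ((tabOf D).reflWord w r) x := by
      rcases winv2 hb with ⟨a1, a2⟩ | ⟨a1, a2⟩
      · refine ⟨?_, ?_⟩
        rotate_left
        · rw [e0, a1, a2, d'.F_eq_yL X.hK3, X.y_long hb']
      · refine ⟨?_, ?_⟩
        rotate_left
        · rw [e0, a1, a2, d'.G_eq_yL X.hK3, X.y_long hb']
    exact X.y_eq_of_ψ hr' hx hψ
  · have hb' : (tabOf D).oddB ((tabOf D).reflWord w r) = true := by rw [winv1]; exact hb
    rw [X.y_short hb, X.y_short hb']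
    exact X.toP.kap_y_of_Nb hn hM hr hb hb' v

end CtxB3

end Cfsg.Agent.Helper7.Sq
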