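import Mathlib
import Cfsg.Agent.Helper7.SqM

set_option autoImplicit false
set_option linter.unusedSectionVars false
set_option linter.unusedVariables false

/-!
Every central extension of the group presented by the relators (R1), (R2) of type B2 over a field with three
elements splits.
-/

namespace Cfsg.Agent.Helper7.Sq

open Cfsg Cfsg.Lie Cfsg.Agent.Helper7.Chev Cfsg.Agent.Helper7.St Cfsg.Agent.Helper7.Sc

variable {D : ChevalleyDatum} {K : Type*} [Field K] {Γ E : Type*} [Group Γ] [Group E]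
  {S : StD D K Γ} (X : CtxB3 S E)

namespace CtxB3

/-- The condition of `CtxG` on the pairs of positive roots. -/
theorem step {k s : ℕ} (hk1 : D.nroots / 2 ≤ k) (hks : k < s) (hs : s < D.nroots) :
    (∃ (h : Γ) (χ : ℕ → K), h ∈ S.Hb ∧ S.TorE h χ ∧ χ k = 1 ∧ χ s ≠ 1) ∨
    (∀ t u : K, X.y s u * X.y k t =
      X.y k t * X.y s u * ((D.commWord K k s t u).map fun p => X.y p.1 p.2).prod) := by
  have hk : k < D.nroots := by omega
  have hsk : s ≠ k := by omega
  have hsn : s ≠ D.neg k := ne_neg_of_pos X.H hk1 hk hks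
  have hn : (tabOf D).n = D.nroots := rfl
  have h : ((tabOf D).sepP k s || (((tabOf D).commTerms k s).isEmpty &&
      ((tabOf D).sepP s k || (tabOf D).excW X.wits k s)) || (tabOf D).pairB k s) = true :=
    X.tq9 k hk hk1 s hs hks
  rw [Bool.or_eq_true, Bool.or_eq_true] at h
  rcases h with (h | h) | h
  · exact Or.inl (sep_of_sepP X.H X.hm1 h)
  · right
    rw [Bool.and_eq_true, List.isEmpty_iff, commTerms_eq, Bool.or_eq_true] at h
    obtain ⟨hnil, h⟩ := h
    have hcomm := fun t u : K => Sc.Ctx.xb_comm_of_nil (S := S) hk hs hsk hsn hnil t u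
    have hlc : ∀ t u : K, X.C.LC (S.xb k t) (S.xb s u) := by
      rcases h with h | h
      · obtain ⟨g, χ, _, hg, e1, e2⟩ := sep_of_sepP X.H X.hm1 h
        intro t u
        exact (lc_of_torus X.C hs hk (fun u t => (hcomm t u).symm) hg e1 e2 u t).symm
      · unfold Tab.excW at h
        rw [List.any_eq_true] at h
        obtain ⟨w, _, h⟩ := h
        simp only [Bool.and_eq_true, decide_eq_true_eq, List.all_eq_true] at h
        obtain ⟨⟨⟨hw, hwk⟩, hws⟩, hsign⟩ := h
        have hw' : ∀ i ∈ w, i < D.rank := hw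
        obtain ⟨_, hM⟩ := monE_nw (S := S) X.H w hw'
        obtain ⟨_, _, hMk⟩ := hM k hk
        obtain ⟨_, _, hMs⟩ := hM s hs
        rw [hwk] at hMk
        rw [hws] at hMs
        intro t u
        apply lc_of_swap X.C X.hK3 X.h2 hk hs hcomm hMk hMs
        rw [← Int.cast_mul, hsign, Int.cast_one]
    intro t u
    unfold ChevalleyDatum.commWord
    rw [hnil]
    simp only [List.map_nil, List.prod_nil, mul_one]
    exact (hlc t u (X.y k t) (X.y s u) (X.ψ_y hk t) (X.ψ_y hs u)).symm
  · right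
    unfold Tab.pairB at h
    rw [commTerms_eq] at h
    rcases hct : D.commTerms k s with _ | ⟨c, _ | ⟨c₂, l⟩⟩
    · rw [hct] at h; simp at h
    · rw [hct] at h
      simp only [Bool.and_eq_true, Bool.or_eq_true, decide_eq_true_eq, Bool.not_eq_true'] at h
      obtain ⟨⟨⟨⟨hclt, hlong⟩, hi1⟩, hi2⟩, hpair⟩ := h
      obtain ⟨r, N, i, j⟩ := c
      simp only at hclt hlong hi1 hi2 hpair
      subst hi1 hi2
      rw [hn] at hclt
      have d := X.dec_of_long hclt hlong
      intro t u
      have hrel := S.comm k s hk hs hsk hsn t u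
      unfold ChevalleyDatum.commWord at hrel ⊢
      rw [hct] at hrel ⊢
      simp only [List.map_cons, List.map_nil, List.prod_cons, List.prod_nil, mul_one, pow_one]
        at hrel ⊢
      obtain ⟨W, hW⟩ : ∃ W : E, W = (X.y k t * X.y s u)⁻¹ * (X.y s u * X.y k t) := ⟨_, rfl⟩
      have hψ : X.C.ψ W = S.xb r (((N : ℤ) : K) * -t * u) := by
        rw [hW, map_mul, map_inv, map_mul, map_mul, X.ψ_y hk, X.ψ_y hs, hrel]
        group
      have hcm : W = X.C.cm (S.xb s (-u)) (S.xb k (-t)) := by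
        have ha : X.C.ψ (X.y s u)⁻¹ = S.xb s (-u) := by rw [map_inv, X.ψ_y hs, S.xb_inv hs]
        have hb : X.C.ψ (X.y k t)⁻¹ = S.xb k (-t) := by rw [map_inv, X.ψ_y hk, S.xb_inv hk]
        rw [X.C.cm_eq ha hb, hW]
        group
      obtain ⟨x, hx⟩ : ∃ x : K, W = X.y r x := by
        rcases hpair with ⟨e1, e2⟩ | ⟨e1, e2⟩
        · have := d.F_eq_yL X.hK3 (-u) (-t)
          rw [e1, e2] at this
          refine ⟨?_, ?_⟩
          rotate_left
          · rw [hcm, X.y_long hlong, this, e1, e2]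
        · have := d.G_eq_yL X.hK3 (-t) (-u)
          rw [e1, e2] at this
          refine ⟨?_, ?_⟩
          rotate_left
          · rw [hcm, X.y_long hlong, this, e1, e2]
      have hfin := X.y_eq_of_ψ hclt hx hψ
      rw [← hfin, hW]
      group
    · rw [hct] at h; simp at h

/-- The lifts of the root elements form the data of `CtxG`. -/
noncomputable def toCtxG : CtxG S E where
  C := X.C
  H := X.H
  h3 := X.h3
  t7s := X.t7s
  orb := X.orb
  y := X.y
  ψ_y' := fun r hr t => X.ψ_y hr t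
  y_add' := fun r hr t u => X.y_add hr t u
  kap_Hb' := fun g hg χ hχ r hr t => X.kap_y_of_Hb hg hχ hr t
  kap_Nb' := fun n hn w ε hM r hr t => X.kap_y_of_Nb hn hM hr t
  step := fun k s hk1 hks hs => X.step hk1 hks hs

end CtxB3

set_option maxRecDepth 1000000 in
set_option maxHeartbeats 0 in
theorem TQ7fast_B2 : fastB2.TQ7 := by decide +kernel

theorem TQ7_B2 : (tabOf chevB2).TQ7 := tab_B2 ▸ TQ7fast_B2

set_option maxRecDepth 1000000 in
set_option maxHeartbeats 0 in
theorem TQ8fast_B2 : fastB2.TQ8 := by decide +kernel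

theorem TQ8_B2 : (tabOf chevB2).TQ8 := tab_B2 ▸ TQ8fast_B2

set_option maxRecDepth 1000000 in
set_option maxHeartbeats 0 in
theorem TQ9fast_B2 : fastB2.TQ9 [[0]] := by decide +kernel

theorem TQ9_B2 : (tabOf chevB2).TQ9 [[0]] := tab_B2 ▸ TQ9fast_B2

/-- Every central extension of the presented group of type B2 splits, over a field with three elements. -/
theorem cover_splits_B2_three {K : Type*} [Field K] (hK3 : ∀ t : K, t = 0 ∨ t = 1 ∨ t = -1)
    (h2 : (1 + 1 : K) ≠ 0) {E : Type*} [Group E] (ψ : E →* chevB2.SteinbergCover K)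
    (hψ : Function.Surjective ψ) (hc : ψ.ker ≤ Subgroup.center E) :
    ∃ τ : chevB2.SteinbergCover K →* E, ψ.comp τ = MonoidHom.id _ := by
  have hD7 : chevB2 ∈ [chevG2, chevB2, chevD4, chevF4, chevE6, chevE7, chevE8] := by simp
  have hm1 : (-1 : K) ≠ 1 := by
    intro h
    apply h2
    linear_combination -h
  have hperf : commutator (chevB2.SteinbergCover K) = ⊤ :=
    Cfsg.Agent.S2395.result chevB2 hD7 (fun _ => ⟨-1, neg_ne_zero.mpr one_ne_zero, hm1⟩)
  obtain ⟨X, hX⟩ : ∃ X : CtxB3 (coverStd (K := K) hD7) E, X.C.ψ = ψ :=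
    ⟨{ C := ⟨ψ, hψ, hc, hperf⟩
       H := coverStd_hyp hD7
       h3 := (good3_of_mem chevB2 hD7).t3
       t7s := T7s_of_mem chevB2 hD7
       orb := T29_of_mem chevB2 hD7
       hK3 := hK3
       h2 := h2
       tq7 := TQ7_B2
       tq8 := TQ8_B2
       wits := [[0]]
       tq9 := TQ9_B2 }, rfl⟩
  obtain ⟨τ, hτ⟩ := splits_of_ctxG hD7 X.toCtxG
  have e : X.toCtxG.C.ψ = ψ := hX
  rw [e] at hτ
  exact ⟨τ, hτ⟩

end Cfsg.Agent.Helper7.Sq
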