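import Mathlib
import Cfsg.Agent.Helper7.SqN

set_option autoImplicit false
set_option linter.unusedSectionVars false
set_option linter.unusedVariables false

/-!
Every central extension of the group presented by the relators (R1), (R2) of type B2 over a finite field
with at least three elements splits; and the trivial Schur multiplier of the presented group of Steinberg
over a finite field, when the group presented by (R1), (R2) is perfect and all its central extensions split.
-/

namespace Cfsg.Agent.Helper7.Sq

open Cfsg Cfsg.Lie Cfsg.Agent.Helper7.Chev Cfsg.Agent.Helper7.St Cfsg.Agent.Helper7.Sc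

universe u

variable {D : ChevalleyDatum} {K : Type u} [Field K]

/-- Every central extension of the presented group of type B2 over a finite field with at least three
elements splits. -/
theorem cover_splits_B2 [Fintype K] (hK : 3 ≤ Fintype.card K) {E : Type*} [Group E]
    (ψ : E →* chevB2.SteinbergCover K) (hψ : Function.Surjective ψ)
    (hc : ψ.ker ≤ Subgroup.center E) :
    ∃ τ : chevB2.SteinbergCover K →* E, ψ.comp τ = MonoidHom.id _ := by
  classical
  have hD7 : chevB2 ∈ [chevG2, chevB2, chevD4, chevF4, chevE6, chevE7, chevE8] := by simp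
  by_cases h3 : Fintype.card K = 3
  · obtain ⟨hK3, h2⟩ := three_facts h3
    exact cover_splits_B2_three hK3 h2 ψ hψ hc
  by_cases h4 : Fintype.card K = 4
  · obtain ⟨c, hc0, hc1, _⟩ := exists_sq_ne_one (K := K) (by omega)
    have h4K : (4 : K) = 0 := by
      have := card_nsmul_eq_zero (G := K) (x := 1)
      rw [h4] at this
      simpa using this
    have h2 : (2 : K) = 0 := by
      have : (2 : K) * 2 = 0 := by
        rw [← h4K]; norm_num
      exact mul_self_eq_zero.mp this
    exact cover_splits_B2_even h2 hc0 hc1 ψ hψ hc
  · have hK5 : ∃ s : Finset K, 4 < s.card := ⟨Finset.univ, by rw [Finset.card_univ]; omega⟩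
    exact cover_splits hD7 hK5 ψ hψ hc

/-- The presented group of Steinberg over a finite field has trivial Schur multiplier, when the group
presented by the relators (R1), (R2) is perfect and all its central extensions split. -/
theorem schur_steinberg [Fintype K]
    (hD7 : D ∈ [chevG2, chevB2, chevD4, chevF4, chevE6, chevE7, chevE8])
    (hperf : commutator (D.SteinbergCover K) = ⊤)
    (hsplit : ∀ (E : Type u) [Group E] (ψ : E →* D.SteinbergCover K), Function.Surjective ψ →
      ψ.ker ≤ Subgroup.center E → ∃ τ : D.SteinbergCover K →* E, ψ.comp τ = MonoidHom.id _) :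
    Cfsg.HasCyclicSchurMultiplier (D.SteinbergGroup K) 1 := by
  classical
  obtain ⟨e, _⟩ := cover_equiv (K := K) hD7
  -- finiteness
  have hG := good3_of_mem D hD7
  have hkill : ∀ g ∈ D.steinbergRelsAB K, liftX hG.toGood1 g = 1 :=
    fun g hg => liftX_relsAB hG hg
  obtain ⟨θ', hθ'⟩ : ∃ θ' : D.SteinbergCover K →* ↥(D.group K),
      θ' = toChev hG (D.steinbergRelsAB K) hkill := ⟨_, rfl⟩
  have hθ's : Function.Surjective θ' := by rw [hθ']; exact toChev_surjective hG _ hkill
  have hθ'c : θ'.ker ≤ Subgroup.center (D.SteinbergCover K) := by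
    intro x hx
    rw [MonoidHom.mem_ker, hθ'] at hx
    exact (toChev_ker_mem hD7 (D.steinbergRelsAB K) (le_refl _) hkill hx).2
  have : Finite (D.SteinbergCover K ⧸ θ'.ker) :=
    Finite.of_equiv _ (QuotientGroup.quotientKerEquivOfSurjective θ' hθ's).symm.toEquiv
  have : θ'.ker.FiniteIndex := Subgroup.finiteIndex_of_finite_quotient
  have : Finite (D.SteinbergCover K) := finite_of_perfect_of_central hperf θ'.ker hθ'c
  refine schur_one_of_iso e.toMonoidHom e.surjective e.injective hperf ?_
  intro Γ _ σ hσs hσc
  obtain ⟨τ, hτ, _⟩ := exists_unique_lift hperf σ hσs hσc e.toMonoidHom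
    (fun P ψ h1 h2 => hsplit ↥P ψ h1 h2)
  exact ⟨τ, hτ⟩

end Cfsg.Agent.Helper7.Sq
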