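import Mathlib
import Cfsg.Agent.Helper7.SubFF

set_option autoImplicit false
set_option linter.unusedSectionVars false

/-! Orthogonal subfield structures for the unitary form, part A: rational structures without a
form, and rational structures on which the unitary form is symmetric with values in the
subfield (helper7). -/

namespace Cfsg.Agent.Helper7.SubF

open Matrix Module Cfsg Cfsg.Agent.Helper7.Herm Cfsg.Agent.Helper8.GUOrder
  Cfsg.Agent.Helper8.SURoot Cfsg.Agent.Helper7.SUGen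

variable {F : Type*} [Field F] [Fintype F] {q N : ℕ} [hK : Fact (Fintype.card F = q ^ 2)]

local notation "H" => hermForm N F q

/-- a rational structure: an additive subgroup `V` of `F ^ N` stable under the subfield `F₀` of
order `q`, with `F ^ N = V ⊕ lam V`. -/
structure RB (q : ℕ) (F₀ : Subfield F) (lam : F) (V : Set (Fin N → F)) : Prop where
  card : Nat.card F₀ = q
  lam_nm : lam ∉ F₀
  zero : (0 : Fin N → F) ∈ V
  add : ∀ x ∈ V, ∀ y ∈ V, x + y ∈ V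
  smul : ∀ a ∈ F₀, ∀ x ∈ V, a • x ∈ V
  decomp : ∀ x, ∃ w₁ ∈ V, ∃ w₂ ∈ V, x = w₁ + lam • w₂
  uniq : ∀ w₁ ∈ V, ∀ w₂ ∈ V, w₁ + lam • w₂ = 0 → w₁ = 0 ∧ w₂ = 0

namespace RB

variable {F₀ : Subfield F} {lam : F} {V : Set (Fin N → F)} (R : RB q F₀ lam V)

include R

omit hK in
theorem neg {x : Fin N → F} (hx : x ∈ V) : -x ∈ V := by
  have := R.smul (-1) (F₀.neg_mem F₀.one_mem) x hx
  rwa [neg_one_smul] at this

omit hK in
theorem sub {x y : Fin N → F} (hx : x ∈ V) (hy : y ∈ V) : x - y ∈ V := by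
  rw [sub_eq_add_neg]
  exact R.add x hx _ (R.neg hy)

omit hK in
theorem fix {a : F} (ha : a ∈ F₀) : a ^ q = a := pow_q_of_mem R.card ha

omit hK in
theorem mem_of_fix {a : F} (ha : a ^ q = a) : a ∈ F₀ := mem_of_pow_q R.card (two_le_q R.card) ha

/-- uniqueness of the components. -/
theorem uniq2 {w₁ w₂ v₁ v₂ : Fin N → F} (h1 : w₁ ∈ V) (h2 : w₂ ∈ V) (h3 : v₁ ∈ V) (h4 : v₂ ∈ V)
    (e : w₁ + lam • w₂ = v₁ + lam • v₂) : w₁ = v₁ ∧ w₂ = v₂ := by
  have e' : (w₁ - v₁) + lam • (w₂ - v₂) = 0 := by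
    have : (w₁ - v₁) + lam • (w₂ - v₂) = (w₁ + lam • w₂) - (v₁ + lam • v₂) := by module
    rw [this, e, sub_self]
  obtain ⟨e1, e2⟩ := R.uniq _ (R.sub h1 h3) _ (R.sub h2 h4) e'
  exact ⟨sub_eq_zero.mp e1, sub_eq_zero.mp e2⟩

/-- a scalar carrying a non-zero vector of `V` into `V` lies in the subfield. -/
theorem coef_mem {c : F} {w : Fin N → F} (hw : w ∈ V) (hw0 : w ≠ 0) (hcw : c • w ∈ V) :
    c ∈ F₀ := by
  obtain ⟨c₁, h1, c₂, h2, rfl⟩ := field_decomp R.card R.lam_nm c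
  have e : (c₁ • w - (c₁ + lam * c₂) • w) + lam • (c₂ • w) = 0 := by module
  obtain ⟨-, e2⟩ := R.uniq _ (R.sub (R.smul c₁ h1 w hw) hcw) _ (R.smul c₂ h2 w hw) e
  have : c₂ = 0 := (smul_eq_zero.mp e2).resolve_right hw0
  rw [this, mul_zero, add_zero]
  exact h1

/-- coefficients of an element of `V` with respect to independent vectors of `V` lie in the
subfield. -/
theorem coef2_mem {α β : F} {v v' : Fin N → F} (hv : v ∈ V) (hv' : v' ∈ V) (hI : Indep v v')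
    (h : α • v + β • v' ∈ V) : α ∈ F₀ ∧ β ∈ F₀ := by
  obtain ⟨α₁, ha1, α₂, ha2, rfl⟩ := field_decomp R.card R.lam_nm α
  obtain ⟨β₁, hb1, β₂, hb2, rfl⟩ := field_decomp R.card R.lam_nm β
  have e : ((α₁ • v + β₁ • v') - ((α₁ + lam * α₂) • v + (β₁ + lam * β₂) • v')) +
      lam • (α₂ • v + β₂ • v') = 0 := by module
  obtain ⟨-, e2⟩ := R.uniq _ (R.sub (R.add _ (R.smul α₁ ha1 v hv) _ (R.smul β₁ hb1 v' hv')) h) _
    (R.add _ (R.smul α₂ ha2 v hv) _ (R.smul β₂ hb2 v' hv')) e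
  obtain ⟨e3, e4⟩ := hI _ _ e2
  rw [e3, e4, mul_zero, add_zero, add_zero]
  exact ⟨ha1, hb1⟩

omit hK in
/-- a vector with dependent components is a scalar multiple of a vector of `V`. -/
theorem dep_smul {w₁ w₂ : Fin N → F} (h1 : w₁ ∈ V) (h2 : w₂ ∈ V) (hI : ¬ Indep w₁ w₂) :
    ∃ c : F, ∃ v ∈ V, w₁ + lam • w₂ = c • v := by
  unfold Indep at hI
  push Not at hI
  obtain ⟨a, b, hab, hne⟩ := hI
  by_cases hb : b = 0
  · rw [hb, zero_smul, add_zero] at hab
    have ha : a ≠ 0 := fun ha => hne ha hb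
    have hw : w₁ = 0 := (smul_eq_zero.mp hab).resolve_left ha
    exact ⟨lam, w₂, h2, by rw [hw, zero_add]⟩
  · refine ⟨1 - lam * (a / b), w₁, h1, ?_⟩
    have : w₂ = -(a / b) • w₁ := by
      have h3 : b • w₂ = -(a • w₁) := by
        rw [eq_neg_iff_add_eq_zero, add_comm]; exact hab
      calc w₂ = b⁻¹ • (b • w₂) := by rw [smul_smul, inv_mul_cancel₀ hb, one_smul]
        _ = _ := by rw [h3, smul_neg, smul_smul, neg_smul]; congr 2; field_simp
    rw [this]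
    module

/-- a vector with independent components is not a scalar multiple of a rational point. -/
theorem not_smul_of_indep {w₁ w₂ : Fin N → F} (h1 : w₁ ∈ V) (h2 : w₂ ∈ V) (hI : Indep w₁ w₂)
    (c : F) {v : Fin N → F} (hv : v ∈ V) : w₁ + lam • w₂ ≠ c • v := by
  intro e
  obtain ⟨d₁, hd₁, d₂, hd₂, rfl⟩ := field_decomp R.card R.lam_nm c
  have e' : w₁ + lam • w₂ = d₁ • v + lam • (d₂ • v) := by
    rw [e]; module
  obtain ⟨e1, e2⟩ := R.uniq2 h1 h2 (R.smul d₁ hd₁ v hv) (R.smul d₂ hd₂ v hv) e'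
  have h3 : d₂ • w₁ + (-d₁) • w₂ = 0 := by
    rw [e1, e2]
    module
  obtain ⟨h4, h5⟩ := hI _ _ h3
  rw [neg_eq_zero] at h5
  apply hI.ne_left
  rw [e1, h5, zero_smul]

/-- from pointwise scalars to a uniform scalar. -/
theorem uniform {A B : Matrix (Fin N) (Fin N) F} (hBA : B * A = 1)
    (h : ∀ w ∈ V, ∃ μ : F, μ ≠ 0 ∧ μ • (A *ᵥ w) ∈ V) :
    ∃ μ : F, μ ≠ 0 ∧ ∀ w ∈ V, μ • (A *ᵥ w) ∈ V := by
  by_cases hex : ∃ w₀ ∈ V, w₀ ≠ 0
  · obtain ⟨w₀, hw₀, hne⟩ := hex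
    obtain ⟨μ₀, hμ₀, hm₀⟩ := h w₀ hw₀
    refine ⟨μ₀, hμ₀, fun w hw => ?_⟩
    by_cases hI : Indep w w₀
    · obtain ⟨μ, hμ, hm⟩ := h w hw
      obtain ⟨μ', hμ', hm'⟩ := h (w + w₀) (R.add _ hw _ hw₀)
      have hI' : Indep (μ • (A *ᵥ w)) (μ₀ • (A *ᵥ w₀)) := (hI.map A B hBA).smul hμ hμ₀
      have e : μ' • (A *ᵥ (w + w₀)) =
          (μ' / μ) • (μ • (A *ᵥ w)) + (μ' / μ₀) • (μ₀ • (A *ᵥ w₀)) := by
        rw [mulVec_add, smul_add, smul_smul, smul_smul, div_mul_cancel₀ _ hμ,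
          div_mul_cancel₀ _ hμ₀]
      rw [e] at hm'
      obtain ⟨c1, c2⟩ := R.coef2_mem hm hm₀ hI' hm'
      have e2 : μ₀ • (A *ᵥ w) = ((μ' / μ₀)⁻¹ * (μ' / μ)) • (μ • (A *ᵥ w)) := by
        rw [smul_smul]
        congr 1
        field_simp
      rw [e2]
      exact R.smul _ (F₀.mul_mem (F₀.inv_mem c2) c1) _ hm
    · unfold Indep at hI
      push Not at hI
      obtain ⟨a, b, hab, hne'⟩ := hI
      have ha : a ≠ 0 := by
        intro ha
        have hb := hne' ha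
        rw [ha, zero_smul, zero_add] at hab
        exact hne ((smul_eq_zero.mp hab).resolve_left hb)
      have hw' : w = (-(b / a)) • w₀ := by
        have h3 : a • w = -(b • w₀) := by
          rw [eq_neg_iff_add_eq_zero]; exact hab
        calc w = a⁻¹ • (a • w) := by rw [smul_smul, inv_mul_cancel₀ ha, one_smul]
          _ = _ := by rw [h3, smul_neg, smul_smul, neg_smul]; congr 2; field_simp
      have hc : -(b / a) ∈ F₀ := R.coef_mem hw₀ hne (by rw [← hw']; exact hw)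
      rw [hw', mulVec_smul, smul_comm]
      exact R.smul _ hc _ hm₀
  · push Not at hex
    refine ⟨1, one_ne_zero, fun w hw => ?_⟩
    rw [hex w hw, mulVec_zero, smul_zero]
    exact R.zero

omit hK in
/-- a non-zero rational point. -/
theorem exists_ne_zero (hN : 1 ≤ N) : ∃ a ∈ V, a ≠ 0 := by
  by_contra hcon
  push Not at hcon
  have : ∀ x : Fin N → F, x = 0 := by
    intro x
    obtain ⟨w₁, h1, w₂, h2, rfl⟩ := R.decomp x
    rw [hcon w₁ h1, hcon w₂ h2, smul_zero, add_zero]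
  have h1 := this (fun _ => 1)
  have := congrFun h1 ⟨0, by omega⟩
  exact one_ne_zero this

end RB

/-- an orthogonal rational structure for the unitary form: the form is symmetric with values in
the subfield on `V`; `lam` has trace zero; and `V` has hyperbolic pairs orthogonal to any five
of its vectors. -/
structure RO (q : ℕ) (F₀ : Subfield F) (lam : F) (V : Set (Fin N → F)) : Prop
    extends RB q F₀ lam V where
  lam_tz : lam ^ q + lam = 0
  two_ne : (2 : F) ≠ 0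
  val : ∀ x ∈ V, ∀ y ∈ V, hermForm N F q x y ∈ F₀
  hyp : ∀ c₁ ∈ V, ∀ c₂ ∈ V, ∀ c₃ ∈ V, ∀ c₄ ∈ V, ∀ c₅ ∈ V, ∃ e ∈ V, ∃ f ∈ V,
    hermForm N F q e e = 0 ∧ hermForm N F q f f = 0 ∧ hermForm N F q e f = 1 ∧
    (hermForm N F q e c₁ = 0 ∧ hermForm N F q e c₂ = 0 ∧ hermForm N F q e c₃ = 0 ∧
      hermForm N F q e c₄ = 0 ∧ hermForm N F q e c₅ = 0) ∧
    (hermForm N F q f c₁ = 0 ∧ hermForm N F q f c₂ = 0 ∧ hermForm N F q f c₃ = 0 ∧
      hermForm N F q f c₄ = 0 ∧ hermForm N F q f c₅ = 0)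

namespace RO

variable {F₀ : Subfield F} {lam : F} {V : Set (Fin N → F)} (R : RO q F₀ lam V)

include R

omit hK in
theorem lam_pow : lam ^ q = -lam := by linear_combination R.lam_tz

omit hK in
theorem lam_ne : lam ≠ 0 := by
  intro h
  apply R.lam_nm
  rw [h]
  exact F₀.zero_mem

omit hK in
theorem lam_sq_mem : lam ^ 2 ∈ F₀ := by
  apply R.toRB.mem_of_fix
  rw [← pow_mul, mul_comm, pow_mul, R.lam_pow]
  ring

/-- the values of the form on `V` are fixed by `x ↦ x ^ q`. -/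
theorem hfix {x y : Fin N → F} (hx : x ∈ V) (hy : y ∈ V) : (H x y) ^ q = H x y :=
  R.toRB.fix (R.val x hx y hy)

/-- on `V` the form is symmetric. -/
theorem symm {x y : Fin N → F} (hx : x ∈ V) (hy : y ∈ V) : H y x = H x y := by
  rw [hermForm_swap hK.out y x, R.hfix hx hy]

/-- the form on `V` is non-degenerate, even against arbitrary vectors. -/
theorem nondeg {x : Fin N → F} (hx : x ≠ 0) : ∃ y ∈ V, H x y ≠ 0 := by
  by_contra hcon
  push Not at hcon
  apply hx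
  apply eq_zero_of_herm (q := q)
  intro z
  apply herm_zero_swap
  obtain ⟨w₁, h1, w₂, h2, rfl⟩ := R.decomp z
  rw [hr_add, hr_smul, hcon w₁ h1, hcon w₂ h2, mul_zero, add_zero]

/-- the components of a vector orthogonal to a rational vector are orthogonal to it. -/
theorem comp_perp {x₁ x₂ v : Fin N → F} (h1 : x₁ ∈ V) (h2 : x₂ ∈ V) (hv : v ∈ V)
    (h : H (x₁ + lam • x₂) v = 0) : H x₁ v = 0 ∧ H x₂ v = 0 := by
  rw [hl_add, hl_smul] at h
  exact field_uniq R.card R.lam_nm (R.val _ h1 _ hv) (R.val _ h2 _ hv) h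

/-- the same with the arguments exchanged. -/
theorem comp_perp' {x₁ x₂ v : Fin N → F} (h1 : x₁ ∈ V) (h2 : x₂ ∈ V) (hv : v ∈ V)
    (h : H v (x₁ + lam • x₂) = 0) : H v x₁ = 0 ∧ H v x₂ = 0 := by
  have h' : H (x₁ + lam • x₂) v = 0 := herm_zero_swap h
  obtain ⟨e1, e2⟩ := R.comp_perp h1 h2 hv h'
  exact ⟨herm_zero_swap e1, herm_zero_swap e2⟩

/-- the value of the form on `w₁ + lam w₂`. -/
theorem herm_decomp {w₁ w₂ : Fin N → F} (h1 : w₁ ∈ V) (h2 : w₂ ∈ V) :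
    H (w₁ + lam • w₂) (w₁ + lam • w₂) = H w₁ w₁ - lam ^ 2 * H w₂ w₂ := by
  rw [hl_add, hr_add, hr_add, hl_smul, hl_smul, hr_smul, hr_smul, R.symm h1 h2, R.lam_pow]
  ring

end RO

end Cfsg.Agent.Helper7.SubF
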