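import Mathlib
import Cfsg.Agent.Helper7.SubOA

set_option autoImplicit false
set_option linter.unusedSectionVars false

/-! Orthogonal subfield structures for the unitary form, part B: existence of singular rational
vectors with prescribed products (helper7). -/

namespace Cfsg.Agent.Helper7.SubF

open Matrix Module Cfsg Cfsg.Agent.Helper7.Herm Cfsg.Agent.Helper8.GUOrder
  Cfsg.Agent.Helper8.SURoot Cfsg.Agent.Helper7.SUGen

variable {F : Type*} [Field F] [Fintype F] {q N : ℕ} [hK : Fact (Fintype.card F = q ^ 2)]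

local notation "H" => hermForm N F q

omit [Fintype F] hK in
theorem Indep.symm {v v' : Fin N → F} (h : Indep v v') : Indep v' v := by
  intro a b hab
  rw [add_comm] at hab
  exact (h b a hab).symm

namespace RO

variable {F₀ : Subfield F} {lam : F} {V : Set (Fin N → F)} (R : RO q F₀ lam V)

include R

omit hK in
theorem half_mem : (2 : F)⁻¹ ∈ F₀ := by
  apply F₀.inv_mem
  have : (2 : F) = 1 + 1 := by norm_num
  rw [this]
  exact F₀.add_mem F₀.one_mem F₀.one_mem

/-- a singular rational vector with the same products as `y` against three given rational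
vectors. -/
theorem exists_sing_like {y c₁ c₂ c₃ : Fin N → F} (hy : y ∈ V) (h1 : c₁ ∈ V) (h2 : c₂ ∈ V)
    (h3 : c₃ ∈ V) : ∃ u ∈ V, H u u = 0 ∧ H u c₁ = H y c₁ ∧ H u c₂ = H y c₂ ∧ H u c₃ = H y c₃ := by
  obtain ⟨e, he, f, hf, hee, hff, hef, ⟨e1, e2, e3, e4, -⟩, ⟨f1, f2, f3, f4, -⟩⟩ :=
    R.hyp c₁ h1 c₂ h2 c₃ h3 y hy y hy
  have hk : -(H y y * 2⁻¹) ∈ F₀ := F₀.neg_mem (F₀.mul_mem (R.val y hy y hy) R.half_mem)
  have hkq := R.toRB.fix hk
  have hfe : H f e = 1 := by rw [R.symm he hf, hef]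
  have hye : H y e = 0 := by rw [R.symm he hy, e4]
  have hyf : H y f = 0 := by rw [R.symm hf hy, f4]
  have h2 := R.two_ne
  refine ⟨e + (-(H y y * 2⁻¹)) • f + y, R.add _ (R.add _ he _ (R.smul _ hk f hf)) _ hy, ?_, ?_, ?_,
    ?_⟩
  · simp only [hl_add, hr_add, hl_smul, hr_smul, hkq, hee, hff, hef, hfe, e4, f4, hye, hyf]
    field_simp
    ring
  · simp only [hl_add, hl_smul, e1, f1]
    ring
  · simp only [hl_add, hl_smul, e2, f2]
    ring
  · simp only [hl_add, hl_smul, e3, f3]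
    ring

/-- two non-zero vectors have a common non-orthogonal vector in `V`. -/
theorem exists_both {u w : Fin N → F} (hu0 : u ≠ 0) (hw0 : w ≠ 0) :
    ∃ z ∈ V, H u z ≠ 0 ∧ H w z ≠ 0 := by
  obtain ⟨z₁, hz₁, h1⟩ := R.nondeg hu0
  obtain ⟨z₂, hz₂, h2⟩ := R.nondeg hw0
  by_cases h3 : H w z₁ = 0
  · by_cases h4 : H u z₂ = 0
    · refine ⟨z₁ + z₂, R.add _ hz₁ _ hz₂, ?_, ?_⟩
      · rw [hr_add, h4, add_zero]; exact h1
      · rw [hr_add, h3, zero_add]; exact h2
    · exact ⟨z₂, hz₂, h4, h2⟩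
  · exact ⟨z₁, hz₁, h1, h3⟩

/-- inside `a^⊥ ∩ V` there is a vector not orthogonal to `u`, when `a, u` are independent. -/
theorem exists_perp_ne {a u : Fin N → F} (ha : a ∈ V) (hu : u ∈ V) (hI : Indep a u) :
    ∃ z ∈ V, H a z = 0 ∧ H u z ≠ 0 := by
  by_contra hcon
  push Not at hcon
  obtain ⟨b, hb, hab⟩ := R.nondeg hI.ne_left
  have hk : H u b / H a b ∈ F₀ := F₀.div_mem (R.val u hu b hb) (R.val a ha b hb)
  have hzero : u - (H u b / H a b) • a = 0 := by
    by_contra hne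
    obtain ⟨y, hy, hy0⟩ := R.nondeg hne
    apply hy0
    have hc : H a y / H a b ∈ F₀ := F₀.div_mem (R.val a ha y hy) (R.val a ha b hb)
    have hz : y - (H a y / H a b) • b ∈ V := R.sub hy (R.smul _ hc b hb)
    have h1 : H a (y - (H a y / H a b) • b) = 0 := by
      rw [hr_sub, hr_smul, R.toRB.fix hc, div_mul_cancel₀ _ hab, sub_self]
    have h2 := hcon _ hz h1
    rw [hr_sub, hr_smul, R.toRB.fix hc] at h2
    rw [hl_sub, hl_smul]
    have h3 : H u y = H a y / H a b * H u b := by linear_combination h2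
    rw [h3]
    field_simp
    ring
  have := (hI (-(H u b / H a b)) 1 (by rw [neg_smul, one_smul, neg_add_eq_sub]; exact hzero)).2
  exact one_ne_zero this

/-- a rational vector with product one against two independent rational vectors. -/
theorem exists_dual2 {a a₁ : Fin N → F} (ha : a ∈ V) (ha₁ : a₁ ∈ V) (hI : Indep a a₁) :
    ∃ y ∈ V, H y a = 1 ∧ H y a₁ = 1 := by
  obtain ⟨z, hz, hz1, hz2⟩ := R.exists_perp_ne ha ha₁ hI
  obtain ⟨z', hz', hz1', hz2'⟩ := R.exists_perp_ne ha₁ ha hI.symm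
  have hc : (H a₁ z)⁻¹ ∈ F₀ := F₀.inv_mem (R.val _ ha₁ _ hz)
  have hc' : (H a z')⁻¹ ∈ F₀ := F₀.inv_mem (R.val _ ha _ hz')
  refine ⟨(H a₁ z)⁻¹ • z + (H a z')⁻¹ • z', R.add _ (R.smul _ hc z hz) _ (R.smul _ hc' z' hz'),
    ?_, ?_⟩
  · rw [hl_add, hl_smul, hl_smul, R.symm ha hz, hz1, R.symm ha hz', mul_zero, zero_add,
      inv_mul_cancel₀ hz2']
  · rw [hl_add, hl_smul, hl_smul, R.symm ha₁ hz, R.symm ha₁ hz', hz1', mul_zero, add_zero,
      inv_mul_cancel₀ hz2]

end RO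

end Cfsg.Agent.Helper7.SubF
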