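import Mathlib
import Cfsg.Agent.Helper7.SubOB

set_option autoImplicit false
set_option linter.unusedSectionVars false

/-! Orthogonal subfield structures for the unitary form, part C: a subgroup of `SU` containing the
unitary transvections centred at the singular rational vectors and normalised suitably contains
all unitary transvections (helper7). -/

namespace Cfsg.Agent.Helper7.SubF

open Matrix Module Cfsg Cfsg.Agent.Helper7.Herm Cfsg.Agent.Helper8.GUOrder
  Cfsg.Agent.Helper8.SURoot Cfsg.Agent.Helper7.SUGen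

variable {F : Type*} [Field F] [Fintype F] {q N : ℕ} [hK : Fact (Fintype.card F = q ^ 2)]

local notation "H" => hermForm N F q

/-- `p` is isotropic and all unitary transvections centred at `p` lie in `Hs`. -/
def InO (Hs : Subgroup (SU N F q)) (p : Fin N → F) : Prop :=
  H p p = 0 ∧ ∀ s : F, s ^ q + s = 0 → TU q p s ∈ Hs

theorem InO.map {Hs : Subgroup (SU N F q)} {p : Fin N → F} (h : InO Hs p) {t : SU N F q}
    (ht : t ∈ Hs) : InO Hs (mt t *ᵥ p) := by
  refine ⟨by rw [herm_mt, h.1], fun s hs => ?_⟩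
  rw [← conj_TU t h.1 hs]
  exact mul_mem (mul_mem ht (h.2 s hs)) (inv_mem ht)

theorem InO.smul {Hs : Subgroup (SU N F q)} {p : Fin N → F} (h : InO Hs p) (c : F) :
    InO Hs (c • p) := by
  refine ⟨by rw [hl_smul, hr_smul, h.1, mul_zero, mul_zero], fun s hs => ?_⟩
  rw [TU_smul h.1 hs]
  exact h.2 _ (tz_mul_fixed hs (norm_fixed c))

/-- moving along a hyperbolic line by the transvections at one of its points. -/
theorem InO.move {Hs : Subgroup (SU N F q)} {p' x : Fin N → F} (hp' : InO Hs p')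
    (hx : InO Hs x) (hne : H x p' ≠ 0) {t : F} (hiso : H (x + t • p') (x + t • p') = 0) :
    InO Hs (x + t • p') := by
  have h1 : t ^ q * H x p' + t * (H x p') ^ q = 0 := by
    rw [hl_add, hr_add, hr_add, hl_smul, hl_smul, hr_smul, hr_smul, hx.1, hp'.1,
      hermForm_swap hK.out p' x] at hiso
    linear_combination hiso
  have hne' : (H x p') ^ q ≠ 0 := pow_ne_zero _ hne
  have hs : (t / H x p') ^ q + t / H x p' = 0 := by
    rw [div_pow]
    field_simp
    linear_combination h1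
  have := hx.map (hp'.2 _ hs)
  rwa [TU_mulVec hp'.1 hs, div_mul_cancel₀ _ hne] at this

namespace RO

variable {F₀ : Subfield F} {lam : F} {V : Set (Fin N → F)} (R : RO q F₀ lam V)
  (Hs : Subgroup (SU N F q))
  (hV : ∀ a ∈ V, hermForm N F q a a = 0 → ∀ s : F, s ^ q + s = 0 → TU q a s ∈ Hs)

include R hV

omit R in
theorem inO_of_mem {a : Fin N → F} (ha : a ∈ V) (haa : H a a = 0) : InO Hs a :=
  ⟨haa, hV a ha haa⟩

/-- vectors whose components are singular. -/
theorem inO_of_sing {w₁ w₂ : Fin N → F} (h1 : w₁ ∈ V) (h2 : w₂ ∈ V) (h11 : H w₁ w₁ = 0)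
    (h22 : H w₂ w₂ = 0) : InO Hs (w₁ + lam • w₂) := by
  have hiso : ∀ {v₁ v₂ : Fin N → F}, v₁ ∈ V → v₂ ∈ V → H v₁ v₁ = 0 → H v₂ v₂ = 0 →
      H (v₁ + lam • v₂) (v₁ + lam • v₂) = 0 := by
    intro v₁ v₂ hv₁ hv₂ e1 e2
    rw [R.herm_decomp hv₁ hv₂, e1, e2, mul_zero, sub_zero]
  have hB : ∀ {v₁ v₂ : Fin N → F}, v₁ ∈ V → v₂ ∈ V → H v₁ v₁ = 0 → H v₂ v₂ = 0 →
      H v₁ v₂ ≠ 0 → InO Hs (v₁ + lam • v₂) := by
    intro v₁ v₂ hv₁ hv₂ e1 e2 hne
    exact (inO_of_mem Hs hV hv₂ e2).move (inO_of_mem Hs hV hv₁ e1) hne (hiso hv₁ hv₂ e1 e2)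
  by_cases h12 : H w₁ w₂ = 0
  · by_cases hI : Indep w₁ w₂
    · obtain ⟨y, hy, hy1, hy2⟩ := R.exists_perp_ne h1 h2 hI
      obtain ⟨b, hb, hbb, hb1, hb2, -⟩ := R.exists_sing_like hy h1 h2 h2
      have hb1' : H w₁ b = 0 := by rw [R.symm hb h1, hb1, R.symm h1 hy, hy1]
      have hb2' : H b w₂ ≠ 0 := by rw [hb2, R.symm h2 hy]; exact hy2
      have h3 : H (w₁ + b) (w₁ + b) = 0 := by
        rw [hl_add, hr_add, hr_add, h11, hbb, hb1', R.symm h1 hb, hb1']
        ring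
      have h4 : H (w₁ + b) w₂ ≠ 0 := by
        rw [hl_add, h12, zero_add]; exact hb2'
      have h5 := hB (R.add _ h1 _ hb) h2 h3 h22 h4
      have h6 : H (w₁ + b + lam • w₂) b ≠ 0 := by
        rw [hl_add, hl_add, hl_smul, hb1', hbb, zero_add, zero_add, R.symm hb h2]
        exact mul_ne_zero R.lam_ne hb2'
      have e : w₁ + lam • w₂ = (w₁ + b + lam • w₂) + (-1 : F) • b := by module
      rw [e]
      apply (inO_of_mem Hs hV hb hbb).move h5 h6
      rw [← e]
      exact hiso h1 h2 h11 h22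
    · obtain ⟨c, v, hv, e⟩ := R.toRB.dep_smul h1 h2 hI
      rw [e]
      by_cases hc : c = 0
      · rw [hc, zero_smul]
        exact inO_of_mem Hs hV R.zero (hl_zero _)
      · apply InO.smul
        apply inO_of_mem Hs hV hv
        have h3 := hiso h1 h2 h11 h22
        rw [e, hl_smul, hr_smul] at h3
        have hcq : c ^ q ≠ 0 := pow_ne_zero _ hc
        exact (mul_eq_zero.mp ((mul_eq_zero.mp h3).resolve_left hc)).resolve_left hcq
  · exact hB h1 h2 h11 h22 h12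

/-- every isotropic vector has all its transvections in `Hs`. -/
theorem inO_of_iso {x : Fin N → F} (hx : H x x = 0) : InO Hs x := by
  obtain ⟨w₁, h1, w₂, h2, rfl⟩ := R.decomp x
  have hiso := hx
  rw [R.herm_decomp h1 h2] at hiso
  by_cases hd : H w₂ w₂ = 0
  · rw [hd, mul_zero, sub_zero] at hiso
    exact R.inO_of_sing Hs hV h1 h2 hiso hd
  · have hd1 : H w₁ w₁ ≠ 0 := by
      intro h0
      rw [h0, zero_sub, neg_eq_zero] at hiso
      exact hd ((mul_eq_zero.mp hiso).resolve_left (pow_ne_zero _ R.lam_ne))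
    have hw1 : w₁ ≠ 0 := by
      rintro rfl
      exact hd1 (hl_zero _)
    have hw2 : w₂ ≠ 0 := by
      rintro rfl
      exact hd (hl_zero _)
    obtain ⟨y, hy, hy1, hy2⟩ := R.exists_both hw1 hw2
    obtain ⟨b, hb, hbb, hb1, hb2, -⟩ := R.exists_sing_like hy h1 h2 h2
    have hβ1 : H w₁ b ≠ 0 := by rw [R.symm hb h1, hb1, R.symm h1 hy]; exact hy1
    have hβ2 : H w₂ b ≠ 0 := by rw [R.symm hb h2, hb2, R.symm h2 hy]; exact hy2
    have m1 : H w₁ b ∈ F₀ := R.val _ h1 _ hb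
    have m2 : H w₂ b ∈ F₀ := R.val _ h2 _ hb
    have md : H w₂ w₂ ∈ F₀ := R.val _ h2 _ h2
    have h2ne := R.two_ne
    obtain ⟨τ, hτ⟩ : ∃ τ : F, τ = -(H w₂ w₂) / (2 * H w₁ b * H w₂ b) := ⟨_, rfl⟩
    have mτ : τ ∈ F₀ := by
      rw [hτ]
      apply F₀.div_mem (F₀.neg_mem md)
      apply F₀.mul_mem (F₀.mul_mem _ m1) m2
      have : (2 : F) = 1 + 1 := by norm_num
      rw [this]
      exact F₀.add_mem F₀.one_mem F₀.one_mem
    have mt1 : τ * lam ^ 2 * H w₂ b ∈ F₀ := F₀.mul_mem (F₀.mul_mem mτ R.lam_sq_mem) m2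
    have mt2 : τ * H w₁ b ∈ F₀ := F₀.mul_mem mτ m1
    have hv1 : w₁ + (τ * lam ^ 2 * H w₂ b) • b ∈ V := R.add _ h1 _ (R.smul _ mt1 b hb)
    have hv2 : w₂ + (τ * H w₁ b) • b ∈ V := R.add _ h2 _ (R.smul _ mt2 b hb)
    have e11 : H (w₁ + (τ * lam ^ 2 * H w₂ b) • b) (w₁ + (τ * lam ^ 2 * H w₂ b) • b) = 0 := by
      rw [hl_add, hr_add, hr_add, hl_smul, hl_smul, hr_smul, hr_smul, R.toRB.fix mt1, hbb,
        R.symm h1 hb, hτ]
      field_simp
      linear_combination (4 * (H w₁ b) ^ 2) * hiso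
    have e22 : H (w₂ + (τ * H w₁ b) • b) (w₂ + (τ * H w₁ b) • b) = 0 := by
      rw [hl_add, hr_add, hr_add, hl_smul, hl_smul, hr_smul, hr_smul, R.toRB.fix mt2, hbb,
        R.symm h2 hb, hτ]
      field_simp
      ring
    have h5 := R.inO_of_sing Hs hV hv1 hv2 e11 e22
    have hxb : H (w₁ + lam • w₂) b ≠ 0 := by
      rw [hl_add, hl_smul]
      intro h0
      exact hβ1 (field_uniq R.card R.lam_nm m1 m2 h0).1
    have h6 : H (w₁ + (τ * lam ^ 2 * H w₂ b) • b + lam • (w₂ + (τ * H w₁ b) • b)) b ≠ 0 := by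
      have : w₁ + (τ * lam ^ 2 * H w₂ b) • b + lam • (w₂ + (τ * H w₁ b) • b) =
          (w₁ + lam • w₂) + (τ * lam ^ 2 * H w₂ b + lam * (τ * H w₁ b)) • b := by module
      rw [this, hl_add, hl_smul, hbb, mul_zero, add_zero]
      exact hxb
    have e : w₁ + lam • w₂ = (w₁ + (τ * lam ^ 2 * H w₂ b) • b + lam • (w₂ + (τ * H w₁ b) • b)) +
        (-(τ * lam ^ 2 * H w₂ b + lam * (τ * H w₁ b))) • b := by module
    rw [e]
    apply (inO_of_mem Hs hV hb hbb).move h5 h6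
    rw [← e]
    exact hx

/-- **Generation**: a subgroup of `SU` containing the unitary transvections centred at the singular
rational vectors is everything. -/
theorem top_of_sing (hN : 2 ≤ N) (h32 : ¬ (N = 3 ∧ q = 2)) : Hs = ⊤ := by
  rw [eq_top_iff, ← Tsub_eq_top N hN h32]
  unfold Tsub
  rw [Subgroup.closure_le]
  rintro _ ⟨p, s, hp, hs, rfl⟩
  exact (R.inO_of_iso Hs hV hp).2 s hs

end RO

end Cfsg.Agent.Helper7.SubF
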