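import Mathlib
import Cfsg.Agent.Helper7.SubOC
import Cfsg.Agent.Helper7.SUPairA

set_option autoImplicit false
set_option linter.unusedSectionVars false

/-! Orthogonal subfield structures for the unitary form, part D: rational Siegel elements, their
transitivity on singular rational vectors, and the production of transvections (helper7). -/

namespace Cfsg.Agent.Helper7.SubF

open Matrix Module Cfsg Cfsg.Agent.Helper7.Herm Cfsg.Agent.Helper8.GUOrder
  Cfsg.Agent.Helper8.SURoot Cfsg.Agent.Helper7.SUGen Cfsg.Agent.Helper7.SUPair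

variable {F : Type*} [Field F] [Fintype F] {q N : ℕ} [hK : Fact (Fintype.card F = q ^ 2)]

local notation "H" => hermForm N F q

namespace RO

variable {F₀ : Subfield F} {lam : F} {V : Set (Fin N → F)} (R : RO q F₀ lam V)
  (Hs : Subgroup (SU N F q))
  (hN : ∀ A : SU N F q, (∀ w ∈ V, mt A *ᵥ w ∈ V) → A ∈ Hs)

include R hN

/-- the rational Siegel elements lie in `Hs`. -/
theorem sg_mem_of {u z : Fin N → F} {c : F} (hu : u ∈ V) (hz : z ∈ V) (hc : c ∈ F₀)
    (huu : H u u = 0) (hzu : H z u = 0) (hadm : c + c ^ q + H z z = 0) : sg q u z c ∈ Hs := by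
  apply hN
  intro w hw
  rw [sg_mulVec huu hzu hadm]
  exact R.sub (R.add _ hw _ (R.smul _ (R.val w hw u hu) _ (R.add _ hz _ (R.smul c hc u hu))))
    (R.smul _ (R.val w hw z hz) u hu)

/-- the standard rational Siegel element with given parameters. -/
theorem sg_std_mem {u z : Fin N → F} (hu : u ∈ V) (hz : z ∈ V) (huu : H u u = 0)
    (hzu : H z u = 0) : ∃ c : F, c + c ^ q + H z z = 0 ∧ sg q u z c ∈ Hs := by
  have hc : -(H z z * 2⁻¹) ∈ F₀ := F₀.neg_mem (F₀.mul_mem (R.val z hz z hz) R.half_mem)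
  have h2 := R.two_ne
  have hadm : -(H z z * 2⁻¹) + (-(H z z * 2⁻¹)) ^ q + H z z = 0 := by
    rw [R.toRB.fix hc]
    field_simp
    ring
  exact ⟨_, hadm, R.sg_mem_of Hs hN hu hz hc huu hzu hadm⟩

/-- the rational Siegel elements are transitive on independent singular rational vectors. -/
theorem exists_move {a a₁ : Fin N → F} (ha : a ∈ V) (ha₁ : a₁ ∈ V) (haa : H a a = 0)
    (ha₁a₁ : H a₁ a₁ = 0) (hI : Indep a a₁) : ∃ n ∈ Hs, mt n *ᵥ a = a₁ := by
  obtain ⟨y, hy, hy1, hy2⟩ := R.exists_dual2 ha ha₁ hI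
  obtain ⟨u, hu, huu, hu1, hu2, -⟩ := R.exists_sing_like hy ha ha₁ ha₁
  rw [hy1] at hu1
  rw [hy2] at hu2
  have hau : H a u = 1 := by rw [R.symm hu ha, hu1]
  have ha₁u : H a₁ u = 1 := by rw [R.symm hu ha₁, hu2]
  have hc : H a a₁ ∈ F₀ := R.val a ha a₁ ha₁
  have hzu : H (a₁ - a) u = 0 := by rw [hl_sub, hau, ha₁u, sub_self]
  have hadm : H a a₁ + (H a a₁) ^ q + H (a₁ - a) (a₁ - a) = 0 := by
    rw [R.toRB.fix hc, hl_sub, hr_sub, hr_sub, haa, ha₁a₁, R.symm ha ha₁]
    ring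
  refine ⟨sg q u (a₁ - a) (H a a₁), R.sg_mem_of Hs hN hu (R.sub ha₁ ha) hc huu hzu hadm, ?_⟩
  rw [sg_mulVec huu hzu hadm, hau, hr_sub, haa, sub_zero]
  module

/-- one singular rational vector with all its transvections in `Hs` gives all of them. -/
theorem inO_all {a : Fin N → F} (ha : a ∈ V) (ha0 : a ≠ 0) (hO : InO Hs a) {a₁ : Fin N → F}
    (ha₁ : a₁ ∈ V) (ha₁a₁ : H a₁ a₁ = 0) : InO Hs a₁ := by
  by_cases hI : Indep a a₁
  · obtain ⟨n, hn, e⟩ := R.exists_move Hs hN ha ha₁ hO.1 ha₁a₁ hI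
    rw [← e]
    exact hO.map hn
  · unfold Indep at hI
    push Not at hI
    obtain ⟨α, β, hαβ, hne⟩ := hI
    have hβ : β ≠ 0 := by
      intro hβ
      rw [hβ, zero_smul, add_zero] at hαβ
      have hα : α = 0 := (smul_eq_zero.mp hαβ).resolve_right ha0
      exact hne hα hβ
    have e : a₁ = (-(α / β)) • a := by
      have h3 : β • a₁ = -(α • a) := by
        rw [eq_neg_iff_add_eq_zero, add_comm]; exact hαβ
      calc a₁ = β⁻¹ • (β • a₁) := by rw [smul_smul, inv_mul_cancel₀ hβ, one_smul]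
        _ = _ := by rw [h3, smul_neg, smul_smul, neg_smul]; congr 2; field_simp
    rw [e]
    exact hO.smul _

/-- **Production of transvections**: an element of `Hs` fixing the singular rational vector `a`
and carrying some rational vector of `a^⊥` to a vector whose second component is non-zero and
orthogonal to a partner of `a` forces all transvections centred at `a` into `Hs`. -/
theorem inO_of_fix {a a' : Fin N → F} (ha : a ∈ V) (ha' : a' ∈ V) (haa : H a a = 0)
    (ha'a : H a' a = 1) {t : SU N F q} (ht : t ∈ Hs) (hta : mt t *ᵥ a = a) {b : Fin N → F}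
    (hb : b ∈ V) (hba : H b a = 0) {v₁ v₂ : Fin N → F} (hv₁ : v₁ ∈ V) (hv₂ : v₂ ∈ V)
    (htb : mt t *ᵥ b = v₁ + lam • v₂) (hv₂0 : v₂ ≠ 0) (hv₂a' : H v₂ a' = 0) : InO Hs a := by
  refine ⟨haa, fun s hs => ?_⟩
  obtain ⟨d, hd, hsd⟩ := R.sg_std_mem Hs hN ha hb haa hba
  have htba : H (mt t *ᵥ b) a = 0 := by
    have := herm_mt t b a
    rw [hta] at this
    rw [this, hba]
  have hd' : d + d ^ q + H (mt t *ᵥ b) (mt t *ᵥ b) = 0 := by rw [herm_mt]; exact hd
  have h1 : sg q a (mt t *ᵥ b) d ∈ Hs := by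
    have := conj_sg t haa hba hd
    rw [hta] at this
    rw [← this]
    exact mul_mem (mul_mem ht hsd) (inv_mem ht)
  -- the vector `y`
  obtain ⟨y₀, hy₀, hne⟩ := R.nondeg hv₂0
  have hk₀ : H y₀ a ∈ F₀ := R.val _ hy₀ _ ha
  have hy₁ : y₀ - (H y₀ a) • a' ∈ V := R.sub hy₀ (R.smul _ hk₀ a' ha')
  have hy₁a : H (y₀ - (H y₀ a) • a') a = 0 := by
    rw [hl_sub, hl_smul, ha'a, mul_one, sub_self]
  have hy₁v : H v₂ (y₀ - (H y₀ a) • a') = H v₂ y₀ := by
    rw [hr_sub, hr_smul, hv₂a', mul_zero, sub_zero]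
  have h2 := R.two_ne
  have hsq : s ^ q = -s := by linear_combination hs
  have hκ : s / (2 * lam * H v₂ y₀) ∈ F₀ := by
    have e : s / (2 * lam * H v₂ y₀) = (s / lam) * (2⁻¹ * (H v₂ y₀)⁻¹) := by
      have := R.lam_ne
      field_simp
    rw [e]
    apply F₀.mul_mem
    · apply R.toRB.mem_of_fix
      rw [div_pow, hsq, R.lam_pow, neg_div_neg_eq]
    · exact F₀.mul_mem R.half_mem (F₀.inv_mem (R.val _ hv₂ _ hy₀))
  obtain ⟨y, hydef⟩ : ∃ y, y = (s / (2 * lam * H v₂ y₀)) • (y₀ - (H y₀ a) • a') := ⟨_, rfl⟩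
  have hy : y ∈ V := by rw [hydef]; exact R.smul _ hκ _ hy₁
  have hya : H y a = 0 := by rw [hydef, hl_smul, hy₁a, mul_zero]
  have hv₂y : 2 * lam * H v₂ y = s := by
    rw [hydef, hr_smul, R.toRB.fix hκ, hy₁v]
    have := R.lam_ne
    field_simp
  obtain ⟨e, he, hse⟩ := R.sg_std_mem Hs hN ha hy haa hya
  -- the two products
  have p1 := sg_mul haa htba hya hd' he
  have p2 := sg_mul haa hya htba he hd'
  have hval : H (mt t *ᵥ b) y - H y (mt t *ᵥ b) = s := by
    rw [htb, hl_add, hl_smul, hr_add, hr_smul, R.lam_pow, R.symm hv₁ hy, R.symm hv₂ hy]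
    linear_combination hv₂y
  have hsum : H (y + mt t *ᵥ b) a = 0 := by rw [hl_add, hya, htba, add_zero]
  have hadm2 := sg_mul_aux he hd'
  have h0a : H (0 : Fin N → F) a = 0 := hl_zero a
  have hs' : s + s ^ q + H (0 : Fin N → F) 0 = 0 := by
    rw [hl_zero, add_zero, hsq, add_neg_cancel]
  have p3 := sg_mul haa hsum h0a hadm2 hs'
  rw [sg_zero_mid haa hs, add_zero, hl_zero, sub_zero] at p3
  have e1 : sg q a (mt t *ᵥ b) d * sg q a y e =
      sg q a y e * sg q a (mt t *ᵥ b) d * TU q a s := by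
    rw [p1, p2, p3]
    congr 1
    · exact add_comm _ _
    · rw [← hval]; ring
  have e2 : TU q a s = (sg q a y e * sg q a (mt t *ᵥ b) d)⁻¹ *
      (sg q a (mt t *ᵥ b) d * sg q a y e) := by
    rw [e1]; group
  rw [e2]
  exact mul_mem (inv_mem (mul_mem hse h1)) (mul_mem h1 hse)

end RO

end Cfsg.Agent.Helper7.SubF
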