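import Mathlib
import Cfsg.Agent.Helper7.SubOD

set_option autoImplicit false
set_option linter.unusedSectionVars false

/-! Orthogonal subfield structures for the unitary form, part E: an element of `SU` outside the
subfield group produces, together with the rational Siegel elements, all unitary transvections
(helper7). -/

namespace Cfsg.Agent.Helper7.SubF

open Matrix Module Cfsg Cfsg.Agent.Helper7.Herm Cfsg.Agent.Helper8.GUOrder
  Cfsg.Agent.Helper8.SURoot Cfsg.Agent.Helper7.SUGen Cfsg.Agent.Helper7.SUPair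
  Cfsg.Agent.Helper7.SUMax

variable {F : Type*} [Field F] [Fintype F] {q N : ℕ} [hK : Fact (Fintype.card F = q ^ 2)]

local notation "H" => hermForm N F q

/-- a vector with prescribed products against two independent vectors. -/
theorem exists_two_vals {x y : Fin N → F} (hxy : ∀ κ : F, y ≠ κ • x) (hyx : ∀ κ : F, x ≠ κ • y)
    (c : F) : ∃ v : Fin N → F, H v y = 1 ∧ H v x = c := by
  have h1 : y ∉ Submodule.span F {x} := by
    intro h
    obtain ⟨κ, hκ⟩ := Submodule.mem_span_singleton.mp h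
    exact hxy κ hκ.symm
  have h2 : x ∉ Submodule.span F {y} := by
    intro h
    obtain ⟨κ, hκ⟩ := Submodule.mem_span_singleton.mp h
    exact hyx κ hκ.symm
  obtain ⟨z₁, hz₁, e₁⟩ := exists_perp_of_not_mem (q := q) _ h1
  obtain ⟨z₂, hz₂, e₂⟩ := exists_perp_of_not_mem (q := q) _ h2
  have f₁ : H z₁ y = 1 := by rw [hermForm_swap hK.out, e₁, one_pow]
  have f₂ : H z₂ x = 1 := by rw [hermForm_swap hK.out, e₂, one_pow]
  have g₁ : H z₁ x = 0 := herm_zero_swap (hz₁ x (Submodule.mem_span_singleton_self x))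
  have g₂ : H z₂ y = 0 := herm_zero_swap (hz₂ y (Submodule.mem_span_singleton_self y))
  refine ⟨z₁ + c • z₂, ?_, ?_⟩
  · rw [hl_add, hl_smul, f₁, g₂, mul_zero, add_zero]
  · rw [hl_add, hl_smul, g₁, f₂, mul_one, zero_add]

namespace RO

variable {F₀ : Subfield F} {lam : F} {V : Set (Fin N → F)} (R : RO q F₀ lam V)
  (Hs : Subgroup (SU N F q))
  (hN : ∀ A : SU N F q, (∀ w ∈ V, mt A *ᵥ w ∈ V) → A ∈ Hs)

include R

/-- among the two vectors of a hyperbolic pair orthogonal to `w`, one is carried by `g` outside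
the span of the components of `g w`. -/
theorem exists_outside {g : SU N F q} {w w₁ w₂ : Fin N → F} (hw : w ∈ V)
    (hgw : mt g *ᵥ w = w₁ + lam • w₂) (hI : Indep w₁ w₂) :
    ∃ u ∈ V, H u u = 0 ∧ H w u = 0 ∧ ∀ α β : F, mt g *ᵥ u ≠ α • w₁ + β • w₂ := by
  obtain ⟨e, he, f, hf, hee, hff, hef, ⟨e1, -⟩, ⟨f1, -⟩⟩ := R.hyp w hw w hw w hw w hw w hw
  have hwe : H w e = 0 := by rw [R.symm he hw, e1]
  have hwf : H w f = 0 := by rw [R.symm hf hw, f1]
  have hfe : H f e = 1 := by rw [R.symm he hf, hef]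
  by_contra hcon
  push Not at hcon
  obtain ⟨α₁, β₁, E1⟩ := hcon e he hee hwe
  obtain ⟨α₂, β₂, E2⟩ := hcon f hf hff hwf
  -- the dependency among `g w, g e, g f`
  have hrel : (α₁ * β₂ - α₂ * β₁) • (mt g *ᵥ w) + (α₂ * lam - β₂) • (mt g *ᵥ e) +
      (β₁ - α₁ * lam) • (mt g *ᵥ f) = 0 := by
    rw [hgw, E1, E2]
    module
  have hrel' : mt g *ᵥ ((α₁ * β₂ - α₂ * β₁) • w + (α₂ * lam - β₂) • e + (β₁ - α₁ * lam) • f)
      = 0 := by
    rw [mulVec_add, mulVec_add, mulVec_smul, mulVec_smul, mulVec_smul]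
    exact hrel
  have hrel0 : (α₁ * β₂ - α₂ * β₁) • w + (α₂ * lam - β₂) • e + (β₁ - α₁ * lam) • f = 0 := by
    by_contra hne
    exact mulVec_ne_zero' g hne hrel'
  have c1 : α₂ * lam - β₂ = 0 := by
    have := congrArg (fun v => H v f) hrel0
    simp only [hl_add, hl_smul, hwf, hef, hff, hl_zero] at this
    linear_combination this
  have c2 : β₁ - α₁ * lam = 0 := by
    have := congrArg (fun v => H v e) hrel0
    simp only [hl_add, hl_smul, hwe, hee, hfe, hl_zero] at this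
    linear_combination this
  -- hence `g e` is a multiple of `g w`
  have E1' : mt g *ᵥ e = α₁ • (mt g *ᵥ w) := by
    rw [hgw, E1]
    have : β₁ = α₁ * lam := by linear_combination c2
    rw [this]
    module
  have E1'' : mt g *ᵥ (e - α₁ • w) = 0 := by
    rw [mulVec_sub, mulVec_smul, E1', sub_self]
  have E3 : e - α₁ • w = 0 := by
    by_contra hne
    exact mulVec_ne_zero' g hne E1''
  have := congrArg (fun v => H v f) E3
  simp only [hl_sub, hl_smul, hwf, hef, hl_zero] at this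
  norm_num at this

include hN

/-- **Main step**: a subgroup of `SU` containing the elements preserving the rational points and
an element carrying a rational vector outside the scalar multiples of rational vectors is
everything. -/
theorem top_of_extra (hN2 : 2 ≤ N) (h32 : ¬ (N = 3 ∧ q = 2)) {g : SU N F q} (hg : g ∈ Hs)
    {w : Fin N → F} (hw : w ∈ V) (hgw : ∀ c : F, ∀ v ∈ V, mt g *ᵥ w ≠ c • v) : Hs = ⊤ := by
  obtain ⟨w₁, h1, w₂, h2, e⟩ := R.decomp (mt g *ᵥ w)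
  have hI : Indep w₁ w₂ := by
    by_contra hcon
    obtain ⟨c, v, hv, e'⟩ := R.toRB.dep_smul h1 h2 hcon
    exact hgw c v hv (e.trans e')
  obtain ⟨u, hu, huu, hwu, hout⟩ := R.exists_outside hw e hI
  obtain ⟨c, hc, hsg⟩ := R.sg_std_mem Hs hN hu hw huu hwu
  -- the conjugate Siegel element
  have hguu : H (mt g *ᵥ u) (mt g *ᵥ u) = 0 := by rw [herm_mt, huu]
  have hgwu : H (mt g *ᵥ w) (mt g *ᵥ u) = 0 := by rw [herm_mt, hwu]
  have hc' : c + c ^ q + H (mt g *ᵥ w) (mt g *ᵥ w) = 0 := by rw [herm_mt]; exact hc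
  have ht' : sg q (mt g *ᵥ u) (mt g *ᵥ w) c ∈ Hs := by
    rw [← conj_sg g huu hwu hc]
    exact mul_mem (mul_mem hg hsg) (inv_mem hg)
  obtain ⟨t, htdef⟩ : ∃ t, t = sg q (mt g *ᵥ u) (mt g *ᵥ w) c := ⟨_, rfl⟩
  rw [← htdef] at ht'
  have htv : ∀ v : Fin N → F, mt t *ᵥ v = v + H v (mt g *ᵥ u) • (mt g *ᵥ w + c • (mt g *ᵥ u)) -
      H v (mt g *ᵥ w) • (mt g *ᵥ u) := by
    intro v
    rw [htdef, sg_mulVec hguu hgwu hc']
  -- `t` does not preserve the rational points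
  have hnot : ∃ b ∈ V, mt t *ᵥ b ∉ V := by
    by_contra hcon
    push Not at hcon
    have hx0 : mt g *ᵥ w ≠ 0 := by
      rw [e]
      intro h0
      exact hI.ne_left (R.uniq _ h1 _ h2 h0).1
    have hind1 : ∀ κ : F, mt g *ᵥ u ≠ κ • (mt g *ᵥ w) := by
      intro κ hκ
      apply hout κ (κ * lam)
      rw [hκ, e]
      module
    have hind2 : ∀ κ : F, mt g *ᵥ w ≠ κ • (mt g *ᵥ u) := by
      intro κ hκ
      have hκ0 : κ ≠ 0 := by
        rintro rfl
        rw [zero_smul] at hκ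
        exact hx0 hκ
      apply hind1 κ⁻¹
      rw [hκ, smul_smul, inv_mul_cancel₀ hκ0, one_smul]
    obtain ⟨v, hv1, hv2⟩ := exists_two_vals (q := q) hind1 hind2 c
    have htv1 : mt t *ᵥ v = v + mt g *ᵥ w := by
      rw [htv, hv1, hv2]
      module
    obtain ⟨b₁, hb₁, b₂, hb₂, ev⟩ := R.decomp v
    have e3 : mt t *ᵥ b₁ + lam • (mt t *ᵥ b₂) = (b₁ + w₁) + lam • (b₂ + w₂) := by
      rw [← mulVec_smul, ← mulVec_add, ← ev, htv1, ev, e]
      module
    obtain ⟨e4, e5⟩ := R.toRB.uniq2 (hcon b₁ hb₁) (hcon b₂ hb₂) (R.add _ hb₁ _ h1)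
      (R.add _ hb₂ _ h2) e3
    rw [htv] at e4 e5
    -- `w₁, w₂` in terms of `g w, g u`
    have e4' : w₁ = H b₁ (mt g *ᵥ u) • (mt g *ᵥ w) +
        (H b₁ (mt g *ᵥ u) * c - H b₁ (mt g *ᵥ w)) • (mt g *ᵥ u) := by
      have : w₁ = (b₁ + w₁) - b₁ := by abel
      rw [this, ← e4]
      module
    have e5' : w₂ = H b₂ (mt g *ᵥ u) • (mt g *ᵥ w) +
        (H b₂ (mt g *ᵥ u) * c - H b₂ (mt g *ᵥ w)) • (mt g *ᵥ u) := by
      have : w₂ = (b₂ + w₂) - b₂ := by abel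
      rw [this, ← e5]
      module
    obtain ⟨α₁, hα₁⟩ : ∃ α₁, α₁ = H b₁ (mt g *ᵥ u) := ⟨_, rfl⟩
    obtain ⟨β₁, hβ₁⟩ : ∃ β₁, β₁ = H b₁ (mt g *ᵥ u) * c - H b₁ (mt g *ᵥ w) := ⟨_, rfl⟩
    obtain ⟨α₂, hα₂⟩ : ∃ α₂, α₂ = H b₂ (mt g *ᵥ u) := ⟨_, rfl⟩
    obtain ⟨β₂, hβ₂⟩ : ∃ β₂, β₂ = H b₂ (mt g *ᵥ u) * c - H b₂ (mt g *ᵥ w) := ⟨_, rfl⟩
    rw [← hβ₁, ← hα₁] at e4'
    rw [← hβ₂, ← hα₂] at e5'
    by_cases hb1 : β₁ = 0
    · by_cases hb2 : β₂ = 0
      · rw [hb1, zero_smul, add_zero] at e4'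
        rw [hb2, zero_smul, add_zero] at e5'
        have h3 : α₂ • w₁ + (-α₁) • w₂ = 0 := by
          rw [e4', e5']
          module
        obtain ⟨h4, h5⟩ := hI _ _ h3
        rw [neg_eq_zero] at h5
        apply hI.ne_left
        rw [e4', h5, zero_smul]
      · apply hout (-(β₂⁻¹ * α₂)) (β₂⁻¹ * (1 - α₂ * lam))
        have : mt g *ᵥ u = β₂⁻¹ • (w₂ - α₂ • (mt g *ᵥ w)) := by
          rw [e5', add_sub_cancel_left, smul_smul, inv_mul_cancel₀ hb2, one_smul]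
        rw [this, e]
        module
    · apply hout (β₁⁻¹ * (1 - α₁)) (-(β₁⁻¹ * α₁ * lam))
      have : mt g *ᵥ u = β₁⁻¹ • (w₁ - α₁ • (mt g *ᵥ w)) := by
        rw [e4', add_sub_cancel_left, smul_smul, inv_mul_cancel₀ hb1, one_smul]
      rw [this, e]
      module
  obtain ⟨b, hb, hbn⟩ := hnot
  -- a hyperbolic pair orthogonal to the components of `g u, g w`
  obtain ⟨p₁, hp₁, p₂, hp₂, eu⟩ := R.decomp (mt g *ᵥ u)
  obtain ⟨a, ha, a', ha', haa, ha'a', haa', ⟨a1, a2, a3, a4, -⟩, ⟨a1', a2', a3', a4', -⟩⟩ :=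
    R.hyp p₁ hp₁ p₂ hp₂ w₁ h1 w₂ h2 w₂ h2
  have ha'a : H a' a = 1 := by rw [R.symm ha ha', haa']
  have hagu : H a (mt g *ᵥ u) = 0 := by
    rw [eu, hr_add, hr_smul, a1, a2, mul_zero, add_zero]
  have hagw : H a (mt g *ᵥ w) = 0 := by
    rw [e, hr_add, hr_smul, a3, a4, mul_zero, add_zero]
  have ha'gu : H a' (mt g *ᵥ u) = 0 := by
    rw [eu, hr_add, hr_smul, a1', a2', mul_zero, add_zero]
  have ha'gw : H a' (mt g *ᵥ w) = 0 := by
    rw [e, hr_add, hr_smul, a3', a4', mul_zero, add_zero]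
  have hta : mt t *ᵥ a = a := by
    rw [htv, hagu, hagw, zero_smul, zero_smul, add_zero, sub_zero]
  have hta' : mt t *ᵥ a' = a' := by
    rw [htv, ha'gu, ha'gw, zero_smul, zero_smul, add_zero, sub_zero]
  -- the projection of `b`
  have hk1 : H b a' ∈ F₀ := R.val b hb a' ha'
  have hk2 : H b a ∈ F₀ := R.val b hb a ha
  obtain ⟨b', hb'def⟩ : ∃ b', b' = b - (H b a') • a - (H b a) • a' := ⟨_, rfl⟩
  have hb' : b' ∈ V := by
    rw [hb'def]
    exact R.sub (R.sub hb (R.smul _ hk1 a ha)) (R.smul _ hk2 a' ha')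
  have hb'a : H b' a = 0 := by
    rw [hb'def, hl_sub, hl_sub, hl_smul, hl_smul, haa, ha'a]
    ring
  have hb'a' : H b' a' = 0 := by
    rw [hb'def, hl_sub, hl_sub, hl_smul, hl_smul, haa', ha'a']
    ring
  have htb' : mt t *ᵥ b' = mt t *ᵥ b - (H b a') • a - (H b a) • a' := by
    rw [hb'def, mulVec_sub, mulVec_sub, mulVec_smul, mulVec_smul, hta, hta']
  obtain ⟨v₁, hv₁, v₂, hv₂, ev⟩ := R.decomp (mt t *ᵥ b')
  have hv₂0 : v₂ ≠ 0 := by
    rintro rfl
    rw [smul_zero, add_zero] at ev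
    apply hbn
    have : mt t *ᵥ b = mt t *ᵥ b' + (H b a') • a + (H b a) • a' := by
      rw [htb']; abel
    rw [this, ev]
    exact R.add _ (R.add _ hv₁ _ (R.smul _ hk1 a ha)) _ (R.smul _ hk2 a' ha')
  have hv₂a' : H v₂ a' = 0 := by
    have h3 : H (mt t *ᵥ b') a' = 0 := by
      rw [htv, hl_sub, hl_add, hl_smul, hl_smul, hl_add, hl_smul, hb'a', herm_zero_swap ha'gu,
        herm_zero_swap ha'gw]
      ring
    rw [ev] at h3
    exact (R.comp_perp hv₁ hv₂ ha' h3).2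
  have hOa := R.inO_of_fix Hs hN ha ha' haa ha'a ht' hta hb' hb'a hv₁ hv₂ ev hv₂0 hv₂a'
  have ha0 : a ≠ 0 := by
    rintro rfl
    rw [hl_zero] at haa'
    exact zero_ne_one haa'
  exact R.top_of_sing Hs (fun a₁ ha₁ ha₁a₁ => (R.inO_all Hs hN ha ha0 hOa ha₁ ha₁a₁).2) hN2 h32

end RO

end Cfsg.Agent.Helper7.SubF
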