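import Mathlib
import Cfsg.Agent.Helper7.SubOE
import Cfsg.Agent.Helper7.SLOrthA

set_option autoImplicit false
set_option linter.unusedSectionVars false

/-! Orthogonal subfield structures for the unitary form, part F: the rational structure of a change
of basis, and the orthogonal subfield group is maximal in the special unitary group (helper7). -/

namespace Cfsg.Agent.Helper7.SubF

open Matrix Module Cfsg Cfsg.Agent.Helper7.Herm Cfsg.Agent.Helper8.GUOrder
  Cfsg.Agent.Helper8.SURoot Cfsg.Agent.Helper7.SUGen Cfsg.Agent.S5653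

variable {F : Type*} [Field F] [Fintype F] {q N : ℕ} [hK : Fact (Fintype.card F = q ^ 2)]

local notation "H" => hermForm N F q

/-- the rational structure of a change of basis, without forms. -/
theorem RB_of {F₀ : Subfield F} (hq : Nat.card F₀ = q) {lam : F} (hl : lam ∉ F₀)
    (P : GL (Fin N) F) : RB q F₀ lam (V0 F₀ (P : Matrix (Fin N) (Fin N) F)) where
  card := hq
  lam_nm := hl
  zero := ⟨0, fun _ => F₀.zero_mem, mulVec_zero _⟩
  add := by
    rintro _ ⟨u, hu, rfl⟩ _ ⟨u', hu', rfl⟩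
    exact ⟨u + u', fun i => F₀.add_mem (hu i) (hu' i), mulVec_add _ _ _⟩
  smul := by
    rintro a ha _ ⟨u, hu, rfl⟩
    exact ⟨a • u, fun i => F₀.mul_mem ha (hu i), mulVec_smul _ _ _⟩
  decomp := by
    intro x
    choose c₁ h1 c₂ h2 e using fun i =>
      field_decomp hq hl (((↑P⁻¹ : Matrix (Fin N) (Fin N) F) *ᵥ x) i)
    refine ⟨_, ⟨c₁, h1, rfl⟩, _, ⟨c₂, h2, rfl⟩, ?_⟩
    have e' : (↑P⁻¹ : Matrix (Fin N) (Fin N) F) *ᵥ x = c₁ + lam • c₂ := by
      ext i
      rw [e i, Pi.add_apply, Pi.smul_apply, smul_eq_mul]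
    rw [← mulVec_smul, ← mulVec_add, ← e', mulVec_mulVec, Units.mul_inv, one_mulVec]
  uniq := by
    rintro _ ⟨u₁, hu₁, rfl⟩ _ ⟨u₂, hu₂, rfl⟩ h
    have h1 : (P : Matrix (Fin N) (Fin N) F) *ᵥ (u₁ + lam • u₂) = 0 := by
      rw [mulVec_add, mulVec_smul]; exact h
    have h2 : u₁ + lam • u₂ = 0 := by
      have := congrArg (fun v => (↑P⁻¹ : Matrix (Fin N) (Fin N) F) *ᵥ v) h1
      simpa [mulVec_mulVec, Units.inv_mul] using this
    have h3 : ∀ i, u₁ i = 0 ∧ u₂ i = 0 := by
      intro i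
      apply field_uniq hq hl (hu₁ i) (hu₂ i)
      have := congrFun h2 i
      simpa using this
    have e1 : u₁ = 0 := funext fun i => (h3 i).1
    have e2 : u₂ = 0 := funext fun i => (h3 i).2
    rw [e1, e2, mulVec_zero]
    exact ⟨rfl, rfl⟩

/-- non-degeneracy against the rational points. -/
theorem RB.nondeg {F₀ : Subfield F} {lam : F} {V : Set (Fin N → F)} (R : RB q F₀ lam V)
    {x : Fin N → F} (hx : x ≠ 0) : ∃ y ∈ V, H x y ≠ 0 := by
  by_contra hcon
  push Not at hcon
  apply hx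
  apply eq_zero_of_herm (q := q)
  intro z
  apply herm_zero_swap
  obtain ⟨w₁, h1, w₂, h2, rfl⟩ := R.decomp z
  rw [hr_add, hr_smul, hcon w₁ h1, hcon w₂ h2, mul_zero, add_zero]

section transfer

variable {F₀ : Subfield F} (hq : Nat.card F₀ = q) (P : GL (Fin N) F)
  (hP : Cfsg.Geo.IsFormRationalStructure (hermForm N F q) F₀ 1 P)

/-- the embedding of `F₀ ^ N` onto the rational points. -/
def emb (P : GL (Fin N) F) (u : Fin N → F₀) : Fin N → F :=
  (P : Matrix (Fin N) (Fin N) F) *ᵥ (fun i => (u i : F))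

omit [Fintype F] hK in
theorem emb_mem (u : Fin N → F₀) : emb P u ∈ V0 F₀ (P : Matrix (Fin N) (Fin N) F) :=
  ⟨fun i => (u i : F), fun i => (u i).2, rfl⟩

omit [Fintype F] hK in
theorem exists_emb {w : Fin N → F} (hw : w ∈ V0 F₀ (P : Matrix (Fin N) (Fin N) F)) :
    ∃ u : Fin N → F₀, emb P u = w := by
  obtain ⟨u, hu, rfl⟩ := hw
  exact ⟨fun i => ⟨u i, hu i⟩, rfl⟩

omit [Fintype F] hK in
theorem emb_add (u v : Fin N → F₀) : emb P (u + v) = emb P u + emb P v := by
  unfold emb
  rw [← mulVec_add]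
  rfl

omit [Fintype F] hK in
theorem emb_smul (c : F₀) (u : Fin N → F₀) : emb P (c • u) = (c : F) • emb P u := by
  unfold emb
  rw [← mulVec_smul]
  rfl

omit [Fintype F] hK in
theorem emb_eq_zero {u : Fin N → F₀} (h : emb P u = 0) : u = 0 := by
  unfold emb at h
  have := congrArg (fun v => (↑P⁻¹ : Matrix (Fin N) (Fin N) F) *ᵥ v) h
  simp only [mulVec_mulVec, Units.inv_mul, one_mulVec, mulVec_zero] at this
  ext i
  have := congrFun this i
  simpa using this

/-- the restricted form, with values in the subfield. -/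
def f₀ (P : GL (Fin N) F)
    (hP : Cfsg.Geo.IsFormRationalStructure (hermForm N F q) F₀ 1 P) (u v : Fin N → F₀) : F₀ :=
  ⟨hermForm N F q (emb P u) (emb P v), by
    have := hP (fun i => (u i : F)) (fun i => (v i : F)) (fun i => (u i).2) (fun i => (v i).2)
    rwa [one_mul] at this⟩

omit [Fintype F] hK in
theorem f₀_val (u v : Fin N → F₀) : ((f₀ P hP u v : F₀) : F) = H (emb P u) (emb P v) := rfl

include hq in
theorem SF_f₀ (h2 : (2 : F) ≠ 0) : Cfsg.Agent.Helper7.SLOrth.SF (f₀ P hP) where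
  bil := by
    refine ⟨fun x y v => ?_, fun c x v => ?_, fun v x y => ?_, fun c v x => ?_⟩
    · apply Subtype.ext
      rw [Subfield.coe_add, f₀_val, f₀_val, f₀_val, emb_add, hl_add]
    · apply Subtype.ext
      rw [Subfield.coe_mul, f₀_val, f₀_val, emb_smul, hl_smul]
    · apply Subtype.ext
      rw [Subfield.coe_add, f₀_val, f₀_val, f₀_val, emb_add, hr_add]
    · apply Subtype.ext
      rw [Subfield.coe_mul, f₀_val, f₀_val, emb_smul, hr_smul, pow_q_of_mem hq c.2]
  symm := by
    intro v w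
    apply Subtype.ext
    rw [f₀_val, f₀_val, hermForm_swap hK.out]
    exact pow_q_of_mem hq (f₀ P hP w v).2
  nondeg := by
    intro v hv
    have hne : emb P v ≠ 0 := fun h => hv (emb_eq_zero P h)
    obtain ⟨lam, hl⟩ := exists_not_mem (F := F) hq
    obtain ⟨y, hy, hy0⟩ := (RB_of hq hl P).nondeg hne
    obtain ⟨x, rfl⟩ := exists_emb P hy
    constructor
    · refine ⟨x, fun h => ?_⟩
      have := congrArg Subtype.val h
      rw [f₀_val] at this
      exact herm_swap_ne_zero hy0 this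
    · refine ⟨x, fun h => ?_⟩
      have := congrArg Subtype.val h
      rw [f₀_val] at this
      exact hy0 this
  two_ne := by
    intro h
    apply h2
    have h3 : ((2 : F₀) : F) = 2 := by
      have : (2 : F₀) = 1 + 1 := by norm_num
      rw [this, Subfield.coe_add, Subfield.coe_one]
      norm_num
    rw [← h3, h]
    rfl

end transfer

/-- the orthogonal rational structure of a change of basis. -/
theorem RO_of (hN : 13 ≤ N) {F₀ : Subfield F} (hq : Nat.card F₀ = q) (h2 : (2 : F) ≠ 0) {lam : F}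
    (hl0 : lam ≠ 0) (hl : lam ^ q + lam = 0) (P : GL (Fin N) F)
    (hP : Cfsg.Geo.IsFormRationalStructure (hermForm N F q) F₀ 1 P) :
    RO q F₀ lam (V0 F₀ (P : Matrix (Fin N) (Fin N) F)) := by
  have hlnm : lam ∉ F₀ := by
    intro hmem
    have h1 := pow_q_of_mem hq hmem
    rw [h1] at hl
    have : (2 : F) * lam = 0 := by linear_combination hl
    rcases mul_eq_zero.mp this with h | h
    · exact h2 h
    · exact hl0 h
  refine { toRB := RB_of hq hlnm P, lam_tz := hl, two_ne := h2, val := ?_, hyp := ?_ }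
  · rintro _ ⟨u, hu, rfl⟩ _ ⟨u', hu', rfl⟩
    have := hP u u' hu hu'
    rwa [one_mul] at this
  · intro c₁ h1 c₂ h2' c₃ h3 c₄ h4 c₅ h5
    obtain ⟨k₁, rfl⟩ := exists_emb P h1
    obtain ⟨k₂, rfl⟩ := exists_emb P h2'
    obtain ⟨k₃, rfl⟩ := exists_emb P h3
    obtain ⟨k₄, rfl⟩ := exists_emb P h4
    obtain ⟨k₅, rfl⟩ := exists_emb P h5
    haveI : Finite F₀ := Finite.of_injective (fun x : F₀ => (x : F)) Subtype.val_injective
    obtain ⟨e, g, hee, hgg, heg, ⟨e1, e2, e3, e4, e5⟩, ⟨g1, g2, g3, g4, g5⟩⟩ :=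
      Cfsg.Agent.Helper7.SLOrth.exists_hyp (SF_f₀ hq P hP h2)
        (by rw [Fintype.card_fin]; exact hN) k₁ k₂ k₃ k₄ k₅
    have cv : ∀ {u v : Fin N → F₀} {c : F₀}, f₀ P hP u v = c → H (emb P u) (emb P v) = (c : F) := by
      intro u v c h
      rw [← f₀_val P hP, h]
    refine ⟨emb P e, emb_mem P e, emb P g, emb_mem P g, ?_, ?_, ?_, ⟨?_, ?_, ?_, ?_, ?_⟩,
      ⟨?_, ?_, ?_, ?_, ?_⟩⟩
    · simpa using cv hee
    · simpa using cv hgg
    · simpa using cv heg
    · simpa using cv e1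
    · simpa using cv e2
    · simpa using cv e3
    · simpa using cv e4
    · simpa using cv e5
    · simpa using cv g1
    · simpa using cv g2
    · simpa using cv g3
    · simpa using cv g4
    · simpa using cv g5

namespace RO

variable {F₀ : Subfield F} {lam : F} {V : Set (Fin N → F)} (R : RO q F₀ lam V)

include R

/-- **Properness**: a unitary transvection which does not carry the rational points to a scalar
multiple of the rational points. -/
theorem exists_not_uniform :
    ∃ A : SU N F q, ¬ ∃ μ : F, μ ≠ 0 ∧ ∀ w ∈ V, μ • (mt A *ᵥ w) ∈ V := by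
  obtain ⟨a, ha, a', ha', haa, -, haa', -, -⟩ := R.hyp 0 R.zero 0 R.zero 0 R.zero 0 R.zero 0 R.zero
  have ha'a : H a' a = 1 := by rw [R.symm ha ha', haa']
  have ha0 : a ≠ 0 := by
    rintro rfl
    rw [hl_zero] at haa'
    exact zero_ne_one haa'
  obtain ⟨s, hs0, hs⟩ := exists_tz_ne_zero (F := F) (q := q)
  refine ⟨TU q a s, ?_⟩
  rintro ⟨μ, hμ, hall⟩
  have hfix : mt (TU q a s) *ᵥ a = a := by
    rw [TU_mulVec haa hs, haa, mul_zero, zero_smul, add_zero]
  have hμ0 : μ ∈ F₀ := by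
    have := hall a ha
    rw [hfix] at this
    exact R.toRB.coef_mem ha ha0 this
  have h3 := hall a' ha'
  have h4 : mt (TU q a s) *ᵥ a' ∈ V := by
    have := R.smul _ (F₀.inv_mem hμ0) _ h3
    rwa [smul_smul, inv_mul_cancel₀ hμ, one_smul] at this
  rw [TU_mulVec haa hs, ha'a, mul_one] at h4
  have h5 : s • a ∈ V := by
    have := R.toRB.sub h4 ha'
    rwa [add_sub_cancel_left] at this
  have h6 : s ∈ F₀ := R.toRB.coef_mem ha ha0 h5
  have h7 := R.toRB.fix h6
  rw [h7] at hs
  have : (2 : F) * s = 0 := by linear_combination hs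
  rcases mul_eq_zero.mp this with h | h
  · exact R.two_ne h
  · exact hs0 h

end RO

/-- **The orthogonal subfield group is maximal in `SU_n(q)`**, `q` odd. -/
theorem subfield_orthogonal_maximal (hN : 13 ≤ N) (h2 : (2 : F) ≠ 0) {F₀ : Subfield F}
    (hq : Nat.card F₀ = q) (P : GL (Fin N) F)
    (hP : Cfsg.Geo.IsFormRationalStructure (hermForm N F q) F₀ 1 P) :
    Cfsg.Geo.IsMaximalIn (Cfsg.GU N F q ⊓ Cfsg.Geo.specialLinear (Fin N) F)
      (Cfsg.Geo.subfieldSubgroup F₀ P ⊓
        (Cfsg.GU N F q ⊓ Cfsg.Geo.specialLinear (Fin N) F)) := by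
  obtain ⟨lam, hl0, hl⟩ := exists_tz_ne_zero (F := F) (q := q)
  have R := RO_of hN hq h2 hl0 hl P hP
  refine ⟨lt_of_le_not_ge inf_le_right ?_, ?_⟩
  · intro hle
    obtain ⟨A, hA⟩ := R.exists_not_uniform
    exact hA (exists_of_mem_subfield (hle (toGL_mem A)).1)
  · intro M hNM hMS
    by_cases hM : M ≤ Cfsg.Geo.subfieldSubgroup F₀ P ⊓
        (Cfsg.GU N F q ⊓ Cfsg.Geo.specialLinear (Fin N) F)
    · left
      exact le_antisymm hM hNM
    · right
      obtain ⟨g, hgM, hgn⟩ := Set.not_subset.mp hM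
      obtain ⟨A, rfl⟩ := exists_toGL_eq (hMS hgM)
      have hAn : toGL N F q A ∉ Cfsg.Geo.subfieldSubgroup F₀ P :=
        fun h => hgn ⟨h, hMS hgM⟩
      obtain ⟨w, hw, hgw⟩ : ∃ w ∈ V0 F₀ (P : Matrix (Fin N) (Fin N) F),
          ∀ c : F, ∀ v ∈ V0 F₀ (P : Matrix (Fin N) (Fin N) F), mt A *ᵥ w ≠ c • v := by
        by_contra hcon
        push Not at hcon
        apply hAn
        have hpt : ∀ w ∈ V0 F₀ (P : Matrix (Fin N) (Fin N) F),
            ∃ μ : F, μ ≠ 0 ∧ μ • (mt A *ᵥ w) ∈ V0 F₀ (P : Matrix (Fin N) (Fin N) F) := by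
          intro w hw
          by_cases hw0 : w = 0
          · refine ⟨1, one_ne_zero, ?_⟩
            rw [hw0, mulVec_zero, smul_zero]
            exact R.zero
          · obtain ⟨c, v, hv, e⟩ := hcon w hw
            have hc : c ≠ 0 := by
              rintro rfl
              rw [zero_smul] at e
              exact mulVec_ne_zero' A hw0 e
            refine ⟨c⁻¹, inv_ne_zero hc, ?_⟩
            rw [e, smul_smul, inv_mul_cancel₀ hc, one_smul]
            exact hv
        obtain ⟨μ, hμ, hall⟩ := R.toRB.uniform (RS.mt_inv_mul A) hpt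
        exact mem_subfield_of hμ hall
      have hNs : ∀ B : SU N F q, (∀ w ∈ V0 F₀ (P : Matrix (Fin N) (Fin N) F),
          mt B *ᵥ w ∈ V0 F₀ (P : Matrix (Fin N) (Fin N) F)) → B ∈ M.comap (toGL N F q) := by
        intro B hB
        rw [Subgroup.mem_comap]
        apply hNM
        refine ⟨mem_subfield_of one_ne_zero fun w hw => ?_, toGL_mem _⟩
        rw [one_smul]
        exact hB w hw
      have htop := R.top_of_extra (M.comap (toGL N F q)) hNs (by omega) (by omega)
        (Subgroup.mem_comap.mpr hgM) hw hgw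
      apply le_antisymm hMS
      intro g hg
      obtain ⟨B, rfl⟩ := exists_toGL_eq hg
      have : B ∈ M.comap (toGL N F q) := by rw [htop]; exact Subgroup.mem_top B
      exact this

end Cfsg.Agent.Helper7.SubF
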