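import Mathlib
import Cfsg.Agent.Helper7.POrdS
import Cfsg.Agent.Helper7.POrdN

/-!
# Bases adapted to invariant decompositions

A generic induction: an endomorphism that can be peeled, one invariant summand at a time, into pieces having a
matrix of a prescribed shape has a matrix of that shape (block diagonal) in a suitable basis; and the matrix of
an endomorphism on a cyclic subspace.
-/

set_option autoImplicit false

namespace Cfsg.Agent.Helper7.SubR

open Module Polynomial

universe u v

variable {F : Type u} [Field F]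

/-- `T` has, in some basis indexed by `Fin m`, a matrix with the property `Q`. -/
def HasB (Q : ∀ m : ℕ, Matrix (Fin m) (Fin m) F → Prop) {V : Type v} [AddCommGroup V] [Module F V]
    (T : Module.End F V) : Prop :=
  ∃ (m : ℕ) (b : Basis (Fin m) F V) (M : Matrix (Fin m) (Fin m) F), Q m M ∧ ∀ j, T (b j) = ∑ l, M l j • b l

/-- the property `Q` is stable under block diagonal sums. -/
def BlockStable (Q : ∀ m : ℕ, Matrix (Fin m) (Fin m) F → Prop) : Prop :=
  ∀ (m₁ m₂ : ℕ) (M₁ : Matrix (Fin m₁) (Fin m₁) F) (M₂ : Matrix (Fin m₂) (Fin m₂) F), Q m₁ M₁ → Q m₂ M₂ →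
    Q (m₁ + m₂) (Matrix.reindex finSumFinEquiv finSumFinEquiv (Matrix.fromBlocks M₁ 0 0 M₂))

theorem restrict_coe {V : Type v} [AddCommGroup V] [Module F V] {T : Module.End F V} {W : Submodule F V}
    (hW : W ∈ Module.End.invtSubmodule T) (w : ↥W) : ((LinearMap.restrict T hW w : ↥W) : V) = T (w : V) := rfl

/-- **gluing**: matrices on two complementary invariant subspaces give a block diagonal matrix. -/
theorem hasB_of_isCompl {Q : ∀ m : ℕ, Matrix (Fin m) (Fin m) F → Prop} (hQ : BlockStable Q)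
    {V : Type v} [AddCommGroup V] [Module F V] {T : Module.End F V} {W W' : Submodule F V}
    (hW : W ∈ Module.End.invtSubmodule T) (hW' : W' ∈ Module.End.invtSubmodule T) (hc : IsCompl W W')
    (h1 : HasB Q (LinearMap.restrict T hW)) (h2 : HasB Q (LinearMap.restrict T hW')) : HasB Q T := by
  classical
  obtain ⟨m₁, b₁, M₁, hQ₁, hb₁⟩ := h1
  obtain ⟨m₂, b₂, M₂, hQ₂, hb₂⟩ := h2
  obtain ⟨bS, hbS⟩ : ∃ bS : Basis (Fin m₁ ⊕ Fin m₂) F V,
      (∀ i, bS (Sum.inl i) = (b₁ i : V)) ∧ ∀ i, bS (Sum.inr i) = (b₂ i : V) := by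
    refine ⟨(b₁.prod b₂).map (Submodule.prodEquivOfIsCompl W W' hc), ?_, ?_⟩
    · intro i
      rw [Basis.map_apply, Submodule.coe_prodEquivOfIsCompl', Basis.prod_apply_inl_fst, Basis.prod_apply_inl_snd]
      simp
    · intro i
      rw [Basis.map_apply, Submodule.coe_prodEquivOfIsCompl', Basis.prod_apply_inr_fst, Basis.prod_apply_inr_snd]
      simp
  have hS : ∀ j, T (bS j) = ∑ l, (Matrix.fromBlocks M₁ 0 0 M₂) l j • bS l := by
    rintro (j | j)
    · rw [Fintype.sum_sum_type]
      simp only [Matrix.fromBlocks_apply₁₁, Matrix.fromBlocks_apply₂₁, Matrix.zero_apply, zero_smul,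
        Finset.sum_const_zero, add_zero, hbS.1]
      rw [← restrict_coe hW, hb₁, Submodule.coe_sum]
      simp
    · rw [Fintype.sum_sum_type]
      simp only [Matrix.fromBlocks_apply₁₂, Matrix.fromBlocks_apply₂₂, Matrix.zero_apply, zero_smul,
        Finset.sum_const_zero, zero_add, hbS.2]
      rw [← restrict_coe hW', hb₂, Submodule.coe_sum]
      simp
  refine ⟨m₁ + m₂, bS.reindex finSumFinEquiv,
    Matrix.reindex finSumFinEquiv finSumFinEquiv (Matrix.fromBlocks M₁ 0 0 M₂), hQ _ _ _ _ hQ₁ hQ₂, ?_⟩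
  intro j
  rw [Basis.reindex_apply, hS, ← Equiv.sum_comp finSumFinEquiv.symm]
  apply Finset.sum_congr rfl
  intro l _
  rw [Basis.reindex_apply, Matrix.reindex_apply, Matrix.submatrix_apply]

/-- **the generic induction.** -/
theorem hasB_of_step {Q : ∀ m : ℕ, Matrix (Fin m) (Fin m) F → Prop} (hQ : BlockStable Q)
    (hQ0 : ∀ M : Matrix (Fin 0) (Fin 0) F, Q 0 M)
    (P : ∀ (V : Type v) [AddCommGroup V] [Module F V], Module.End F V → Prop)
    (hstep : ∀ (V : Type v) [AddCommGroup V] [Module F V] [FiniteDimensional F V] (T : Module.End F V),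
      P V T → 0 < finrank F V →
      ∃ (W W' : Submodule F V) (hW : W ∈ Module.End.invtSubmodule T) (hW' : W' ∈ Module.End.invtSubmodule T),
        IsCompl W W' ∧ 0 < finrank F ↥W ∧ HasB Q (LinearMap.restrict T hW) ∧
          P ↥W' (LinearMap.restrict T hW')) :
    ∀ (N : ℕ) (V : Type v) [AddCommGroup V] [Module F V] [FiniteDimensional F V] (T : Module.End F V),
      finrank F V = N → P V T → HasB Q T := by
  intro N
  induction N using Nat.strong_induction_on with
  | _ N ih =>
    intro V _ _ _ T hN hP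
    rcases Nat.eq_zero_or_pos N with h0 | hpos
    · subst h0
      exact ⟨0, Module.finBasisOfFinrankEq F V hN, 0, hQ0 _, fun j => j.elim0⟩
    · obtain ⟨W, W', hW, hW', hc, hWpos, hB, hP'⟩ := hstep V T hP (by omega)
      have hsum := Submodule.finrank_add_eq_of_isCompl hc
      have hlt : finrank F ↥W' < N := by omega
      exact hasB_of_isCompl hQ hW hW' hc hB (ih _ hlt ↥W' _ rfl hP')

/-- the companion matrix. -/
def compMat (h : F[X]) (d : ℕ) : Matrix (Fin d) (Fin d) F :=
  fun l t => if (t : ℕ) + 1 < d then (if (l : ℕ) = (t : ℕ) + 1 then 1 else 0) else - h.coeff (l : ℕ)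

/-- **cyclic block**: the matrix on a cyclic space is the companion matrix. -/
theorem hasB_cyc {V : Type v} [AddCommGroup V] [Module F V] (T : Module.End F V) (w : V) (h : F[X])
    (hm : h.Monic) (hw : aeval T h w = 0)
    (hli : LinearIndependent F (fun t : Fin h.natDegree => (T ^ (t : ℕ)) w))
    (hsp : ⊤ ≤ Submodule.span F (Set.range (fun t : Fin h.natDegree => (T ^ (t : ℕ)) w))) :
    ∃ b : Basis (Fin h.natDegree) F V, (∀ t, b t = (T ^ (t : ℕ)) w) ∧
      ∀ j, T (b j) = ∑ l, compMat h h.natDegree l j • b l := by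
  classical
  obtain ⟨d, hd⟩ : ∃ d, d = h.natDegree := ⟨_, rfl⟩
  have hb : ∀ t, (Basis.mk hli hsp) t = (T ^ (t : ℕ)) w := fun t => by rw [Basis.mk_apply]
  refine ⟨Basis.mk hli hsp, hb, ?_⟩
  have htop : (T ^ h.natDegree) w = - ∑ l : Fin h.natDegree, h.coeff (l : ℕ) • (T ^ (l : ℕ)) w := by
    have h1 := hm.as_sum
    have h2 : aeval T h w = (T ^ h.natDegree) w + ∑ l ∈ Finset.range h.natDegree, h.coeff l • (T ^ l) w := by
      conv_lhs => rw [h1]
      rw [map_add, map_pow, aeval_X, map_sum, LinearMap.add_apply, LinearMap.sum_apply]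
      congr 1
      apply Finset.sum_congr rfl
      intro i _
      rw [map_mul, aeval_C, map_pow, aeval_X, Module.End.mul_apply, Module.algebraMap_end_apply]
    rw [hw] at h2
    rw [Fin.sum_univ_eq_sum_range (fun l => h.coeff l • (T ^ l) w)]
    exact eq_neg_of_add_eq_zero_left h2.symm
  intro j
  by_cases hj : (j : ℕ) + 1 < h.natDegree
  · have e1 : ∀ l : Fin h.natDegree, compMat h h.natDegree l j • (Basis.mk hli hsp) l =
        if l = ⟨(j : ℕ) + 1, hj⟩ then (Basis.mk hli hsp) l else 0 := by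
      intro l
      unfold compMat
      rw [if_pos hj]
      by_cases hl : l = ⟨(j : ℕ) + 1, hj⟩
      · rw [if_pos hl, if_pos (by rw [hl]), one_smul]
      · rw [if_neg hl, if_neg (fun h' => hl (Fin.ext h')), zero_smul]
    rw [Finset.sum_congr rfl (fun l _ => e1 l), Finset.sum_ite_eq' Finset.univ, if_pos (Finset.mem_univ _), hb, hb,
      ← Module.End.mul_apply, ← pow_succ']
  · have hj' : (j : ℕ) + 1 = h.natDegree := by
      have := j.2
      omega
    have e1 : ∀ l : Fin h.natDegree, compMat h h.natDegree l j • (Basis.mk hli hsp) l =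
        - (h.coeff (l : ℕ) • (T ^ (l : ℕ)) w) := by
      intro l
      unfold compMat
      rw [if_neg hj, hb, neg_smul]
    rw [Finset.sum_congr rfl (fun l _ => e1 l), Finset.sum_neg_distrib, ← htop, hb, ← Module.End.mul_apply,
      ← pow_succ', hj']

end Cfsg.Agent.Helper7.SubR
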