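import Mathlib
import Cfsg.Agent.Helper7.SubRA

/-!
# Rational matrices for endomorphisms of order `r` whose irreducible factors are rational
-/

set_option autoImplicit false

namespace Cfsg.Agent.Helper7.SubR

open Module Polynomial Cfsg.Agent.Helper7.POrd

universe u v

variable {F : Type u} [Field F]

/-- the matrix has its entries in the subfield. -/
def RatQ (F₀ : Subfield F) : ∀ m : ℕ, Matrix (Fin m) (Fin m) F → Prop := fun _ M => ∀ l j, M l j ∈ F₀

theorem blockStable_ratQ (F₀ : Subfield F) : BlockStable (RatQ F₀) := by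
  intro m₁ m₂ M₁ M₂ h1 h2 l j
  rw [Matrix.reindex_apply, Matrix.submatrix_apply]
  rcases finSumFinEquiv.symm l with a | a <;> rcases finSumFinEquiv.symm j with b | b
  · exact h1 a b
  · exact F₀.zero_mem
  · exact F₀.zero_mem
  · exact h2 a b

theorem ratQ_compMat (F₀ : Subfield F) (h : F[X]) (hc : ∀ t, h.coeff t ∈ F₀) (d : ℕ) : RatQ F₀ d (compMat h d) := by
  intro l j
  unfold compMat
  split_ifs
  · exact F₀.one_mem
  · exact F₀.zero_mem
  · exact F₀.neg_mem (hc _)

/-- the cyclic block, for the restriction to the cyclic subspace. -/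
theorem hasB_cyc_restrict {V : Type v} [AddCommGroup V] [Module F V] (T : Module.End F V) (w : V) (h : F[X])
    (hm : h.Monic) (hd : 0 < h.natDegree) (hw : aeval T h w = 0)
    (hli : LinearIndependent F (fun t : Fin h.natDegree => (T ^ (t : ℕ)) w))
    {W : Submodule F V} (hWeq : W = cyc T w h.natDegree) (hW : W ∈ Module.End.invtSubmodule T) :
    ∃ b : Basis (Fin h.natDegree) F ↥W,
      ∀ j, (LinearMap.restrict T hW) (b j) = ∑ l, compMat h h.natDegree l j • b l := by
  have hwm : w ∈ W := by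
    have := pow_mem_cyc T w hd
    rw [hWeq]
    simpa using this
  have hpow : ∀ t : ℕ, (((LinearMap.restrict T hW) ^ t) ⟨w, hwm⟩ : V) = (T ^ t) w := fun t =>
    pow_restrict_apply hW t ⟨w, hwm⟩
  have h1 : aeval (LinearMap.restrict T hW) h (⟨w, hwm⟩ : ↥W) = 0 := by
    apply Subtype.ext
    rw [aeval_restrict_apply, hw]
    rfl
  have h2 : LinearIndependent F (fun t : Fin h.natDegree =>
      ((LinearMap.restrict T hW) ^ (t : ℕ)) (⟨w, hwm⟩ : ↥W)) := by
    apply LinearIndependent.of_comp W.subtype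
    have : (W.subtype ∘ fun t : Fin h.natDegree =>
        ((LinearMap.restrict T hW) ^ (t : ℕ)) (⟨w, hwm⟩ : ↥W)) =
        fun t : Fin h.natDegree => (T ^ (t : ℕ)) w := by
      funext t
      exact hpow t
    rw [this]
    exact hli
  have h3 : ⊤ ≤ Submodule.span F (Set.range (fun t : Fin h.natDegree =>
      ((LinearMap.restrict T hW) ^ (t : ℕ)) (⟨w, hwm⟩ : ↥W))) := by
    rw [top_le_iff]
    apply Submodule.map_injective_of_injective W.injective_subtype
    rw [Submodule.map_span, Submodule.map_subtype_top, ← Set.range_comp]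
    conv_rhs => rw [hWeq]
    unfold cyc
    congr 2
    funext t
    exact hpow t
  obtain ⟨b, -, hb⟩ := hasB_cyc (LinearMap.restrict T hW) ⟨w, hwm⟩ h hm h1 h2 h3
  exact ⟨b, hb⟩

/-- the powers of `T` on a nonzero vector killed by an irreducible polynomial are independent. -/
theorem li_cyc_of_irred {V : Type v} [AddCommGroup V] [Module F V] (T : Module.End F V) {g : F[X]}
    (hg : Irreducible g) {w : V} (hw0 : w ≠ 0) (hw : aeval T g w = 0) :
    LinearIndependent F (fun t : Fin g.natDegree => (T ^ (t : ℕ)) w) := by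
  rw [Fintype.linearIndependent_iff]
  intro c hc
  rw [← aeval_polyOf] at hc
  have h0 : polyOf c = 0 := by
    by_contra h0
    have hcop : IsCoprime g (polyOf c) :=
      (hg.coprime_iff_not_dvd).mpr (not_dvd_of_natDegree_lt h0 (polyOf_natDegree_lt c h0))
    obtain ⟨a, b, hab⟩ := hcop
    have h1 : w = aeval T (a * g + b * polyOf c) w := by
      rw [hab, map_one, Module.End.one_apply]
    rw [map_add, map_mul, map_mul, LinearMap.add_apply, Module.End.mul_apply, Module.End.mul_apply, hw, hc,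
      map_zero, map_zero, add_zero] at h1
    exact hw0 h1
  intro s
  rw [← polyOf_coeff c s, h0, coeff_zero]

variable [Fintype F] {p : ℕ} [Fact p.Prime] [CharP F p] {r : ℕ} [Fact r.Prime]

/-- **block diagonal form**: an endomorphism with `T^r = 1` has a block diagonal matrix whose blocks are the
companion matrices of monic irreducible factors of `X^r - 1`. -/
theorem hasB_of_pow_eq_one (hrp : r ≠ p) {Q : ∀ m : ℕ, Matrix (Fin m) (Fin m) F → Prop} (hQ : BlockStable Q)
    (hQ0 : ∀ M : Matrix (Fin 0) (Fin 0) F, Q 0 M)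
    (Hg : ∀ g : F[X], Irreducible g → g.Monic → g ∣ X ^ r - 1 → Q g.natDegree (compMat g g.natDegree))
    {V : Type v} [AddCommGroup V] [Module F V] [FiniteDimensional F V] (T : Module.End F V) (hT : T ^ r = 1) :
    HasB Q T := by
  have hr : r.Prime := Fact.out
  refine hasB_of_step hQ hQ0
    (fun V _ _ T => T ^ r = 1) ?_ (finrank F V) V T rfl hT
  intro V _ _ _ T hT hpos
  have : Finite V := Module.finite_of_finite F
  have : Nontrivial V := Module.nontrivial_of_finrank_pos (R := F) hpos
  obtain ⟨v, hv⟩ := exists_ne (0 : V)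
  have hf0 : (X ^ r - 1 : F[X]) ≠ 0 := (monic_X_pow_sub_C (1 : F) hr.ne_zero).ne_zero
  have hfv : aeval T (X ^ r - 1 : F[X]) v = 0 := by
    rw [map_sub, map_pow, aeval_X, map_one, hT, sub_self, LinearMap.zero_apply]
  obtain ⟨g, h', hg, hgf, hw0, hgw⟩ := exists_irred_ker T _ (X ^ r - 1 : F[X]) rfl hf0 v hv hfv
  -- normalise
  obtain ⟨g', hg'⟩ : ∃ g', g' = g * C g.leadingCoeff⁻¹ := ⟨_, rfl⟩
  have hlc : g.leadingCoeff⁻¹ ≠ 0 := inv_ne_zero (leadingCoeff_ne_zero.mpr hg.ne_zero)
  have hassoc : Associated g g' := by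
    rw [hg']
    exact associated_mul_unit_right g _ (isUnit_C.mpr (IsUnit.mk0 _ hlc))
  have hg'irr : Irreducible g' := hassoc.irreducible hg
  have hg'm : g'.Monic := by
    rw [hg']
    exact monic_mul_leadingCoeff_inv hg.ne_zero
  have hg'f : g' ∣ X ^ r - 1 := hassoc.symm.dvd.trans hgf
  have hg'w : aeval T g' (aeval T h' v) = 0 := by
    rw [hg', mul_comm, map_mul, Module.End.mul_apply, hgw, map_zero]
  have hWi := cyc_invt T (aeval T h' v) g' hg'irr.ne_zero hg'w
  have hli := li_cyc_of_irred T hg'irr hw0 hg'w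
  obtain ⟨W', hW', hc⟩ := exists_invt_compl hrp (c := (1 : F)) one_ne_zero (by rw [hT, map_one]) hWi
  obtain ⟨b, hb⟩ := hasB_cyc_restrict T (aeval T h' v) g' hg'm hg'irr.natDegree_pos hg'w hli rfl hWi
  refine ⟨_, W', hWi, hW', hc, ?_, ⟨_, b, _, Hg g' hg'irr hg'm hg'f, hb⟩, ?_⟩
  · rw [finrank_eq_card_basis b, Fintype.card_fin]
    exact hg'irr.natDegree_pos
  · apply LinearMap.ext
    intro w
    apply Subtype.ext
    rw [pow_restrict_apply, hT]
    rfl

/-- **rational basis**: when the monic irreducible factors of `X^r - 1` are rational, an endomorphism with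
`T^r = 1` has a rational matrix. -/
theorem hasB_rat_of_pow_eq_one (hrp : r ≠ p) (F₀ : Subfield F)
    (Hg : ∀ g : F[X], Irreducible g → g.Monic → g ∣ X ^ r - 1 → ∀ t, g.coeff t ∈ F₀)
    {V : Type v} [AddCommGroup V] [Module F V] [FiniteDimensional F V] (T : Module.End F V) (hT : T ^ r = 1) :
    HasB (RatQ F₀) T :=
  hasB_of_pow_eq_one hrp (blockStable_ratQ F₀) (fun M l => l.elim0)
    (fun g hg hm hd => ratQ_compMat F₀ g (Hg g hg hm hd) _) T hT

end Cfsg.Agent.Helper7.SubR
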