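import Mathlib
import Cfsg.Agent.Helper7.SubRB

/-!
# The irreducible factors of `X^r - 1` over a field and over a subfield
-/

set_option autoImplicit false

namespace Cfsg.Agent.Helper7.SubR

open Module Polynomial

/-- the degree of the irreducible factors of the cyclotomic polynomial. -/
theorem natDegree_of_irred_dvd_cyclo {K : Type*} [Field K] [Fintype K] {p : ℕ} [Fact p.Prime] [CharP K p] {r : ℕ}
    [Fact r.Prime] (hrp : r ≠ p) {g : K[X]} (hg : Irreducible g) (hgc : g ∣ cyclotomic r K) :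
    g.natDegree = orderOf ((Fintype.card K : ℕ) : ZMod r) := by
  obtain ⟨⟨f, hfpos⟩, -, hcard⟩ := FiniteField.card K p
  have hcard : Fintype.card K = p ^ f := hcard
  have hcop : p.Coprime r := by
    rw [Nat.coprime_primes Fact.out Fact.out]
    exact fun h => hrp h.symm
  have hdeg := natDegree_of_dvd_cyclotomic_of_irreducible (K := K) (p := p) (f := f) (n := r) hcard hcop hgc hg
  have hord : orderOf (ZMod.unitOfCoprime (p ^ f) (hcop.pow_left f) : (ZMod r)ˣ) =
      orderOf ((Fintype.card K : ℕ) : ZMod r) := by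
    rw [← orderOf_units, ZMod.coe_unitOfCoprime, hcard]
  rw [hord] at hdeg
  exact hdeg

variable {F : Type*} [Field F] [Fintype F] {p : ℕ} [Fact p.Prime] [CharP F p] {r : ℕ} [Fact r.Prime]

/-- **the irreducible factors are rational** when `q₀` and `q` have the same order modulo `r`. -/
theorem coeff_mem_of_irred (hrp : r ≠ p) (F₀ : Subfield F)
    (hord : orderOf ((Nat.card ↥F₀ : ℕ) : ZMod r) = orderOf ((Fintype.card F : ℕ) : ZMod r)) :
    ∀ g : F[X], Irreducible g → g.Monic → g ∣ X ^ r - 1 → ∀ t, g.coeff t ∈ F₀ := by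
  classical
  intro g hg hm hdvd
  suffices h : ∃ g₀ : (↥F₀)[X], g₀.map F₀.subtype = g by
    obtain ⟨g₀, rfl⟩ := h
    intro t
    rw [coeff_map]
    exact (g₀.coeff t).2
  haveI : Fintype ↥F₀ := Fintype.ofFinite _
  have hcard₀ : Nat.card ↥F₀ = Fintype.card ↥F₀ := Nat.card_eq_fintype_card
  rw [← cyclotomic_prime_mul_X_sub_one F r] at hdvd
  rcases hg.prime.dvd_or_dvd hdvd with h | h
  · -- a factor of the cyclotomic polynomial
    have hc₀ : cyclotomic r ↥F₀ ≠ 0 := cyclotomic_ne_zero r _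
    obtain ⟨s, hs, hsp⟩ := UniqueFactorizationMonoid.exists_prime_factors (cyclotomic r ↥F₀) hc₀
    have h1 : g ∣ (s.map (mapRingHom F₀.subtype)).prod := by
      rw [Multiset.prod_hom, coe_mapRingHom]
      have h2 : Associated (map F₀.subtype s.prod) (map F₀.subtype (cyclotomic r ↥F₀)) := by
        have := hsp.map (mapRingHom F₀.subtype)
        simpa using this
      rw [map_cyclotomic] at h2
      exact h.trans h2.symm.dvd
    obtain ⟨a, ha, hga⟩ := hg.prime.exists_mem_multiset_dvd h1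
    obtain ⟨g₁, hg₁s, rfl⟩ := Multiset.mem_map.mp ha
    rw [coe_mapRingHom] at hga
    have hg₁irr : Irreducible g₁ := (hs g₁ hg₁s).irreducible
    have hg₁c : g₁ ∣ cyclotomic r ↥F₀ := (Multiset.dvd_prod hg₁s).trans hsp.dvd
    have hd₁ := natDegree_of_irred_dvd_cyclo hrp hg₁irr hg₁c
    have hd := natDegree_of_irred_dvd_cyclo hrp hg h
    rw [← hcard₀, hord, ← hd] at hd₁
    -- normalise
    have hlc : g₁.leadingCoeff⁻¹ ≠ 0 := inv_ne_zero (leadingCoeff_ne_zero.mpr hg₁irr.ne_zero)
    refine ⟨g₁ * C g₁.leadingCoeff⁻¹, ?_⟩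
    have hmon : (g₁ * C g₁.leadingCoeff⁻¹).Monic := monic_mul_leadingCoeff_inv hg₁irr.ne_zero
    have hmon' : ((g₁ * C g₁.leadingCoeff⁻¹).map F₀.subtype).Monic := hmon.map _
    apply eq_of_monic_of_dvd_of_natDegree_le hm hmon'
    · rw [Polynomial.map_mul]
      exact Dvd.dvd.mul_right hga _
    · rw [natDegree_map, natDegree_mul_C hlc, hd₁]
  · -- the factor `X - 1`
    refine ⟨X - C 1, ?_⟩
    rw [Polynomial.map_sub, map_X, map_C, map_one]
    apply eq_of_monic_of_dvd_of_natDegree_le hm (monic_X_sub_C 1)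
    · rw [map_one]
      exact h
    · rw [natDegree_X_sub_C]
      exact hg.natDegree_pos

end Cfsg.Agent.Helper7.SubR
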