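import Mathlib
import Cfsg.Agent.Helper7.SubRC

/-!
# The determinant on the centraliser of a semisimple endomorphism over a finite field is onto
-/

set_option autoImplicit false

namespace Cfsg.Agent.Helper7.SubR

open Module Polynomial Cfsg.Agent.Helper7.POrd

universe u v

variable {F : Type u} [Field F] [Fintype F] {p : ℕ} [Fact p.Prime] [CharP F p] {r : ℕ} [Fact r.Prime]

/-- on an irreducible cyclic space, the polynomials in `T` have all possible determinants. -/
theorem exists_commute_det_irred {W : Type v} [AddCommGroup W] [Module F W] [FiniteDimensional F W]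
    (S : Module.End F W) {g : F[X]} (hg : Irreducible g) (hgS : aeval S g = 0) {w : W} (hw : w ≠ 0)
    (hd : finrank F W = g.natDegree) (δ : F) :
    ∃ C : Module.End F W, C * S = S * C ∧ LinearMap.det C = δ := by
  haveI : Fact (Irreducible g) := ⟨hg⟩
  haveI : Module.Finite F (AdjoinRoot g) := finite_adjoinRoot hg.ne_zero
  haveI : Finite (AdjoinRoot g) := Module.finite_of_finite F
  let ψ : AdjoinRoot g →ₐ[F] Module.End F W := Ideal.Quotient.liftₐ (Ideal.span {g}) (aeval S) (by
    intro a ha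
    obtain ⟨b, rfl⟩ := Ideal.mem_span_singleton.mp ha
    rw [map_mul, hgS, zero_mul])
  have hψroot : ψ (AdjoinRoot.root g) = S := by
    have h1 := AlgHom.congr_fun (Ideal.Quotient.liftₐ_comp (R₁ := F) (Ideal.span {g}) (aeval S) (by
      intro a ha
      obtain ⟨b, rfl⟩ := Ideal.mem_span_singleton.mp ha
      rw [map_mul, hgS, zero_mul])) X
    rw [aeval_X] at h1
    exact h1
  let ε : AdjoinRoot g →ₗ[F] W := (LinearMap.applyₗ w).comp ψ.toLinearMap
  have hε : ∀ κ, ε κ = ψ κ w := fun κ => rfl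
  have hεmul : ∀ κ h, ε (κ * h) = ψ κ (ε h) := by
    intro κ h
    rw [hε, hε, map_mul, Module.End.mul_apply]
  have hinj : Function.Injective ε := by
    rw [injective_iff_map_eq_zero]
    intro κ hκ
    by_contra h0
    apply hw
    have h1 : w = ψ (κ⁻¹ * κ) w := by rw [inv_mul_cancel₀ h0, map_one, Module.End.one_apply]
    rw [map_mul, Module.End.mul_apply, ← hε κ, hκ, map_zero] at h1
    exact h1
  have hfr : finrank F (AdjoinRoot g) = finrank F W := by rw [finrank_adjoinRoot hg.ne_zero, hd]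
  have hsurj : Function.Surjective ε := (LinearMap.injective_iff_surjective_of_finrank_eq_finrank hfr).mp hinj
  let εe : AdjoinRoot g ≃ₗ[F] W := LinearEquiv.ofBijective ε ⟨hinj, hsurj⟩
  obtain ⟨κ, hκ⟩ := FiniteField.norm_surjective F (AdjoinRoot g) δ
  refine ⟨ψ κ, ?_, ?_⟩
  · rw [← hψroot, ← map_mul, ← map_mul, mul_comm]
  · have h1 : ψ κ = (εe : AdjoinRoot g →ₗ[F] W) ∘ₗ (Algebra.lmul F (AdjoinRoot g) κ) ∘ₗ
        (εe.symm : W →ₗ[F] AdjoinRoot g) := by
      apply LinearMap.ext
      intro x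
      obtain ⟨h, rfl⟩ := hsurj x
      have h2 : εe.symm (ε h) = h := εe.symm_apply_apply h
      simp only [LinearMap.comp_apply, LinearEquiv.coe_coe, h2]
      show ψ κ (ε h) = ε (κ * h)
      rw [hεmul]
    rw [h1, LinearMap.det_conj, ← Algebra.norm_apply, hκ]

/-- **the determinant is onto on the centraliser.** -/
theorem exists_commute_det (hrp : r ≠ p) {V : Type v} [AddCommGroup V] [Module F V] [FiniteDimensional F V]
    (T : Module.End F V) {c : F} (hc : c ≠ 0) (hT : T ^ r = algebraMap F _ c) (hpos : 0 < finrank F V) (δ : F) :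
    ∃ C : Module.End F V, C * T = T * C ∧ LinearMap.det C = δ := by
  have hr : r.Prime := Fact.out
  have : Finite V := Module.finite_of_finite F
  have : Nontrivial V := Module.nontrivial_of_finrank_pos (R := F) hpos
  obtain ⟨v, hv⟩ := exists_ne (0 : V)
  have hf0 : (X ^ r - C c : F[X]) ≠ 0 := (monic_X_pow_sub_C c hr.ne_zero).ne_zero
  have hfv : aeval T (X ^ r - C c : F[X]) v = 0 := by
    rw [map_sub, map_pow, aeval_X, aeval_C, hT, sub_self, LinearMap.zero_apply]
  obtain ⟨g, h', hg, hgf, hw0, hgw⟩ := exists_irred_ker T _ (X ^ r - C c : F[X]) rfl hf0 v hv hfv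
  obtain ⟨W, hWeq⟩ : ∃ W, W = cyc T (aeval T h' v) g.natDegree := ⟨_, rfl⟩
  have hWi : W ∈ Module.End.invtSubmodule T := by
    rw [hWeq]
    exact cyc_invt T (aeval T h' v) g hg.ne_zero hgw
  have hli := li_cyc_of_irred T hg hw0 hgw
  have hWd : finrank F ↥W = g.natDegree := by
    rw [hWeq]
    unfold cyc
    rw [finrank_span_eq_card hli, Fintype.card_fin]
  have hwm : aeval T h' v ∈ W := by
    rw [hWeq]
    have := pow_mem_cyc T (aeval T h' v) hg.natDegree_pos
    simpa using this
  obtain ⟨W', hW', hcompl⟩ := exists_invt_compl hrp hc hT hWi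
  -- `g(T)` vanishes on `W`
  have hker : W ≤ LinearMap.ker (aeval T g) := by
    have hki : LinearMap.ker (aeval T g) ∈ Module.End.invtSubmodule T := by
      rw [Module.End.mem_invtSubmodule]
      intro x hx
      rw [Submodule.mem_comap, LinearMap.mem_ker, ← Module.End.mul_apply]
      have hcomm : aeval T g * T = T * aeval T g := by
        have : aeval T g * aeval T (X : F[X]) = aeval T (X : F[X]) * aeval T g := by
          rw [← map_mul, ← map_mul, mul_comm]
        rwa [aeval_X] at this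
      rw [hcomm, Module.End.mul_apply, LinearMap.mem_ker.mp hx, map_zero]
    rw [hWeq]
    exact cyc_le hki (LinearMap.mem_ker.mpr hgw) _
  have hgS : aeval (LinearMap.restrict T hWi) g = 0 := by
    apply LinearMap.ext
    intro x
    apply Subtype.ext
    rw [aeval_restrict_apply]
    exact LinearMap.mem_ker.mp (hker x.2)
  obtain ⟨C₀, hC₀, hC₀d⟩ := exists_commute_det_irred (LinearMap.restrict T hWi) hg hgS
    (w := ⟨aeval T h' v, hwm⟩) (fun h => hw0 (congrArg Subtype.val h)) hWd δ
  let e := Submodule.prodEquivOfIsCompl W W' hcompl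
  obtain ⟨C, hCdef⟩ : ∃ C : Module.End F V, C = (e : (↥W × ↥W') →ₗ[F] V) ∘ₗ
      (LinearMap.prodMap C₀ LinearMap.id) ∘ₗ (e.symm : V →ₗ[F] (↥W × ↥W')) := ⟨_, rfl⟩
  have hCapp : ∀ (w₁ : ↥W) (w₂ : ↥W'), C ((w₁ : V) + (w₂ : V)) = (C₀ w₁ : V) + (w₂ : V) := by
    intro w₁ w₂
    have h1 : ((w₁ : V) + (w₂ : V)) = e (w₁, w₂) := by
      rw [Submodule.coe_prodEquivOfIsCompl']
    rw [h1, hCdef]
    simp only [LinearMap.comp_apply, LinearEquiv.coe_coe, LinearEquiv.symm_apply_apply, LinearMap.prodMap_apply,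
      LinearMap.id_apply]
    rw [Submodule.coe_prodEquivOfIsCompl']
  refine ⟨C, ?_, ?_⟩
  · apply LinearMap.ext
    intro x
    obtain ⟨⟨w₁, w₂⟩, rfl⟩ := e.surjective x
    rw [Submodule.coe_prodEquivOfIsCompl']
    show C (T ((w₁ : V) + (w₂ : V))) = T (C ((w₁ : V) + (w₂ : V)))
    have h1 : T ((w₁ : V) + (w₂ : V)) = ((LinearMap.restrict T hWi w₁ : ↥W) : V) +
        ((LinearMap.restrict T hW' w₂ : ↥W') : V) := by
      rw [map_add]
      rfl
    rw [h1, hCapp, hCapp, map_add]
    congr 1
    have h2 : C₀ (LinearMap.restrict T hWi w₁) = LinearMap.restrict T hWi (C₀ w₁) := by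
      rw [← Module.End.mul_apply, hC₀, Module.End.mul_apply]
    rw [h2]
    rfl
  · rw [hCdef, LinearMap.det_conj, LinearMap.det_prodMap, hC₀d, LinearMap.det_id, mul_one]

end Cfsg.Agent.Helper7.SubR
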