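import Mathlib
import Cfsg.Agent.Helper7.SubRD
import Cfsg.Agent.Helper7.InvolY

/-!
# Conjugating into the subfield subgroup: the case `r = k`
-/

set_option autoImplicit false

namespace Cfsg.Agent.Helper7.SubR

open Module Polynomial Cfsg.Agent.Helper7.POrd Cfsg.Geo

variable {F : Type*} [Field F] [Fintype F] {p : ℕ} [Fact p.Prime] [CharP F p] {r : ℕ} [Fact r.Prime]

/-- **assembly**: a rational matrix for a scalar multiple of `x` conjugates `x` into the subfield subgroup, by a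
matrix of determinant one. -/
theorem conj_into_subfield (hrp : r ≠ p) {n : ℕ} (hn : 0 < n) (F₀ : Subfield F)
    (x : Matrix.SpecialLinearGroup (Fin n) F) {c : F} (hc : c ≠ 0)
    (hx : ((x ^ r : Matrix.SpecialLinearGroup (Fin n) F) : Matrix (Fin n) (Fin n) F) = c • 1)
    (μ : F) (hμ : μ ≠ 0)
    (hB : HasB (RatQ F₀) (μ⁻¹ • (Matrix.toLin' (x : Matrix (Fin n) (Fin n) F) : Module.End F (Fin n → F)))) :
    ∃ P : Matrix.SpecialLinearGroup (Fin n) F, P⁻¹ * x * P ∈
      ((subfieldSubgroup F₀ 1).comap (Matrix.SpecialLinearGroup.toGL :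
        Matrix.SpecialLinearGroup (Fin n) F →* GL (Fin n) F)) := by
  classical
  obtain ⟨m, b, M, hM, hb⟩ := hB
  have hmn : m = n := by
    have h1 := finrank_eq_card_basis b
    rw [Module.finrank_fin_fun, Fintype.card_fin] at h1
    exact h1.symm
  subst hmn
  -- the action of `x` on the basis
  have hxb : ∀ j, (x : Matrix (Fin m) (Fin m) F).mulVec (b j) = μ • ∑ l, M l j • b l := by
    intro j
    rw [← hb j, LinearMap.smul_apply, Matrix.toLin'_apply, smul_smul, mul_inv_cancel₀ hμ, one_smul]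
  obtain ⟨Q, hQ⟩ : ∃ Q : Matrix (Fin m) (Fin m) F, Q = (Pi.basisFun F (Fin m)).toMatrix b := ⟨_, rfl⟩
  have hQij : ∀ i j, Q i j = b j i := by
    intro i j
    rw [hQ, Basis.toMatrix_apply, Pi.basisFun_repr]
  have hQdet : IsUnit Q.det := by
    rw [hQ]
    exact Basis.isUnit_det _ _
  have hXQ : (x : Matrix (Fin m) (Fin m) F) * Q = Q * (μ • M) := by
    ext i j
    have h1 := congrFun (hxb j) i
    rw [Matrix.mul_apply, Matrix.mul_apply]
    simp only [Matrix.mulVec, dotProduct, Pi.smul_apply, Finset.sum_apply, smul_eq_mul] at h1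
    simp only [hQij, Matrix.smul_apply, smul_eq_mul]
    rw [h1, Finset.mul_sum]
    apply Finset.sum_congr rfl
    intro l _
    ring
  -- the correction of the determinant
  have hT := toLin'_pow_eq x hx
  have hpos : 0 < finrank F (Fin m → F) := by rw [Module.finrank_fin_fun]; exact hn
  obtain ⟨C, hC, hCd⟩ := exists_commute_det hrp
    (Matrix.toLin' (x : Matrix (Fin m) (Fin m) F) : Module.End F (Fin m → F)) hc hT hpos (Q.det)⁻¹
  obtain ⟨C', hC'⟩ : ∃ C' : Matrix (Fin m) (Fin m) F, C' = LinearMap.toMatrix' C := ⟨_, rfl⟩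
  have hC'x : C' * (x : Matrix (Fin m) (Fin m) F) = (x : Matrix (Fin m) (Fin m) F) * C' := by
    have h1 := congrArg LinearMap.toMatrix' hC
    rw [Module.End.mul_eq_comp, Module.End.mul_eq_comp, LinearMap.toMatrix'_comp, LinearMap.toMatrix'_comp,
      LinearMap.toMatrix'_toLin'] at h1
    rw [hC']
    exact h1
  have hC'd : C'.det = (Q.det)⁻¹ := by rw [hC', LinearMap.det_toMatrix', hCd]
  have hPdet : (C' * Q).det = 1 := by
    rw [Matrix.det_mul, hC'd, inv_mul_cancel₀ hQdet.ne_zero]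
  refine ⟨⟨C' * Q, hPdet⟩, Cfsg.Agent.Helper7.Invol.mem_subfield_comap_of F₀ x ⟨C' * Q, hPdet⟩ (μ • M) ?_ μ hμ M rfl hM⟩
  show (x : Matrix (Fin m) (Fin m) F) * (C' * Q) = (C' * Q) * (μ • M)
  rw [← Matrix.mul_assoc, ← hC'x, Matrix.mul_assoc, hXQ, Matrix.mul_assoc]

/-- `x^r = z • 1` with `z` not an `r`-th power is impossible under the valuation condition. -/
theorem exists_pow_eq_of_val (hr2 : r ≠ 2) {n : ℕ} (hn : n ≠ 0)
    (hval : r ∣ Fintype.card F - 1 → padicValNat r n ≤ padicValNat r (Fintype.card F - 1))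
    (x : Matrix.SpecialLinearGroup (Fin n) F) {z : F}
    (hx : ((x ^ r : Matrix.SpecialLinearGroup (Fin n) F) : Matrix (Fin n) (Fin n) F) = z • 1) :
    ∃ b : F, b ^ r = z := by
  have hr : r.Prime := Fact.out
  by_contra hcon
  have hc : ∀ b : F, b ^ r ≠ z := fun b hb => hcon ⟨b, hb⟩
  have hrq : r ∣ Fintype.card F - 1 := by
    by_contra h
    obtain ⟨b, hb⟩ := exists_pow_eq_of_not_dvd hr h z
    exact hc b hb
  have hT := toLin'_pow_eq x hx
  have hirr : Irreducible (X ^ r - C z : F[X]) := X_pow_sub_C_irreducible_of_prime hr hc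
  have hdeg : (X ^ r - C z : F[X]).natDegree = r := natDegree_X_pow_sub_C
  have hgT : aeval (Matrix.toLin' (x : Matrix (Fin n) (Fin n) F) : Module.End F (Fin n → F))
      (X ^ r - C z : F[X]) = 0 := by
    rw [map_sub, map_pow, aeval_X, aeval_C, hT, sub_self]
  obtain ⟨N, U, hN, -, -⟩ := exists_chain_irred hirr hgT (Module.End.invtSubmodule.top_mem _)
  rw [finrank_top, Module.finrank_fin_fun, hdeg] at hN
  have hdet := det_of_pow_eq hr.pos hirr _ hT
  rw [LinearMap.det_toLin', x.2, Module.finrank_fin_fun] at hdet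
  exact nonpower_contra hn ⟨N, hN⟩ hc hdet.symm (hval hrq) (fun h => absurd h hr2)

/-- **the case `r = k`**: every element of order `r` modulo scalars is conjugate into the subfield subgroup. -/
theorem good_of_eq (hrp : r ≠ p) (hr2 : r ≠ 2) {n : ℕ} (hn : 2 ≤ n) (F₀ : Subfield F) (q₀ : ℕ)
    (hF₀ : Nat.card ↥F₀ = q₀) (hq : Fintype.card F = q₀ ^ r)
    (hgapk : r ∣ q₀ - 1 → padicValNat r n ≤ padicValNat r (Fintype.card F - 1))
    (x : Matrix.SpecialLinearGroup (Fin n) F) {z : F}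
    (hx : ((x ^ r : Matrix.SpecialLinearGroup (Fin n) F) : Matrix (Fin n) (Fin n) F) = z • 1) :
    ∃ P : Matrix.SpecialLinearGroup (Fin n) F, P⁻¹ * x * P ∈
      ((subfieldSubgroup F₀ 1).comap (Matrix.SpecialLinearGroup.toGL :
        Matrix.SpecialLinearGroup (Fin n) F →* GL (Fin n) F)) := by
  have hr : r.Prime := Fact.out
  have hq1 : 1 ≤ Fintype.card F := Fintype.card_pos
  have hq₀1 : 1 ≤ q₀ := by
    rcases Nat.eq_zero_or_pos q₀ with h | h
    · rw [h, zero_pow hr.ne_zero] at hq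
      omega
    · exact h
  have hord : orderOf ((Nat.card ↥F₀ : ℕ) : ZMod r) = orderOf ((Fintype.card F : ℕ) : ZMod r) := by
    rw [hF₀, hq, Nat.cast_pow, ZMod.pow_card]
  have hz0 : z ≠ 0 := by
    intro h0
    have h1 : ((x ^ r : Matrix.SpecialLinearGroup (Fin n) F) : Matrix (Fin n) (Fin n) F).det = 1 := (x ^ r).2
    haveI : Nonempty (Fin n) := ⟨⟨0, by omega⟩⟩
    rw [hx, h0, zero_smul, Matrix.det_zero] at h1
    exact zero_ne_one h1
  obtain ⟨b, hb⟩ := exists_pow_eq_of_val hr2 (n := n) (by omega) (fun h => hgapk (by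
    rw [← orderOf_eq_one_iff_dvd hq₀1, ← hF₀, hord, orderOf_eq_one_iff_dvd hq1]
    exact h)) x hx
  have hb0 : b ≠ 0 := by
    rintro rfl
    rw [zero_pow hr.ne_zero] at hb
    exact hz0 hb.symm
  have hT := toLin'_pow_eq x hx
  have hT1 : (b⁻¹ • (Matrix.toLin' (x : Matrix (Fin n) (Fin n) F) : Module.End F (Fin n → F))) ^ r = 1 := by
    rw [_root_.smul_pow, hT, ← hb, inv_pow, Algebra.algebraMap_eq_smul_one, smul_smul, inv_mul_cancel₀ (pow_ne_zero _ hb0),
      one_smul]
  exact conj_into_subfield hrp (by omega) F₀ x hz0 hx b hb0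
    (hasB_rat_of_pow_eq_one hrp F₀ (coeff_mem_of_irred hrp F₀ hord) _ hT1)

end Cfsg.Agent.Helper7.SubR
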