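import Mathlib
import Cfsg.Agent.Helper7.SubRE
import Cfsg.Agent.Helper7.InvolZC

/-!
# The index of the subfield subgroup and the orders of `q₀` and `q` modulo `r`
-/

set_option autoImplicit false

namespace Cfsg.Agent.Helper7.SubR

open Module Polynomial Cfsg.Agent.Helper7.POrd Cfsg.Geo

variable {F : Type*} [Field F] [Fintype F] {p : ℕ} [Fact p.Prime] [CharP F p] {r : ℕ} [Fact r.Prime]

/-- **the index**: a prime `r ≠ k, p` dividing the index of the subfield subgroup divides some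
`1 + q₀^d + ... + q₀^(d(k-1))` with `2 ≤ d ≤ n`. -/
theorem exists_of_dvd_index (hrp : r ≠ p) {n : ℕ} (hn : 2 ≤ n) (F₀ : Subfield F) (q₀ k : ℕ) (hk1 : 1 ≤ k)
    (hF₀ : Nat.card ↥F₀ = q₀) (hq : Fintype.card F = q₀ ^ k)
    (hΩ : r ∣ ((subfieldSubgroup F₀ 1).comap (Matrix.SpecialLinearGroup.toGL :
        Matrix.SpecialLinearGroup (Fin n) F →* GL (Fin n) F)).index) :
    ∃ d, 2 ≤ d ∧ d ≤ n ∧ r ∣ ∑ l ∈ Finset.range k, (q₀ ^ d) ^ l := by
  classical
  have hr : r.Prime := Fact.out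
  haveI : Fintype ↥F₀ := Fintype.ofFinite _
  haveI : Nonempty (Fin n) := ⟨⟨0, by omega⟩⟩
  have hcard₀ : Fintype.card ↥F₀ = q₀ := by rw [← Nat.card_eq_fintype_card]; exact hF₀
  have hq₀2 : 2 ≤ q₀ := by
    rw [← hcard₀]; exact Fintype.one_lt_card
  have hrq₀ : ¬ r ∣ q₀ := by
    intro h
    have h1 := card_natCast_ne_zero (F := F) (r := r) hrp
    rw [hq, Nat.cast_pow, (ZMod.natCast_eq_zero_iff q₀ r).mpr h, zero_pow (by omega)] at h1
    exact h1 rfl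
  -- the order formulas
  have h1 := Cfsg.Agent.Helper7.card_units_mul_card_SL (n := Fin n) (F := F)
  rw [Matrix.card_GL_field, hq] at h1
  have h2' := Cfsg.Agent.Helper7.card_units_mul_card_SL (n := Fin n) (F := ↥F₀)
  rw [Matrix.card_GL_field, hcard₀] at h2'
  have hG := Cfsg.Agent.Helper7.Invol.pow_sub_one_factor q₀ k (by omega)
  -- the subgroup of matrices over the subfield
  obtain ⟨H₀, hH₀⟩ : ∃ H₀ : Subgroup (Matrix.SpecialLinearGroup (Fin n) F),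
      H₀ = (Matrix.SpecialLinearGroup.map (F₀.subtype : ↥F₀ →+* F)).range := ⟨_, rfl⟩
  have hinj : Function.Injective
      (Matrix.SpecialLinearGroup.map (n := Fin n) (F₀.subtype : ↥F₀ →+* F)) := by
    intro A B hAB
    ext i j
    have := congrArg (fun M : Matrix.SpecialLinearGroup (Fin n) F =>
      (M : Matrix (Fin n) (Fin n) F) i j) hAB
    simpa using this
  have hcardH₀ : Nat.card H₀ = Nat.card (Matrix.SpecialLinearGroup (Fin n) ↥F₀) := by
    rw [hH₀]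
    exact (Nat.card_congr (MonoidHom.ofInjective hinj).toEquiv).symm
  have hle : H₀ ≤ (subfieldSubgroup F₀ 1).comap (Matrix.SpecialLinearGroup.toGL :
      Matrix.SpecialLinearGroup (Fin n) F →* GL (Fin n) F) := by
    rw [hH₀]
    rintro _ ⟨A, rfl⟩
    rw [Subgroup.mem_comap]
    apply Cfsg.Agent.Helper7.SubF.mem_subfield_of (μ := 1) one_ne_zero
    rintro w ⟨u, hu, rfl⟩
    refine ⟨_, fun i => Cfsg.Agent.Helper7.SubF.mulVec_rat (B := ((Matrix.SpecialLinearGroup.map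
      (F₀.subtype : ↥F₀ →+* F) A : Matrix.SpecialLinearGroup (Fin n) F) :
        Matrix (Fin n) (Fin n) F)) (fun i j => ?_) hu i, ?_⟩
    · simp
    · simp only [Units.val_one, Matrix.one_mulVec, one_smul]
      rfl
  have hidx := Subgroup.index_mul_card H₀
  rw [hcardH₀] at hidx
  have hdvd := Subgroup.index_dvd_of_le hle
  have hrH₀ : r ∣ H₀.index := hΩ.trans hdvd
  -- arithmetic
  obtain ⟨S, hS⟩ : ∃ S, S = Nat.card (Matrix.SpecialLinearGroup (Fin n) F) := ⟨_, rfl⟩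
  obtain ⟨S₀, hS₀⟩ : ∃ S₀, S₀ = Nat.card (Matrix.SpecialLinearGroup (Fin n) ↥F₀) := ⟨_, rfl⟩
  rw [← hS] at h1 hidx
  rw [← hS₀] at h2' hidx
  have hS₀pos : 0 < (q₀ - 1) * S₀ := by
    apply Nat.mul_pos (by omega)
    rw [hS₀]; exact Nat.card_pos
  obtain ⟨A, hA⟩ : ∃ A : ℕ → ℕ, A = fun i => q₀ ^ ((k - 1) * i) * ∑ l ∈ Finset.range k, (q₀ ^ (n - i)) ^ l :=
    ⟨_, rfl⟩
  have hprod : ∏ i : Fin n, ((q₀ ^ k) ^ n - (q₀ ^ k) ^ (i : ℕ)) =
      (∏ i : Fin n, A i) * ∏ i : Fin n, (q₀ ^ n - q₀ ^ (i : ℕ)) := by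
    rw [← Finset.prod_mul_distrib]
    apply Finset.prod_congr rfl
    intro i _
    rw [hA]
    exact Cfsg.Agent.Helper7.Invol.term_factor q₀ k n i i.2 (by omega) hk1
  have key : (∑ l ∈ Finset.range k, q₀ ^ l) * H₀.index * ((q₀ - 1) * S₀) =
      (∏ i : Fin n, A i) * ((q₀ - 1) * S₀) := by
    calc (∑ l ∈ Finset.range k, q₀ ^ l) * H₀.index * ((q₀ - 1) * S₀)
        = ((∑ l ∈ Finset.range k, q₀ ^ l) * (q₀ - 1)) * (H₀.index * S₀) := by ring
      _ = (q₀ ^ k - 1) * S := by rw [← hG, hidx]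
      _ = (∏ i : Fin n, A i) * ∏ i : Fin n, (q₀ ^ n - q₀ ^ (i : ℕ)) := by rw [h1, hprod]
      _ = (∏ i : Fin n, A i) * ((q₀ - 1) * S₀) := by rw [h2']
  have key2 := Nat.eq_of_mul_eq_mul_right hS₀pos key
  obtain ⟨n', rfl⟩ : ∃ n', n = n' + 1 := ⟨n - 1, by omega⟩
  rw [Fin.prod_univ_eq_prod_range A (n' + 1), Finset.prod_range_succ] at key2
  have hlast : A n' = q₀ ^ ((k - 1) * n') * ∑ l ∈ Finset.range k, q₀ ^ l := by
    rw [hA]
    simp
  have hGpos : 0 < ∑ l ∈ Finset.range k, q₀ ^ l := by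
    apply Finset.sum_pos
    · intro l _
      exact Nat.pow_pos (by omega)
    · exact ⟨0, Finset.mem_range.mpr (by omega)⟩
  have key3 : H₀.index = (∏ i ∈ Finset.range n', A i) * q₀ ^ ((k - 1) * n') := by
    apply Nat.eq_of_mul_eq_mul_left hGpos
    rw [key2, hlast]
    ring
  rw [key3] at hrH₀
  rcases (Nat.Prime.dvd_mul hr).mp hrH₀ with h | h
  · obtain ⟨i, hi, hri⟩ := (Prime.dvd_finsetProd_iff hr.prime _).mp h
    rw [Finset.mem_range] at hi
    rw [hA] at hri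
    rcases (Nat.Prime.dvd_mul hr).mp hri with h' | h'
    · exact absurd (hr.dvd_of_dvd_pow h') hrq₀
    · exact ⟨n' + 1 - i, by omega, by omega, h'⟩
  · exact absurd (hr.dvd_of_dvd_pow h) hrq₀

/-- **orders**: from `r ∣ 1 + y + ... + y^(k-1)` with `y = q₀^d`, the orders of `q₀` and of `q₀^k` modulo `r`. -/
theorem orders_of_dvd_geom {q₀ k d : ℕ} (hk : k.Prime) (hrk : r ≠ k)
    (h : r ∣ ∑ l ∈ Finset.range k, (q₀ ^ d) ^ l) :
    orderOf ((q₀ : ℕ) : ZMod r) = k * orderOf (((q₀ ^ k : ℕ) : ℕ) : ZMod r) ∧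
      orderOf (((q₀ ^ k : ℕ) : ℕ) : ZMod r) ∣ d ∧ ¬ orderOf ((q₀ : ℕ) : ZMod r) ∣ d ∧
      0 < orderOf ((q₀ : ℕ) : ZMod r) := by
  have hr : r.Prime := Fact.out
  obtain ⟨u, hu⟩ : ∃ u : ZMod r, u = (q₀ : ZMod r) := ⟨_, rfl⟩
  have h0 : ∑ l ∈ Finset.range k, (u ^ d) ^ l = 0 := by
    have := (ZMod.natCast_eq_zero_iff _ r).mpr h
    rw [Nat.cast_sum] at this
    simpa [hu] using this
  have hgeom := geom_sum_mul (u ^ d) k
  rw [h0, zero_mul] at hgeom
  have hyk : (u ^ d) ^ k = 1 := (sub_eq_zero.mp hgeom.symm)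
  have hy1 : u ^ d ≠ 1 := by
    intro h1
    rw [h1] at h0
    simp only [one_pow, Finset.sum_const, Finset.card_range, nsmul_eq_mul, mul_one] at h0
    have h2 := (ZMod.natCast_eq_zero_iff k r).mp h0
    exact hrk ((Nat.prime_dvd_prime_iff_eq hr hk).mp h2)
  have hdk : 0 < d * k := by
    rcases Nat.eq_zero_or_pos d with hd | hd
    · rw [hd, pow_zero] at hy1
      exact absurd rfl hy1
    · exact Nat.mul_pos hd hk.pos
  have hfin : IsOfFinOrder u := isOfFinOrder_iff_pow_eq_one.mpr ⟨d * k, hdk, by rw [pow_mul]; exact hyk⟩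
  have hpos : 0 < orderOf u := hfin.orderOf_pos
  have hdvd : orderOf u ∣ d * k := orderOf_dvd_of_pow_eq_one (by rw [pow_mul]; exact hyk)
  have hnd : ¬ orderOf u ∣ d := fun h => hy1 (orderOf_dvd_iff_pow_eq_one.mp h)
  have hki : k ∣ orderOf u := by
    by_contra hnk
    have hcop : Nat.Coprime (orderOf u) k := ((Nat.Prime.coprime_iff_not_dvd hk).mpr hnk).symm
    exact hnd (hcop.dvd_of_dvd_mul_right hdvd)
  have hord : orderOf (u ^ k) = orderOf u / k := orderOf_pow_of_dvd hk.ne_zero hki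
  rw [Nat.cast_pow, ← hu, hord]
  refine ⟨(Nat.mul_div_cancel' hki).symm, ?_, hnd, hpos⟩
  rw [← hord]
  apply orderOf_dvd_of_pow_eq_one
  rw [← pow_mul, mul_comm, pow_mul]
  exact hyk

end Cfsg.Agent.Helper7.SubR
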