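import Mathlib
import Cfsg.Agent.Helper7.SubRG

/-!
# Necessary conditions for conjugacy into the subfield subgroup
-/

set_option autoImplicit false

namespace Cfsg.Agent.Helper7.SubR

open Module Polynomial Matrix Cfsg.Agent.Helper7.POrd Cfsg.Geo

/-- the rank of a matrix does not change under a field extension. -/
theorem rank_map_eq {K L : Type*} [Field K] [Field L] (f : K →+* L) {n : ℕ} (A : Matrix (Fin n) (Fin n) K) :
    (A.map f).rank = A.rank := by
  classical
  obtain ⟨L₁, L₂, D, hA⟩ := Matrix.Pivot.exists_list_transvec_mul_diagonal_mul_list_transvec A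
  have hP : IsUnit ((L₁.map TransvectionStruct.toMatrix).prod).det := by
    rw [TransvectionStruct.det_toMatrix_prod]; exact isUnit_one
  have hQ : IsUnit ((L₂.map TransvectionStruct.toMatrix).prod).det := by
    rw [TransvectionStruct.det_toMatrix_prod]; exact isUnit_one
  have hP' : IsUnit (((L₁.map TransvectionStruct.toMatrix).prod).map f).det := by
    rw [← RingHom.mapMatrix_apply, ← RingHom.map_det]; exact hP.map f
  have hQ' : IsUnit (((L₂.map TransvectionStruct.toMatrix).prod).map f).det := by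
    rw [← RingHom.mapMatrix_apply, ← RingHom.map_det]; exact hQ.map f
  have h1 : A.rank = (diagonal D).rank := by
    conv_lhs => rw [hA]
    rw [rank_mul_eq_left_of_isUnit_det _ _ hQ, rank_mul_eq_right_of_isUnit_det _ _ hP]
  have h2 : (A.map f).rank = (diagonal (fun i => f (D i))).rank := by
    conv_lhs => rw [hA]
    rw [Matrix.map_mul, Matrix.map_mul, rank_mul_eq_left_of_isUnit_det _ _ hQ',
      rank_mul_eq_right_of_isUnit_det _ _ hP']
    congr 1
    ext i j
    simp [diagonal_apply]
    split_ifs <;> simp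
  rw [h1, h2, rank_diagonal, rank_diagonal]
  apply Fintype.card_congr
  exact Equiv.subtypeEquivRight (fun i => by simp)

/-- the kernel of a matrix and its rank. -/
theorem finrank_ker_toLin' {K : Type*} [Field K] {n : ℕ} (A : Matrix (Fin n) (Fin n) K) :
    finrank K ↥(LinearMap.ker (Matrix.toLin' A)) + A.rank = n := by
  have h := LinearMap.finrank_range_add_finrank_ker (Matrix.toLin' A)
  rw [Module.finrank_fin_fun] at h
  rw [Matrix.rank, ← Matrix.toLin'_apply']
  omega

/-- the dimension of the fixed space does not change under a field extension. -/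
theorem finrank_fixS_map_eq {K L : Type*} [Field K] [Field L] (f : K →+* L) {n : ℕ}
    (A : Matrix (Fin n) (Fin n) K) :
    finrank L ↥(fixS (Matrix.toLin' (A.map f) : Module.End L (Fin n → L))) =
      finrank K ↥(fixS (Matrix.toLin' A : Module.End K (Fin n → K))) := by
  have h1 : fixS (Matrix.toLin' (A.map f) : Module.End L (Fin n → L)) =
      LinearMap.ker (Matrix.toLin' ((A - 1).map f)) := by
    unfold fixS
    have h0 : (A - 1).map f = A.map f - 1 := by
      ext i j
      by_cases hij : i = j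
      · subst hij; simp
      · simp [hij]
    rw [h0, map_sub, Matrix.toLin'_one]
    rfl
  have h2 : fixS (Matrix.toLin' A : Module.End K (Fin n → K)) = LinearMap.ker (Matrix.toLin' (A - 1)) := by
    unfold fixS
    rw [map_sub, Matrix.toLin'_one]
    rfl
  have h3 := finrank_ker_toLin' ((A - 1).map f)
  have h4 := finrank_ker_toLin' (A - 1)
  rw [rank_map_eq] at h3
  rw [h1, h2]
  omega

variable {F : Type*} [Field F]

/-- conjugate maps have eigenspaces of the same dimension. -/
theorem finrank_eigenspace_conj {V V' : Type*} [AddCommGroup V] [Module F V] [AddCommGroup V'] [Module F V']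
    (e : V ≃ₗ[F] V') (T : Module.End F V) (T' : Module.End F V') (h : ∀ v, e (T v) = T' (e v)) (lam : F) :
    finrank F ↥(Module.End.eigenspace T lam) = finrank F ↥(Module.End.eigenspace T' lam) := by
  have hmap : (Module.End.eigenspace T lam).map (e : V →ₗ[F] V') = Module.End.eigenspace T' lam := by
    ext y
    constructor
    · rintro ⟨v, hv, rfl⟩
      rw [SetLike.mem_coe, Module.End.mem_eigenspace_iff] at hv
      rw [Module.End.mem_eigenspace_iff]
      show T' (e v) = lam • e v
      rw [← h, hv, map_smul]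
    · intro hy
      rw [Module.End.mem_eigenspace_iff] at hy
      refine ⟨e.symm y, ?_, e.apply_symm_apply y⟩
      rw [SetLike.mem_coe, Module.End.mem_eigenspace_iff]
      apply e.injective
      rw [h, e.apply_symm_apply, hy, map_smul, e.apply_symm_apply]
  rw [← hmap]
  exact (LinearEquiv.finrank_map_eq e _).symm

variable [Fintype F]

/-- **the Frobenius bijection**: for a matrix over the subfield with `q₀` elements, the eigenspaces for `lam` and
`lam ^ q₀` have the same dimension. -/
theorem finrank_eigenspace_frob (F₀ : Subfield F) {q₀ : ℕ} (hF₀ : Nat.card ↥F₀ = q₀) {n : ℕ}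
    (M : Matrix (Fin n) (Fin n) F) (hM : ∀ i j, M i j ∈ F₀) (lam : F) :
    finrank F ↥(Module.End.eigenspace (Matrix.toLin' M : Module.End F (Fin n → F)) lam) =
      finrank F ↥(Module.End.eigenspace (Matrix.toLin' M : Module.End F (Fin n → F)) (lam ^ q₀)) := by
  classical
  letI : Fintype ↥F₀ := Fintype.ofFinite _
  have hcard₀ : Fintype.card ↥F₀ = q₀ := by rw [← Nat.card_eq_fintype_card]; exact hF₀
  let φ : F ≃ₐ[↥F₀] F := FiniteField.frobeniusAlgEquivOfAlgebraic ↥F₀ F
  have hφ : ∀ a : F, φ a = a ^ q₀ := by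
    intro a
    have := congrFun (FiniteField.coe_frobeniusAlgEquivOfAlgebraic ↥F₀ F) a
    rw [hcard₀] at this
    exact this
  have hφ₀ : ∀ a : F, a ∈ F₀ → φ a = a := by
    intro a ha
    exact φ.commutes ⟨a, ha⟩
  let σ : (Fin n → F) ≃ (Fin n → F) := Equiv.arrowCongr (Equiv.refl _) φ.toEquiv
  have hσ : ∀ (v : Fin n → F) i, σ v i = φ (v i) := fun v i => rfl
  have hMσ : ∀ v, M *ᵥ (σ v) = σ (M *ᵥ v) := by
    intro v
    funext i
    rw [hσ]
    simp only [Matrix.mulVec, dotProduct, map_sum, map_mul, hσ]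
    apply Finset.sum_congr rfl
    intro j _
    rw [hφ₀ _ (hM i j)]
  have hsm : ∀ (a : F) v, σ (a • v) = φ a • σ v := by
    intro a v
    funext i
    rw [hσ, Pi.smul_apply, Pi.smul_apply, hσ, smul_eq_mul, smul_eq_mul, map_mul]
  have hiff : ∀ v : Fin n → F, v ∈ Module.End.eigenspace (Matrix.toLin' M : Module.End F (Fin n → F)) lam ↔
      σ v ∈ Module.End.eigenspace (Matrix.toLin' M : Module.End F (Fin n → F)) (lam ^ q₀) := by
    intro v
    rw [Module.End.mem_eigenspace_iff, Module.End.mem_eigenspace_iff, Matrix.toLin'_apply, Matrix.toLin'_apply,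
      hMσ, ← hφ, ← hsm]
    exact ⟨fun h => by rw [h], fun h => σ.injective h⟩
  have hcard : Nat.card ↥(Module.End.eigenspace (Matrix.toLin' M : Module.End F (Fin n → F)) lam) =
      Nat.card ↥(Module.End.eigenspace (Matrix.toLin' M : Module.End F (Fin n → F)) (lam ^ q₀)) :=
    Nat.card_congr (Equiv.subtypeEquiv σ hiff)
  have h1 := Module.natCard_eq_pow_finrank (K := F)
    (V := ↥(Module.End.eigenspace (Matrix.toLin' M : Module.End F (Fin n → F)) lam))
  have h2 := Module.natCard_eq_pow_finrank (K := F)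
    (V := ↥(Module.End.eigenspace (Matrix.toLin' M : Module.End F (Fin n → F)) (lam ^ q₀)))
  rw [h1, h2] at hcard
  exact Nat.pow_right_injective (Finite.one_lt_card (α := F)) hcard

/-- **the necessary condition**: if `x` is conjugate into the subfield subgroup, its eigenspaces are permuted
by `lam ↦ c * lam ^ q₀` for some `c`. -/
theorem necessary (F₀ : Subfield F) {q₀ : ℕ} (hF₀ : Nat.card ↥F₀ = q₀) {n : ℕ}
    (x P : Matrix.SpecialLinearGroup (Fin n) F)
    (hP : P⁻¹ * x * P ∈ ((subfieldSubgroup F₀ 1).comap (Matrix.SpecialLinearGroup.toGL :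
        Matrix.SpecialLinearGroup (Fin n) F →* GL (Fin n) F))) :
    ∃ c : F, c ≠ 0 ∧ ∀ lam : F,
      finrank F ↥(Module.End.eigenspace (Matrix.toLin' (x : Matrix (Fin n) (Fin n) F) :
        Module.End F (Fin n → F)) lam) =
      finrank F ↥(Module.End.eigenspace (Matrix.toLin' (x : Matrix (Fin n) (Fin n) F) :
        Module.End F (Fin n → F)) (c * lam ^ q₀)) := by
  classical
  rw [Subgroup.mem_comap] at hP
  obtain ⟨μ, hμ, hM⟩ := Cfsg.Agent.Helper7.Invol.exists_rat_of_mem_subfield F₀ _ hP
  obtain ⟨Y, hY⟩ : ∃ Y : Matrix (Fin n) (Fin n) F, Y = ((P⁻¹ * x * P : Matrix.SpecialLinearGroup (Fin n) F) :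
      Matrix (Fin n) (Fin n) F) := ⟨_, rfl⟩
  have hYc : ((Matrix.SpecialLinearGroup.toGL (P⁻¹ * x * P) : GL (Fin n) F) : Matrix (Fin n) (Fin n) F) = Y := by
    rw [hY]
    rfl
  rw [hYc] at hM
  -- `x` and `Y` are conjugate
  have hPinv : (P : Matrix (Fin n) (Fin n) F) * ((P⁻¹ : Matrix.SpecialLinearGroup (Fin n) F) :
      Matrix (Fin n) (Fin n) F) = 1 := by
    rw [← Matrix.SpecialLinearGroup.coe_mul, mul_inv_cancel, Matrix.SpecialLinearGroup.coe_one]
  have hPinv' : ((P⁻¹ : Matrix.SpecialLinearGroup (Fin n) F) : Matrix (Fin n) (Fin n) F) *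
      (P : Matrix (Fin n) (Fin n) F) = 1 := by
    rw [← Matrix.SpecialLinearGroup.coe_mul, inv_mul_cancel, Matrix.SpecialLinearGroup.coe_one]
  have hxP : (x : Matrix (Fin n) (Fin n) F) * (P : Matrix (Fin n) (Fin n) F) = (P : Matrix (Fin n) (Fin n) F) * Y := by
    rw [hY, Matrix.SpecialLinearGroup.coe_mul, Matrix.SpecialLinearGroup.coe_mul, ← Matrix.mul_assoc,
      ← Matrix.mul_assoc, hPinv, Matrix.one_mul]
  let e : (Fin n → F) ≃ₗ[F] (Fin n → F) := LinearEquiv.ofLinearMap (Matrix.toLin' (P : Matrix (Fin n) (Fin n) F))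
    (Matrix.toLin' ((P⁻¹ : Matrix.SpecialLinearGroup (Fin n) F) : Matrix (Fin n) (Fin n) F))
    (by rw [← Matrix.toLin'_mul, hPinv, Matrix.toLin'_one])
    (by rw [← Matrix.toLin'_mul, hPinv', Matrix.toLin'_one])
  have he : ∀ v, e (Matrix.toLin' Y v) = Matrix.toLin' (x : Matrix (Fin n) (Fin n) F) (e v) := by
    intro v
    show Matrix.toLin' (P : Matrix (Fin n) (Fin n) F) (Matrix.toLin' Y v) = _
    rw [← LinearMap.comp_apply, ← Matrix.toLin'_mul, ← hxP, Matrix.toLin'_mul]
    rfl
  have hconj : ∀ lam : F, finrank F ↥(Module.End.eigenspace (Matrix.toLin' (x : Matrix (Fin n) (Fin n) F) :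
        Module.End F (Fin n → F)) lam) =
      finrank F ↥(Module.End.eigenspace (Matrix.toLin' Y : Module.End F (Fin n → F)) lam) := fun lam =>
    (finrank_eigenspace_conj e _ _ he lam).symm
  -- eigenspaces of `Y` and of `μ • Y`
  have hscal : ∀ lam : F, Module.End.eigenspace (Matrix.toLin' Y : Module.End F (Fin n → F)) lam =
      Module.End.eigenspace (Matrix.toLin' (μ • Y) : Module.End F (Fin n → F)) (μ * lam) := by
    intro lam
    ext v
    rw [Module.End.mem_eigenspace_iff, Module.End.mem_eigenspace_iff, Matrix.toLin'_apply, Matrix.toLin'_apply,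
      Matrix.smul_mulVec, mul_smul]
    constructor
    · intro h
      rw [h]
    · intro h
      exact smul_right_injective _ hμ h
  refine ⟨μ⁻¹ * μ ^ q₀, mul_ne_zero (inv_ne_zero hμ) (pow_ne_zero _ hμ), ?_⟩
  intro lam
  have hs : μ * (μ⁻¹ * μ ^ q₀ * lam ^ q₀) = (μ * lam) ^ q₀ := by
    rw [mul_pow]
    field_simp
  rw [hconj, hconj, hscal, hscal, hs]
  exact finrank_eigenspace_frob F₀ hF₀ (μ • Y) hM (μ * lam)

end Cfsg.Agent.Helper7.SubR
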