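import Mathlib
import Cfsg.Agent.Helper7.SubRH

/-!
# Elements not conjugate into the subfield subgroup: the case `r ∤ q - 1`
-/

set_option autoImplicit false

namespace Cfsg.Agent.Helper7.SubR

open Module Polynomial Matrix Cfsg.Agent.Helper7.POrd Cfsg.Geo

variable {F : Type*} [Field F]

/-- the conjugating equivalence. -/
theorem exists_conj_equiv {n : ℕ} (x P : Matrix.SpecialLinearGroup (Fin n) F) :
    ∃ e : (Fin n → F) ≃ₗ[F] (Fin n → F), ∀ v,
      e (Matrix.toLin' ((P⁻¹ * x * P : Matrix.SpecialLinearGroup (Fin n) F) : Matrix (Fin n) (Fin n) F) v) =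
        Matrix.toLin' (x : Matrix (Fin n) (Fin n) F) (e v) := by
  have hPinv : (P : Matrix (Fin n) (Fin n) F) * ((P⁻¹ : Matrix.SpecialLinearGroup (Fin n) F) :
      Matrix (Fin n) (Fin n) F) = 1 := by
    rw [← Matrix.SpecialLinearGroup.coe_mul, mul_inv_cancel, Matrix.SpecialLinearGroup.coe_one]
  have hPinv' : ((P⁻¹ : Matrix.SpecialLinearGroup (Fin n) F) : Matrix (Fin n) (Fin n) F) *
      (P : Matrix (Fin n) (Fin n) F) = 1 := by
    rw [← Matrix.SpecialLinearGroup.coe_mul, inv_mul_cancel, Matrix.SpecialLinearGroup.coe_one]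
  have hxP : (x : Matrix (Fin n) (Fin n) F) * (P : Matrix (Fin n) (Fin n) F) = (P : Matrix (Fin n) (Fin n) F) *
      ((P⁻¹ * x * P : Matrix.SpecialLinearGroup (Fin n) F) : Matrix (Fin n) (Fin n) F) := by
    rw [Matrix.SpecialLinearGroup.coe_mul, Matrix.SpecialLinearGroup.coe_mul, ← Matrix.mul_assoc,
      ← Matrix.mul_assoc, hPinv, Matrix.one_mul]
  refine ⟨LinearEquiv.ofLinearMap (Matrix.toLin' (P : Matrix (Fin n) (Fin n) F))
    (Matrix.toLin' ((P⁻¹ : Matrix.SpecialLinearGroup (Fin n) F) : Matrix (Fin n) (Fin n) F))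
    (by rw [← Matrix.toLin'_mul, hPinv, Matrix.toLin'_one])
    (by rw [← Matrix.toLin'_mul, hPinv', Matrix.toLin'_one]), ?_⟩
  intro v
  show Matrix.toLin' (P : Matrix (Fin n) (Fin n) F) (Matrix.toLin' _ v) = _
  rw [← LinearMap.comp_apply, ← Matrix.toLin'_mul, ← hxP, Matrix.toLin'_mul]
  rfl

variable [Fintype F] {p : ℕ} [Fact p.Prime] [CharP F p] {r : ℕ} [Fact r.Prime]

/-- **no eigenvalues**: when `r` divides neither `q - 1` nor `q₀ - 1`, an element of order `r` conjugate into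
the subfield subgroup has a moved space of dimension divisible by the order of `q₀` modulo `r`. -/
theorem dvd_of_good_of_pow_eq_one (hrp : r ≠ p) (F₀ : Subfield F) {q₀ : ℕ} (hF₀ : Nat.card ↥F₀ = q₀)
    (hi : orderOf ((Fintype.card F : ℕ) : ZMod r) ≠ 1) (hi₀ : orderOf ((q₀ : ℕ) : ZMod r) ≠ 1)
    {n : ℕ} (hn : 0 < n) (x P : Matrix.SpecialLinearGroup (Fin n) F)
    (hx : ((x ^ r : Matrix.SpecialLinearGroup (Fin n) F) : Matrix (Fin n) (Fin n) F) = (1 : F) • 1)
    (hP : P⁻¹ * x * P ∈ ((subfieldSubgroup F₀ 1).comap (Matrix.SpecialLinearGroup.toGL :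
        Matrix.SpecialLinearGroup (Fin n) F →* GL (Fin n) F))) :
    orderOf ((q₀ : ℕ) : ZMod r) ∣
      n - finrank F ↥(fixS (Matrix.toLin' (x : Matrix (Fin n) (Fin n) F) : Module.End F (Fin n → F))) := by
  classical
  have hr : r.Prime := Fact.out
  letI : Fintype ↥F₀ := Fintype.ofFinite _
  have hcard₀ : Fintype.card ↥F₀ = q₀ := by rw [← Nat.card_eq_fintype_card]; exact hF₀
  have hq₀1 : 1 ≤ q₀ := by rw [← hcard₀]; exact Fintype.card_pos
  obtain ⟨e, he⟩ := exists_conj_equiv x P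
  rw [Subgroup.mem_comap] at hP
  obtain ⟨μ, hμ, hM⟩ := Cfsg.Agent.Helper7.Invol.exists_rat_of_mem_subfield F₀ _ hP
  obtain ⟨Y, hY⟩ : ∃ Y : Matrix (Fin n) (Fin n) F, Y = ((P⁻¹ * x * P : Matrix.SpecialLinearGroup (Fin n) F) :
      Matrix (Fin n) (Fin n) F) := ⟨_, rfl⟩
  have hYc : ((Matrix.SpecialLinearGroup.toGL (P⁻¹ * x * P) : GL (Fin n) F) : Matrix (Fin n) (Fin n) F) = Y := by
    rw [hY]
    rfl
  rw [hYc] at hM
  rw [← hY] at he
  have hx1 : x ^ r = 1 := by
    apply Subtype.ext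
    rw [hx, one_smul]
    rfl
  have hYr : Y ^ r = 1 := by
    have h := conj_pow (a := P⁻¹) (b := x) (i := r)
    rw [inv_inv] at h
    rw [hY, ← Matrix.SpecialLinearGroup.coe_pow, h, hx1, mul_one, inv_mul_cancel]
    rfl
  obtain ⟨M₀, hM₀⟩ : ∃ M₀ : Matrix (Fin n) (Fin n) ↥F₀, M₀.map F₀.subtype = μ • Y :=
    ⟨fun i j => ⟨(μ • Y) i j, hM i j⟩, by ext i j; rfl⟩
  have hM₀r : (M₀ ^ r).map F₀.subtype = (μ ^ r) • (1 : Matrix (Fin n) (Fin n) F) := by
    have h := map_pow (F₀.subtype.mapMatrix (m := Fin n)) M₀ r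
    rw [RingHom.mapMatrix_apply, RingHom.mapMatrix_apply, hM₀] at h
    rw [h, _root_.smul_pow, hYr]
  have hr₀ : ¬ r ∣ Fintype.card ↥F₀ - 1 := by
    rw [hcard₀, ← orderOf_eq_one_iff_dvd hq₀1]
    exact hi₀
  obtain ⟨b₀, hb₀⟩ := exists_pow_eq_of_not_dvd (F := ↥F₀) hr hr₀ ((M₀ ^ r) ⟨0, hn⟩ ⟨0, hn⟩)
  have hb₀μ : ((b₀ : F)) ^ r = μ ^ r := by
    have h1 := congrFun (congrFun hM₀r ⟨0, hn⟩) ⟨0, hn⟩
    rw [Matrix.map_apply, ← hb₀] at h1
    simpa using h1
  have hb₀0 : (b₀ : F) ≠ 0 := by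
    intro h0
    rw [h0, zero_pow hr.ne_zero] at hb₀μ
    exact pow_ne_zero _ hμ hb₀μ.symm
  have hμb : μ = (b₀ : F) := by
    have h1 : ((b₀ : F)⁻¹ * μ) ^ r = 1 := by
      rw [mul_pow, inv_pow, hb₀μ, inv_mul_cancel₀ (pow_ne_zero _ hμ)]
    have h2 := eq_one_of_pow_eq_one hr hi h1
    field_simp at h2
    exact h2
  have hb₀' : b₀ ≠ 0 := fun h => hb₀0 (by rw [h]; rfl)
  obtain ⟨M₁, hM₁⟩ : ∃ M₁ : Matrix (Fin n) (Fin n) ↥F₀, M₁.map F₀.subtype = Y := by
    refine ⟨b₀⁻¹ • M₀, ?_⟩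
    ext i j
    have h1 := congrFun (congrFun hM₀ i) j
    rw [Matrix.map_apply] at h1
    rw [Matrix.map_apply, Matrix.smul_apply, smul_eq_mul, map_mul, h1, Matrix.smul_apply, smul_eq_mul, hμb, map_inv₀]
    show (b₀ : F)⁻¹ * ((b₀ : F) * Y i j) = Y i j
    rw [← mul_assoc, inv_mul_cancel₀ hb₀0, one_mul]
  have hM₁r : M₁ ^ r = 1 := by
    apply Matrix.map_injective F₀.subtype_injective
    have h := map_pow (F₀.subtype.mapMatrix (m := Fin n)) M₁ r
    rw [RingHom.mapMatrix_apply, RingHom.mapMatrix_apply, hM₁, hYr] at h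
    show (M₁ ^ r).map F₀.subtype = (1 : Matrix (Fin n) (Fin n) ↥F₀).map F₀.subtype
    rw [h, Matrix.map_one _ (map_zero _) (map_one _)]
  have hT₁ : (Matrix.toLin' M₁ : Module.End ↥F₀ (Fin n → ↥F₀)) ^ r = 1 := by
    rw [toLin'_pow_apply, hM₁r, Matrix.toLin'_one]
    rfl
  have hdvd := orderOf_dvd_finrank_movS (F := ↥F₀) (V := Fin n → ↥F₀) hrp hT₁
  have hsum := finrank_fix_add_mov (natCast_ne_zero_of_ne (F := ↥F₀) hrp) hT₁
  rw [Module.finrank_fin_fun] at hsum
  have hbc := finrank_fixS_map_eq F₀.subtype M₁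
  rw [hM₁] at hbc
  have hconj := finrank_fixS_conj e _ _ he
  rw [hcard₀] at hdvd
  have : n - finrank F ↥(fixS (Matrix.toLin' (x : Matrix (Fin n) (Fin n) F) : Module.End F (Fin n → F))) =
      finrank ↥F₀ ↥(movS r (Matrix.toLin' M₁ : Module.End ↥F₀ (Fin n → ↥F₀))) := by
    rw [← hconj, hbc]
    omega
  rw [this]
  exact hdvd

/-- **model, one block**: an element of `SL_n` of order `r` with exactly one irreducible block. -/
theorem exists_block_model (hrp : r ≠ p) (n : ℕ) (hi : orderOf ((Fintype.card F : ℕ) : ZMod r) ≠ 1)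
    (hin : orderOf ((Fintype.card F : ℕ) : ZMod r) ≤ n) :
    ∃ x : Matrix.SpecialLinearGroup (Fin n) F,
      ((x ^ r : Matrix.SpecialLinearGroup (Fin n) F) : Matrix (Fin n) (Fin n) F) = (1 : F) • 1 ∧
      (∀ z : F, (x : Matrix (Fin n) (Fin n) F) ≠ z • 1) ∧
      finrank F ↥(fixS (Matrix.toLin' (x : Matrix (Fin n) (Fin n) F) : Module.End F (Fin n → F))) =
        n - orderOf ((Fintype.card F : ℕ) : ZMod r) := by
  classical
  obtain ⟨g, hg, hgc, hgd⟩ := exists_irred_factor (F := F) hrp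
  have hipos : 0 < orderOf ((Fintype.card F : ℕ) : ZMod r) := orderOf_q_pos hrp
  generalize hidef : orderOf ((Fintype.card F : ℕ) : ZMod r) = i at *
  haveI : Fact (Irreducible g) := ⟨hg⟩
  haveI : Module.Finite F (AdjoinRoot g) := finite_adjoinRoot hg.ne_zero
  haveI : Finite (AdjoinRoot g) := Module.finite_of_finite F
  let K := AdjoinRoot g
  let ζ : K := AdjoinRoot.root g
  have hr0 : (r : F) ≠ 0 := natCast_ne_zero_of_ne hrp
  have hζr : ζ ^ r = 1 := by
    have h1 : g ∣ X ^ r - 1 := by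
      rw [← cyclotomic_prime_mul_X_sub_one F r]
      exact Dvd.dvd.mul_right hgc _
    have h := AdjoinRoot.mk_eq_zero.mpr h1
    rw [map_sub, map_pow, AdjoinRoot.mk_X, map_one, sub_eq_zero] at h
    exact h
  have hζ1 : ζ ≠ 1 := by
    intro h
    have h2 := AdjoinRoot.mk_eq_zero.mpr hgc
    rw [cyclotomic_prime, map_sum] at h2
    simp only [map_pow, AdjoinRoot.mk_X] at h2
    have h3 : ∑ t ∈ Finset.range r, (AdjoinRoot.root g) ^ t = (r : AdjoinRoot g) := by
      have : AdjoinRoot.root g = 1 := h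
      rw [this]
      simp
    rw [h3] at h2
    have h4 : algebraMap F (AdjoinRoot g) (r : F) = 0 := by
      rw [map_natCast]
      exact h2
    exact hr0 ((map_eq_zero _).mp h4)
  -- the space
  let k := n - i
  let T' : Module.End F ((Fin 1 → K) × (Fin k → F)) := LinearMap.prodMap (smulEnd (F := F) K 1 ζ) LinearMap.id
  have hTpow : ∀ (t : ℕ) (y : (Fin 1 → K) × (Fin k → F)), (T' ^ t) y = (ζ ^ t • y.1, y.2) := by
    intro t
    induction t with
    | zero => intro y; simp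
    | succ t ih =>
      intro y
      rw [pow_succ, Module.End.mul_apply, ih]
      show (ζ ^ t • (ζ • y.1), y.2) = _
      rw [smul_smul, pow_succ]
  have hT : T' ^ r = algebraMap F _ (1 : F) := by
    apply LinearMap.ext
    intro y
    rw [hTpow, hζr, one_smul, map_one, Module.End.one_apply]
  have hT1 : T' ^ r = 1 := by rw [hT, map_one]
  have hn : finrank F ((Fin 1 → K) × (Fin k → F)) = n := by
    rw [Module.finrank_prod, finrank_fin_fun_ext, finrank_adjoinRoot hg.ne_zero, hgd, Module.finrank_fin_fun]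
    omega
  have hdet : LinearMap.det T' = 1 := by
    apply eq_one_of_pow_eq_one (F := F) (Fact.out : r.Prime) (by rw [hidef]; exact hi)
    rw [← map_pow, hT1, map_one]
  have hfix : finrank F ↥(fixS T') = k := by
    have hle : fixS T' = LinearMap.ker (LinearMap.fst F (Fin 1 → K) (Fin k → F)) := by
      apply le_antisymm
      · intro y hy
        rw [mem_fixS] at hy
        rw [LinearMap.mem_ker, LinearMap.fst_apply]
        have h1 : ζ • y.1 = y.1 := congrArg Prod.fst hy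
        have h2 : (ζ - 1) • y.1 = 0 := by rw [sub_smul, one_smul, h1, sub_self]
        rcases smul_eq_zero.mp h2 with h | h
        · exact absurd (sub_eq_zero.mp h) hζ1
        · exact h
      · intro y hy
        rw [LinearMap.mem_ker, LinearMap.fst_apply] at hy
        rw [mem_fixS]
        have h1 := hTpow 1 y
        rw [pow_one, pow_one, hy, smul_zero] at h1
        rw [h1]
        exact Prod.ext hy.symm rfl
    rw [hle, LinearMap.ker_fst, LinearMap.finrank_range_of_inj LinearMap.inr_injective, Module.finrank_fin_fun]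
  have hns : ∀ z : F, T' ≠ algebraMap F _ z := by
    intro z hz
    have h1 : T' (fun _ => 1, 0) = z • ((fun _ => 1, 0) : (Fin 1 → K) × (Fin k → F)) := by
      rw [hz, Module.algebraMap_end_apply]
    have h2 : ζ • (fun _ : Fin 1 => (1 : K)) = z • (fun _ : Fin 1 => (1 : K)) := congrArg Prod.fst h1
    have h3 := congrFun h2 0
    rw [Pi.smul_apply, Pi.smul_apply, smul_eq_mul, mul_one, Algebra.smul_def, mul_one] at h3
    have h4 : z ^ r = 1 := by
      have : (algebraMap F K z) ^ r = 1 := by rw [← h3, hζr]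
      rw [← map_pow] at this
      exact (algebraMap F K).injective (by rw [this, map_one])
    have h5 := eq_one_of_pow_eq_one (F := F) (Fact.out : r.Prime) (by rw [hidef]; exact hi) h4
    rw [h5, map_one] at h3
    exact hζ1 h3
  obtain ⟨x, e, hx1, hx2, hx3⟩ := exists_SL_conj hn T' hdet 1 hT hns
  refine ⟨x, hx1, hx2, ?_⟩
  rw [finrank_fixS_conj e _ T' hx3]
  exact hfix

end Cfsg.Agent.Helper7.SubR
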