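import Mathlib
import Cfsg.Agent.Helper7.SubRI

/-!
# Diagonal elements and their eigenspaces
-/

set_option autoImplicit false

namespace Cfsg.Agent.Helper7.SubR

open Module Polynomial Matrix Finset Cfsg.Agent.Helper7.POrd Cfsg.Geo

@[to_additive sum_three]
theorem prod_three {M : Type*} [CommMonoid M] (n s t : ℕ) (hst : s ≤ t) (htn : t ≤ n) (A B C : M) :
    ∏ j : Fin n, (if (j : ℕ) < s then A else if (j : ℕ) < t then B else C) = A ^ s * B ^ (t - s) * C ^ (n - t) := by
  rw [Fin.prod_univ_eq_prod_range (fun j => if j < s then A else if j < t then B else C) n, Finset.range_eq_Ico,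
    ← Finset.prod_Ico_consecutive _ (Nat.zero_le s) (hst.trans htn), ← Finset.prod_Ico_consecutive _ hst htn]
  have h1 : ∏ j ∈ Ico 0 s, (if j < s then A else if j < t then B else C) = A ^ s := by
    rw [Finset.prod_congr rfl (fun j hj => if_pos (Finset.mem_Ico.mp hj).2), Finset.prod_const, Nat.card_Ico,
      Nat.sub_zero]
  have h2 : ∏ j ∈ Ico s t, (if j < s then A else if j < t then B else C) = B ^ (t - s) := by
    rw [Finset.prod_congr rfl (fun j hj => by
      rw [if_neg (by have := (Finset.mem_Ico.mp hj).1; omega), if_pos (Finset.mem_Ico.mp hj).2]),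
      Finset.prod_const, Nat.card_Ico]
  have h3 : ∏ j ∈ Ico t n, (if j < s then A else if j < t then B else C) = C ^ (n - t) := by
    rw [Finset.prod_congr rfl (fun j hj => by
      rw [if_neg (by have := (Finset.mem_Ico.mp hj).1; omega), if_neg (by have := (Finset.mem_Ico.mp hj).1; omega)]),
      Finset.prod_const, Nat.card_Ico]
  rw [h1, h2, h3, mul_assoc]

variable {F : Type*} [Field F]

/-- the diagonal with three values. -/
def w3 (n : ℕ) (a₁ a₂ a₃ : F) (s t : ℕ) : Fin n → F :=
  fun j => if (j : ℕ) < s then a₁ else if (j : ℕ) < t then a₂ else a₃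

theorem prod_w3 (n : ℕ) (a₁ a₂ a₃ : F) {s t : ℕ} (hst : s ≤ t) (htn : t ≤ n) :
    ∏ j, w3 n a₁ a₂ a₃ s t j = a₁ ^ s * a₂ ^ (t - s) * a₃ ^ (n - t) :=
  prod_three n s t hst htn a₁ a₂ a₃

theorem card_w3 [DecidableEq F] (n : ℕ) (a₁ a₂ a₃ : F) {s t : ℕ} (hst : s ≤ t) (htn : t ≤ n) (lam : F) :
    (Finset.univ.filter (fun j => w3 n a₁ a₂ a₃ s t j = lam)).card =
      (if a₁ = lam then s else 0) + (if a₂ = lam then t - s else 0) + (if a₃ = lam then n - t else 0) := by
  rw [Finset.card_filter]
  unfold w3
  simp only [apply_ite (fun a : F => if a = lam then (1 : ℕ) else 0)]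
  rw [sum_three n s t hst htn]
  simp only [smul_eq_mul]
  split_ifs <;> simp

/-- **the eigenspaces of a diagonal matrix.** -/
theorem finrank_eigenspace_diagonal [DecidableEq F] {n : ℕ} (w : Fin n → F) (lam : F) :
    finrank F ↥(Module.End.eigenspace (Matrix.toLin' (Matrix.diagonal w) : Module.End F (Fin n → F)) lam) =
      (Finset.univ.filter (fun j => w j = lam)).card := by
  have h0 : (Matrix.toLin' (Matrix.diagonal w) : Module.End F (Fin n → F)) - lam • 1 =
      Matrix.toLin' (Matrix.diagonal (fun j => w j - lam)) := by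
    have : Matrix.diagonal (fun j => w j - lam) = Matrix.diagonal w - lam • (1 : Matrix (Fin n) (Fin n) F) := by
      ext i j
      by_cases hij : i = j
      · subst hij; simp
      · simp [hij]
    rw [this, map_sub, map_smul, Matrix.toLin'_one]
    rfl
  rw [Module.End.eigenspace_def, h0]
  have h1 := finrank_ker_toLin' (Matrix.diagonal (fun j => w j - lam))
  rw [Matrix.rank_diagonal, Fintype.card_subtype] at h1
  have h2 : (Finset.univ.filter (fun j => w j = lam)).card +
      (Finset.univ.filter (fun j => w j - lam ≠ 0)).card = n := by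
    have := Finset.card_filter_add_card_filter_not (s := (Finset.univ : Finset (Fin n))) (fun j => w j = lam)
    rw [Finset.card_univ, Fintype.card_fin] at this
    have h3 : (Finset.univ.filter (fun j => w j - lam ≠ 0)) = (Finset.univ.filter (fun j => ¬ w j = lam)) := by
      ext j
      simp [sub_eq_zero]
    rw [h3]
    exact this
  omega

/-- a diagonal matrix of determinant one as an element of the special linear group. -/
theorem exists_diag_elt {n : ℕ} {r : ℕ} (w : Fin n → F) (hdet : ∏ j, w j = 1) (z : F) (hw : ∀ j, w j ^ r = z)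
    (j₁ j₂ : Fin n) (hne : w j₁ ≠ w j₂) :
    ∃ x : Matrix.SpecialLinearGroup (Fin n) F, (x : Matrix (Fin n) (Fin n) F) = Matrix.diagonal w ∧
      ((x ^ r : Matrix.SpecialLinearGroup (Fin n) F) : Matrix (Fin n) (Fin n) F) = z • 1 ∧
      ∀ z' : F, (x : Matrix (Fin n) (Fin n) F) ≠ z' • 1 := by
  obtain ⟨x, hx⟩ : ∃ x : Matrix.SpecialLinearGroup (Fin n) F, (x : Matrix (Fin n) (Fin n) F) = Matrix.diagonal w :=
    ⟨⟨Matrix.diagonal w, by rw [Matrix.det_diagonal, hdet]⟩, rfl⟩
  refine ⟨x, hx, ?_, ?_⟩
  · rw [Matrix.SpecialLinearGroup.coe_pow, hx]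
    rw [Matrix.diagonal_pow, Matrix.smul_one_eq_diagonal]
    congr 1
    funext j
    exact hw j
  · intro z' hz'
    have h : Matrix.diagonal w = z' • (1 : Matrix (Fin n) (Fin n) F) := by rw [← hx]; exact hz'
    rw [Matrix.smul_one_eq_diagonal] at h
    have h1 := congrFun (Matrix.diagonal_injective h) j₁
    have h2 := congrFun (Matrix.diagonal_injective h) j₂
    exact hne (by rw [h1, h2])

end Cfsg.Agent.Helper7.SubR
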