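import Mathlib
import Cfsg.Agent.Helper7.SubRJ

/-!
# Diagonal elements not conjugate into the subfield subgroup
-/

set_option autoImplicit false

namespace Cfsg.Agent.Helper7.SubR

open Module Polynomial Matrix Finset Cfsg.Agent.Helper7.POrd Cfsg.Geo

variable {F : Type*} [Field F] [Fintype F]

/-- **two eigenvalues**: `b • diag(ζ, 1, ..., 1)` is not conjugate into the subfield subgroup. -/
theorem bad_two (F₀ : Subfield F) {q₀ : ℕ} (hF₀ : Nat.card ↥F₀ = q₀) {n : ℕ} (hn : 2 ≤ n) {ζ b : F}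
    (hζ0 : ζ ≠ 0) (hζ1 : ζ ≠ 1) (hb : b ≠ 0) (hq0 : ζ ^ q₀ ≠ 1) (hfix : ζ ^ q₀ ≠ ζ)
    (hswap : n = 2 → ζ ^ q₀ * ζ ≠ 1)
    (x P : Matrix.SpecialLinearGroup (Fin n) F)
    (hx : (x : Matrix (Fin n) (Fin n) F) = Matrix.diagonal (w3 n (b * ζ) b b 1 1))
    (hP : P⁻¹ * x * P ∈ ((subfieldSubgroup F₀ 1).comap (Matrix.SpecialLinearGroup.toGL :
        Matrix.SpecialLinearGroup (Fin n) F →* GL (Fin n) F))) : False := by
  classical
  obtain ⟨c, hc, hm⟩ := necessary F₀ hF₀ x P hP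
  rw [hx] at hm
  simp only [finrank_eigenspace_diagonal, card_w3 n (b * ζ) b b (le_refl 1) (by omega : 1 ≤ n)] at hm
  have hne : b * ζ ≠ b := by
    intro h
    apply hζ1
    have : b * ζ = b * 1 := by rw [h, mul_one]
    exact mul_left_cancel₀ hb this
  have h1 := hm (b * ζ)
  have h2 := hm b
  rw [if_pos rfl, if_neg hne.symm, if_neg hne.symm] at h1
  rw [if_neg hne, if_pos rfl, if_pos rfl] at h2
  simp only [Nat.sub_self, add_zero, zero_add] at h1 h2
  -- where `b ζ` goes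
  have hA : c * (b * ζ) ^ q₀ = b * ζ ∨ (c * (b * ζ) ^ q₀ = b ∧ n = 2) := by
    by_cases ha : b * ζ = c * (b * ζ) ^ q₀
    · exact Or.inl ha.symm
    · by_cases hb' : b = c * (b * ζ) ^ q₀
      · simp only [if_neg ha, if_pos hb'] at h1
        exact Or.inr ⟨hb'.symm, by omega⟩
      · simp only [if_neg ha, if_neg hb'] at h1
        omega
  have hB : c * b ^ q₀ = b ∨ (c * b ^ q₀ = b * ζ ∧ n = 2) := by
    by_cases hb' : b = c * b ^ q₀
    · exact Or.inl hb'.symm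
    · by_cases ha : b * ζ = c * b ^ q₀
      · simp only [if_neg hb', if_pos ha] at h2
        exact Or.inr ⟨ha.symm, by omega⟩
      · simp only [if_neg hb', if_neg ha] at h2
        omega
  rcases hA with hA | ⟨hA, hn2⟩ <;> rcases hB with hB | ⟨hB, hn2'⟩
  · apply hfix
    rw [mul_pow, ← mul_assoc, hB] at hA
    exact mul_left_cancel₀ hb hA
  · apply hq0
    rw [mul_pow, ← mul_assoc, hB] at hA
    have : b * ζ * ζ ^ q₀ = b * ζ * 1 := by rw [hA, mul_one]
    exact mul_left_cancel₀ (mul_ne_zero hb hζ0) this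
  · apply hq0
    rw [mul_pow, ← mul_assoc, hB] at hA
    have : b * ζ ^ q₀ = b * 1 := by rw [hA, mul_one]
    exact mul_left_cancel₀ hb this
  · apply hswap hn2
    rw [mul_pow, ← mul_assoc, hB] at hA
    have : b * (ζ ^ q₀ * ζ) = b * 1 := by linear_combination hA
    exact mul_left_cancel₀ hb this

/-- **three eigenvalues**: `diag(ζ, ζ, ζ⁻², 1, ..., 1)` is not conjugate into the subfield subgroup when
`n ≥ 7`. -/
theorem bad_three (F₀ : Subfield F) {q₀ : ℕ} (hF₀ : Nat.card ↥F₀ = q₀) {n : ℕ} (hn : 7 ≤ n) {ζ : F}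
    (hζ1 : ζ ≠ 1) (hζ2 : (ζ⁻¹) ^ 2 ≠ 1) (hq0 : ζ ^ q₀ ≠ 1) (hfix : ζ ^ q₀ ≠ ζ)
    (x P : Matrix.SpecialLinearGroup (Fin n) F)
    (hx : (x : Matrix (Fin n) (Fin n) F) = Matrix.diagonal (w3 n ζ ((ζ⁻¹) ^ 2) 1 2 3))
    (hP : P⁻¹ * x * P ∈ ((subfieldSubgroup F₀ 1).comap (Matrix.SpecialLinearGroup.toGL :
        Matrix.SpecialLinearGroup (Fin n) F →* GL (Fin n) F))) : False := by
  classical
  obtain ⟨c, hc, hm⟩ := necessary F₀ hF₀ x P hP
  rw [hx] at hm
  simp only [finrank_eigenspace_diagonal, card_w3 n ζ ((ζ⁻¹) ^ 2) 1 (by omega : 2 ≤ 3) (by omega : 3 ≤ n)] at hm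
  have h1 := hm 1
  have hζ1' : ¬ (1 : F) = ζ := fun h => hζ1 h.symm
  rw [one_pow, mul_one] at h1
  simp only [if_neg hζ1, if_neg hζ2, if_true] at h1
  have hc1 : c = 1 := by
    by_contra hne
    have h1c : ¬ (1 : F) = c := fun h => hne h.symm
    simp only [if_neg h1c] at h1
    split_ifs at h1 <;> omega
  have h2 := hm ζ
  rw [hc1, one_mul] at h2
  simp only [if_true, if_neg hζ1'] at h2
  by_cases ha : ζ = ζ ^ q₀
  · exact hfix ha.symm
  · by_cases hb : (1 : F) = ζ ^ q₀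
    · exact hq0 hb.symm
    · simp only [if_neg ha, if_neg hb] at h2
      split_ifs at h2 <;> omega

end Cfsg.Agent.Helper7.SubR
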