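import Mathlib
import Cfsg.Agent.Helper7.SubRK

/-!
# The forward direction: a bad element unless `r = k` or the exceptional case
-/

set_option autoImplicit false

namespace Cfsg.Agent.Helper7.SubR

open Module Polynomial Matrix Finset Cfsg.Agent.Helper7.POrd Cfsg.Geo

variable {F : Type*} [Field F] [Fintype F] {p : ℕ} [Fact p.Prime] [CharP F p] {r : ℕ} [Fact r.Prime]

/-- a primitive `r`-th root of unity. -/
theorem exists_root_of_unity (hrq : r ∣ Fintype.card F - 1) :
    ∃ ζ : F, ζ ≠ 0 ∧ ∀ e : ℕ, ζ ^ e = 1 ↔ r ∣ e := by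
  classical
  have hr : r.Prime := Fact.out
  have hcard : r ∣ Fintype.card Fˣ := by rw [Fintype.card_units]; exact hrq
  obtain ⟨g, hg⟩ := exists_prime_orderOf_dvd_card r hcard
  refine ⟨(g : F), g.ne_zero, fun e => ?_⟩
  rw [← hg, orderOf_dvd_iff_pow_eq_one, ← Units.val_pow_eq_pow_val, Units.ext_iff, Units.val_one]

/-- **forward direction.** -/
theorem forward (hrp : r ≠ p) (hr2 : r ≠ 2) {n : ℕ} (hn : 2 ≤ n) (F₀ : Subfield F) (k q₀ : ℕ) (hk : k.Prime)
    (hF₀ : Nat.card ↥F₀ = q₀) (hq : Fintype.card F = q₀ ^ k) (hgap : ¬ (n = 6 ∧ r = 3))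
    (hΩ : r ∣ ((subfieldSubgroup F₀ 1).comap (Matrix.SpecialLinearGroup.toGL :
        Matrix.SpecialLinearGroup (Fin n) F →* GL (Fin n) F)).index)
    (hall : ∀ x : Matrix.SpecialLinearGroup (Fin n) F,
      (∃ z : F, ((x ^ r : Matrix.SpecialLinearGroup (Fin n) F) : Matrix (Fin n) (Fin n) F) =
        z • (1 : Matrix (Fin n) (Fin n) F)) →
      (∀ z : F, (x : Matrix (Fin n) (Fin n) F) ≠ z • (1 : Matrix (Fin n) (Fin n) F)) →
      ∃ P : Matrix.SpecialLinearGroup (Fin n) F, P⁻¹ * x * P ∈
        ((subfieldSubgroup F₀ 1).comap (Matrix.SpecialLinearGroup.toGL :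
          Matrix.SpecialLinearGroup (Fin n) F →* GL (Fin n) F))) :
    r = k ∨ (k = 2 ∧ r = n ∧ (n = 3 ∨ n = 5) ∧ padicValNat r (q₀ + 1) = 1) := by
  classical
  have hr : r.Prime := Fact.out
  by_cases hrk : r = k
  · exact Or.inl hrk
  right
  obtain ⟨d, hd2, hdn, hdvd⟩ := exists_of_dvd_index hrp hn F₀ q₀ k hk.one_le hF₀ hq hΩ
  obtain ⟨hi₀, hid, hnd, -⟩ := orders_of_dvd_geom hk hrk hdvd
  rw [← hq] at hi₀ hid
  have hipos : 0 < orderOf ((Fintype.card F : ℕ) : ZMod r) := orderOf_q_pos hrp
  have hq1 : 1 ≤ Fintype.card F := Fintype.card_pos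
  have hq₀1 : 1 ≤ q₀ := by
    rcases Nat.eq_zero_or_pos q₀ with h | h
    · rw [h, zero_pow hk.ne_zero] at hq
      omega
    · exact h
  have hi₀ne : orderOf ((q₀ : ℕ) : ZMod r) ≠ 1 := by
    rw [hi₀]
    have := hk.two_le
    nlinarith
  have hrq₀ : ¬ r ∣ q₀ - 1 := fun h => hi₀ne ((orderOf_eq_one_iff_dvd hq₀1).mpr h)
  have hrq₀' : ¬ r ∣ q₀ := by
    intro h
    have h1 := card_natCast_ne_zero (F := F) (r := r) hrp
    rw [hq, Nat.cast_pow, (ZMod.natCast_eq_zero_iff q₀ r).mpr h, zero_pow hk.ne_zero] at h1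
    exact h1 rfl
  by_cases hi1 : orderOf ((Fintype.card F : ℕ) : ZMod r) = 1
  · -- `r` divides `q - 1`
    rw [hi1, mul_one] at hi₀
    have hrq : r ∣ Fintype.card F - 1 := (orderOf_eq_one_iff_dvd hq1).mp hi1
    obtain ⟨ζ, hζ0, hζ⟩ := exists_root_of_unity (F := F) hrq
    have hζ1 : ζ ≠ 1 := by
      intro h
      have := (hζ 1).mp (by rw [pow_one, h])
      exact hr.one_lt.ne' (Nat.dvd_one.mp this)
    have hζr : ζ ^ r = 1 := (hζ r).mpr dvd_rfl
    have hζq0 : ζ ^ q₀ ≠ 1 := fun h => hrq₀' ((hζ q₀).mp h)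
    have hζfix : ζ ^ q₀ ≠ ζ := by
      intro h
      apply hrq₀
      rw [← hζ]
      have h1 : ζ ^ (q₀ - 1) * ζ = 1 * ζ := by
        rw [← pow_succ, Nat.sub_add_cancel hq₀1, h, one_mul]
      exact mul_right_cancel₀ hζ0 h1
    have hζ2 : (ζ⁻¹) ^ 2 ≠ 1 := by
      intro h
      rw [inv_pow, inv_eq_one] at h
      have h2 := (hζ 2).mp h
      exact hr2 ((Nat.prime_dvd_prime_iff_eq hr Nat.prime_two).mp h2)
    by_cases hrn : r ∣ n
    · by_cases hn7 : 7 ≤ n
      · -- three eigenvalues
        exfalso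
        obtain ⟨x, hx, hxr, hxns⟩ := exists_diag_elt (r := r) (w3 n ζ ((ζ⁻¹) ^ 2) 1 2 3)
          (by
            rw [prod_w3 n ζ ((ζ⁻¹) ^ 2) 1 (by omega : 2 ≤ 3) (by omega : 3 ≤ n)]
            rw [one_pow, mul_one, show 3 - 2 = 1 from rfl, pow_one, inv_pow, mul_inv_cancel₀ (pow_ne_zero _ hζ0)])
          1
          (by
            intro j
            unfold w3
            split_ifs
            · exact hζr
            · rw [← pow_mul, mul_comm, pow_mul, inv_pow, hζr, inv_one, one_pow]
            · exact one_pow _)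
          ⟨0, by omega⟩ ⟨3, by omega⟩
          (by
            unfold w3
            simp only [show (0 : ℕ) < 2 by omega, if_true, show ¬ (3 : ℕ) < 2 by omega, if_false,
              show ¬ (3 : ℕ) < 3 by omega]
            exact hζ1)
        obtain ⟨P, hP⟩ := hall x ⟨1, hxr⟩ hxns
        exact bad_three F₀ hF₀ hn7 hζ1 hζ2 hζq0 hζfix x P hx hP
      · -- small `n`
        have hnr : n = r ∧ (n = 3 ∨ n = 5) := by
          have hrle : r ≤ n := Nat.le_of_dvd (by omega) hrn
          have h2 := hr.two_le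
          have hn6 : n ≤ 6 := by omega
          interval_cases n
          · exact absurd ((Nat.prime_dvd_prime_iff_eq hr Nat.prime_two).mp hrn) hr2
          · exact ⟨((Nat.prime_dvd_prime_iff_eq hr Nat.prime_three).mp hrn).symm, Or.inl rfl⟩
          · exfalso
            have : r ∣ 2 := by
              have h4 : r ∣ 2 * 2 := hrn
              rcases (Nat.Prime.dvd_mul hr).mp h4 with h | h <;> exact h
            exact hr2 ((Nat.prime_dvd_prime_iff_eq hr Nat.prime_two).mp this)
          · exact ⟨((Nat.prime_dvd_prime_iff_eq hr Nat.prime_five).mp hrn).symm, Or.inr rfl⟩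
          · exfalso
            have h6 : r ∣ 2 * 3 := hrn
            rcases (Nat.Prime.dvd_mul hr).mp h6 with h | h
            · exact hr2 ((Nat.prime_dvd_prime_iff_eq hr Nat.prime_two).mp h)
            · exact hgap ⟨rfl, (Nat.prime_dvd_prime_iff_eq hr Nat.prime_three).mp h⟩
        obtain ⟨hnr, hn35⟩ := hnr
        -- `k = 2`
        have hk2 : k = 2 := by
          have hu : ((q₀ : ℕ) : ZMod r) ≠ 0 := by
            rw [Ne, ZMod.natCast_eq_zero_iff]
            exact hrq₀'
          have h1 : ((q₀ : ℕ) : ZMod r) ^ (r - 1) = 1 := ZMod.pow_card_sub_one_eq_one hu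
          have h2 : k ∣ r - 1 := by
            rw [← hi₀]
            exact orderOf_dvd_of_pow_eq_one h1
          rcases hn35 with h3 | h5
          · rw [← hnr, h3] at h2
            exact (Nat.prime_dvd_prime_iff_eq hk Nat.prime_two).mp h2
          · rw [← hnr, h5] at h2
            have h4 : k ∣ 2 * 2 := h2
            rcases (Nat.Prime.dvd_mul hk).mp h4 with h | h <;>
              exact (Nat.prime_dvd_prime_iff_eq hk Nat.prime_two).mp h
        by_cases ha : padicValNat r (Fintype.card F - 1) = 1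
        · refine ⟨hk2, hnr.symm, hn35, ?_⟩
          have hfac : Fintype.card F - 1 = (q₀ - 1) * (q₀ + 1) := by
            rw [hq, hk2]
            obtain ⟨t, rfl⟩ : ∃ t, q₀ = t + 1 := ⟨q₀ - 1, by omega⟩
            simp only [Nat.add_sub_cancel]
            have : (t + 1) ^ 2 = t * (t + 1 + 1) + 1 := by ring
            omega
          have hq₀2 : q₀ - 1 ≠ 0 := by
            intro h
            apply hrq₀
            rw [h]
            exact dvd_zero r
          rw [hfac, padicValNat.mul hq₀2 (by omega), padicValNat.eq_zero_of_not_dvd hrq₀, zero_add] at ha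
          exact ha
        · -- `r²` divides `q - 1`
          exfalso
          have hq1' : Fintype.card F - 1 ≠ 0 := by
            have := Fintype.one_lt_card (α := F)
            omega
          have ha1 : 1 ≤ padicValNat r (Fintype.card F - 1) := one_le_padicValNat_of_dvd hq1' hrq
          have hr2q : r ^ 2 ∣ Fintype.card F - 1 := (padicValNat_dvd_iff_le hq1').mpr (by omega)
          obtain ⟨m, hm⟩ := hr2q
          have hdiv : (Fintype.card F - 1) / r = r * m := by
            rw [hm, pow_two, mul_assoc, Nat.mul_div_cancel_left _ hr.pos]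
          obtain ⟨b, hb⟩ := exists_pow_eq_of_pow_div_eq_one hr.pos hrq (c := ζ⁻¹) (inv_ne_zero hζ0)
            (by rw [hdiv, pow_mul, inv_pow, hζr, inv_one, one_pow])
          have hb0 : b ≠ 0 := by
            rintro rfl
            rw [zero_pow hr.ne_zero] at hb
            exact inv_ne_zero hζ0 hb.symm
          have hn3 : 3 ≤ n := by rcases hn35 with h | h <;> omega
          obtain ⟨x, hx, hxr, hxns⟩ := exists_diag_elt (r := r) (w3 n (b * ζ) b b 1 1)
            (by
              rw [prod_w3 n (b * ζ) b b (le_refl 1) (by omega : 1 ≤ n)]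
              simp only [pow_one, Nat.sub_self, pow_zero, mul_one]
              have : b * ζ * b ^ (n - 1) = b ^ n * ζ := by
                obtain ⟨t, rfl⟩ : ∃ t, n = t + 1 := ⟨n - 1, by omega⟩
                rw [Nat.add_sub_cancel, pow_succ]
                ring
              rw [this, hnr, hb, inv_mul_cancel₀ hζ0])
            (b ^ r)
            (by
              intro j
              unfold w3
              split_ifs
              · rw [mul_pow, hζr, mul_one]
              · rfl)
            ⟨0, by omega⟩ ⟨1, by omega⟩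
            (by
              unfold w3
              simp only [show (0 : ℕ) < 1 by omega, if_true, show ¬ (1 : ℕ) < 1 by omega, if_false]
              intro h
              apply hζ1
              have : b * ζ = b * 1 := by rw [h, mul_one]
              exact mul_left_cancel₀ hb0 this)
          obtain ⟨P, hP⟩ := hall x ⟨_, hxr⟩ hxns
          exact bad_two F₀ hF₀ hn hζ0 hζ1 hb0 hζq0 hζfix (fun h => by omega) x P hx hP
    · -- `r` does not divide `n`
      exfalso
      have hnu : ((n : ℕ) : ZMod r) ≠ 0 := by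
        rw [Ne, ZMod.natCast_eq_zero_iff]
        exact hrn
      obtain ⟨e, he⟩ : ∃ e : ℕ, r ∣ e * n + 1 := by
        refine ⟨(-((n : ℕ) : ZMod r)⁻¹).val, ?_⟩
        rw [← ZMod.natCast_eq_zero_iff]
        push_cast
        rw [ZMod.natCast_zmod_val, neg_mul, inv_mul_cancel₀ hnu, neg_add_cancel]
      have hb0 : ζ ^ e ≠ 0 := pow_ne_zero _ hζ0
      obtain ⟨x, hx, hxr, hxns⟩ := exists_diag_elt (r := r) (w3 n (ζ ^ e * ζ) (ζ ^ e) (ζ ^ e) 1 1)
        (by
          rw [prod_w3 n (ζ ^ e * ζ) (ζ ^ e) (ζ ^ e) (le_refl 1) (by omega : 1 ≤ n)]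
          simp only [pow_one, Nat.sub_self, pow_zero, mul_one]
          have : ζ ^ e * ζ * (ζ ^ e) ^ (n - 1) = ζ ^ (e * n + 1) := by
            obtain ⟨t, rfl⟩ : ∃ t, n = t + 1 := ⟨n - 1, by omega⟩
            rw [Nat.add_sub_cancel, ← pow_mul]
            ring
          rw [this]
          exact (hζ _).mpr he)
        1
        (by
          intro j
          unfold w3
          split_ifs
          · rw [mul_pow, hζr, mul_one, ← pow_mul, mul_comm, pow_mul, hζr, one_pow]
          · rw [← pow_mul, mul_comm, pow_mul, hζr, one_pow])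
        ⟨0, by omega⟩ ⟨1, by omega⟩
        (by
          unfold w3
          simp only [show (0 : ℕ) < 1 by omega, if_true, show ¬ (1 : ℕ) < 1 by omega, if_false]
          intro h
          apply hζ1
          have : ζ ^ e * ζ = ζ ^ e * 1 := by rw [h, mul_one]
          exact mul_left_cancel₀ hb0 this)
      obtain ⟨P, hP⟩ := hall x ⟨_, hxr⟩ hxns
      refine bad_two F₀ hF₀ hn hζ0 hζ1 hb0 hζq0 hζfix (fun hn2 hsw => ?_) x P hx hP
      -- the swap case: `r ∣ q₀ + 1` and `d = 2`
      apply hnd
      have hd : d = 2 := by omega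
      rw [hd]
      apply orderOf_dvd_of_pow_eq_one
      have h1 : r ∣ q₀ + 1 := by
        rw [← hζ, pow_succ]
        exact hsw
      have h2 : ((q₀ : ℕ) : ZMod r) = -1 := by
        have := (ZMod.natCast_eq_zero_iff (q₀ + 1) r).mpr h1
        push_cast at this
        exact eq_neg_of_add_eq_zero_left this
      rw [h2]
      ring
  · -- `r` does not divide `q - 1`: a single block
    exfalso
    have hile : orderOf ((Fintype.card F : ℕ) : ZMod r) ≤ n :=
      (Nat.le_of_dvd (by omega) hid).trans hdn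
    obtain ⟨x, hxr, hxns, hxfix⟩ := exists_block_model hrp n hi1 hile
    obtain ⟨P, hP⟩ := hall x ⟨1, hxr⟩ hxns
    have h := dvd_of_good_of_pow_eq_one hrp F₀ hF₀ hi1 hi₀ne (by omega) x P hxr hP
    rw [hxfix, hi₀, Nat.sub_sub_self hile] at h
    have h2 := Nat.le_of_dvd hipos h
    have := hk.two_le
    nlinarith

end Cfsg.Agent.Helper7.SubR
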