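import Mathlib
import Cfsg.Agent.Helper7.SubRL

/-!
# Eigenbases, and eigenspaces under invariant decompositions
-/

set_option autoImplicit false

namespace Cfsg.Agent.Helper7.SubR

open Module Polynomial Matrix Finset Cfsg.Agent.Helper7.POrd Cfsg.Geo

universe u v

variable {F : Type u} [Field F]

/-- the coordinates with respect to a basis intertwine an endomorphism and its matrix. -/
theorem equivFun_conj {V : Type v} [AddCommGroup V] [Module F V] {m : ℕ} (b : Basis (Fin m) F V)
    (T : Module.End F V) (M : Matrix (Fin m) (Fin m) F) (h : ∀ j, T (b j) = ∑ l, M l j • b l) (v : V) :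
    b.equivFun (T v) = Matrix.toLin' M (b.equivFun v) := by
  have h1 : (b.equivFun : V →ₗ[F] (Fin m → F)) ∘ₗ T = (Matrix.toLin' M) ∘ₗ (b.equivFun : V →ₗ[F] (Fin m → F)) := by
    apply b.ext
    intro j
    simp only [LinearMap.comp_apply, LinearEquiv.coe_coe]
    rw [h j]
    funext i
    rw [Matrix.toLin'_apply, Basis.equivFun_apply, Basis.equivFun_apply, map_sum, Finsupp.coe_finset_sum,
      Finset.sum_apply]
    simp only [map_smul, Basis.repr_self, Finsupp.smul_apply, Finsupp.single_apply, smul_eq_mul, mul_ite, mul_one,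
      mul_zero, Matrix.mulVec, dotProduct]
    rw [Finset.sum_ite_eq' Finset.univ i, Finset.sum_ite_eq Finset.univ j]
    simp
  exact LinearMap.congr_fun h1 v

/-- an eigenvector of `T` with eigenvalue `ν` is an eigenvector of `T^t` with eigenvalue `ν^t`. -/
theorem pow_apply_of_eigen {V : Type v} [AddCommGroup V] [Module F V] {T : Module.End F V} {ν : F} {w : V}
    (hw : T w = ν • w) (t : ℕ) : (T ^ t) w = ν ^ t • w := by
  induction t with
  | zero => simp
  | succ t ih => rw [pow_succ, Module.End.mul_apply, hw, map_smul, ih, smul_smul, pow_succ, mul_comm]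

/-- the eigenvalues of an endomorphism of order `r` are `r`-th roots of unity. -/
theorem eigenspace_eq_bot_of_pow_ne {V : Type v} [AddCommGroup V] [Module F V] {T : Module.End F V} {r : ℕ}
    (hT : T ^ r = 1) {ν : F} (hν : ν ^ r ≠ 1) : Module.End.eigenspace T ν = ⊥ := by
  rw [eq_bot_iff]
  intro w hw
  rw [Module.End.mem_eigenspace_iff] at hw
  have h1 := pow_apply_of_eigen hw r
  rw [hT, Module.End.one_apply] at h1
  have h2 : (1 - ν ^ r) • w = 0 := by rw [sub_smul, one_smul, ← h1, sub_self]
  rcases smul_eq_zero.mp h2 with h | h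
  · exact absurd (sub_eq_zero.mp h).symm hν
  · exact (Submodule.mem_bot F).mpr h

/-- **eigenspaces and invariant decompositions.** -/
theorem finrank_eigenspace_add {V : Type v} [AddCommGroup V] [Module F V] [FiniteDimensional F V]
    {T : Module.End F V} {W W' : Submodule F V} (hW : W ∈ Module.End.invtSubmodule T)
    (hW' : W' ∈ Module.End.invtSubmodule T) (hc : IsCompl W W') (ν : F) :
    finrank F ↥(Module.End.eigenspace T ν) =
      finrank F ↥(Module.End.eigenspace (LinearMap.restrict T hW) ν) +
        finrank F ↥(Module.End.eigenspace (LinearMap.restrict T hW') ν) := by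
  let f : (↥(Module.End.eigenspace (LinearMap.restrict T hW) ν) ×
      ↥(Module.End.eigenspace (LinearMap.restrict T hW') ν)) →ₗ[F] V :=
    LinearMap.coprod (W.subtype ∘ₗ (Module.End.eigenspace (LinearMap.restrict T hW) ν).subtype)
      (W'.subtype ∘ₗ (Module.End.eigenspace (LinearMap.restrict T hW') ν).subtype)
  have hf : ∀ c, f c = ((c.1 : ↥W) : V) + ((c.2 : ↥W') : V) := fun c => rfl
  have hmem : ∀ c, f c ∈ Module.End.eigenspace T ν := by
    intro c
    rw [hf, Module.End.mem_eigenspace_iff, map_add, smul_add]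
    have h1 := Module.End.mem_eigenspace_iff.mp c.1.2
    have h2 := Module.End.mem_eigenspace_iff.mp c.2.2
    have h1' := congrArg (Subtype.val) h1
    have h2' := congrArg (Subtype.val) h2
    rw [restrict_coe, Submodule.coe_smul] at h1' h2'
    rw [h1', h2']
  let Φ := LinearMap.codRestrict (Module.End.eigenspace T ν) f hmem
  have hinj : Function.Injective Φ := by
    rw [injective_iff_map_eq_zero]
    intro c hc0
    have h0 : f c = 0 := congrArg Subtype.val hc0
    rw [hf] at h0
    have h1 : ((c.1 : ↥W) : V) ∈ W ⊓ W' := by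
      refine ⟨(c.1 : ↥W).2, ?_⟩
      rw [eq_neg_of_add_eq_zero_left h0]
      exact W'.neg_mem (c.2 : ↥W').2
    rw [hc.inf_eq_bot, Submodule.mem_bot] at h1
    have h2 : ((c.2 : ↥W') : V) = 0 := by rw [h1, zero_add] at h0; exact h0
    apply Prod.ext
    · exact Subtype.ext (Subtype.ext h1)
    · exact Subtype.ext (Subtype.ext h2)
  have hsurj : Function.Surjective Φ := by
    rintro ⟨x, hx⟩
    rw [Module.End.mem_eigenspace_iff] at hx
    obtain ⟨w, hw, w', hw', rfl⟩ : ∃ w ∈ W, ∃ w' ∈ W', w + w' = x := by
      have : x ∈ W ⊔ W' := by rw [hc.sup_eq_top]; trivial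
      exact Submodule.mem_sup.mp this
    have hTw : T w ∈ W := hW hw
    have hTw' : T w' ∈ W' := hW' hw'
    have h1 : T w - ν • w ∈ W ⊓ W' := by
      refine ⟨W.sub_mem hTw (W.smul_mem _ hw), ?_⟩
      have : T w - ν • w = -(T w' - ν • w') := by
        rw [map_add, smul_add] at hx
        rw [neg_sub, sub_eq_sub_iff_add_eq_add, hx]
        abel
      rw [this]
      exact W'.neg_mem (W'.sub_mem hTw' (W'.smul_mem _ hw'))
    rw [hc.inf_eq_bot, Submodule.mem_bot, sub_eq_zero] at h1
    have h2 : T w' = ν • w' := by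
      rw [map_add, smul_add, h1] at hx
      exact add_left_cancel hx
    refine ⟨(⟨⟨w, hw⟩, ?_⟩, ⟨⟨w', hw'⟩, ?_⟩), rfl⟩
    · rw [Module.End.mem_eigenspace_iff]
      exact Subtype.ext h1
    · rw [Module.End.mem_eigenspace_iff]
      exact Subtype.ext h2
  rw [← Module.finrank_prod]
  exact (LinearEquiv.finrank_eq (LinearEquiv.ofBijective Φ ⟨hinj, hsurj⟩)).symm

/-- the dimensions of the eigenspaces from an eigenbasis. -/
theorem finrank_eigenspace_of_eigenbasis [DecidableEq F] {V : Type v} [AddCommGroup V] [Module F V] {m : ℕ}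
    (b : Basis (Fin m) F V) (T : Module.End F V) (d : Fin m → F) (h : ∀ j, T (b j) = d j • b j) (ν : F) :
    finrank F ↥(Module.End.eigenspace T ν) = (Finset.univ.filter (fun j => d j = ν)).card := by
  rw [← finrank_eigenspace_diagonal d ν]
  apply finrank_eigenspace_conj b.equivFun
  apply equivFun_conj b T (Matrix.diagonal d)
  intro j
  rw [h j]
  simp [Matrix.diagonal_apply, Finset.sum_ite_eq']

/-- the determinant from an eigenbasis. -/
theorem det_of_eigenbasis {V : Type v} [AddCommGroup V] [Module F V] {m : ℕ}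
    (b : Basis (Fin m) F V) (T : Module.End F V) (d : Fin m → F) (h : ∀ j, T (b j) = d j • b j) :
    LinearMap.det T = ∏ j, d j := by
  classical
  have h1 : LinearMap.toMatrix b b T = Matrix.diagonal d := by
    ext i j
    rw [LinearMap.toMatrix_apply, h j, map_smul, Basis.repr_self, Finsupp.smul_apply, Finsupp.single_apply,
      Matrix.diagonal_apply, smul_eq_mul]
    by_cases hij : i = j
    · subst hij; simp
    · rw [if_neg hij, if_neg (fun h' => hij h'.symm), mul_zero]
  rw [← LinearMap.det_toMatrix b, h1, Matrix.det_diagonal]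

end Cfsg.Agent.Helper7.SubR
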