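import Mathlib
import Cfsg.Agent.Helper7.SubRM

/-!
# Rational matrices for diagonalisable endomorphisms with inversion-symmetric eigenvalues
-/

set_option autoImplicit false

namespace Cfsg.Agent.Helper7.SubR

open Module Polynomial Matrix Finset Cfsg.Agent.Helper7.POrd Cfsg.Geo

universe u v

variable {F : Type u} [Field F]

/-- the matrix is diagonal with `r`-th roots of unity on the diagonal. -/
def DiagQ (r : ℕ) : ∀ m : ℕ, Matrix (Fin m) (Fin m) F → Prop :=
  fun _ M => ∃ d, (∀ j, d j ^ r = 1) ∧ M = Matrix.diagonal d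

theorem blockStable_diagQ (r : ℕ) : BlockStable (DiagQ (F := F) r) := by
  rintro m₁ m₂ M₁ M₂ ⟨d₁, h1, rfl⟩ ⟨d₂, h2, rfl⟩
  refine ⟨(Sum.elim d₁ d₂) ∘ finSumFinEquiv.symm, ?_, ?_⟩
  · intro j
    rw [Function.comp_apply]
    rcases finSumFinEquiv.symm j with a | a
    · exact h1 a
    · exact h2 a
  · rw [Matrix.fromBlocks_diagonal, Matrix.reindex_apply, Matrix.submatrix_diagonal_equiv]

variable [Fintype F] {p : ℕ} [Fact p.Prime] [CharP F p] {r : ℕ} [Fact r.Prime]

/-- the irreducible factors of `X^r - 1` are linear when `r` divides `q - 1`. -/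
theorem linear_of_irred_dvd {ζ : F} (hζ : ∀ e : ℕ, ζ ^ e = 1 ↔ r ∣ e) (g : F[X]) (hg : Irreducible g)
    (hm : g.Monic) (hd : g ∣ X ^ r - 1) : ∃ μ : F, μ ^ r = 1 ∧ g = X - C μ := by
  have hr : r.Prime := Fact.out
  have hprim : IsPrimitiveRoot ζ r :=
    (IsPrimitiveRoot.iff_def ζ r).mpr ⟨(hζ r).mpr dvd_rfl, fun l hl => (hζ l).mp hl⟩
  rw [X_pow_sub_one_eq_prod hr.pos hprim] at hd
  obtain ⟨μ, hμ, hgμ⟩ := (Prime.dvd_finsetProd_iff hg.prime _).mp hd
  refine ⟨μ, (mem_nthRootsFinset hr.pos 1).mp hμ, ?_⟩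
  refine (eq_of_monic_of_dvd_of_natDegree_le hm (monic_X_sub_C μ) hgμ ?_).symm
  rw [natDegree_X_sub_C]
  exact hg.natDegree_pos

/-- **eigenbasis.** -/
theorem exists_eigenbasis (hrp : r ≠ p) {ζ : F} (hζ : ∀ e : ℕ, ζ ^ e = 1 ↔ r ∣ e)
    {V : Type v} [AddCommGroup V] [Module F V] [FiniteDimensional F V] (T : Module.End F V) (hT : T ^ r = 1) :
    ∃ (m : ℕ) (b : Basis (Fin m) F V) (d : Fin m → F), (∀ j, d j ^ r = 1) ∧ ∀ j, T (b j) = d j • b j := by
  classical
  have hB : HasB (DiagQ r) T := by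
    refine hasB_of_pow_eq_one hrp (blockStable_diagQ r)
      (fun M => ⟨fun j => j.elim0, fun j => j.elim0, by ext i; exact i.elim0⟩) ?_ T hT
    intro g hg hm hd
    obtain ⟨μ, hμ, rfl⟩ := linear_of_irred_dvd hζ g hg hm hd
    have key : ∀ m : ℕ, m = 1 → DiagQ r m (compMat (X - C μ) m) := by
      intro m hm1
      subst hm1
      refine ⟨fun _ => μ, fun _ => hμ, ?_⟩
      ext l j
      have hl : l = 0 := Subsingleton.elim _ _
      have hj : j = 0 := Subsingleton.elim _ _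
      subst hl hj
      unfold compMat
      simp
    exact key _ (natDegree_X_sub_C μ)
  obtain ⟨m, b, M, ⟨d, hd, rfl⟩, hb⟩ := hB
  refine ⟨m, b, d, hd, fun j => ?_⟩
  rw [hb j]
  simp [Matrix.diagonal_apply, Finset.sum_ite_eq']

/-- an endomorphism of order `r` with a rational matrix has inversion-symmetric eigenspaces, when `r ∣ q₀ + 1`. -/
theorem finrank_eigenspace_inv_of_hasB (F₀ : Subfield F) {q₀ : ℕ} (hF₀ : Nat.card ↥F₀ = q₀)
    (hinv : ∀ ν : F, ν ^ r = 1 → ν ^ q₀ = ν⁻¹)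
    {V : Type v} [AddCommGroup V] [Module F V] (S : Module.End F V) (hS : S ^ r = 1)
    (hB : HasB (RatQ F₀) S) (ν : F) :
    finrank F ↥(Module.End.eigenspace S ν) = finrank F ↥(Module.End.eigenspace S ν⁻¹) := by
  by_cases hν : ν ^ r = 1
  · obtain ⟨m, b, M, hM, hb⟩ := hB
    rw [finrank_eigenspace_conj b.equivFun S (Matrix.toLin' M) (equivFun_conj b S M hb) ν,
      finrank_eigenspace_conj b.equivFun S (Matrix.toLin' M) (equivFun_conj b S M hb) ν⁻¹,
      finrank_eigenspace_frob F₀ hF₀ M hM ν, hinv ν hν]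
  · have hν' : ν⁻¹ ^ r ≠ 1 := by
      rw [inv_pow]
      intro h
      exact hν (inv_eq_one.mp h)
    rw [eigenspace_eq_bot_of_pow_ne hS hν, eigenspace_eq_bot_of_pow_ne hS hν']

/-- **rational basis, symmetric case.** -/
theorem hasB_rat_of_sym (hrp : r ≠ p) (hr2 : r ≠ 2) (F₀ : Subfield F) {q₀ : ℕ} (hF₀ : Nat.card ↥F₀ = q₀)
    {ζ : F} (hζ : ∀ e : ℕ, ζ ^ e = 1 ↔ r ∣ e) (hinv : ∀ ν : F, ν ^ r = 1 → ν ^ q₀ = ν⁻¹)
    (hsum : ∀ ν : F, ν ^ r = 1 → ν + ν⁻¹ ∈ F₀)
    {V : Type v} [AddCommGroup V] [Module F V] [FiniteDimensional F V] (T : Module.End F V) (hT : T ^ r = 1)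
    (hsym : ∀ ν : F, finrank F ↥(Module.End.eigenspace T ν) = finrank F ↥(Module.End.eigenspace T ν⁻¹)) :
    HasB (RatQ F₀) T := by
  have hr : r.Prime := Fact.out
  refine hasB_of_step (blockStable_ratQ F₀) (fun M l => l.elim0)
    (fun V _ _ T => T ^ r = 1 ∧
      ∀ ν : F, finrank F ↥(Module.End.eigenspace T ν) = finrank F ↥(Module.End.eigenspace T ν⁻¹))
    ?_ (finrank F V) V T rfl ⟨hT, hsym⟩
  intro V _ _ _ T hP hpos
  obtain ⟨hT, hsym⟩ := hP
  have : Finite V := Module.finite_of_finite F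
  have : Nontrivial V := Module.nontrivial_of_finrank_pos (R := F) hpos
  obtain ⟨v, hv⟩ := exists_ne (0 : V)
  have hf0 : (X ^ r - 1 : F[X]) ≠ 0 := (monic_X_pow_sub_C (1 : F) hr.ne_zero).ne_zero
  have hfv : aeval T (X ^ r - 1 : F[X]) v = 0 := by
    rw [map_sub, map_pow, aeval_X, map_one, hT, sub_self, LinearMap.zero_apply]
  obtain ⟨g, h', hg, hgf, hw0, hgw⟩ := exists_irred_ker T _ (X ^ r - 1 : F[X]) rfl hf0 v hv hfv
  obtain ⟨g', hg'⟩ : ∃ g', g' = g * C g.leadingCoeff⁻¹ := ⟨_, rfl⟩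
  have hlc : g.leadingCoeff⁻¹ ≠ 0 := inv_ne_zero (leadingCoeff_ne_zero.mpr hg.ne_zero)
  have hassoc : Associated g g' := by
    rw [hg']
    exact associated_mul_unit_right g _ (isUnit_C.mpr (IsUnit.mk0 _ hlc))
  have hg'irr : Irreducible g' := hassoc.irreducible hg
  have hg'm : g'.Monic := by
    rw [hg']
    exact monic_mul_leadingCoeff_inv hg.ne_zero
  have hg'f : g' ∣ X ^ r - 1 := hassoc.symm.dvd.trans hgf
  have hg'w : aeval T g' (aeval T h' v) = 0 := by
    rw [hg', mul_comm, map_mul, Module.End.mul_apply, hgw, map_zero]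
  obtain ⟨μ, hμr, hgμ⟩ := linear_of_irred_dvd hζ g' hg'irr hg'm hg'f
  obtain ⟨u, hu⟩ : ∃ u, u = aeval T h' v := ⟨_, rfl⟩
  rw [← hu] at hw0 hg'w
  have haev : ∀ (ν : F) (w : V), aeval T (X - C ν : F[X]) w = T w - ν • w := by
    intro ν w
    rw [map_sub, aeval_X, aeval_C, LinearMap.sub_apply, Module.algebraMap_end_apply]
  have hTu : T u = μ • u := by
    rw [hgμ, haev] at hg'w
    exact sub_eq_zero.mp hg'w
  -- the cyclic vector and its polynomial
  obtain ⟨h, w₂, hm, hdeg, hcoef, hhw, hli⟩ : ∃ (h : F[X]) (w₂ : V), h.Monic ∧ 0 < h.natDegree ∧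
      (∀ t, h.coeff t ∈ F₀) ∧ aeval T h w₂ = 0 ∧
      LinearIndependent F (fun t : Fin h.natDegree => (T ^ (t : ℕ)) w₂) := by
    by_cases hμ1 : μ = 1
    · refine ⟨g', u, hg'm, hg'irr.natDegree_pos, ?_, hg'w, li_cyc_of_irred T hg'irr hw0 hg'w⟩
      intro t
      rw [hgμ, hμ1, coeff_sub, coeff_X, coeff_C]
      refine F₀.sub_mem ?_ ?_ <;> split_ifs
      · exact F₀.one_mem
      · exact F₀.zero_mem
      · exact F₀.one_mem
      · exact F₀.zero_mem
    · -- a second eigenvector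
      have hμ0 : μ ≠ 0 := by
        rintro rfl
        rw [zero_pow hr.ne_zero] at hμr
        exact zero_ne_one hμr
      have hμinv : μ ≠ μ⁻¹ := by
        intro h
        have h2 : μ ^ 2 = 1 := by
          rw [pow_two]
          nth_rewrite 2 [h]
          exact mul_inv_cancel₀ hμ0
        obtain ⟨t, ht⟩ := Nat.even_or_odd' r
        rcases ht with ht | ht
        · have : 2 ∣ r := ⟨t, ht⟩
          exact hr2 ((Nat.prime_dvd_prime_iff_eq Nat.prime_two hr).mp this).symm
        · apply hμ1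
          rw [ht, pow_succ, pow_mul, h2, one_pow, one_mul] at hμr
          exact hμr
      have hupos : 0 < finrank F ↥(Module.End.eigenspace T μ⁻¹) := by
        rw [← hsym μ]
        apply Module.finrank_pos_iff_exists_ne_zero.mpr
        exact ⟨⟨u, Module.End.mem_eigenspace_iff.mpr hTu⟩, fun h => hw0 (congrArg Subtype.val h)⟩
      obtain ⟨⟨u', hu'm⟩, hu'0⟩ := Module.finrank_pos_iff_exists_ne_zero.mp hupos
      have hTu' : T u' = μ⁻¹ • u' := Module.End.mem_eigenspace_iff.mp hu'm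
      have hu'0' : u' ≠ 0 := fun h => hu'0 (Subtype.ext h)
      have hpair : LinearIndependent F ![u, u'] := by
        apply Module.End.eigenvectors_linearIndependent' T ![μ, μ⁻¹]
        · intro i j hij
          fin_cases i <;> fin_cases j
          · rfl
          · exact absurd hij hμinv
          · exact absurd hij.symm hμinv
          · rfl
        · intro i
          fin_cases i
          · exact ⟨Module.End.mem_eigenspace_iff.mpr hTu, hw0⟩
          · exact ⟨hu'm, hu'0'⟩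
      obtain ⟨h₀, hh₀⟩ : ∃ h₀ : (↥F₀)[X], h₀ = X ^ 2 - C (⟨μ + μ⁻¹, hsum μ hμr⟩ : ↥F₀) * X + C 1 := ⟨_, rfl⟩
      have hmap : h₀.map F₀.subtype = (X - C μ) * (X - C μ⁻¹) := by
        rw [hh₀]
        simp only [Polynomial.map_add, Polynomial.map_sub, Polynomial.map_mul, Polynomial.map_pow, map_X, map_C,
          map_one, Polynomial.map_one]
        have : F₀.subtype ⟨μ + μ⁻¹, hsum μ hμr⟩ = μ + μ⁻¹ := rfl
        rw [this]
        have h1 : (C μ : F[X]) * C μ⁻¹ = 1 := by rw [← C_mul, mul_inv_cancel₀ hμ0, C_1]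
        rw [C_add]
        linear_combination (-1 : F[X]) * h1
      have hmon : ((X - C μ) * (X - C μ⁻¹) : F[X]).Monic := (monic_X_sub_C μ).mul (monic_X_sub_C μ⁻¹)
      have hnd : ((X - C μ) * (X - C μ⁻¹) : F[X]).natDegree = 2 := by
        rw [(monic_X_sub_C μ).natDegree_mul (monic_X_sub_C μ⁻¹), natDegree_X_sub_C, natDegree_X_sub_C]
      have hkill : aeval T ((X - C μ) * (X - C μ⁻¹) : F[X]) (u + u') = 0 := by
        rw [map_add]
        have h1 : aeval T ((X - C μ) * (X - C μ⁻¹) : F[X]) u' = 0 := by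
          rw [map_mul, Module.End.mul_apply, haev μ⁻¹ u', hTu', sub_self, map_zero]
        have h2 : aeval T ((X - C μ) * (X - C μ⁻¹) : F[X]) u = 0 := by
          rw [mul_comm, map_mul, Module.End.mul_apply, haev μ u, hTu, sub_self, map_zero]
        rw [h1, h2, add_zero]
      refine ⟨(X - C μ) * (X - C μ⁻¹), u + u', hmon, by rw [hnd]; norm_num, ?_, hkill, ?_⟩
      · intro t
        rw [← hmap, coeff_map]
        exact (h₀.coeff t).2
      · rw [Fintype.linearIndependent_iff]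
        intro c hc
        have hsumc : ∑ t : Fin ((X - C μ) * (X - C μ⁻¹) : F[X]).natDegree, c t • (T ^ (t : ℕ)) (u + u') =
            (c ⟨0, by rw [hnd]; norm_num⟩ + c ⟨1, by rw [hnd]; norm_num⟩ * μ) • u +
              (c ⟨0, by rw [hnd]; norm_num⟩ + c ⟨1, by rw [hnd]; norm_num⟩ * μ⁻¹) • u' := by
          have : ∀ (N : ℕ) (hN : N = 2) (c : Fin N → F), ∑ t : Fin N, c t • (T ^ (t : ℕ)) (u + u') =
              (c ⟨0, by omega⟩ + c ⟨1, by omega⟩ * μ) • u + (c ⟨0, by omega⟩ + c ⟨1, by omega⟩ * μ⁻¹) • u' := by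
            intro N hN c
            subst hN
            rw [Fin.sum_univ_two]
            simp only [Fin.val_zero, Fin.val_one, pow_zero, pow_one, Module.End.one_apply, map_add, hTu, hTu']
            simp only [smul_add, smul_smul, add_smul]
            have e0 : (⟨0, by omega⟩ : Fin 2) = 0 := rfl
            have e1 : (⟨1, by omega⟩ : Fin 2) = 1 := rfl
            rw [e0, e1]
            abel
          exact this _ hnd c
        rw [hsumc] at hc
        obtain ⟨e1, e2⟩ := LinearIndependent.pair_iff.mp hpair _ _ hc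
        have hc1 : c ⟨1, by rw [hnd]; norm_num⟩ = 0 := by
          have h3 : c ⟨1, by rw [hnd]; norm_num⟩ * (μ - μ⁻¹) = 0 := by linear_combination e1 - e2
          rcases mul_eq_zero.mp h3 with h | h
          · exact h
          · exact absurd (sub_eq_zero.mp h) hμinv
        have hc0 : c ⟨0, by rw [hnd]; norm_num⟩ = 0 := by
          rw [hc1, zero_mul, add_zero] at e1
          exact e1
        intro s
        have hs : (s : ℕ) < 2 := lt_of_lt_of_eq s.2 hnd
        rcases Nat.lt_succ_iff_lt_or_eq.mp hs with h | h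
        · have : s = ⟨0, by rw [hnd]; norm_num⟩ := Fin.ext (by show (s : ℕ) = 0; omega)
          rw [this, hc0]
        · have : s = ⟨1, by rw [hnd]; norm_num⟩ := Fin.ext h
          rw [this, hc1]
  -- the common tail
  have hWi := cyc_invt T w₂ h hm.ne_zero hhw
  obtain ⟨W', hW', hc⟩ := exists_invt_compl hrp (c := (1 : F)) one_ne_zero (by rw [hT, map_one]) hWi
  obtain ⟨b, hb⟩ := hasB_cyc_restrict T w₂ h hm hdeg hhw hli rfl hWi
  have hBW : HasB (RatQ F₀) (LinearMap.restrict T hWi) := ⟨_, b, _, ratQ_compMat F₀ h hcoef _, hb⟩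
  have hpowW : ∀ {U : Submodule F V} (hU : U ∈ Module.End.invtSubmodule T), (LinearMap.restrict T hU) ^ r = 1 := by
    intro U hU
    apply LinearMap.ext
    intro w
    apply Subtype.ext
    rw [pow_restrict_apply, hT]
    rfl
  refine ⟨_, W', hWi, hW', hc, ?_, hBW, hpowW hW', ?_⟩
  · rw [finrank_eq_card_basis b, Fintype.card_fin]
    exact hdeg
  · intro ν
    have h1 := finrank_eigenspace_add hWi hW' hc ν
    have h2 := finrank_eigenspace_add hWi hW' hc ν⁻¹
    have h3 := finrank_eigenspace_inv_of_hasB F₀ hF₀ hinv _ (hpowW hWi) hBW ν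
    have h4 := hsym ν
    omega

end Cfsg.Agent.Helper7.SubR
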