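import Mathlib
import Cfsg.Agent.Helper7.SubRN

/-!
# Conjugating into the subfield subgroup: the exceptional case `k = 2`, `r = n ∈ {3, 5}`
-/

set_option autoImplicit false

namespace Cfsg.Agent.Helper7.SubR

open Module Polynomial Matrix Finset Cfsg.Agent.Helper7.POrd Cfsg.Geo

set_option maxRecDepth 100000 in
theorem comb_five : ∀ a0 a1 a2 a3 a4 : ZMod 5, a0 + a1 + a2 + a3 + a4 = 0 →
    ¬ (a0 = a1 ∧ a1 = a2 ∧ a2 = a3 ∧ a3 = a4) →
    ∃ s : ZMod 5, ∀ t : ZMod 5,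
      (univ.filter (fun j : Fin 5 => ![a0, a1, a2, a3, a4] j = s + t)).card =
        (univ.filter (fun j : Fin 5 => ![a0, a1, a2, a3, a4] j = s - t)).card := by
  decide

theorem comb_five' (a : Fin 5 → ZMod 5) (hs : ∑ j, a j = 0) (hne : ∃ j₁ j₂, a j₁ ≠ a j₂) :
    ∃ s : ZMod 5, ∀ t : ZMod 5,
      (univ.filter (fun j : Fin 5 => a j = s + t)).card = (univ.filter (fun j : Fin 5 => a j = s - t)).card := by
  have ha : a = ![a 0, a 1, a 2, a 3, a 4] := by
    funext j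
    fin_cases j <;> rfl
  rw [ha]
  apply comb_five
  · rw [Fin.sum_univ_five] at hs
    exact hs
  · rintro ⟨h1, h2, h3, h4⟩
    obtain ⟨j₁, j₂, h⟩ := hne
    apply h
    have : ∀ j, a j = a 0 := by
      intro j
      fin_cases j
      · rfl
      · exact h1.symm
      · exact (h1.trans h2).symm
      · exact (h1.trans (h2.trans h3)).symm
      · exact (h1.trans (h2.trans (h3.trans h4))).symm
    rw [this j₁, this j₂]

set_option maxRecDepth 100000 in
theorem comb_three : ∀ a0 a1 a2 : ZMod 3, a0 + a1 + a2 = 0 →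
    ¬ (a0 = a1 ∧ a1 = a2) →
    ∃ s : ZMod 3, ∀ t : ZMod 3,
      (univ.filter (fun j : Fin 3 => ![a0, a1, a2] j = s + t)).card =
        (univ.filter (fun j : Fin 3 => ![a0, a1, a2] j = s - t)).card := by
  decide

theorem comb_three' (a : Fin 3 → ZMod 3) (hs : ∑ j, a j = 0) (hne : ∃ j₁ j₂, a j₁ ≠ a j₂) :
    ∃ s : ZMod 3, ∀ t : ZMod 3,
      (univ.filter (fun j : Fin 3 => a j = s + t)).card = (univ.filter (fun j : Fin 3 => a j = s - t)).card := by
  have ha : a = ![a 0, a 1, a 2] := by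
    funext j
    fin_cases j <;> rfl
  rw [ha]
  apply comb_three
  · rw [Fin.sum_univ_three] at hs
    exact hs
  · rintro ⟨h1, h2⟩
    obtain ⟨j₁, j₂, h⟩ := hne
    apply h
    have : ∀ j, a j = a 0 := by
      intro j
      fin_cases j
      · rfl
      · exact h1.symm
      · exact (h1.trans h2).symm
    rw [this j₁, this j₂]

/-- the combinatorial fact behind the exceptional case: a non-constant family of `r` residues mod `r` with sum
zero (`r = 3, 5`) is symmetric about some centre. -/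
theorem comb_exc {r : ℕ} (h : r = 3 ∨ r = 5) (a : Fin r → ZMod r) (hs : ∑ j, a j = 0)
    (hne : ∃ j₁ j₂, a j₁ ≠ a j₂) :
    ∃ s : ZMod r, ∀ t : ZMod r,
      (univ.filter (fun j : Fin r => a j = s + t)).card = (univ.filter (fun j : Fin r => a j = s - t)).card := by
  rcases h with rfl | rfl
  · exact comb_three' a hs hne
  · exact comb_five' a hs hne

variable {F : Type*} [Field F] [Fintype F] {p : ℕ} [Fact p.Prime] [CharP F p] {r : ℕ} [Fact r.Prime]

/-- powers of an element of order `r` are compared through their exponents mod `r`. -/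
theorem pow_eq_pow_iff_zmod {ζ : F} (hζ : ∀ e : ℕ, ζ ^ e = 1 ↔ r ∣ e) (e e' : ℕ) :
    ζ ^ e = ζ ^ e' ↔ ((e : ℕ) : ZMod r) = ((e' : ℕ) : ZMod r) := by
  have hr : r.Prime := Fact.out
  have hprim : IsPrimitiveRoot ζ r :=
    (IsPrimitiveRoot.iff_def ζ r).mpr ⟨(hζ r).mpr dvd_rfl, fun l hl => (hζ l).mp hl⟩
  have h1 : ζ ^ r = 1 := (hζ r).mpr dvd_rfl
  rw [ZMod.natCast_eq_natCast_iff, pow_eq_pow_mod e h1, pow_eq_pow_mod e' h1]
  constructor
  · intro h
    exact hprim.pow_inj (Nat.mod_lt _ hr.pos) (Nat.mod_lt _ hr.pos) h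
  · intro h
    rw [show e % r = e' % r from h]

/-- **the exceptional case** `k = 2`, `r = n ∈ {3, 5}`, `(q₀ + 1)_r = r`. -/
theorem good_of_exc (hrp : r ≠ p) (hr2 : r ≠ 2) (hr35 : r = 3 ∨ r = 5) (F₀ : Subfield F) (q₀ : ℕ)
    (hF₀ : Nat.card ↥F₀ = q₀) (hq : Fintype.card F = q₀ ^ 2) (hval : padicValNat r (q₀ + 1) = 1)
    (x : Matrix.SpecialLinearGroup (Fin r) F) {z : F}
    (hx : ((x ^ r : Matrix.SpecialLinearGroup (Fin r) F) : Matrix (Fin r) (Fin r) F) = z • 1)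
    (hns : ∀ z : F, (x : Matrix (Fin r) (Fin r) F) ≠ z • (1 : Matrix (Fin r) (Fin r) F)) :
    ∃ P : Matrix.SpecialLinearGroup (Fin r) F, P⁻¹ * x * P ∈
      ((subfieldSubgroup F₀ 1).comap (Matrix.SpecialLinearGroup.toGL :
        Matrix.SpecialLinearGroup (Fin r) F →* GL (Fin r) F)) := by
  classical
  have hr : r.Prime := Fact.out
  haveI : NeZero r := ⟨hr.ne_zero⟩
  have hr3 : 3 ≤ r := by rcases hr35 with h | h <;> omega
  -- arithmetic
  have hdvd : r ∣ q₀ + 1 := dvd_of_one_le_padicValNat (by rw [hval])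
  have hq₀2 : 2 ≤ q₀ := by
    have := Nat.le_of_dvd (by omega) hdvd
    omega
  have hnd : ¬ r ∣ q₀ - 1 := by
    intro h
    have h2 : r ∣ (q₀ + 1) - (q₀ - 1) := Nat.dvd_sub hdvd h
    have h3 : (q₀ + 1) - (q₀ - 1) = 2 := by omega
    rw [h3] at h2
    have := Nat.le_of_dvd (by norm_num) h2
    omega
  have hcard : Fintype.card F - 1 = (q₀ - 1) * (q₀ + 1) := by
    rw [hq]
    obtain ⟨m, rfl⟩ : ∃ m, q₀ = m + 1 := ⟨q₀ - 1, by omega⟩
    have : (m + 1) ^ 2 = m * (m + 1 + 1) + 1 := by ring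
    rw [this]
    simp
  have hrq : r ∣ Fintype.card F - 1 := by
    rw [hcard]
    exact dvd_mul_of_dvd_right hdvd _
  have hcpos : Fintype.card F - 1 ≠ 0 := by
    rw [hcard]
    apply Nat.mul_ne_zero <;> omega
  have hnsq : ¬ r ^ 2 ∣ Fintype.card F - 1 := by
    intro h
    rw [hcard] at h
    have hcop : Nat.Coprime (r ^ 2) (q₀ - 1) :=
      Nat.Coprime.pow_left 2 ((Nat.Prime.coprime_iff_not_dvd hr).mpr hnd)
    have h2 : r ^ 2 ∣ q₀ + 1 := hcop.dvd_of_dvd_mul_left h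
    have h3 := pow_succ_padicValNat_not_dvd (p := r) (n := q₀ + 1) (by omega)
    rw [hval] at h3
    exact h3 h2
  -- `z` is an `r`-th power
  have hz0 : z ≠ 0 := by
    intro h0
    have h1 : ((x ^ r : Matrix.SpecialLinearGroup (Fin r) F) : Matrix (Fin r) (Fin r) F).det = 1 := (x ^ r).2
    haveI : Nonempty (Fin r) := ⟨⟨0, hr.pos⟩⟩
    rw [hx, h0, zero_smul, Matrix.det_zero] at h1
    exact zero_ne_one h1
  obtain ⟨b, hb⟩ := exists_pow_eq_of_val hr2 (n := r) hr.ne_zero (fun h => by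
    rw [padicValNat_self]
    exact one_le_padicValNat_of_dvd hcpos h) x hx
  have hb0 : b ≠ 0 := by
    rintro rfl
    rw [zero_pow hr.ne_zero] at hb
    exact hz0 hb.symm
  have hT := toLin'_pow_eq x hx
  obtain ⟨T, hTdef⟩ : ∃ T : Module.End F (Fin r → F),
      T = b⁻¹ • (Matrix.toLin' (x : Matrix (Fin r) (Fin r) F) : Module.End F (Fin r → F)) := ⟨_, rfl⟩
  have hT1 : T ^ r = 1 := by
    rw [hTdef, _root_.smul_pow, hT, ← hb, inv_pow, Algebra.algebraMap_eq_smul_one, smul_smul,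
      inv_mul_cancel₀ (pow_ne_zero _ hb0), one_smul]
  -- the eigenbasis
  obtain ⟨ζ, hζ0, hζ⟩ := exists_root_of_unity (F := F) (r := r) hrq
  have hprim : IsPrimitiveRoot ζ r :=
    (IsPrimitiveRoot.iff_def ζ r).mpr ⟨(hζ r).mpr dvd_rfl, fun l hl => (hζ l).mp hl⟩
  obtain ⟨m, bs, d, hd, hbs⟩ := exists_eigenbasis hrp hζ T hT1
  have hmr : r = m := by
    have h1 := finrank_eq_card_basis bs
    rw [Module.finrank_fin_fun, Fintype.card_fin] at h1
    exact h1
  subst hmr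
  -- the determinant
  have hdet : ∏ j, d j = (b⁻¹) ^ r := by
    rw [← det_of_eigenbasis bs T d hbs, hTdef, LinearMap.det_smul, Module.finrank_fin_fun, LinearMap.det_toLin',
      x.2, mul_one]
  have hbr : (b⁻¹) ^ r = 1 := by
    have h1 : (b⁻¹) ^ (r ^ 2) = 1 := by
      rw [pow_two, pow_mul, ← hdet, ← Finset.prod_pow]
      exact Finset.prod_eq_one (fun j _ => hd j)
    have h2 : (b⁻¹) ^ (Fintype.card F - 1) = 1 := FiniteField.pow_card_sub_one_eq_one _ (inv_ne_zero hb0)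
    have h3 : orderOf (b⁻¹) ∣ (r ^ 2).gcd (Fintype.card F - 1) :=
      Nat.dvd_gcd (orderOf_dvd_of_pow_eq_one h1) (orderOf_dvd_of_pow_eq_one h2)
    obtain ⟨i, hi, hgi⟩ := (Nat.dvd_prime_pow hr).mp (Nat.gcd_dvd_left (r ^ 2) (Fintype.card F - 1))
    have hi2 : i ≠ 2 := by
      rintro rfl
      apply hnsq
      rw [← hgi]
      exact Nat.gcd_dvd_right _ _
    have hi1 : i ≤ 1 := by omega
    have h4 : orderOf (b⁻¹) ∣ r := by
      rw [hgi] at h3
      exact h3.trans (by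
        calc r ^ i ∣ r ^ 1 := pow_dvd_pow r hi1
          _ = r := pow_one r)
    exact orderOf_dvd_iff_pow_eq_one.mp h4
  rw [hbr] at hdet
  -- the exponents
  choose a ha1 ha2 using fun j => hprim.eq_pow_of_pow_eq_one (hd j)
  have hsumA : ∑ j, ((a j : ℕ) : ZMod r) = 0 := by
    rw [← Nat.cast_sum, ZMod.natCast_eq_zero_iff, ← hζ, ← Finset.prod_pow_eq_pow_sum]
    rw [← hdet]
    exact Finset.prod_congr rfl (fun j _ => ha2 j)
  have hneA : ∃ j₁ j₂, ((a j₁ : ℕ) : ZMod r) ≠ ((a j₂ : ℕ) : ZMod r) := by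
    by_contra hcon
    push_neg at hcon
    obtain ⟨j₀⟩ : Nonempty (Fin r) := ⟨⟨0, hr.pos⟩⟩
    have hdj : ∀ j, d j = d j₀ := by
      intro j
      rw [← ha2 j, ← ha2 j₀, pow_eq_pow_iff_zmod hζ]
      exact hcon j j₀
    have hTs : T = d j₀ • (1 : Module.End F (Fin r → F)) := by
      apply bs.ext
      intro j
      rw [hbs j, hdj j, LinearMap.smul_apply, Module.End.one_apply]
    have hxs : (Matrix.toLin' (x : Matrix (Fin r) (Fin r) F) : Module.End F (Fin r → F)) =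
        (b * d j₀) • (1 : Module.End F (Fin r → F)) := by
      rw [mul_smul, ← hTs, hTdef, smul_smul, mul_inv_cancel₀ hb0, one_smul]
    apply hns (b * d j₀)
    have h1 := congrArg LinearMap.toMatrix' hxs
    rw [LinearMap.toMatrix'_toLin', map_smul] at h1
    rw [h1]
    congr 1
    exact LinearMap.toMatrix'_one
  obtain ⟨s, hs⟩ := comb_exc hr35 (fun j => ((a j : ℕ) : ZMod r)) hsumA hneA
  -- the shifted endomorphism
  obtain ⟨μ, hμdef⟩ : ∃ μ : F, μ = b * ζ ^ s.val := ⟨_, rfl⟩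
  have hζs0 : ζ ^ s.val ≠ 0 := pow_ne_zero _ hζ0
  have hμ0 : μ ≠ 0 := by rw [hμdef]; exact mul_ne_zero hb0 hζs0
  obtain ⟨T', hT'def⟩ : ∃ T' : Module.End F (Fin r → F),
      T' = μ⁻¹ • (Matrix.toLin' (x : Matrix (Fin r) (Fin r) F) : Module.End F (Fin r → F)) := ⟨_, rfl⟩
  have hT'T : T' = (ζ ^ s.val)⁻¹ • T := by
    rw [hT'def, hTdef, smul_smul, hμdef, mul_inv, mul_comm]
  have hT'1 : T' ^ r = 1 := by
    rw [hT'T, _root_.smul_pow, hT1, inv_pow, ← pow_mul, mul_comm, pow_mul, (hζ r).mpr dvd_rfl, one_pow, inv_one,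
      one_smul]
  have hbs' : ∀ j, T' (bs j) = ((ζ ^ s.val)⁻¹ * d j) • bs j := by
    intro j
    rw [hT'T, LinearMap.smul_apply, hbs j, smul_smul]
  have hinv : ∀ ν : F, ν ^ r = 1 → ν ^ q₀ = ν⁻¹ := by
    intro ν hν
    obtain ⟨c, hc⟩ := hdvd
    apply eq_inv_of_mul_eq_one_left
    rw [← pow_succ, hc, pow_mul, hν, one_pow]
  have hsum : ∀ ν : F, ν ^ r = 1 → ν + ν⁻¹ ∈ F₀ := by
    intro ν hν
    letI : Fintype ↥F₀ := Fintype.ofFinite _
    have hcard₀ : Fintype.card ↥F₀ = q₀ := by rw [← Nat.card_eq_fintype_card]; exact hF₀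
    let φ : F ≃ₐ[↥F₀] F := FiniteField.frobeniusAlgEquivOfAlgebraic ↥F₀ F
    have hφ : ∀ a : F, φ a = a ^ q₀ := by
      intro a
      have := congrFun (FiniteField.coe_frobeniusAlgEquivOfAlgebraic ↥F₀ F) a
      rw [hcard₀] at this
      exact this
    apply Cfsg.Agent.Helper7.SubF.mem_of_pow_q hF₀ hq₀2
    have hν' : ν⁻¹ ^ r = 1 := by rw [inv_pow, hν, inv_one]
    rw [← hφ, map_add, hφ, hφ, hinv ν hν, hinv ν⁻¹ hν', inv_inv, add_comm]
  have hsym : ∀ ν : F, finrank F ↥(Module.End.eigenspace T' ν) = finrank F ↥(Module.End.eigenspace T' ν⁻¹) := by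
    intro ν
    by_cases hν : ν ^ r = 1
    · obtain ⟨t, -, rfl⟩ := hprim.eq_pow_of_pow_eq_one hν
      rw [finrank_eigenspace_of_eigenbasis bs T' _ hbs', finrank_eigenspace_of_eigenbasis bs T' _ hbs']
      have h1 : ∀ j, (ζ ^ s.val)⁻¹ * d j = ζ ^ t ↔ ((a j : ℕ) : ZMod r) = s + ((t : ℕ) : ZMod r) := by
        intro j
        rw [inv_mul_eq_iff_eq_mul₀ hζs0, ← ha2 j, ← pow_add, pow_eq_pow_iff_zmod hζ, Nat.cast_add,
          ZMod.natCast_zmod_val]
      have h2 : ∀ j, (ζ ^ s.val)⁻¹ * d j = (ζ ^ t)⁻¹ ↔ ((a j : ℕ) : ZMod r) = s - ((t : ℕ) : ZMod r) := by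
        intro j
        rw [inv_mul_eq_iff_eq_mul₀ hζs0, eq_mul_inv_iff_mul_eq₀ (pow_ne_zero _ hζ0), ← ha2 j, ← pow_add,
          pow_eq_pow_iff_zmod hζ, Nat.cast_add, ZMod.natCast_zmod_val, eq_sub_iff_add_eq]
      simp only [h1, h2]
      exact hs _
    · have hν' : ν⁻¹ ^ r ≠ 1 := by
        rw [inv_pow]
        intro h
        exact hν (inv_eq_one.mp h)
      rw [eigenspace_eq_bot_of_pow_ne hT'1 hν, eigenspace_eq_bot_of_pow_ne hT'1 hν']
  have hB : HasB (RatQ F₀) T' := hasB_rat_of_sym hrp hr2 F₀ hF₀ hζ hinv hsum T' hT'1 hsym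
  rw [hT'def] at hB
  exact conj_into_subfield hrp hr.pos F₀ x hz0 hx μ hμ0 hB

end Cfsg.Agent.Helper7.SubR
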