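import Mathlib
import Cfsg.Agent.Helper7.SzSetup
import Cfsg.Agent.Helper7.SzFix

set_option autoImplicit false
set_option linter.unusedSectionVars false
set_option linter.unusedVariables false

/-!
Automorphisms of the Suzuki group, part A: the standard elements inside the group and the field automorphisms.
-/

namespace Cfsg.Agent.Helper7.Sz

open Matrix MulAction

variable {F : Type*} [Field F] [Fintype F] {m : ℕ}

theorem TelS_mul (h : FH F m) (a b c d : F) :
    TelS h a b * TelS h c d = TelS h (a + c) (b + d + sg m a * c) :=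
  Subtype.ext (Tel_mul h a b c d)

theorem TelS_zero (h : FH F m) : TelS h 0 0 = 1 := Subtype.ext Tel_zero

theorem TelS_injective (h : FH F m) {a b c d : F} (he : TelS h a b = TelS h c d) : a = c ∧ b = d :=
  Tel_injective (congrArg Subtype.val he)

theorem TelS_inv (h : FH F m) (a b : F) : (TelS h a b)⁻¹ = TelS h a (b + sg m a * a) :=
  Subtype.ext (Tel_inv h a b)

theorem HelS_mul (h : FH F m) (t u : Fˣ) : HelS h t * HelS h u = HelS h (t * u) :=
  Subtype.ext (Hel_mul t.ne_zero u.ne_zero)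

theorem HelS_one (h : FH F m) : HelS h 1 = 1 := Subtype.ext Hel_one

theorem HelS_injective (h : FH F m) {t u : Fˣ} (he : HelS h t = HelS h u) : t = u :=
  Units.ext (Hel_injective (ht := t.ne_zero) (hu := u.ne_zero) (congrArg Subtype.val he))

theorem HelS_inv (h : FH F m) (t : Fˣ) : (HelS h t)⁻¹ = HelS h t⁻¹ := by
  rw [inv_eq_iff_mul_eq_one, HelS_mul, mul_inv_cancel, HelS_one]

theorem HelS_pow (h : FH F m) (t : Fˣ) (k : ℕ) : HelS h t ^ k = HelS h (t ^ k) := by
  induction k with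
  | zero => rw [pow_zero, pow_zero, HelS_one]
  | succ k ih => rw [pow_succ, pow_succ, ih, HelS_mul]

theorem HelS_mul_TelS (h : FH F m) (t : Fˣ) (a b : F) :
    HelS h t * TelS h a b =
      TelS h (sg m (t : F) * a) ((t : F) * t * sg m (t : F) * b) * HelS h t :=
  Subtype.ext (Hel_mul_Tel h t.ne_zero a b)

theorem HelS_conj_TelS (h : FH F m) (t : Fˣ) (a b : F) :
    HelS h t * TelS h a b * (HelS h t)⁻¹ =
      TelS h (sg m (t : F) * a) ((t : F) * t * sg m (t : F) * b) := by
  rw [HelS_mul_TelS, mul_inv_cancel_right]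

theorem WelS_mul_WelS (h : FH F m) : WelS h * WelS h = 1 := Subtype.ext Wel_mul_Wel

theorem WelS_HelS_WelS (h : FH F m) (t : Fˣ) : WelS h * HelS h t * WelS h = HelS h t⁻¹ := by
  apply Subtype.ext
  show Wel * Hel m (t : F) t.ne_zero * Wel = Hel m ((t⁻¹ : Fˣ) : F) (t⁻¹).ne_zero
  rw [Wel_Hel_Wel]
  congr 1
  exact (Units.val_inv_eq_inv_val t).symm

theorem HelS_mul_WelS (h : FH F m) (t : Fˣ) : HelS h t * WelS h = WelS h * HelS h t⁻¹ := by
  rw [← WelS_HelS_WelS h t, ← mul_assoc, ← mul_assoc, WelS_mul_WelS, one_mul]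

/-! ### The action on the ovoid -/

theorem TelS_smul_Pinf (h : FH F m) (a b : F) :
    TelS h a b • (Pinf : Projectivization F (Fin 4 → F)) = Pinf := Tel_smul_Pinf a b

theorem TelS_smul_Ppt (h : FH F m) (a b x y : F) :
    TelS h a b • Ppt m x y = Ppt m (x + a) (y + b + sg m a * x) := Tel_smul_Ppt h a b x y

theorem TelS_smul_zero (h : FH F m) (a b : F) : TelS h a b • Ppt m (0 : F) 0 = Ppt m a b :=
  Tel_smul_zero h a b

theorem HelS_smul_Pinf (h : FH F m) (t : Fˣ) :
    HelS h t • (Pinf : Projectivization F (Fin 4 → F)) = Pinf := Hel_smul_Pinf t.ne_zero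

theorem HelS_smul_Ppt (h : FH F m) (t : Fˣ) (x y : F) :
    HelS h t • Ppt m x y = Ppt m (sg m (t : F) * x) (sg m (t : F) * ((t : F) * t) * y) :=
  Hel_smul_Ppt h t.ne_zero x y

theorem HelS_smul_zero (h : FH F m) (t : Fˣ) : HelS h t • Ppt m (0 : F) 0 = Ppt m 0 0 :=
  Hel_smul_zero h t.ne_zero

theorem WelS_smul_Pinf (h : FH F m) :
    WelS h • (Pinf : Projectivization F (Fin 4 → F)) = Ppt m 0 0 := Wel_smul_Pinf

theorem WelS_smul_zero (h : FH F m) :
    WelS h • Ppt m (0 : F) 0 = (Pinf : Projectivization F (Fin 4 → F)) := Wel_smul_Ppt_zero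

/-- The elements fixing the point at infinity. -/
theorem eq_TelS_mul_HelS (h : FH F m) {g : Cfsg.Sz F m}
    (hg : g • (Pinf : Projectivization F (Fin 4 → F)) = Pinf) :
    ∃ (a b : F) (t : Fˣ), g = TelS h a b * HelS h t := by
  obtain ⟨a, b, t, ht, e⟩ := eq_Tel_mul_Hel h g.2 hg
  exact ⟨a, b, Units.mk0 t ht, Subtype.ext e⟩

/-- The elements fixing both base points. -/
theorem eq_HelS (h : FH F m) {g : Cfsg.Sz F m}
    (hg : g • (Pinf : Projectivization F (Fin 4 → F)) = Pinf)
    (hg0 : g • Ppt m (0 : F) 0 = Ppt m 0 0) : ∃ t : Fˣ, g = HelS h t := by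
  obtain ⟨t, ht, e⟩ := eq_Hel h g.2 hg hg0
  exact ⟨Units.mk0 t ht, Subtype.ext e⟩

/-- Every element is a product of standard elements. -/
theorem eq_prodS (h : FH F m) (g : Cfsg.Sz F m) :
    (∃ (a b : F) (t : Fˣ), g = TelS h a b * HelS h t) ∨
      ∃ (a b a' b' : F) (t : Fˣ), g = TelS h a b * WelS h * (TelS h a' b' * HelS h t) := by
  rcases eq_prod h g.2 with ⟨a, b, t, ht, e⟩ | ⟨a, b, a', b', t, ht, e⟩
  · exact Or.inl ⟨a, b, Units.mk0 t ht, Subtype.ext e⟩
  · exact Or.inr ⟨a, b, a', b', Units.mk0 t ht, Subtype.ext e⟩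

/-- A torus element other than the identity fixes only the two base points. -/
theorem HelS_fix (h : FH F m) {t : Fˣ} (ht : t ≠ 1) {p : Projectivization F (Fin 4 → F)}
    (hp : p ∈ Cfsg.suzukiOvoid F m) (hfix : HelS h t • p = p) : p = Pinf ∨ p = Ppt m 0 0 := by
  rcases (mem_ovoid_iff m _).1 hp with e | ⟨x, y, e⟩
  · exact Or.inl e
  · right
    rw [e, HelS_smul_Ppt] at hfix
    obtain ⟨hx, hy⟩ := Ppt_injective m hfix
    have ht' : (t : F) ≠ 1 := fun e1 => ht (Units.ext e1)
    have hx0 : x = 0 := by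
      by_contra hx0
      have e1 : sg m (t : F) = 1 := by
        have : sg m (t : F) * x = 1 * x := by rw [hx, one_mul]
        exact mul_right_cancel₀ hx0 this
      exact ht' (h.sg_injective (by rw [e1, sg_one]))
    have hy0 : y = 0 := by
      by_contra hy0
      have e1 : sg m (t : F) * ((t : F) * t) = 1 := by
        have : sg m (t : F) * ((t : F) * t) * y = 1 * y := by rw [hy, one_mul]
        exact mul_right_cancel₀ hy0 this
      have e2 := congrArg (sg m) e1
      rw [sg_mul, sg_mul, h.sg_sg, sg_one] at e2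
      have e3 : sg m (t : F) * t = 1 := by
        apply h.sq_injective
        rw [one_mul]
        linear_combination e2
      exact ht' (h.eq_one_of_sg_mul_self e3)
    rw [e, hx0, hy0]

/-- The action on the ovoid is faithful. -/
theorem eq_one_of_forall_smul (h : FH F m) {g : Cfsg.Sz F m}
    (hg : ∀ p ∈ Cfsg.suzukiOvoid F m, g • p = p) : g = 1 := by
  apply Subtype.ext
  have h10 : Ppt m (1 : F) 0 ≠ Ppt m 0 0 := by
    intro e
    have := (Ppt_injective m e).1
    exact one_ne_zero this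
  exact eq_one_of_fix_three h g.2 (Pinf_mem m) (Ppt_mem m 0 0) (Ppt_mem m 1 0)
    (Ppt_ne_Pinf m 0 0).symm h10.symm (Ppt_ne_Pinf m 1 0).symm
    (hg _ (Pinf_mem m)) (hg _ (Ppt_mem m 0 0)) (hg _ (Ppt_mem m 1 0))

/-! ### Field automorphisms -/

theorem Tmat_map (τ : F ≃+* F) (a b : F) : (Tmat m a b).map τ = Tmat m (τ a) (τ b) := by
  ext i j
  fin_cases i <;> fin_cases j <;> simp [Tmat, sg, map_pow]

theorem Hmat_map (τ : F ≃+* F) (t : F) : (Hmat m t).map τ = Hmat m (τ t) := by
  ext i j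
  fin_cases i <;> fin_cases j <;> simp [Hmat, sg, map_pow, map_inv₀]

theorem Wmat_map (τ : F ≃+* F) : (Wmat : Matrix (Fin 4) (Fin 4) F).map τ = Wmat := by
  ext i j
  fin_cases i <;> fin_cases j <;> simp [Wmat]

theorem map_Tel (τ : F ≃+* F) (a b : F) :
    Matrix.SpecialLinearGroup.map (τ : F →+* F) (Tel m a b) = Tel m (τ a) (τ b) :=
  Subtype.ext (Tmat_map τ a b)

theorem map_Hel (τ : F ≃+* F) {t : F} (ht : t ≠ 0) :
    Matrix.SpecialLinearGroup.map (τ : F →+* F) (Hel m t ht) =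
      Hel m (τ t) ((map_ne_zero τ).mpr ht) :=
  Subtype.ext (Hmat_map τ t)

theorem map_Wel (τ : F ≃+* F) :
    Matrix.SpecialLinearGroup.map (τ : F →+* F) (Wel : Matrix.SpecialLinearGroup (Fin 4) F) = Wel :=
  Subtype.ext (Wmat_map τ)

theorem map_mem (h : FH F m) (τ : F ≃+* F) {g : Matrix.SpecialLinearGroup (Fin 4) F}
    (hg : g ∈ Cfsg.Sz F m) : Matrix.SpecialLinearGroup.map (τ : F →+* F) g ∈ Cfsg.Sz F m := by
  rcases eq_prod h hg with ⟨a, b, t, ht, e⟩ | ⟨a, b, a', b', t, ht, e⟩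
  · rw [e, map_mul, map_Tel, map_Hel]
    exact Subgroup.mul_mem _ (Tel_mem h _ _) (Hel_mem h _)
  · rw [e, map_mul, map_mul, map_mul, map_Tel, map_Tel, map_Hel, map_Wel]
    exact Subgroup.mul_mem _ (Subgroup.mul_mem _ (Tel_mem h _ _) (Wel_mem h))
      (Subgroup.mul_mem _ (Tel_mem h _ _) (Hel_mem h _))

/-- The field automorphism as an endomorphism of the group. -/
noncomputable def fieldHom (h : FH F m) (τ : F ≃+* F) : Cfsg.Sz F m →* Cfsg.Sz F m :=
  ((Matrix.SpecialLinearGroup.map (τ : F →+* F)).comp (Cfsg.Sz F m).subtype).codRestrict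
    (Cfsg.Sz F m) (fun g => map_mem h τ g.2)

theorem fieldHom_coe (h : FH F m) (τ : F ≃+* F) (g : Cfsg.Sz F m) :
    ((fieldHom h τ g : Cfsg.Sz F m) : Matrix.SpecialLinearGroup (Fin 4) F) =
      Matrix.SpecialLinearGroup.map (τ : F →+* F) g := rfl

theorem fieldHom_fieldHom (h : FH F m) (τ τ' : F ≃+* F) (g : Cfsg.Sz F m) :
    fieldHom h τ (fieldHom h τ' g) = fieldHom h (τ * τ') g := by
  apply Subtype.ext
  apply Subtype.ext
  rw [fieldHom_coe, fieldHom_coe, fieldHom_coe]
  ext i j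
  rfl

theorem fieldHom_one (h : FH F m) (g : Cfsg.Sz F m) : fieldHom h 1 g = g := by
  apply Subtype.ext
  apply Subtype.ext
  rw [fieldHom_coe]
  ext i j
  rfl

/-- The field automorphisms of the Suzuki group. -/
noncomputable def fieldAut (h : FH F m) : (F ≃+* F) →* MulAut (Cfsg.Sz F m) where
  toFun τ :=
    { toFun := fieldHom h τ
      invFun := fieldHom h τ⁻¹
      left_inv := fun g => by rw [fieldHom_fieldHom, inv_mul_cancel, fieldHom_one]
      right_inv := fun g => by rw [fieldHom_fieldHom, mul_inv_cancel, fieldHom_one]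
      map_mul' := map_mul (fieldHom h τ) }
  map_one' := by
    apply MulEquiv.ext
    intro g
    exact fieldHom_one h g
  map_mul' τ τ' := by
    apply MulEquiv.ext
    intro g
    exact (fieldHom_fieldHom h τ τ' g).symm

theorem fieldAut_TelS (h : FH F m) (τ : F ≃+* F) (a b : F) :
    fieldAut h τ (TelS h a b) = TelS h (τ a) (τ b) := by
  apply Subtype.ext
  exact map_Tel τ a b

theorem fieldAut_HelS (h : FH F m) (τ : F ≃+* F) (t : Fˣ) :
    fieldAut h τ (HelS h t) = HelS h (Units.map (τ : F →* F) t) := by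
  apply Subtype.ext
  exact map_Hel τ t.ne_zero

theorem fieldAut_WelS (h : FH F m) (τ : F ≃+* F) : fieldAut h τ (WelS h) = WelS h := by
  apply Subtype.ext
  exact map_Wel τ

end Cfsg.Agent.Helper7.Sz
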