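import Mathlib
import Cfsg.Agent.Helper7.SzAutA
import Cfsg.Agent.Helper7.SzSylow

set_option autoImplicit false
set_option linter.unusedSectionVars false
set_option linter.unusedVariables false

/-!
Automorphisms of the Suzuki group, part B: an automorphism stabilising the unipotent subgroup and the torus is
the product of a diagonal and a field automorphism.
-/

namespace Cfsg.Agent.Helper7.Sz

open Matrix MulAction

variable {F : Type*} [Field F] [Fintype F] {m : ℕ}

/-- The automorphism maps the unipotent subgroup and the torus into themselves. -/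
structure Stab (h : FH F m) (θ : Cfsg.Sz F m ≃* Cfsg.Sz F m) : Prop where
  tel : ∀ a b : F, ∃ a' b' : F, θ (TelS h a b) = TelS h a' b'
  hel : ∀ t : Fˣ, ∃ t' : Fˣ, θ (HelS h t) = HelS h t'

theorem TelS_sq (h : FH F m) (a b : F) : TelS h a b * TelS h a b = TelS h 0 (sg m a * a) := by
  rw [TelS_mul, h.add_self, h.add_self, zero_add]

theorem TelS_split (h : FH F m) (a b : F) : TelS h a b = TelS h a 0 * TelS h 0 b := by
  rw [TelS_mul, add_zero, zero_add, mul_zero, add_zero]

theorem TelS_eq_one (h : FH F m) {a b : F} (e : TelS h a b = 1) : a = 0 ∧ b = 0 := by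
  rw [← TelS_zero h] at e
  exact TelS_injective h e

section stab

variable (h : FH F m) {θ : Cfsg.Sz F m ≃* Cfsg.Sz F m} (hS : Stab h θ)

include hS in
/-- The centre of the unipotent subgroup is mapped into itself. -/
theorem Stab.center (b : F) : ∃ b' : F, θ (TelS h 0 b) = TelS h 0 b' := by
  by_cases hb : b = 0
  · refine ⟨0, ?_⟩
    rw [hb, TelS_zero, map_one]
  · obtain ⟨k, -, hk⟩ := h.exists_sg_mul_self hb
    obtain ⟨k', c', e⟩ := hS.tel k 0
    refine ⟨sg m k' * k', ?_⟩
    rw [← hk, ← TelS_sq h k 0, map_mul, e, TelS_sq]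

end stab

section trivial

variable (h : FH F m) {θ : Cfsg.Sz F m ≃* Cfsg.Sz F m} (hS : Stab h θ)
  (h1 : ∀ a : F, ∃ c : F, θ (TelS h a 0) = TelS h a c)

include hS h1 in
/-- An automorphism stabilising the unipotent subgroup and the torus, and acting trivially on the quotient
of the unipotent subgroup by its centre, fixes the elements of the stabiliser of the point at infinity. -/
theorem Stab.fix_borel : (∀ a b : F, θ (TelS h a b) = TelS h a b) ∧ ∀ t : Fˣ, θ (HelS h t) = HelS h t := by
  choose γ hγ using h1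
  choose β hβ using hS.center h
  choose φ hφ using hS.hel
  have h2 := h.two_eq_zero
  -- squares
  have e4 : ∀ a : F, β (sg m a * a) = sg m a * a := by
    intro a
    have e := congrArg θ (TelS_sq h a 0)
    rw [map_mul, hγ, TelS_sq, hβ] at e
    exact ((TelS_injective h e).2).symm
  have hβ0 : β 0 = 0 := by
    have e := hβ 0
    rw [TelS_zero, map_one] at e
    exact (TelS_eq_one h e.symm).2
  have hβid : ∀ b : F, β b = b := by
    intro b
    by_cases hb : b = 0
    · rw [hb, hβ0]
    · obtain ⟨k, -, hk⟩ := h.exists_sg_mul_self hb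
      rw [← hk, e4]
  have hT : ∀ a b : F, θ (TelS h a b) = TelS h a (γ a + b) := by
    intro a b
    rw [TelS_split h a b, map_mul, hγ, hβ, hβid, TelS_mul, add_zero, mul_zero, add_zero]
  -- the torus
  have e3 : ∀ (t : Fˣ) (a : F), sg m (t : F) * a = sg m ((φ t : Fˣ) : F) * a ∧
      γ (sg m (t : F) * a) = ((φ t : Fˣ) : F) * (φ t : Fˣ) * sg m ((φ t : Fˣ) : F) * γ a := by
    intro t a
    have e := congrArg θ (HelS_conj_TelS h t a 0)
    rw [map_mul, map_mul, map_inv, hφ, hγ, HelS_conj_TelS, mul_zero, hγ] at e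
    exact ⟨(TelS_injective h e).1.symm, (TelS_injective h e).2.symm⟩
  have hφid : ∀ t : Fˣ, φ t = t := by
    intro t
    have e := (e3 t 1).1
    rw [mul_one, mul_one] at e
    exact (Units.ext (h.sg_injective e)).symm
  -- additivity
  have e2 : ∀ a c : F, γ (a + c) = γ a + γ c := by
    intro a c
    have e := congrArg θ (TelS_mul h a 0 c 0)
    rw [map_mul, hγ, hγ, hT, TelS_mul] at e
    have e' := (TelS_injective h e).2
    linear_combination -e'
  have hγ0 : γ 0 = 0 := by
    have e := hγ 0
    rw [TelS_zero, map_one] at e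
    exact (TelS_eq_one h e.symm).2
  have hγs : ∀ s : F, s ≠ 0 → γ s = s * sg m s * γ 1 := by
    intro s hs
    obtain ⟨t, ht⟩ := h.sg_surjective s
    have ht0 : t ≠ 0 := by
      intro e0
      rw [e0, sg_zero] at ht
      exact hs ht.symm
    have e := (e3 (Units.mk0 t ht0) 1).2
    rw [hφid, mul_one, Units.val_mk0, ht] at e
    rw [e, ← ht, h.sg_sg]
    ring
  have hκ : γ 1 = 0 := by
    obtain ⟨a, c, hac⟩ := exists_comm_form h (1 : F)
    have ha0 : a ≠ 0 := by
      intro e0
      rw [e0, sg_zero, zero_mul, mul_zero, add_zero] at hac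
      exact zero_ne_one hac
    have hc0 : c ≠ 0 := by
      intro e0
      rw [e0, sg_zero, zero_mul, mul_zero, add_zero] at hac
      exact zero_ne_one hac
    have hac0 : a + c ≠ 0 := by
      intro e0
      have : a = c := h.eq_of_add_eq_zero e0
      rw [this, h.add_self] at hac
      exact zero_ne_one hac
    have e := e2 a c
    rw [hγs _ ha0, hγs _ hc0, hγs _ hac0, h.sg_add] at e
    have e' : (sg m a * c + sg m c * a) * γ 1 = 0 := by
      linear_combination e
    rw [hac, one_mul] at e'
    exact e'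
  have hγz : ∀ a : F, γ a = 0 := by
    intro a
    by_cases ha : a = 0
    · rw [ha, hγ0]
    · rw [hγs a ha, hκ, mul_zero]
  refine ⟨fun a b => ?_, fun t => ?_⟩
  · rw [hT, hγz, zero_add]
  · rw [hφ, hφid]

include hS h1 in
/-- Such an automorphism is the identity. -/
theorem Stab.eq_one : θ = 1 := by
  obtain ⟨hT, hH⟩ := hS.fix_borel h h1
  -- the image of the Weyl element maps the point at infinity to the origin
  have hW : θ (WelS h) • (Pinf : Projectivization F (Fin 4 → F)) = Ppt m 0 0 := by
    obtain ⟨s₀, hs0, hs1⟩ := exists_ne_zero_one h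
    set s : Fˣ := Units.mk0 s₀ hs0 with hs
    have hs' : s ≠ 1 := by
      intro e
      apply hs1
      have := congrArg Units.val e
      simpa [hs] using this
    have hp : θ (WelS h) • (Pinf : Projectivization F (Fin 4 → F)) ∈ Cfsg.suzukiOvoid F m :=
      smul_mem_ovoid (θ (WelS h)).2 (Pinf_mem m)
    have hfix : HelS h s • (θ (WelS h) • (Pinf : Projectivization F (Fin 4 → F))) =
        θ (WelS h) • (Pinf : Projectivization F (Fin 4 → F)) := by
      rw [← mul_smul, ← hH s, ← map_mul, HelS_mul_WelS, map_mul, hH, mul_smul, HelS_smul_Pinf]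
    rcases HelS_fix h hs' hp hfix with e | e
    · exfalso
      obtain ⟨a, b, t, e1⟩ := eq_TelS_mul_HelS h e
      have e2 : θ (WelS h) = θ (TelS h a b * HelS h t) := by rw [map_mul, hT, hH, e1]
      have e3 := θ.injective e2
      have e4 := WelS_smul_Pinf h
      rw [e3, mul_smul, HelS_smul_Pinf, TelS_smul_Pinf] at e4
      exact Ppt_ne_Pinf m 0 0 e4.symm
    · exact e
  have hC : ∀ g : Cfsg.Sz F m, θ g • (Pinf : Projectivization F (Fin 4 → F)) = g • Pinf := by
    intro g
    rcases eq_prodS h g with ⟨a, b, t, e⟩ | ⟨a, b, a', b', t, e⟩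
    · rw [e, map_mul, hT, hH]
    · rw [e, map_mul, map_mul, map_mul, hT, hT, hH, mul_smul, mul_smul, mul_smul, mul_smul,
        mul_smul, mul_smul, HelS_smul_Pinf, TelS_smul_Pinf, hW, WelS_smul_Pinf]
  apply MulEquiv.ext
  intro g
  have key : g⁻¹ * θ g = 1 := by
    apply eq_one_of_forall_smul h
    intro p hp
    obtain ⟨k, hk, e⟩ := exists_smul_Pinf_eq h hp
    set k' : Cfsg.Sz F m := ⟨k, hk⟩ with hk'
    have e' : k' • (Pinf : Projectivization F (Fin 4 → F)) = p := e
    have e1 : θ g • p = g • p := by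
      rw [← e']
      calc θ g • (k' • (Pinf : Projectivization F (Fin 4 → F)))
          = θ g • (θ k' • (Pinf : Projectivization F (Fin 4 → F))) := by rw [hC k']
        _ = θ (g * k') • (Pinf : Projectivization F (Fin 4 → F)) := by rw [map_mul, mul_smul]
        _ = (g * k') • (Pinf : Projectivization F (Fin 4 → F)) := hC _
        _ = g • (k' • (Pinf : Projectivization F (Fin 4 → F))) := mul_smul _ _ _
    rw [mul_smul, e1, inv_smul_smul]
  rw [MulAut.one_apply]
  exact (inv_mul_eq_one.mp key).symm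

end trivial

section general

variable (h : FH F m) {θ : Cfsg.Sz F m ≃* Cfsg.Sz F m} (hS : Stab h θ)

include hS in
/-- An automorphism stabilising the unipotent subgroup and the torus is the product of the inner automorphism
of an element of the torus and a field automorphism. -/
theorem Stab.normal_form :
    ∃ (t₁ : Fˣ) (τ : F ≃+* F), θ = MulAut.conj (HelS h t₁) * fieldAut h τ := by
  classical
  choose α γ hαγ using fun a => hS.tel a 0
  choose β hβ using hS.center h
  choose φ hφ using hS.hel
  have hT : ∀ a b : F, θ (TelS h a b) = TelS h (α a) (γ a + β b) := by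
    intro a b
    rw [TelS_split h a b, map_mul, hαγ, hβ, TelS_mul, add_zero, mul_zero, add_zero]
  have hadd : ∀ a c : F, α (a + c) = α a + α c := by
    intro a c
    have e := congrArg θ (TelS_mul h a 0 c 0)
    rw [map_mul, hαγ, hαγ, hT, TelS_mul] at e
    exact ((TelS_injective h e).1).symm
  have hα0 : α 0 = 0 := by
    have e := hadd 0 0
    rw [add_zero] at e
    have : α 0 + 0 = α 0 + α 0 := by rw [add_zero]; exact e
    exact (add_left_cancel this).symm
  have hinj : ∀ a : F, α a = 0 → a = 0 := by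
    intro a ha
    have e := congrArg θ (TelS_sq h a 0)
    rw [map_mul, hαγ, TelS_sq, ha, sg_zero, zero_mul, TelS_zero] at e
    have e1 : TelS h 0 (sg m a * a) = 1 := by
      apply θ.injective
      rw [← e, map_one]
    have e2 := (TelS_eq_one h e1).2
    rcases mul_eq_zero.mp e2 with e3 | e3
    · exact sg_eq_zero.mp e3
    · exact e3
  have hequiv : ∀ (t : Fˣ) (a : F), α (sg m (t : F) * a) = sg m ((φ t : Fˣ) : F) * α a := by
    intro t a
    have e := congrArg θ (HelS_conj_TelS h t a 0)
    rw [map_mul, map_mul, map_inv, hφ, hαγ, HelS_conj_TelS, mul_zero, hαγ] at e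
    exact (TelS_injective h e).1.symm
  set c := α 1 with hc
  have hc0 : c ≠ 0 := fun e => one_ne_zero (hinj 1 e)
  -- multiplicativity
  have hmul : ∀ s a : F, α (s * a) = α s / c * α a := by
    intro s a
    by_cases hs : s = 0
    · rw [hs, zero_mul, hα0, zero_div, zero_mul]
    · obtain ⟨t, ht⟩ := h.sg_surjective s
      have ht0 : t ≠ 0 := by
        intro e0
        rw [e0, sg_zero] at ht
        exact hs ht.symm
      have e1 := hequiv (Units.mk0 t ht0) a
      have e2 := hequiv (Units.mk0 t ht0) 1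
      rw [Units.val_mk0, ht] at e1 e2
      rw [mul_one] at e2
      rw [e1, e2, ← hc, mul_div_assoc, div_self hc0, mul_one]
  let τ₀ : F →+* F :=
    { toFun := fun a => α a / c
      map_one' := div_self hc0
      map_mul' := fun s a => by
        show α (s * a) / c = α s / c * (α a / c)
        rw [hmul]
        ring
      map_zero' := by
        show α 0 / c = 0
        rw [hα0, zero_div]
      map_add' := fun a b => by
        show α (a + b) / c = α a / c + α b / c
        rw [hadd]
        ring }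
  have hτbij : Function.Bijective τ₀ :=
    ⟨τ₀.injective, Finite.surjective_of_injective τ₀.injective⟩
  let τ : F ≃+* F := RingEquiv.ofBijective τ₀ hτbij
  have hτ : ∀ a : F, τ a = α a / c := fun a => rfl
  obtain ⟨t₁', ht₁'⟩ := h.sg_surjective c
  have ht₁0 : t₁' ≠ 0 := by
    intro e0
    rw [e0, sg_zero] at ht₁'
    exact hc0 ht₁'.symm
  set t₁ : Fˣ := Units.mk0 t₁' ht₁0 with ht₁
  have hsg₁ : sg m ((t₁⁻¹ : Fˣ) : F) = c⁻¹ := by
    rw [Units.val_inv_eq_inv_val, ht₁, Units.val_mk0, sg_inv, ht₁']
  refine ⟨t₁, τ, ?_⟩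
  set θ' : Cfsg.Sz F m ≃* Cfsg.Sz F m :=
    (fieldAut h τ)⁻¹ * (MulAut.conj (HelS h t₁))⁻¹ * θ with hθ'
  have hθ'T : ∀ a b : F, θ' (TelS h a b) =
      TelS h (τ.symm (c⁻¹ * α a))
        (τ.symm (((t₁⁻¹ : Fˣ) : F) * ((t₁⁻¹ : Fˣ) : F) * c⁻¹ * (γ a + β b))) := by
    intro a b
    rw [hθ', MulAut.mul_apply, MulAut.mul_apply, hT, ← map_inv, ← map_inv, MulAut.conj_apply,
      HelS_inv, HelS_conj_TelS, hsg₁]
    exact fieldAut_TelS h τ⁻¹ _ _
  have hθ'H : ∀ t : Fˣ, θ' (HelS h t) = HelS h (Units.map ((τ⁻¹ : F ≃+* F) : F →* F) (φ t)) := by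
    intro t
    rw [hθ', MulAut.mul_apply, MulAut.mul_apply, hφ, ← map_inv, ← map_inv, MulAut.conj_apply,
      HelS_inv, HelS_mul, HelS_inv, HelS_mul, inv_inv, mul_comm t₁⁻¹, inv_mul_cancel_right]
    exact fieldAut_HelS h τ⁻¹ _
  have hS' : Stab h θ' := ⟨fun a b => ⟨_, _, hθ'T a b⟩, fun t => ⟨_, hθ'H t⟩⟩
  have h1' : ∀ a : F, ∃ c' : F, θ' (TelS h a 0) = TelS h a c' := by
    intro a
    refine ⟨τ.symm (((t₁⁻¹ : Fˣ) : F) * ((t₁⁻¹ : Fˣ) : F) * c⁻¹ * (γ a + β 0)), ?_⟩
    rw [hθ'T]
    congr 1
    rw [RingEquiv.symm_apply_eq, hτ]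
    field_simp
  have e := hS'.eq_one h h1'
  rw [hθ'] at e
  have e' : θ = MulAut.conj (HelS h t₁) * fieldAut h τ * ((fieldAut h τ)⁻¹ *
      (MulAut.conj (HelS h t₁))⁻¹ * θ) := by group
  rw [e', e, mul_one]

end general

end Cfsg.Agent.Helper7.Sz
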