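import Mathlib
import Cfsg.Agent.Helper7.SzAutB
import Cfsg.Agent.Helper7.SzLie
import Cfsg.Agent.Helper7.FieldAutCard
import Cfsg.Agent.S0330
import Cfsg.Prelude.Def_KGroupFacts

set_option autoImplicit false
set_option linter.unusedSectionVars false
set_option linter.unusedVariables false

/-!
Automorphisms of the Suzuki group, part C: every automorphism is the product of an inner and a field
automorphism, and the order of the outer automorphism group.
-/

namespace Cfsg.Agent.Helper7.Sz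

open Matrix MulAction

variable {F : Type*} [Field F] [Fintype F] {m : ℕ}

theorem TelS_mem_Usub (h : FH F m) (a b : F) : TelS h a b ∈ Usub h := ⟨a, b, rfl⟩

theorem card_Usub_eq (h : FH F m) :
    Nat.card (Usub h) = 2 ^ (Nat.card (Cfsg.Sz F m)).factorization 2 := by
  rw [card_Usub h, card_Sz h, h.card, Cfsg.Agent.S0330.factorization_two, pow_mul' 2 2, pow_two]

theorem mem_stab_of_normalizes (h : FH F m) {x : Cfsg.Sz F m}
    (hx : ∀ u ∈ Usub h, x * u * x⁻¹ ∈ Usub h) :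
    x • (Pinf : Projectivization F (Fin 4 → F)) = Pinf := by
  classical
  have hx' : x ∈ Subgroup.normalizer (Usub h : Set (Cfsg.Sz F m)) := by
    -- conjugation by `x` is an injective map of the finite set `U` into itself
    set f : Usub h → Usub h := fun u => ⟨x * u * x⁻¹, hx u u.2⟩ with hf
    have hinj : Function.Injective f := by
      intro u v e
      have e1 : x * (u : Cfsg.Sz F m) * x⁻¹ = x * v * x⁻¹ := congrArg Subtype.val e
      exact Subtype.ext (mul_left_cancel (mul_right_cancel e1))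
    haveI : Finite (Usub h) := inferInstance
    have hsurj := Finite.surjective_of_injective hinj
    rw [Subgroup.mem_normalizer_iff]
    intro u
    refine ⟨hx u, fun hu => ?_⟩
    obtain ⟨v, hv⟩ := hsurj ⟨_, hu⟩
    have e1 : x * (v : Cfsg.Sz F m) * x⁻¹ = x * u * x⁻¹ := congrArg Subtype.val hv
    rw [← mul_left_cancel (mul_right_cancel e1)]
    exact v.2
  rw [(setup h).normalizer_eq, stabilizer_ωinf] at hx'
  exact hx'

/-- Up to an inner automorphism, an automorphism stabilises the unipotent subgroup and the torus. -/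
theorem exists_stab (h : FH F m) (θ : Cfsg.Sz F m ≃* Cfsg.Sz F m) :
    ∃ g : Cfsg.Sz F m, Stab h (MulAut.conj g * θ) := by
  classical
  have : Fact (Nat.Prime 2) := ⟨Nat.prime_two⟩
  set U' : Subgroup (Cfsg.Sz F m) := (Usub h).map θ.toMonoidHom with hU'
  have hcardU' : Nat.card U' = 2 ^ (Nat.card (Cfsg.Sz F m)).factorization 2 := by
    rw [← card_Usub_eq h]
    exact (Nat.card_congr (Subgroup.equivMapOfInjective (Usub h) θ.toMonoidHom θ.injective).toEquiv).symm
  let PU : Sylow 2 (Cfsg.Sz F m) := Sylow.ofCard (Usub h) (card_Usub_eq h)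
  let PU' : Sylow 2 (Cfsg.Sz F m) := Sylow.ofCard U' hcardU'
  obtain ⟨g, hg⟩ := MulAction.exists_smul_eq (Cfsg.Sz F m) PU' PU
  have hmem : ∀ x, x ∈ Usub h ↔ g⁻¹ * x * g ∈ U' := by
    intro x
    have h1 : x ∈ (PU : Subgroup (Cfsg.Sz F m)) ↔ x ∈ Usub h := Iff.rfl
    rw [← h1, ← hg, Sylow.coe_subgroup_smul, Subgroup.mem_pointwise_smul_iff_inv_smul_mem]
    show (MulAut.conj g)⁻¹ x ∈ U' ↔ _
    rw [MulAut.conj_inv_apply]
  -- first step: the unipotent subgroup
  set θ₁ : Cfsg.Sz F m ≃* Cfsg.Sz F m := MulAut.conj g * θ with hθ₁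
  have hθ₁U : ∀ u ∈ Usub h, θ₁ u ∈ Usub h := by
    intro u hu
    rw [hθ₁, MulAut.mul_apply, MulAut.conj_apply, hmem]
    have : g⁻¹ * (g * θ u * g⁻¹) * g = θ u := by group
    rw [this]
    exact ⟨u, hu, rfl⟩
  have hθ₁surj : ∀ u ∈ Usub h, ∃ v ∈ Usub h, θ₁ v = u := by
    set f : Usub h → Usub h := fun u => ⟨θ₁ u, hθ₁U u u.2⟩ with hf
    have hinj : Function.Injective f := by
      intro u v e
      have e1 : θ₁ (u : Cfsg.Sz F m) = θ₁ v := congrArg Subtype.val e
      exact Subtype.ext (θ₁.injective e1)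
    have hsurj := Finite.surjective_of_injective hinj
    intro u hu
    obtain ⟨v, hv⟩ := hsurj ⟨u, hu⟩
    exact ⟨v, v.2, congrArg Subtype.val hv⟩
  have hθ₁stab : ∀ x : Cfsg.Sz F m, x • (Pinf : Projectivization F (Fin 4 → F)) = Pinf →
      θ₁ x • (Pinf : Projectivization F (Fin 4 → F)) = Pinf := by
    intro x hx
    apply mem_stab_of_normalizes h
    intro u hu
    obtain ⟨v, hv, rfl⟩ := hθ₁surj u hu
    rw [← map_inv, ← map_mul, ← map_mul]
    apply hθ₁U
    apply (setup h).conj x _ v hv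
    rw [stabilizer_ωinf]
    exact hx
  -- second step: the torus
  obtain ⟨t₀, ht₀⟩ := IsCyclic.exists_monoid_generator (α := Fˣ)
  obtain ⟨a, b, t', hx⟩ := eq_TelS_mul_HelS h (hθ₁stab (HelS h t₀) (HelS_smul_Pinf h t₀))
  have ht'1 : (t' : F) ≠ 1 := by
    intro e
    have e0 : t' = 1 := Units.ext e
    rw [e0, HelS_one, mul_one] at hx
    have e1 : θ₁ (HelS h t₀) ^ 4 = 1 := by
      rw [hx]
      apply Subtype.ext
      exact Tel_pow_four h a b
    rw [← map_pow, HelS_pow] at e1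
    have e2 : HelS h (t₀ ^ 4) = 1 := by
      apply θ₁.injective
      rw [e1, map_one]
    rw [← HelS_one h] at e2
    have e3 : t₀ ^ 4 = 1 := HelS_injective h e2
    obtain ⟨s₀, hs0, hs1⟩ := exists_ne_zero_one h
    obtain ⟨k, hk⟩ := (Submonoid.mem_powers_iff _ _).mp (ht₀ (Units.mk0 s₀ hs0))
    have e4 : (Units.mk0 s₀ hs0) ^ 4 = 1 := by
      rw [← hk, ← pow_mul, mul_comm, pow_mul, e3, one_pow]
    have e5 : s₀ * s₀ * (s₀ * s₀) = 1 := by
      have := congrArg Units.val e4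
      rw [Units.val_pow_eq_pow_val, Units.val_mk0, Units.val_one] at this
      rw [← this]
      ring
    exact hs1 (pow_four_eq_one h e5)
  obtain ⟨x₀, y₀, hfix⟩ := exists_fixed_affine h a b t'.ne_zero ht'1
  set u₀ : Cfsg.Sz F m := TelS h x₀ y₀ with hu₀
  refine ⟨u₀⁻¹ * g, ?_⟩
  have hθ₂ : ∀ x, (MulAut.conj (u₀⁻¹ * g) * θ) x = u₀⁻¹ * θ₁ x * u₀ := by
    intro x
    rw [hθ₁, MulAut.mul_apply, MulAut.mul_apply, MulAut.conj_apply, MulAut.conj_apply]
    group
  constructor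
  · intro a' b'
    have h1 := hθ₁U _ (TelS_mem_Usub h a' b')
    have h2 : u₀⁻¹ * θ₁ (TelS h a' b') * u₀ ∈ Usub h :=
      mul_mem (mul_mem (inv_mem (TelS_mem_Usub h x₀ y₀)) h1) (TelS_mem_Usub h x₀ y₀)
    obtain ⟨a'', b'', e⟩ := h2
    exact ⟨a'', b'', by rw [hθ₂, e]⟩
  · have h0 : ∃ t'' : Fˣ, u₀⁻¹ * θ₁ (HelS h t₀) * u₀ = HelS h t'' := by
      apply eq_HelS h
      · rw [mul_smul, mul_smul, hu₀, TelS_smul_Pinf, hθ₁stab _ (HelS_smul_Pinf h t₀),
          inv_smul_eq_iff, TelS_smul_Pinf]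
      · rw [mul_smul, mul_smul, hu₀, TelS_smul_zero, inv_smul_eq_iff, TelS_smul_zero, hx]
        exact hfix
    obtain ⟨t'', ht''⟩ := h0
    intro t
    obtain ⟨k, hk⟩ := (Submonoid.mem_powers_iff _ _).mp (ht₀ t)
    refine ⟨t'' ^ k, ?_⟩
    rw [← hk, ← HelS_pow, map_pow, hθ₂, ht'', HelS_pow]

/-- Every automorphism of the Suzuki group is the product of an inner and a field automorphism. -/
theorem exists_inner_field (h : FH F m) (θ : Cfsg.Sz F m ≃* Cfsg.Sz F m) :
    ∃ (g : Cfsg.Sz F m) (τ : F ≃+* F), θ = MulAut.conj g * fieldAut h τ := by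
  obtain ⟨g, hS⟩ := exists_stab h θ
  obtain ⟨t₁, τ, e⟩ := hS.normal_form h
  refine ⟨g⁻¹ * HelS h t₁, τ, ?_⟩
  rw [map_mul, map_inv, mul_assoc, ← e]
  group

/-- A field automorphism that is inner is trivial. -/
theorem fieldAut_eq_conj (h : FH F m) {τ : F ≃+* F} {g : Cfsg.Sz F m}
    (e : fieldAut h τ = MulAut.conj g) : τ = 1 := by
  have hT : ∀ a b : F, g * TelS h a b * g⁻¹ = TelS h (τ a) (τ b) := by
    intro a b
    rw [← fieldAut_TelS, e, MulAut.conj_apply]
  have hg : g • (Pinf : Projectivization F (Fin 4 → F)) = Pinf := by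
    apply mem_stab_of_normalizes h
    rintro u ⟨a, b, rfl⟩
    rw [hT]
    exact TelS_mem_Usub h _ _
  obtain ⟨a₀, b₀, t, rfl⟩ := eq_TelS_mul_HelS h hg
  have key : ∀ a : F, sg m (t : F) * a = τ a := by
    intro a
    have e1 := hT a 0
    have e0 : TelS h a₀ b₀ * HelS h t * TelS h a 0 * (TelS h a₀ b₀ * HelS h t)⁻¹ =
        TelS h a₀ b₀ * (HelS h t * TelS h a 0 * (HelS h t)⁻¹) * (TelS h a₀ b₀)⁻¹ := by group
    rw [e0, HelS_conj_TelS, TelS_inv, TelS_mul, TelS_mul] at e1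
    have e2 := (TelS_injective h e1).1
    rw [← e2]
    linear_combination (-1 : F) * h.add_self a₀
  have e1 : sg m (t : F) = 1 := by
    have := key 1
    rw [mul_one, map_one] at this
    exact this
  apply RingEquiv.ext
  intro a
  rw [← key a, e1, one_mul]
  rfl

/-- The order of the outer automorphism group of the Suzuki group. -/
theorem card_out (h : FH F m) : Nat.card (Cfsg.Out (Cfsg.Sz F m)) = 2 * m + 1 := by
  haveI := h.charP
  haveI : Fact (Nat.Prime 2) := ⟨Nat.prime_two⟩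
  set Φ : (F ≃+* F) →* Cfsg.Out (Cfsg.Sz F m) :=
    (QuotientGroup.mk' (Cfsg.Inn (Cfsg.Sz F m))).comp (fieldAut h) with hΦ
  have hinj : Function.Injective Φ := by
    rw [injective_iff_map_eq_one]
    intro τ hτ
    have h1 : fieldAut h τ ∈ Cfsg.Inn (Cfsg.Sz F m) := (QuotientGroup.eq_one_iff _).mp hτ
    obtain ⟨g, hg⟩ := h1
    exact fieldAut_eq_conj h hg.symm
  have hsurj : Function.Surjective Φ := by
    intro x
    obtain ⟨θ, rfl⟩ := QuotientGroup.mk'_surjective (Cfsg.Inn (Cfsg.Sz F m)) x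
    obtain ⟨g, τ, e⟩ := exists_inner_field h θ
    refine ⟨τ, ?_⟩
    rw [e, map_mul]
    have h1 : QuotientGroup.mk' (Cfsg.Inn (Cfsg.Sz F m)) (MulAut.conj g) = 1 :=
      (QuotientGroup.eq_one_iff _).mpr ⟨g, rfl⟩
    rw [h1, one_mul]
    rfl
  rw [← Nat.card_eq_of_bijective Φ ⟨hinj, hsurj⟩]
  exact Cfsg.Agent.Helper7.FieldAutCard.card_ringAut 2 (2 * m + 1) h.card

end Cfsg.Agent.Helper7.Sz
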