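import Mathlib
import Cfsg.Agent.Helper7.SzAutC

set_option autoImplicit false
set_option linter.unusedSectionVars false
set_option linter.unusedVariables false

/-!
The order of the outer automorphism group of the Suzuki group defined through the polarity.
-/

namespace Cfsg.Agent.Helper7.Sz

/-- Isomorphic groups have isomorphic outer automorphism groups. -/
theorem card_out_congr {G G' : Type*} [Group G] [Group G'] (e : G ≃* G') :
    Nat.card (Cfsg.Out G) = Nat.card (Cfsg.Out G') := by
  have hmap : (Cfsg.Inn G).map (MulAut.congr e).toMonoidHom = Cfsg.Inn G' := by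
    ext φ
    constructor
    · rintro ⟨_, ⟨g, rfl⟩, rfl⟩
      refine ⟨e g, ?_⟩
      apply MulEquiv.ext
      intro x
      show e g * x * (e g)⁻¹ = e (g * e.symm x * g⁻¹)
      rw [map_mul, map_mul, map_inv, MulEquiv.apply_symm_apply]
    · rintro ⟨g', rfl⟩
      refine ⟨MulAut.conj (e.symm g'), ⟨_, rfl⟩, ?_⟩
      apply MulEquiv.ext
      intro x
      show e (e.symm g' * e.symm x * (e.symm g')⁻¹) = g' * x * g'⁻¹
      rw [map_mul, map_mul, map_inv, MulEquiv.apply_symm_apply, MulEquiv.apply_symm_apply]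
  exact Nat.card_congr (QuotientGroup.congr (Cfsg.Inn G) (Cfsg.Inn G') (MulAut.congr e) hmap).toEquiv

variable {F : Type*} [Field F] [Fintype F] {m : ℕ}

/-- The statement of S2126. -/
theorem card_out_lie (hm : 1 ≤ m) (hF : Fintype.card F = 2 ^ (2 * m + 1)) :
    Nat.card (Cfsg.Out ↥(Cfsg.Lie.Sz F (2 ^ (m + 1)))) = 2 * m + 1 := by
  have h : FH F m := ⟨hm, hF⟩
  rw [← card_out_congr (Cfsg.Agent.Helper7.SzLie.lieEquiv h)]
  exact card_out h

end Cfsg.Agent.Helper7.Sz
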