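import Mathlib
import Cfsg.Agent.Helper7.SzField

set_option autoImplicit false
set_option linter.unusedSectionVars false
set_option linter.unusedVariables false

/-!
A biadditive map on a field with `2 ^ (2 m + 1)` elements, `m ≥ 2`, that is invariant under the maps
`(b, a) ↦ (v σ(v) b, v a)` is trivial.
-/

namespace Cfsg.Agent.Helper7.SzMul

open Cfsg.Agent.Helper7.Sz Polynomial

variable {F : Type*} [Field F] [Fintype F] {m : ℕ}

/-- Some `a ≠ 0, 1` has `N(a) + N(a) N(1 + a) + N(1 + a) ≠ 0`, where `N(x) = x σ(x)`. -/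
theorem exists_norm_ne (h : FH F m) (hm : 2 ≤ m) :
    ∃ a : F, a ≠ 0 ∧ a ≠ 1 ∧
      a * sg m a + a * sg m a * ((1 + a) * sg m (1 + a)) + (1 + a) * sg m (1 + a) ≠ 0 := by
  classical
  obtain ⟨θ, hθ⟩ : ∃ θ : ℕ, θ = 2 ^ (m + 1) := ⟨_, rfl⟩
  obtain ⟨P, hP⟩ : ∃ P : F[X], P = X * X ^ θ + X * X ^ θ * ((1 + X) * (1 + X) ^ θ) +
      (1 + X) * (1 + X) ^ θ := ⟨_, rfl⟩
  have hθpos : 0 < θ := by rw [hθ]; positivity
  have heval : ∀ a : F, P.eval a =
      a * sg m a + a * sg m a * ((1 + a) * sg m (1 + a)) + (1 + a) * sg m (1 + a) := by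
    intro a
    rw [hP]
    simp only [eval_add, eval_mul, eval_pow, eval_X, eval_one]
    unfold sg
    rw [hθ]
  have hP0 : P ≠ 0 := by
    intro h0
    have := heval 0
    rw [h0, eval_zero] at this
    simp [sg_zero, sg_one] at this
  have hdeg : P.natDegree ≤ 2 * (1 + θ) := by
    rw [hP]
    compute_degree
    omega
  by_contra hcon
  push_neg at hcon
  have hsub : (Finset.univ.erase (0 : F)).erase 1 ⊆ P.roots.toFinset := by
    intro a ha
    rw [Finset.mem_erase, Finset.mem_erase] at ha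
    rw [Multiset.mem_toFinset, mem_roots hP0, IsRoot, heval]
    exact hcon a ha.2.1 ha.1
  have h1 := Finset.card_le_card hsub
  have h2 : P.roots.toFinset.card ≤ 2 * (1 + θ) :=
    le_trans (Multiset.toFinset_card_le _) (le_trans (card_roots' P) hdeg)
  have h3 : Fintype.card F - 2 ≤ ((Finset.univ.erase (0 : F)).erase 1).card := by
    have e1 : (Finset.univ.erase (0 : F)).card = Fintype.card F - 1 := by
      rw [Finset.card_erase_of_mem (Finset.mem_univ _), Finset.card_univ]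
    have e2 := Finset.pred_card_le_card_erase (s := Finset.univ.erase (0 : F)) (a := 1)
    rw [e1] at e2
    omega
  have hcard := h.card
  have hpow : 2 ^ (2 * m + 1) = 2 ^ (m + 1) * 2 ^ m := by rw [← pow_add]; congr 1; omega
  have hm4 : 4 ≤ 2 ^ m := by
    calc 4 = 2 ^ 2 := by norm_num
      _ ≤ 2 ^ m := Nat.pow_le_pow_right (by norm_num) hm
  have hθ8 : 8 ≤ θ := by
    rw [hθ]
    calc 8 = 2 ^ 3 := by norm_num
      _ ≤ 2 ^ (m + 1) := Nat.pow_le_pow_right (by norm_num) (by omega)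
  rw [hpow, ← hθ] at hcard
  have : 4 * θ ≤ Fintype.card F := by rw [hcard]; nlinarith
  omega

/-- A biadditive map invariant under the maps `(b, a) ↦ (v σ(v) b, v a)` is trivial. -/
theorem biadd_eq_one_of_suzuki (h : FH F m) (hm : 2 ≤ m) {E : Type*} [Group E] (g : F → F → E)
    (hl : ∀ b b' a, g (b + b') a = g b a * g b' a)
    (hr : ∀ b a a', g b (a + a') = g b a * g b a')
    (hs : ∀ v : F, v ≠ 0 → ∀ b a, g (v * sg m v * b) (v * a) = g b a) : ∀ b a, g b a = 1 := by
  have hzr : ∀ b, g b 0 = 1 := by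
    intro b
    have := hr b 0 0
    rw [add_zero] at this
    exact (mul_eq_left.mp this.symm)
  have hzl : ∀ a, g 0 a = 1 := by
    intro a
    have := hl 0 0 a
    rw [add_zero] at this
    exact (mul_eq_left.mp this.symm)
  -- reduction to the second variable `1`
  have hred : ∀ (a : F), a ≠ 0 → ∀ b, g b a = g ((a * sg m a)⁻¹ * b) 1 := by
    intro a ha b
    have hN : a * sg m a ≠ 0 := mul_ne_zero ha (sg_ne_zero ha)
    have := hs a ha ((a * sg m a)⁻¹ * b) 1
    rw [mul_one, ← mul_assoc, mul_inv_cancel₀ hN, one_mul] at this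
    exact this
  have hsq : ∀ x, g x 1 * g x 1 = 1 := by
    intro x
    rw [← hl, h.add_self, hzl]
  obtain ⟨a, ha0, ha1, hc⟩ := exists_norm_ne h hm
  have ha1' : 1 + a ≠ 0 := by
    intro e
    apply ha1
    have := h.eq_of_add_eq_zero e
    exact this.symm
  have hN : a * sg m a ≠ 0 := mul_ne_zero ha0 (sg_ne_zero ha0)
  have hN' : (1 + a) * sg m (1 + a) ≠ 0 := mul_ne_zero ha1' (sg_ne_zero ha1')
  -- the additive relation
  have hrel : ∀ b, g (((1 + a) * sg m (1 + a))⁻¹ * b + b + (a * sg m a)⁻¹ * b) 1 = 1 := by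
    intro b
    have e1 := hr b 1 a
    rw [hred (1 + a) ha1' b, hred a ha0 b] at e1
    rw [add_assoc, hl, e1, ← hl b, hsq]
  have hone : ∀ x, g x 1 = 1 := by
    intro x
    obtain ⟨c, hcdef⟩ : ∃ c : F, c = ((1 + a) * sg m (1 + a))⁻¹ + 1 + (a * sg m a)⁻¹ := ⟨_, rfl⟩
    have hc0 : c ≠ 0 := by
      intro e
      apply hc
      have e2 : a * sg m a + a * sg m a * ((1 + a) * sg m (1 + a)) + (1 + a) * sg m (1 + a) =
          (a * sg m a) * ((1 + a) * sg m (1 + a)) * c := by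
        rw [hcdef, mul_add, mul_add, mul_one, mul_assoc (a * sg m a), mul_inv_cancel₀ hN', mul_one,
          mul_comm (a * sg m a) ((1 + a) * sg m (1 + a)), mul_assoc ((1 + a) * sg m (1 + a)),
          mul_inv_cancel₀ hN, mul_one]
      rw [e2, e, mul_zero]
    have := hrel (c⁻¹ * x)
    have e3 : ((1 + a) * sg m (1 + a))⁻¹ * (c⁻¹ * x) + c⁻¹ * x + (a * sg m a)⁻¹ * (c⁻¹ * x) = x := by
      have : ((1 + a) * sg m (1 + a))⁻¹ * (c⁻¹ * x) + c⁻¹ * x + (a * sg m a)⁻¹ * (c⁻¹ * x) =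
          c * (c⁻¹ * x) := by rw [hcdef]; ring
      rw [this, ← mul_assoc, mul_inv_cancel₀ hc0, one_mul]
    rwa [e3] at this
  intro b a'
  by_cases ha' : a' = 0
  · rw [ha', hzr]
  · rw [hred a' ha', hone]

end Cfsg.Agent.Helper7.SzMul
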