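import Mathlib
import Cfsg.Agent.Helper7.SzMulB
import Cfsg.Agent.Helper7.SzMulC
import Cfsg.Agent.Helper7.SzAutB

set_option autoImplicit false
set_option linter.unusedSectionVars false
set_option linter.unusedVariables false

/-!
Central extensions of the Suzuki group over a field with `2 ^ (2 m + 1)` elements, `m ≥ 2`: lifts of the
centre of the unipotent subgroup commute with the lifts of the unipotent subgroup, and the elements of the
kernel that lie in the commutator subgroup of the preimage of the unipotent subgroup have odd order.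
-/

namespace Cfsg.Agent.Helper7.SzMul

open Cfsg.Agent.Helper7.Sz Cfsg.Agent.Helper7.Sc

variable {F : Type*} [Field F] [Fintype F] {m : ℕ} (h : FH F m) {Γ : Type*} [Group Γ]
  (C : CExt Γ (Cfsg.Sz F m))

theorem TelS_zero_mul (b b' : F) : TelS h 0 b * TelS h 0 b' = TelS h 0 (b + b') := by
  rw [TelS_mul, add_zero, mul_zero, add_zero]

theorem TelS_zero_comm (b a c : F) : TelS h 0 b * TelS h a c = TelS h a c * TelS h 0 b := by
  rw [TelS_mul, TelS_mul, sg_zero, zero_mul, mul_zero, add_zero, add_zero, add_zero, zero_add,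
    add_comm b c]

theorem TelS_add_split (a a' : F) :
    TelS h (a + a') 0 = TelS h a 0 * TelS h a' 0 * TelS h 0 (sg m a * a') := by
  rw [TelS_mul, TelS_mul, mul_zero, add_zero, add_zero, add_zero, zero_add, h.add_self]

include h in
theorem exists_unit_sg (v : F) (hv : v ≠ 0) : ∃ t : Fˣ, sg m (t : F) = v := by
  obtain ⟨t, ht⟩ := h.sg_surjective v
  have ht0 : t ≠ 0 := by
    rintro rfl
    rw [sg_zero] at ht
    exact hv ht.symm
  exact ⟨Units.mk0 t ht0, ht⟩

include h in
theorem card_gt_four : ∃ s : Finset F, 4 < s.card := by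
  refine ⟨Finset.univ, ?_⟩
  rw [Finset.card_univ]
  have := h.card_ge
  omega

/-- Lifts of elements of the centre of the unipotent subgroup commute. -/
theorem LC_zero_zero (b b' : F) : C.LC (TelS h 0 b) (TelS h 0 b') := by
  rw [C.LC_iff]
  refine biadd_eq_one_of_scale (card_gt_four h) (fun b b' => C.cm (TelS h 0 b) (TelS h 0 b'))
    ?_ ?_ ?_ ?_ b b'
  · intro x x' y
    show C.cm (TelS h 0 (x + x')) (TelS h 0 y) = _
    rw [← TelS_zero_mul, C.cm_mul_left_of_comm (TelS_zero_comm h y 0 x')]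
  · intro x y y'
    show C.cm (TelS h 0 x) (TelS h 0 (y + y')) = _
    rw [← TelS_zero_mul, C.cm_mul_right_of_comm (TelS_zero_comm h x 0 y')]
  · intro x
    exact C.cm_self _
  · intro v hv x y
    obtain ⟨k, hk0, hk⟩ := h.exists_sg_mul_self hv
    obtain ⟨t, ht⟩ := exists_unit_sg h k hk0
    have hκ : (t : F) * t * sg m (t : F) = v := by rw [← hk, ← ht, h.sg_sg]
    have e1 := C.kap_cm (HelS h t) (TelS h 0 x) (TelS h 0 y)
    rw [HelS_conj_TelS, HelS_conj_TelS, mul_zero, hκ] at e1
    rw [C.kap_ker (C.ψ_cm_of_comm (TelS_zero_comm h x 0 y))] at e1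
    exact e1.symm

variable (hm : 2 ≤ m)

include hm in
/-- Lifts of elements of the centre of the unipotent subgroup commute with the lifts of the `T(a, 0)`. -/
theorem LC_zero_left (b a : F) : C.LC (TelS h 0 b) (TelS h a 0) := by
  rw [C.LC_iff]
  refine biadd_eq_one_of_suzuki h hm (fun b a => C.cm (TelS h 0 b) (TelS h a 0)) ?_ ?_ ?_ b a
  · intro x x' y
    show C.cm (TelS h 0 (x + x')) (TelS h y 0) = _
    rw [← TelS_zero_mul, C.cm_mul_left_of_comm (TelS_zero_comm h x' y 0).symm]
  · intro x y y'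
    show C.cm (TelS h 0 x) (TelS h (y + y') 0) = _
    rw [TelS_add_split, C.cm_mul_right_of_LC (LC_zero_zero h C x _),
      C.cm_mul_right_of_comm (TelS_zero_comm h x y' 0)]
  · intro v hv x y
    obtain ⟨t, ht⟩ := exists_unit_sg h v hv
    have hκ : (t : F) * t * sg m (t : F) = v * sg m v := by rw [← ht, h.sg_sg, mul_comm]
    have e1 := C.kap_cm (HelS h t) (TelS h 0 x) (TelS h y 0)
    rw [HelS_conj_TelS, HelS_conj_TelS, mul_zero, mul_zero, hκ, ht] at e1
    rw [C.kap_ker (C.ψ_cm_of_comm (TelS_zero_comm h x y 0))] at e1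
    exact e1.symm

include hm in
/-- Lifts of elements of the centre of the unipotent subgroup commute with the lifts of the unipotent
subgroup. -/
theorem LC_zero_all (b a c : F) : C.LC (TelS h 0 b) (TelS h a c) := by
  have h1 : TelS h a 0 ∈ C.LCen (TelS h 0 b) := (LC_zero_left h C hm b a).symm
  have h2 : TelS h 0 c ∈ C.LCen (TelS h 0 b) := (LC_zero_zero h C b c).symm
  have h3 := mul_mem h1 h2
  rw [← TelS_split] at h3
  exact (C.mem_LCen.mp h3).symm

include hm in
theorem cm_TelS (a b a' b' : F) :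
    C.cm (TelS h a b) (TelS h a' b') = C.cm (TelS h a 0) (TelS h a' 0) := by
  rw [TelS_split h a' b', C.cm_mul_right_of_LC (LC_zero_all h C hm b' a b).symm, TelS_split h a b,
    C.cm_mul_left_of_LC (LC_zero_all h C hm b a' 0)]

theorem ψ_cm_TelS (a a' : F) : ∃ x : F, C.ψ (C.cm (TelS h a 0) (TelS h a' 0)) = TelS h 0 x := by
  have e : a + a' + a + a' = 0 := by
    have : a + a' + a + a' = (a + a) + (a' + a') := by ring
    rw [this, h.add_self, h.add_self, add_zero]
  rw [C.ψ_cm, TelS_inv, TelS_inv, TelS_mul, TelS_mul, TelS_mul, e]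
  exact ⟨_, rfl⟩

theorem cm_TelS_comm (x y x' y' : F) :
    C.cm (TelS h x 0) (TelS h y 0) * C.cm (TelS h x' 0) (TelS h y' 0) =
      C.cm (TelS h x' 0) (TelS h y' 0) * C.cm (TelS h x 0) (TelS h y 0) := by
  obtain ⟨u, hu⟩ := ψ_cm_TelS h C x y
  obtain ⟨u', hu'⟩ := ψ_cm_TelS h C x' y'
  exact LC_zero_zero h C u u' _ _ hu hu'

include hm in
theorem cm_TelS_add_right (x y y' : F) :
    C.cm (TelS h x 0) (TelS h (y + y') 0) =
      C.cm (TelS h x 0) (TelS h y 0) * C.cm (TelS h x 0) (TelS h y' 0) := by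
  obtain ⟨u, hu⟩ := ψ_cm_TelS h C x y'
  rw [TelS_add_split, C.cm_mul_right_of_LC (LC_zero_all h C hm _ x 0).symm, C.cm_mul_right,
    CExt.LC.kap_eq C (CExt.LC.symm C (LC_zero_all h C hm u y 0)) hu]

include hm in
theorem cm_TelS_add_left (x x' y : F) :
    C.cm (TelS h (x + x') 0) (TelS h y 0) =
      C.cm (TelS h x 0) (TelS h y 0) * C.cm (TelS h x' 0) (TelS h y 0) := by
  rw [← C.cm_inv (TelS h y 0), cm_TelS_add_right h C hm, mul_inv_rev, C.cm_inv, C.cm_inv]
  exact cm_TelS_comm h C _ _ _ _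

theorem kap_cm_TelS (t : Fˣ) (x y : F) :
    C.kap (HelS h t) (C.cm (TelS h x 0) (TelS h y 0)) =
      C.cm (TelS h (sg m (t : F) * x) 0) (TelS h (sg m (t : F) * y) 0) := by
  rw [C.kap_cm, HelS_conj_TelS, HelS_conj_TelS, mul_zero]

include hm in
theorem commutator_le_closure :
    ⁅(Usub h).comap C.ψ, (Usub h).comap C.ψ⁆ ≤
      Subgroup.closure {e | ∃ x y : F, e = C.cm (TelS h x 0) (TelS h y 0)} := by
  rw [Subgroup.commutator_le]
  intro g₁ hg₁ g₂ hg₂
  obtain ⟨a, b, e₁⟩ := hg₁
  obtain ⟨a', b', e₂⟩ := hg₂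
  apply Subgroup.subset_closure
  refine ⟨a, a', ?_⟩
  rw [← cm_TelS h C hm a b a' b', C.cm_eq e₁ e₂, commutatorElement_def]

include hm in
/-- The elements of the kernel that lie in the commutator subgroup of the preimage of the unipotent
subgroup are killed by `q - 1`. -/
theorem pow_eq_one_of_mem_commutator (z : Γ) (hz : C.ψ z = 1)
    (hz' : z ∈ ⁅(Usub h).comap C.ψ, (Usub h).comap C.ψ⁆) : z ^ (Fintype.card F - 1) = 1 := by
  have hK : 4 < Fintype.card F := by
    have := h.card_ge
    omega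
  refine pow_eq_one_of_norm hK (fun t => C.kap (HelS h t)) (fun t => sg m (t : F)) ?_ ?_
    (fun a a' => C.cm (TelS h a 0) (TelS h a' 0)) (cm_TelS_comm h C) (cm_TelS_add_left h C hm)
    (cm_TelS_add_right h C hm) (fun x => C.cm_self _) (kap_cm_TelS h C) z
    (commutator_le_closure h C hm hz') (fun t => C.kap_ker hz _)
  · intro t u
    rw [Units.val_mul, sg_mul]
  · exact exists_unit_sg h

end Cfsg.Agent.Helper7.SzMul
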