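import Mathlib
import Cfsg.Agent.Helper7.SzMulD
import Cfsg.Agent.Helper7.SzLie
import Cfsg.Agent.Helper5.SchurAbs
import Cfsg.Agent.Helper3.Schur
import Cfsg.Agent.S0325
import Cfsg.Agent.S0331

set_option autoImplicit false
set_option linter.unusedSectionVars false
set_option linter.unusedVariables false

/-!
The Schur multiplier of the Suzuki group over a field with `2 ^ (2 m + 1)` elements, `m ≥ 2`, is trivial.
-/

namespace Cfsg.Agent.Helper7.SzMul

open Cfsg.Agent.Helper7.Sz Cfsg.Agent.Helper7.Sc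
open scoped commutatorElement

variable {F : Type*} [Field F] [Fintype F] {m : ℕ}

/-- The Suzuki group is perfect. -/
theorem commutator_Sz (h : FH F m) : commutator (Cfsg.Sz F m) = ⊤ := by
  have hsim : IsSimpleGroup (Cfsg.Sz F m) := Cfsg.Agent.S0325.result h.hm h.card
  rcases hsim.eq_bot_or_eq_top_of_normal (commutator (Cfsg.Sz F m)) inferInstance with hb | ht
  · exfalso
    obtain ⟨c, hc0, hc1⟩ := exists_ne_zero_one h
    have hmem : ⁅TelS h 1 0, TelS h c 0⁆ ∈ commutator (Cfsg.Sz F m) := by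
      rw [commutator_def]
      exact Subgroup.commutator_mem_commutator (Subgroup.mem_top _) (Subgroup.mem_top _)
    rw [hb, Subgroup.mem_bot, commutatorElement_eq_one_iff_mul_comm, TelS_mul, TelS_mul] at hmem
    have e := (TelS_injective h hmem).2
    rw [sg_one, one_mul, mul_one, add_zero, zero_add, zero_add] at e
    rcases h.sg_eq_self e.symm with h0 | h1
    · exact hc0 h0
    · exact hc1 h1
  · exact ht

theorem index_Usub (h : FH F m) :
    (Usub h).index = (Fintype.card F - 1) * (Fintype.card F ^ 2 + 1) := by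
  have h1 := (Usub h).index_mul_card
  rw [card_Usub h, card_Sz h] at h1
  have hq : 0 < Fintype.card F * Fintype.card F := by
    have := h.card_ge
    positivity
  apply Nat.eq_of_mul_eq_mul_right hq
  rw [h1]
  ring

theorem odd_facts (h : FH F m) :
    ¬ 2 ∣ (Fintype.card F - 1) * (Fintype.card F ^ 2 + 1) * (Fintype.card F - 1) := by
  obtain ⟨k, hk, hk1⟩ : ∃ k, Fintype.card F = 2 * k ∧ 1 ≤ k := by
    refine ⟨2 ^ (2 * m), ?_, Nat.one_le_two_pow⟩
    rw [h.card, pow_succ, mul_comm]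
  have h1 : ¬ 2 ∣ Fintype.card F - 1 := by omega
  have h2 : ¬ 2 ∣ Fintype.card F ^ 2 + 1 := by
    have : Fintype.card F ^ 2 = 2 * (k * Fintype.card F) := by rw [pow_two, hk]; ring
    omega
  intro hd
  rcases (Nat.Prime.dvd_mul Nat.prime_two).mp hd with hd | hd
  · rcases (Nat.Prime.dvd_mul Nat.prime_two).mp hd with hd | hd
    · exact h1 hd
    · exact h2 hd
  · exact h1 hd

/-- Every finite stem extension of the Suzuki group is an isomorphism. -/
theorem stem_ker_eq_bot (h : FH F m) (hm : 2 ≤ m) {Γ : Type*} [Group Γ] [Finite Γ]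
    (σ : Γ →* Cfsg.Sz F m) (hσ : Cfsg.IsStemExtension σ) : σ.ker = ⊥ := by
  obtain ⟨hs, hK, hK'⟩ := hσ
  rw [eq_bot_iff]
  intro z hz
  rw [Subgroup.mem_bot]
  have hzc := hK hz
  have hzd := hK' hz
  let C : CExt Γ (Cfsg.Sz F m) := ⟨σ, hs, hK, commutator_Sz h⟩
  have hz1 : σ z = 1 := MonoidHom.mem_ker.mp hz
  -- the `2`-part
  have h1 := pow_index_mem_commutator ((Usub h).comap σ) z hzc hzd
  have h2 := pow_eq_one_of_mem_commutator h C hm (z ^ ((Usub h).comap σ).index)
    (by show σ _ = 1; rw [map_pow, hz1, one_pow]) h1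
  rw [Subgroup.index_comap_of_surjective _ hs, index_Usub h, ← pow_mul] at h2
  have hd2 := orderOf_dvd_of_pow_eq_one h2
  by_contra hne
  have hne' : orderOf z ≠ 1 := fun e => hne (orderOf_eq_one_iff.mp e)
  obtain ⟨p, hp, hpd⟩ := Nat.exists_prime_and_dvd hne'
  have hp2 : p ≠ 2 := by
    rintro rfl
    exact odd_facts h (hpd.trans hd2)
  have : Fact p.Prime := ⟨hp⟩
  obtain ⟨P⟩ : Nonempty (Sylow p (Cfsg.Sz F m)) := inferInstance
  have hcyc : IsCyclic P := Cfsg.Agent.S0331.result h.hm h.card hp2 P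
  obtain ⟨g, hg⟩ := IsCyclic.exists_generator (α := P)
  have hP : (P : Subgroup (Cfsg.Sz F m)) = Subgroup.zpowers (g : Cfsg.Sz F m) := by
    ext x
    constructor
    · intro hx
      obtain ⟨n, hn⟩ := Subgroup.mem_zpowers_iff.mp (hg ⟨x, hx⟩)
      rw [Subgroup.mem_zpowers_iff]
      refine ⟨n, ?_⟩
      have := congrArg Subtype.val hn
      simpa using this
    · intro hx
      obtain ⟨n, hn⟩ := Subgroup.mem_zpowers_iff.mp hx
      rw [← hn]
      exact zpow_mem g.2 n
  have h3 := Cfsg.Agent.Helper5.SchurAbs.pow_index_eq_one_of_comm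
    ((Subgroup.zpowers (g : Cfsg.Sz F m)).comap σ)
    (Cfsg.Agent.Helper5.SchurAbs.comm_comap_zpowers σ hs hK _) z hzc hzd
  rw [Subgroup.index_comap_of_surjective _ hs, ← hP] at h3
  exact P.not_dvd_index (hpd.trans (orderOf_dvd_of_pow_eq_one h3))

/-- The Schur multiplier of the Suzuki group is trivial. -/
theorem schur_Sz {F : Type*} [Field F] [Fintype F] {m : ℕ} (hm : 2 ≤ m)
    (hF : Fintype.card F = 2 ^ (2 * m + 1)) :
    Cfsg.HasCyclicSchurMultiplier ↥(Cfsg.Lie.Sz F (2 ^ (m + 1))) 1 := by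
  have h : FH F m := ⟨by omega, hF⟩
  apply Cfsg.Agent.Helper3.hasCyclicSchurMultiplier_one_of
  intro Γ _ _ σ hσ
  obtain ⟨hs, hK, hK'⟩ := hσ
  let σ' : Γ →* Cfsg.Sz F m := (Cfsg.Agent.Helper7.SzLie.lieEquiv h).symm.toMonoidHom.comp σ
  have hker : σ'.ker = σ.ker := by
    ext x
    simp only [MonoidHom.mem_ker]
    show (Cfsg.Agent.Helper7.SzLie.lieEquiv h).symm (σ x) = 1 ↔ σ x = 1
    exact (Cfsg.Agent.Helper7.SzLie.lieEquiv h).symm.map_eq_one_iff
  have hstem : Cfsg.IsStemExtension σ' := by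
    refine ⟨?_, ?_, ?_⟩
    · exact (Cfsg.Agent.Helper7.SzLie.lieEquiv h).symm.surjective.comp hs
    · rw [hker]; exact hK
    · rw [hker]; exact hK'
  rw [← hker]
  exact stem_ker_eq_bot h hm σ' hstem

end Cfsg.Agent.Helper7.SzMul
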