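import Mathlib
import Cfsg.Agent.Helper7.ChevTwO1

set_option autoImplicit false
set_option linter.unusedSectionVars false
set_option linter.unusedVariables false

/-!
Twisted groups: the centraliser of an element `x` of `H¹` through the sharp form of the Bruhat decomposition.
If `g = u₁ h₁ n_w u` (with `u₁ ∈ U¹`, `h₁ ∈ H¹`, `u ∈ (U_w⁻)¹`) commutes with `x`, then `u₁`, `n_w` and `u` commute with `x`.
-/

namespace Cfsg.Agent.Helper7.Chev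

open Cfsg Cfsg.Lie Matrix DoubleCoset
open scoped Pointwise

variable {D : ChevalleyDatum} {K : Type*} [Field K]

section main

variable (hG : Good2 D) (hT : T0 D) (h3 : (tabOf D).T3) (h4 : (tabOf D).T4 60) (h5 : (tabOf D).T5)
  (h6 : (tabOf D).T6) (h7 : (tabOf D).T7) (h8 : (tabOf D).T8) (h9 : (tabOf D).T9)
  {ρ ρ' σ σ' : ℕ → ℕ} {ε : ℕ → ℤ} (h18 : T18 D ρ ρ' σ σ' ε) {cls : List (ℕ × ℕ)}
  (h19 : T19 D ρ σ cls) (h20 : (tabOf D).T20 ρ cls) (f : K ≃+* K)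

/-- `H¹` normalizes `(U_w⁻)¹`. -/
theorem tc_twH_conj_twM {x u : GL D.Idx K} (hx : x ∈ twH hG h3 h4 h19 f) (w : List ℕ)
    (hu : u ∈ twM hG h18 f w) : x * u * x⁻¹ ∈ twM hG h18 f w := by
  rw [mem_twH] at hx
  obtain ⟨huU, hufix, huV⟩ := (mem_twM hG h18 f).mp hu
  have hxfix : twAut h18 f x = x := twGroup_le_twFix hG h3 h4 h18 h19 f hx.2
  rw [mem_twM]
  refine ⟨?_, ?_, ?_⟩
  · exact (Subgroup.mem_set_normalizer_iff.mp (diagonalSubgroup_le_normalizer_pos hG hx.1) u).mp huU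
  · rw [map_mul, map_mul, map_inv, hxfix, hufix]
  · set n : GL D.Idx K := nWordGL hG w with hn
    have hnN : n ∈ D.monomialSubgroup K := nWordGL_mem hG _
    have hd : n * x * n⁻¹ ∈ D.diagonalSubgroup K :=
      conj_mem_diagonal (monomialSubgroup_le_normalizer hG hnN) hx.1
    have e : n * (x * u * x⁻¹) * n⁻¹ = (n * x * n⁻¹) * (n * u * n⁻¹) * (n * x * n⁻¹)⁻¹ := by group
    rw [e]
    exact (Subgroup.mem_set_normalizer_iff.mp (diagonalSubgroup_le_normalizer_neg hG hd) _).mp huV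

variable {W : List (List (ℕ × ℕ))} (hW : TwWList D ρ cls W)

include hT h5 h6 h7 h8 h9 h18 h20 hW in
/-- The centraliser of an element of `H¹`, in the terms of the sharp form of the Bruhat decomposition. -/
theorem tc_cent_normal_form {x g : GL D.Idx K} (hx : x ∈ twH hG h3 h4 h19 f)
    (hg : g ∈ twGroup hG h3 h4 h19 f) (hc : x * g = g * x) :
    ∃ L ∈ W, ∃ u₁ ∈ twU hG h3 h4 h19 f, ∃ h₁ ∈ twH hG h3 h4 h19 f,
      ∃ u ∈ twM hG h18 f (L.flatMap (clsWord ρ)),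
        g = u₁ * h₁ * nWordGL hG (L.flatMap (clsWord ρ)) * u ∧ x * u₁ = u₁ * x ∧
          x * nWordGL hG (L.flatMap (clsWord ρ)) = nWordGL hG (L.flatMap (clsWord ρ)) * x ∧
          x * u = u * x := by
  obtain ⟨L, hLW, b, hb, u, hu, rfl⟩ :=
    exists_normal_form_tw hG hT h3 h4 h5 h6 h7 h8 h9 h18 h19 h20 f hW hg
  have hL := (hW.ok L hLW).1
  set n : GL D.Idx K := nWordGL hG (L.flatMap (clsWord ρ)) with hn
  have hnN : n ∈ D.monomialSubgroup K := nWordGL_mem hG _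
  have hnG : n ∈ twGroup hG h3 h4 h19 f := nWordGL_flatMap_mem hG h3 h4 h19 f hL
  -- `k = x n x⁻¹ n⁻¹ ∈ H¹`
  have hk : x * (n * x⁻¹ * n⁻¹) ∈ twH hG h3 h4 h19 f :=
    mul_mem hx (conj_mem_twH hG h3 h4 h19 f hnN hnG (inv_mem hx))
  have hxB : x ∈ twB hG h3 h4 h19 f := twH_le_twB hG h3 h4 h19 f hx
  have hb' : x * b * x⁻¹ * (x * (n * x⁻¹ * n⁻¹)) ∈ twB hG h3 h4 h19 f :=
    mul_mem (mul_mem (mul_mem hxB hb) (inv_mem hxB)) (twH_le_twB hG h3 h4 h19 f hk)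
  have hu' : x * u * x⁻¹ ∈ twM hG h18 f (L.flatMap (clsWord ρ)) :=
    tc_twH_conj_twM hG h3 h4 h18 h19 f hx _ hu
  have e : x * b * x⁻¹ * (x * (n * x⁻¹ * n⁻¹)) * n * (x * u * x⁻¹) = b * n * u := by
    calc x * b * x⁻¹ * (x * (n * x⁻¹ * n⁻¹)) * n * (x * u * x⁻¹)
        = x * (b * n * u) * x⁻¹ := by group
      _ = b * n * u * x * x⁻¹ := by rw [hc]
      _ = b * n * u := by group
  obtain ⟨-, hbb, huu⟩ := normal_form_unique_tw hG hT h3 h4 h5 h6 h7 h8 h9 h18 h19 h20 f hW hLW hLW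
    hb' hb hu' hu e
  obtain ⟨u₁, hu₁, h₁, hh₁, rfl⟩ := twB_decomp hG h3 h4 h19 f hb
  have hxu : x * u = u * x := by
    calc x * u = (x * u * x⁻¹) * x := by group
      _ = u * x := by rw [huu]
  -- `h₁` commutes with `x`
  have hcomm : x * h₁ = h₁ * x := by
    rw [mem_twH] at hx hh₁
    exact diagonalSubgroup_comm hG.toGood1 x hx.1 h₁ hh₁.1
  -- `u₁⁻¹ x u₁ x⁻¹ ∈ U¹ ∩ H¹`
  have hxu₁ : x * u₁ * x⁻¹ ∈ twU hG h3 h4 h19 f :=
    (Subgroup.mem_set_normalizer_iff.mp (twH_le_normalizer hG h3 h4 h19 f hx) u₁).mp hu₁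
  have e2 : u₁⁻¹ * (x * u₁ * x⁻¹) = h₁ * (x * (n * x⁻¹ * n⁻¹))⁻¹ * h₁⁻¹ := by
    have hh : x * h₁ * x⁻¹ = h₁ := by rw [hcomm]; group
    have e3 : x * (u₁ * h₁) * x⁻¹ = (x * u₁ * x⁻¹) * h₁ := by
      calc x * (u₁ * h₁) * x⁻¹ = (x * u₁ * x⁻¹) * (x * h₁ * x⁻¹) := by group
        _ = _ := by rw [hh]
    rw [e3] at hbb
    calc u₁⁻¹ * (x * u₁ * x⁻¹)
        = u₁⁻¹ * ((x * u₁ * x⁻¹) * h₁ * (x * (n * x⁻¹ * n⁻¹))) * (x * (n * x⁻¹ * n⁻¹))⁻¹ * h₁⁻¹ := by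
          group
      _ = u₁⁻¹ * (u₁ * h₁) * (x * (n * x⁻¹ * n⁻¹))⁻¹ * h₁⁻¹ := by rw [hbb]
      _ = _ := by group
  have hmemU : u₁⁻¹ * (x * u₁ * x⁻¹) ∈ D.posUnipotent K := by
    rw [mem_twU] at hu₁ hxu₁
    exact mul_mem (inv_mem hu₁.1) hxu₁.1
  have hmemH : u₁⁻¹ * (x * u₁ * x⁻¹) ∈ D.diagonalSubgroup K := by
    rw [e2]
    rw [mem_twH] at hh₁ hk
    exact mul_mem (mul_mem hh₁.1 (inv_mem hk.1)) (inv_mem hh₁.1)
  have h1 : u₁⁻¹ * (x * u₁ * x⁻¹) = 1 := by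
    have : u₁⁻¹ * (x * u₁ * x⁻¹) ∈ D.posUnipotent K ⊓ D.diagonalSubgroup K := ⟨hmemU, hmemH⟩
    rwa [posUnipotent_inf_diagonal hG hT, Subgroup.mem_bot] at this
  have hxu₁' : x * u₁ = u₁ * x := by
    have h2 : x * u₁ * x⁻¹ = u₁ := (inv_mul_eq_one.mp h1).symm
    calc x * u₁ = (x * u₁ * x⁻¹) * x := by group
      _ = u₁ * x := by rw [h2]
  have hk1 : x * (n * x⁻¹ * n⁻¹) = 1 := by
    rw [h1] at e2
    have h4' : (x * (n * x⁻¹ * n⁻¹))⁻¹ = 1 := by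
      have : (x * (n * x⁻¹ * n⁻¹))⁻¹ = h₁⁻¹ * (h₁ * (x * (n * x⁻¹ * n⁻¹))⁻¹ * h₁⁻¹) * h₁ := by group
      rw [this, ← e2]; group
    exact inv_eq_one.mp h4'
  have hxn : x * n = n * x := by
    calc x * n = (x * (n * x⁻¹ * n⁻¹)) * n * x := by group
      _ = n * x := by rw [hk1, one_mul]
  exact ⟨L, hLW, u₁, hu₁, h₁, hh₁, u, hu, rfl, hxu₁', hxn, hxu⟩

end main

end Cfsg.Agent.Helper7.Chev
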