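import Mathlib
import Cfsg.Agent.Helper7.TcA
import Cfsg.Agent.Helper7.ChevTwWD4All
import Cfsg.Agent.CtRecT.TAmbH
import Cfsg.Agent.CtRecT.TAmbDefs

set_option autoImplicit false
set_option linter.unusedSectionVars false
set_option linter.unusedVariables false

/-!
`³D₄(q)`: the torus elements `x(μ, l) = h_a(μ) h_b(l)`, their characters on the root elements of `D₄`, the
criterion for an element `n_w` to commute with `x(μ, l)`, and the centraliser of `x(μ, l)` in the terms of the sharp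
form of the Bruhat decomposition.
-/

namespace Cfsg.Agent.Helper7.Tc

open Cfsg Cfsg.Lie Cfsg.Agent.Helper7.Chev Cfsg.Agent.CtRecT

variable {K : Type*} [Field K]

/-- the list of the twelve words of the Weyl group of `³D₄` is certified. -/
theorem tc_wlist : TwWList chevD4 (fun i => [2, 1, 3, 0].getD i 0) clsD4 twL_D4 :=
  twWList_of_cert good2_D4 T19_D4 twCert_D4

/-- the torus element `h_a(μ) h_b(l)`. -/
noncomputable def tcX (σ : K →+* K) (μ l : K) : GL chevD4.Idx K := tbHa σ μ * tbHb l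

/-- the character of `h_a(μ) h_b(l)` on the root `s` of `D₄`. -/
noncomputable def tcChi (σ : K →+* K) (μ l : K) (s : ℕ) : K :=
  μ ^ (tabOf chevD4).pairing 18 s * ((σ μ) ^ (tabOf chevD4).pairing 13 s *
    ((σ (σ μ)) ^ (tabOf chevD4).pairing 12 s * l ^ (tabOf chevD4).pairing 14 s))

variable (σ : K →+* K) {μ l : K} (hμ : μ ≠ 0) (hl : l ≠ 0)

include hμ hl in
theorem tc_x_conj (s : Fin 24) (v : K) :
    tcX σ μ l * xd s v * (tcX σ μ l)⁻¹ = xd s (tcChi σ μ l s.val * v) := by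
  have e : tcX σ μ l * xd s v * (tcX σ μ l)⁻¹ =
      tbHa σ μ * (tbHb l * xd s v * (tbHb l)⁻¹) * (tbHa σ μ)⁻¹ := by
    unfold tcX; group
  rw [e, tbd_hb_conj s _ rfl hl, tbd_ha_conj σ s _ _ _ rfl rfl rfl hμ]
  congr 1
  unfold tcChi
  ring

theorem tc_x_mem_diag : tcX σ μ l ∈ chevD4.diagonalSubgroup K :=
  mul_mem (tbHa_mem_diag σ μ) (tbHb_mem_diag l)

include hμ hl in
theorem tc_chi_ne_zero (s : ℕ) : tcChi σ μ l s ≠ 0 := by
  unfold tcChi
  have e1 : σ μ ≠ 0 := (map_ne_zero σ).mpr hμ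
  have e2 : σ (σ μ) ≠ 0 := (map_ne_zero σ).mpr e1
  exact mul_ne_zero (zpow_ne_zero _ hμ) (mul_ne_zero (zpow_ne_zero _ e1)
    (mul_ne_zero (zpow_ne_zero _ e2) (zpow_ne_zero _ hl)))

include hμ hl in
/-- if `n_w` commutes with `x(μ, l)` then the character of `x(μ, l)` is invariant under `w`. -/
theorem tc_weyl_crit {w : List ℕ} (hw : ∀ i ∈ w, i < chevD4.rank)
    (hc : tcX σ μ l * nWordGL good2_D4 w = nWordGL good2_D4 w * tcX σ μ l) (s : Fin 24) :
    tcChi σ μ l ((tabOf chevD4).reflWord w s.val) = tcChi σ μ l s.val := by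
  set n : GL chevD4.Idx K := nWordGL good2_D4 w with hn
  set x : GL chevD4.Idx K := tcX σ μ l with hx
  have hs' : (tabOf chevD4).reflWord w s.val < 24 := reflWord_lt good2_D4 hw (d4_lt s.val s.isLt)
  set s' : Fin 24 := ⟨(tabOf chevD4).reflWord w s.val, hs'⟩ with hs'def
  set η : K := (((tabOf chevD4).etaWord w s.val : ℤ) : K) with hη
  have hconj : n * xd s (1 : K) * n⁻¹ = xd s' (η * 1) := by
    have := nWordGL_conj (F := K) good2_D4 hw (d4_lt s.val s.isLt) (1 : K)
    unfold xd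
    exact this
  have hηη : η * η = 1 := etaWord_cast_mul_self (F := K) good2_D4 hw (d4_lt s.val s.isLt)
  have hη0 : η ≠ 0 := left_ne_zero_of_mul_eq_one hηη
  have hconj2 : ∀ v : K, n * xd s v * n⁻¹ = xd s' (η * v) := by
    intro v
    have := nWordGL_conj (F := K) good2_D4 hw (d4_lt s.val s.isLt) v
    unfold xd
    exact this
  -- two computations of `x (n x_s(1) n⁻¹) x⁻¹`
  have e1 : x * (n * xd s (1 : K) * n⁻¹) * x⁻¹ = xd s' (tcChi σ μ l s'.val * (η * 1)) := by
    rw [hconj, tc_x_conj σ hμ hl]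
  have e2 : x * (n * xd s (1 : K) * n⁻¹) * x⁻¹ = xd s' (η * (tcChi σ μ l s.val * 1)) := by
    have e3 : x * (n * xd s (1 : K) * n⁻¹) * x⁻¹ = n * (x * xd s (1 : K) * x⁻¹) * n⁻¹ := by
      calc x * (n * xd s (1 : K) * n⁻¹) * x⁻¹ = (x * n) * xd s (1 : K) * (x * n)⁻¹ := by group
        _ = (n * x) * xd s (1 : K) * (n * x)⁻¹ := by rw [hc]
        _ = _ := by group
    rw [e3, tc_x_conj σ hμ hl, hconj2]
  have e4 := tah_xd_inj s' (e1.symm.trans e2)
  have e5 : tcChi σ μ l s'.val * η = η * tcChi σ μ l s.val := by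
    simpa only [mul_one] using e4
  have e6 : tcChi σ μ l s'.val = tcChi σ μ l s.val := by
    have : η * tcChi σ μ l s'.val = η * tcChi σ μ l s.val := by rw [← e5]; ring
    exact mul_left_cancel₀ hη0 this
  exact e6

section cent

variable (f : K ≃+* K)

/-- the centraliser of an element of `H¹` of `³D₄`, in the terms of the sharp form of the Bruhat decomposition. -/
theorem tc_cent_D4 {x g : GL chevD4.Idx K} (hx : x ∈ tgH f) (hg : g ∈ tgG f) (hc : x * g = g * x) :
    ∃ L ∈ twL_D4, ∃ u₁ ∈ tgU f, ∃ h₁ ∈ tgH f,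
      ∃ u ∈ twM good2_D4 T18_D4a f (L.flatMap (clsWord (fun i => [2, 1, 3, 0].getD i 0))),
        g = u₁ * h₁ * nWordGL good2_D4 (L.flatMap (clsWord (fun i => [2, 1, 3, 0].getD i 0))) * u ∧
          x * u₁ = u₁ * x ∧
          x * nWordGL good2_D4 (L.flatMap (clsWord (fun i => [2, 1, 3, 0].getD i 0))) =
            nWordGL good2_D4 (L.flatMap (clsWord (fun i => [2, 1, 3, 0].getD i 0))) * x ∧
          x * u = u * x :=
  tc_cent_normal_form good2_D4 T0_D4 T3_D4 T4_D4 T5_D4 T6_D4 T7_D4 T8_D4 T9_D4 T18_D4a T19_D4 T20_D4 f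
    tc_wlist hx hg hc

end cent

end Cfsg.Agent.Helper7.Tc
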