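import Mathlib
import Cfsg.Agent.Helper7.TcB
import Cfsg.Agent.Helper7.D4InvJ
import Cfsg.Agent.CtRecT.TAmbX

set_option autoImplicit false
set_option linter.unusedSectionVars false
set_option linter.unusedVariables false

/-!
`³D₄(q)`: the homomorphism `φ_b : SL₂(K) → D₄(K)` of the fixed simple root `b = α₂`: its values, its injectivity,
the conjugation of its image by a torus element, and the membership of `φ_b(A)` in `³D₄(q)` for `A` with
entries in the fixed field.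
-/

namespace Cfsg.Agent.Helper7.Tc

open Cfsg Cfsg.Lie Cfsg.Agent.Helper7.Chev Cfsg.Agent.CtRecT Matrix

variable {K : Type*} [Field K]

/-! ### `SL₂` -/

theorem tc_sl2_dec (g : Matrix.SpecialLinearGroup (Fin 2) K) (hc : g.val 1 0 ≠ 0) :
    g = upperSL ((g.val 0 0 - 1) / g.val 1 0) * lowerSL (g.val 1 0) *
      upperSL ((g.val 1 1 - 1) / g.val 1 0) := by
  have hdet := det_two_eq g
  apply Subtype.ext
  rw [Matrix.SpecialLinearGroup.coe_mul, Matrix.SpecialLinearGroup.coe_mul]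
  change g.val = (!![1, (g.val 0 0 - 1) / g.val 1 0; 0, 1] : Matrix (Fin 2) (Fin 2) K) *
      !![1, 0; g.val 1 0, 1] * !![1, (g.val 1 1 - 1) / g.val 1 0; 0, 1]
  ext i j
  fin_cases i <;> fin_cases j <;> simp [Matrix.mul_apply, Fin.sum_univ_two] <;>
    (try field_simp) <;>
    (try (first | ring1 | linear_combination hdet | linear_combination (-1 : K) * hdet))

theorem tc_sl2_dec' (g : Matrix.SpecialLinearGroup (Fin 2) K) (hb : g.val 0 1 ≠ 0) :
    g = lowerSL ((g.val 1 1 - 1) / g.val 0 1) * upperSL (g.val 0 1) *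
      lowerSL ((g.val 0 0 - 1) / g.val 0 1) := by
  have hdet := det_two_eq g
  apply Subtype.ext
  rw [Matrix.SpecialLinearGroup.coe_mul, Matrix.SpecialLinearGroup.coe_mul]
  change g.val = (!![1, 0; (g.val 1 1 - 1) / g.val 0 1, 1] : Matrix (Fin 2) (Fin 2) K) *
      !![1, g.val 0 1; 0, 1] * !![1, 0; (g.val 0 0 - 1) / g.val 0 1, 1]
  ext i j
  fin_cases i <;> fin_cases j <;> simp [Matrix.mul_apply, Fin.sum_univ_two] <;>
    (try field_simp) <;>
    (try (first | ring1 | linear_combination hdet | linear_combination (-1 : K) * hdet))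

theorem tc_sl2_tri (g : Matrix.SpecialLinearGroup (Fin 2) K) (hc : g.val 1 0 = 0) :
    ∃ h : g.val 0 0 ≠ 0, g = diagSL (g.val 0 0) h * upperSL ((g.val 0 0)⁻¹ * g.val 0 1) := by
  have hdet := det_two_eq g
  rw [hc, mul_zero, sub_zero] at hdet
  have h0 : g.val 0 0 ≠ 0 := left_ne_zero_of_mul_eq_one hdet
  refine ⟨h0, ?_⟩
  have h11 : g.val 1 1 = (g.val 0 0)⁻¹ := eq_inv_of_mul_eq_one_right hdet
  apply Subtype.ext
  rw [Matrix.SpecialLinearGroup.coe_mul]
  change g.val = (!![g.val 0 0, 0; 0, (g.val 0 0)⁻¹] : Matrix (Fin 2) (Fin 2) K) *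
      !![1, (g.val 0 0)⁻¹ * g.val 0 1; 0, 1]
  ext i j
  fin_cases i <;> fin_cases j <;> simp [Matrix.mul_apply, Fin.sum_univ_two, hc, h11, h0]

/-- conjugation by `diag(c, 1)` on `SL₂`. -/
noncomputable def tcDc (c : K) (hc : c ≠ 0) :
    Matrix.SpecialLinearGroup (Fin 2) K →* Matrix.SpecialLinearGroup (Fin 2) K where
  toFun A := ⟨!![A.val 0 0, c * A.val 0 1; c⁻¹ * A.val 1 0, A.val 1 1], by
    rw [Matrix.det_fin_two_of]
    have := det_two_eq A
    field_simp
    linear_combination this⟩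
  map_one' := by
    apply Subtype.ext
    ext i j
    fin_cases i <;> fin_cases j <;> simp
  map_mul' A B := by
    have hAB : (A * B).val = A.val * B.val := Matrix.SpecialLinearGroup.coe_mul A B
    apply Subtype.ext
    change (!![(A * B).val 0 0, c * (A * B).val 0 1; c⁻¹ * (A * B).val 1 0, (A * B).val 1 1] :
        Matrix (Fin 2) (Fin 2) K) =
      (!![A.val 0 0, c * A.val 0 1; c⁻¹ * A.val 1 0, A.val 1 1] : Matrix (Fin 2) (Fin 2) K) *
        !![B.val 0 0, c * B.val 0 1; c⁻¹ * B.val 1 0, B.val 1 1]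
    rw [hAB]
    ext i j
    fin_cases i <;> fin_cases j <;>
      simp [Matrix.mul_apply, Fin.sum_univ_two] <;> field_simp

theorem tcDc_val (c : K) (hc : c ≠ 0) (A : Matrix.SpecialLinearGroup (Fin 2) K) :
    (tcDc c hc A).val = !![A.val 0 0, c * A.val 0 1; c⁻¹ * A.val 1 0, A.val 1 1] := rfl

theorem tcDc_upper (c : K) (hc : c ≠ 0) (t : K) : tcDc c hc (upperSL t) = upperSL (c * t) := by
  apply Subtype.ext
  rw [tcDc_val]
  change _ = (!![1, c * t; 0, 1] : Matrix (Fin 2) (Fin 2) K)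
  ext i j
  fin_cases i <;> fin_cases j <;> simp [upperSL]

theorem tcDc_lower (c : K) (hc : c ≠ 0) (t : K) : tcDc c hc (lowerSL t) = lowerSL (c⁻¹ * t) := by
  apply Subtype.ext
  rw [tcDc_val]
  change _ = (!![1, 0; c⁻¹ * t, 1] : Matrix (Fin 2) (Fin 2) K)
  ext i j
  fin_cases i <;> fin_cases j <;> simp [lowerSL]

theorem tcDc_one (A : Matrix.SpecialLinearGroup (Fin 2) K) : tcDc (1 : K) one_ne_zero A = A := by
  apply Subtype.ext
  rw [tcDc_val]
  ext i j
  fin_cases i <;> fin_cases j <;> simp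

/-! ### `φ_b` -/

variable (f : K ≃+* K)

theorem tc_phi_upper (t : K) : tgPhiB f (upperSL t) = xd 14 t := tax_up_b f t

theorem tc_phi_lower (t : K) : tgPhiB f (lowerSL t) = xd 9 t := tax_lo_b f t

theorem tc_phi_diag {t : K} (ht : t ≠ 0) : tgPhiB f (diagSL t ht) = tbHb t :=
  (tbHb_eq_clsHom f ht).symm

/-- an element of `GL` acting on `x_{±b}` by the characters `c^{±1}` acts on `φ_b(SL₂)` as `diag(c, 1)`. -/
theorem tc_conj_phi (h : GL chevD4.Idx K) (c : K) (hc : c ≠ 0)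
    (h14 : ∀ t : K, h * xd 14 t * h⁻¹ = xd 14 (c * t))
    (h9 : ∀ t : K, h * xd 9 t * h⁻¹ = xd 9 (c⁻¹ * t)) (A : Matrix.SpecialLinearGroup (Fin 2) K) :
    h * tgPhiB f A * h⁻¹ = tgPhiB f (tcDc c hc A) := by
  have key : ((MulAut.conj h).toMonoidHom.comp (tgPhiB f)) = (tgPhiB f).comp (tcDc c hc) := by
    apply MonoidHom.eq_of_eqOn_dense (sl2_generated (F := K))
    rintro g (⟨t, rfl⟩ | ⟨t, rfl⟩)
    · change h * tgPhiB f (upperSL t) * h⁻¹ = tgPhiB f (tcDc c hc (upperSL t))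
      rw [tcDc_upper, tc_phi_upper, tc_phi_upper, h14]
    · change h * tgPhiB f (lowerSL t) * h⁻¹ = tgPhiB f (tcDc c hc (lowerSL t))
      rw [tcDc_lower, tc_phi_lower, tc_phi_lower, h9]
  exact DFunLike.congr_fun key A

/-- `φ_b(A)` in the Borel subgroup forces `A` upper triangular. -/
theorem tc_phi_borel {A : Matrix.SpecialLinearGroup (Fin 2) K}
    (h : tgPhiB f A ∈ chevD4.borelSubgroup K) : A.val 1 0 = 0 := by
  by_contra hc
  obtain ⟨x, y, e⟩ : ∃ x y : K, A = upperSL x * lowerSL (A.val 1 0) * upperSL y :=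
    ⟨_, _, tc_sl2_dec A hc⟩
  have eφ : tgPhiB f A = tgPhiB f (upperSL x) * tgPhiB f (lowerSL (A.val 1 0)) *
      tgPhiB f (upperSL y) := by
    conv_lhs => rw [e]
    simp only [map_mul]
  have hU : ∀ t : K, tgPhiB f (upperSL t) ∈ chevD4.borelSubgroup K := fun t => by
    rw [tc_phi_upper]
    exact (le_sup_left : chevD4.posUnipotent K ≤ chevD4.borelSubgroup K)
      (xd_mem_U 14 (by decide) t)
  have h9 : xd 9 (A.val 1 0) ∈ chevD4.borelSubgroup K := by
    have : tgPhiB f (lowerSL (A.val 1 0)) =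
        (tgPhiB f (upperSL x))⁻¹ * tgPhiB f A * (tgPhiB f (upperSL y))⁻¹ := by
      rw [eφ]
      group
    rw [← tc_phi_lower f, this]
    exact mul_mem (mul_mem (inv_mem (hU _)) h) (inv_mem (hU _))
  have : xd 9 (A.val 1 0) ∈ chevD4.borelSubgroup K ⊓ chevD4.negUnipotent K :=
    ⟨h9, xd_neg_mem 9 (by decide) _⟩
  rw [borel_inf_negUnipotent good2_D4 T0_D4, Subgroup.mem_bot] at this
  exact xd_ne_one 9 hc this

/-- `φ_b(A)` in the diagonal subgroup forces `A` diagonal. -/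
theorem tc_phi_diagonal {A : Matrix.SpecialLinearGroup (Fin 2) K}
    (h : tgPhiB f A ∈ chevD4.diagonalSubgroup K) :
    ∃ h0 : A.val 0 0 ≠ 0, A = diagSL (A.val 0 0) h0 := by
  have hc : A.val 1 0 = 0 :=
    tc_phi_borel f ((le_sup_right : chevD4.diagonalSubgroup K ≤ chevD4.borelSubgroup K) h)
  obtain ⟨h0, e⟩ := tc_sl2_tri A hc
  refine ⟨h0, ?_⟩
  have eφ : tgPhiB f A = tbHb (A.val 0 0) * xd 14 ((A.val 0 0)⁻¹ * A.val 0 1) := by
    conv_lhs => rw [e]
    rw [map_mul, tc_phi_diag f h0, tc_phi_upper]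
  have hx : xd 14 ((A.val 0 0)⁻¹ * A.val 0 1) ∈ chevD4.posUnipotent K ⊓ chevD4.diagonalSubgroup K := by
    refine ⟨xd_mem_U 14 (by decide) _, ?_⟩
    have : xd 14 ((A.val 0 0)⁻¹ * A.val 0 1) = (tbHb (A.val 0 0))⁻¹ * tgPhiB f A := by
      rw [eφ]; group
    rw [this]
    exact (chevD4.diagonalSubgroup K).mul_mem
      ((chevD4.diagonalSubgroup K).inv_mem (tbHb_mem_diag _)) h
  rw [posUnipotent_inf_diagonal good2_D4 T0_D4, Subgroup.mem_bot] at hx
  have hz : (A.val 0 0)⁻¹ * A.val 0 1 = 0 := by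
    by_contra hne
    exact xd_ne_one 14 hne hx
  rw [hz] at e
  have : (upperSL (0 : K)) = 1 := by
    apply Subtype.ext
    change (!![1, 0; 0, 1] : Matrix (Fin 2) (Fin 2) K) = 1
    ext i j
    fin_cases i <;> fin_cases j <;> simp
  rw [this, mul_one] at e
  exact e

/-- `φ_b` is injective. -/
theorem tc_phi_inj : Function.Injective (tgPhiB f) := by
  rw [injective_iff_map_eq_one]
  intro A hA
  have hd : tgPhiB f A ∈ chevD4.diagonalSubgroup K := by rw [hA]; exact one_mem _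
  obtain ⟨h0, e⟩ := tc_phi_diagonal f hd
  have e1 : tbHb (A.val 0 0) = 1 := by
    rw [← tc_phi_diag f h0, ← e, hA]
  have e2 : tbHa (f : K →+* K) 1 * tbHb (A.val 0 0) = 1 := by rw [tbHa_one, one_mul, e1]
  have e3 := (tah_inj' (f : K →+* K) one_ne_zero h0 e2).2
  rw [e]
  exact (tbd_diagSL_congr e3 h0 one_ne_zero).trans tbd_diagSL_one

/-- `φ_b(A)` lies in `³D₄(q)` when the entries of `A` are fixed by `f`. -/
theorem tc_phi_mem {A : Matrix.SpecialLinearGroup (Fin 2) K} (hA : ∀ i j, f (A.val i j) = A.val i j) :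
    tgPhiB f A ∈ tgG f := by
  by_cases hc : A.val 1 0 = 0
  · obtain ⟨h0, e⟩ := tc_sl2_tri A hc
    rw [e, map_mul, tc_phi_diag f h0]
    refine mul_mem (tbd_hb_mem f _ (hA 0 0)) (tgB_upper_mem f ?_)
    rw [map_mul, map_inv₀, hA, hA]
  · rw [tc_sl2_dec A hc, map_mul, map_mul]
    refine mul_mem (mul_mem (tgB_upper_mem f ?_) (tgB_lower_mem f (hA 1 0))) (tgB_upper_mem f ?_)
    · rw [map_div₀, map_sub, map_one, hA, hA]
    · rw [map_div₀, map_sub, map_one, hA, hA]

end Cfsg.Agent.Helper7.Tc
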