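import Mathlib
import Cfsg.Agent.Helper7.TcC
import Cfsg.Agent.Helper7.ChevTwHD4

set_option autoImplicit false
set_option linter.unusedSectionVars false
set_option linter.unusedVariables false

/-!
`³D₄(q)`: the parametrisation of `H¹` by `(μ, l) ↦ h_a(μ) h_b(l)`, and the kernel `x(ν)` of the character of the
root `b` on `H¹`.
-/

namespace Cfsg.Agent.Helper7.Tc

open Cfsg Cfsg.Lie Cfsg.Agent.Helper7.Chev Cfsg.Agent.CtRecT Matrix

variable {K : Type*} [Field K] (f : K ≃+* K)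

/-- the elements of `H¹` are the `h_a(μ) h_b(l)`. -/
theorem tc_H_param (hf3 : ∀ t, (((f : K →+* K)) ^ 3) t = t) {h : GL chevD4.Idx K} (hh : h ∈ tgH f) :
    ∃ μ l : K, μ ≠ 0 ∧ l ≠ 0 ∧ f l = l ∧ h = tcX (f : K →+* K) μ l := by
  have hρ : ∀ i < chevD4.rank, (fun i => [3, 1, 0, 2].getD i 0)
      ((fun i => [3, 1, 0, 2].getD i 0) ((fun i => [3, 1, 0, 2].getD i 0) i)) = i := by
    decide
  have hkerσ : ∀ z : Fin chevD4.rank → Kˣ, torusHom chevD4 K z = 1 →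
      torusHom chevD4 K (sigC T18_D4a f z) = 1 := by
    intro z hz
    rw [← twAut_torusHom good2_D4 T18_D4a f rhoperm_D4, hz, map_one]
  have hv := vanish_three T18_D4a f (sigC_sigC_sigC T18_D4a f hρ hf3)
    (fun z hz => torusHom_ker_pow good1_D4 T17_D4 (n := 2) (by decide) hz) hkerσ
  have key := diagonal_inf_twGroup good2_D4 T3_D4 T4_D4 T18_D4a T19_D4 f rhoperm_D4 clsperm_D4 hv
  have hh' : h ∈ chevD4.diagonalSubgroup K ⊓ twGroup good2_D4 T3_D4 T4_D4 T19_D4 f := hh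
  rw [key] at hh'
  obtain ⟨c, hc, rfl⟩ := hh'
  have hc' : sigC T18_D4a f c = c := hc
  obtain ⟨h0, h1, h2, h3⟩ := (sigC_fixed_D4 f c).mp hc'
  refine ⟨(c d4i0 : K), (c d4i1 : K), Units.ne_zero _, Units.ne_zero _, ?_, ?_⟩
  · exact congrArg (fun u : Kˣ => (u : K)) h1
  · have e2 : ((c d4i2 : Kˣ) : K) = f (c d4i0 : K) := (congrArg (fun u : Kˣ => (u : K)) h2).symm
    have e3 : ((c d4i3 : Kˣ) : K) = f (f (c d4i0 : K)) := by
      rw [← e2]
      exact (congrArg (fun u : Kˣ => (u : K)) h3).symm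
    rw [torusHom_apply, tGL_eq_prod d4G1]
    change hS d4G1 (extu chevD4.rank c) 0 * (hS d4G1 (extu chevD4.rank c) 1 *
      (hS d4G1 (extu chevD4.rank c) 2 * (hS d4G1 (extu chevD4.rank c) 3 * 1))) = _
    have a0 : hS d4G1 (extu chevD4.rank c) 0 = tbd_h 18 (c d4i0 : K) := by
      apply Units.ext
      rw [hS_coe d4G1 _ (by decide), tbd_h_coe 18 (Units.ne_zero _)]
      rfl
    have a1 : hS d4G1 (extu chevD4.rank c) 1 = tbd_h 14 (c d4i1 : K) := by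
      apply Units.ext
      rw [hS_coe d4G1 _ (by decide), tbd_h_coe 14 (Units.ne_zero _)]
      rfl
    have a2 : hS d4G1 (extu chevD4.rank c) 2 = tbd_h 13 (f (c d4i0 : K)) := by
      apply Units.ext
      rw [← e2, hS_coe d4G1 _ (by decide), tbd_h_coe 13 (Units.ne_zero _)]
      rfl
    have a3 : hS d4G1 (extu chevD4.rank c) 3 = tbd_h 12 (f (f (c d4i0 : K))) := by
      apply Units.ext
      rw [← e3, hS_coe d4G1 _ (by decide), tbd_h_coe 12 (Units.ne_zero _)]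
      rfl
    rw [a0, a1, a2, a3, mul_one]
    unfold tcX tbHa tbHb
    simp only [RingEquiv.coe_toRingHom]
    have c1 := tbd_h_comm 14 13 (c d4i1 : K) (f (c d4i0 : K))
    have c2 := tbd_h_comm 14 12 (c d4i1 : K) (f (f (c d4i0 : K)))
    calc tbd_h 18 (c d4i0 : K) * (tbd_h 14 (c d4i1 : K) * (tbd_h 13 (f (c d4i0 : K)) *
          tbd_h 12 (f (f (c d4i0 : K)))))
        = tbd_h 18 (c d4i0 : K) * ((tbd_h 14 (c d4i1 : K) * tbd_h 13 (f (c d4i0 : K))) *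
          tbd_h 12 (f (f (c d4i0 : K)))) := by group
      _ = tbd_h 18 (c d4i0 : K) * (tbd_h 13 (f (c d4i0 : K)) * (tbd_h 14 (c d4i1 : K) *
          tbd_h 12 (f (f (c d4i0 : K))))) := by rw [c1]; group
      _ = _ := by rw [c2]; group

/-! ### the characters -/

theorem tcChi_eq (σ : K →+* K) (μ l : K) (s : ℕ) (n1 n2 n3 n4 : ℤ)
    (h1 : (tabOf chevD4).pairing 18 s = n1) (h2 : (tabOf chevD4).pairing 13 s = n2)
    (h3 : (tabOf chevD4).pairing 12 s = n3) (h4 : (tabOf chevD4).pairing 14 s = n4) :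
    tcChi σ μ l s = μ ^ n1 * ((σ μ) ^ n2 * ((σ (σ μ)) ^ n3 * l ^ n4)) := by
  unfold tcChi
  rw [h1, h2, h3, h4]

/-- the character of `b` on `h_a(μ) h_b(l)` is `l² / N(μ)`. -/
theorem tcChi_14 (σ : K →+* K) (μ l : K) :
    tcChi σ μ l 14 = l ^ 2 * (μ * σ μ * σ (σ μ))⁻¹ := by
  rw [tcChi_eq σ μ l 14 (-1) (-1) (-1) 2 (by decide) (by decide) (by decide) (by decide)]
  simp only [_root_.zpow_neg_one, zpow_ofNat, mul_inv]
  ring

theorem tcChi_9 (σ : K →+* K) (μ l : K) :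
    tcChi σ μ l 9 = (l ^ 2)⁻¹ * (μ * σ μ * σ (σ μ)) := by
  rw [tcChi_eq σ μ l 9 1 1 1 (-2) (by decide) (by decide) (by decide) (by decide)]
  simp only [_root_.zpow_neg, zpow_ofNat]
  ring

/-! ### the norm -/

/-- the norm `ν ν^σ ν^{σ²}`. -/
def tcN (ν : K) : K := ν * f ν * f (f ν)

theorem tcN_fix (hf3 : ∀ t, f (f (f t)) = t) (ν : K) : f (tcN f ν) = tcN f ν := by
  unfold tcN
  rw [map_mul, map_mul, hf3]
  ring

theorem tcN_mul (ν ν' : K) : tcN f (ν * ν') = tcN f ν * tcN f ν' := by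
  unfold tcN
  simp only [map_mul]
  ring

theorem tcN_ne_zero {ν : K} (hν : ν ≠ 0) : tcN f ν ≠ 0 := by
  unfold tcN
  have e1 : f ν ≠ 0 := (map_ne_zero f).mpr hν
  have e2 : f (f ν) ≠ 0 := (map_ne_zero f).mpr e1
  exact mul_ne_zero (mul_ne_zero hν e1) e2

theorem tcN_one : tcN f (1 : K) = 1 := by
  unfold tcN
  rw [map_one, map_one]
  ring

/-! ### the kernel of the character of `b` on `H¹` -/

/-- `x(ν) = h_a(ν ν^{σ²}) h_b(N ν)`. -/
noncomputable def tcXnu (ν : K) : GL chevD4.Idx K :=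
  tcX (f : K →+* K) (ν * f (f ν)) (tcN f ν)

theorem tcXnu_one : tcXnu f (1 : K) = 1 := by
  unfold tcXnu tcX
  rw [map_one, map_one, mul_one, tcN_one, tbHa_one, tbHb_one, mul_one]

theorem tcXnu_mul {ν ν' : K} (hν : ν ≠ 0) (hν' : ν' ≠ 0) :
    tcXnu f ν * tcXnu f ν' = tcXnu f (ν * ν') := by
  have e1 : f ν ≠ 0 := (map_ne_zero f).mpr hν
  have e2 : f (f ν) ≠ 0 := (map_ne_zero f).mpr e1
  have e1' : f ν' ≠ 0 := (map_ne_zero f).mpr hν'
  have e2' : f (f ν') ≠ 0 := (map_ne_zero f).mpr e1'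
  unfold tcXnu tcX
  have c := tbd_ha_hb (f : K →+* K) (ν' * f (f ν')) (tcN f ν)
  calc tbHa (f : K →+* K) (ν * f (f ν)) * tbHb (tcN f ν) *
        (tbHa (f : K →+* K) (ν' * f (f ν')) * tbHb (tcN f ν'))
      = tbHa (f : K →+* K) (ν * f (f ν)) * (tbHb (tcN f ν) * tbHa (f : K →+* K) (ν' * f (f ν'))) *
          tbHb (tcN f ν') := by group
    _ = (tbHa (f : K →+* K) (ν * f (f ν)) * tbHa (f : K →+* K) (ν' * f (f ν'))) *
          (tbHb (tcN f ν) * tbHb (tcN f ν')) := by rw [← c]; group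
    _ = _ := by
      rw [tbHa_mul (f : K →+* K) (mul_ne_zero hν e2) (mul_ne_zero hν' e2'),
        tbHb_mul (tcN_ne_zero f hν) (tcN_ne_zero f hν'), ← tcN_mul]
      congr 2
      rw [map_mul, map_mul]
      ring

theorem tcXnu_chi14 (hf3 : ∀ t, f (f (f t)) = t) {ν : K} (hν : ν ≠ 0) :
    tcChi (f : K →+* K) (ν * f (f ν)) (tcN f ν) 14 = 1 := by
  have e1 : f ν ≠ 0 := (map_ne_zero f).mpr hν
  have e2 : f (f ν) ≠ 0 := (map_ne_zero f).mpr e1
  rw [tcChi_14]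
  simp only [RingEquiv.coe_toRingHom, map_mul, hf3]
  unfold tcN
  field_simp

theorem tcXnu_chi9 (hf3 : ∀ t, f (f (f t)) = t) {ν : K} (hν : ν ≠ 0) :
    tcChi (f : K →+* K) (ν * f (f ν)) (tcN f ν) 9 = 1 := by
  have e1 : f ν ≠ 0 := (map_ne_zero f).mpr hν
  have e2 : f (f ν) ≠ 0 := (map_ne_zero f).mpr e1
  rw [tcChi_9]
  simp only [RingEquiv.coe_toRingHom, map_mul, hf3]
  unfold tcN
  field_simp

/-- `x(ν)` centralises `φ_b(SL₂)`. -/
theorem tcXnu_comm_phi (hf3 : ∀ t, f (f (f t)) = t) {ν : K} (hν : ν ≠ 0)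
    (A : Matrix.SpecialLinearGroup (Fin 2) K) :
    tcXnu f ν * tgPhiB f A = tgPhiB f A * tcXnu f ν := by
  have e1 : f ν ≠ 0 := (map_ne_zero f).mpr hν
  have e2 : f (f ν) ≠ 0 := (map_ne_zero f).mpr e1
  have hμ : ν * f (f ν) ≠ 0 := mul_ne_zero hν e2
  have hl := tcN_ne_zero f hν
  have key := tc_conj_phi f (tcXnu f ν) 1 one_ne_zero
    (fun t => by
      unfold tcXnu
      rw [tc_x_conj (f : K →+* K) hμ hl 14 t]
      change xd 14 (tcChi (f : K →+* K) (ν * f (f ν)) (tcN f ν) 14 * t) = _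
      rw [tcXnu_chi14 f hf3 hν])
    (fun t => by
      unfold tcXnu
      rw [tc_x_conj (f : K →+* K) hμ hl 9 t]
      change xd 9 (tcChi (f : K →+* K) (ν * f (f ν)) (tcN f ν) 9 * t) = _
      rw [tcXnu_chi9 f hf3 hν, inv_one]) A
  rw [tcDc_one] at key
  calc tcXnu f ν * tgPhiB f A = (tcXnu f ν * tgPhiB f A * (tcXnu f ν)⁻¹) * tcXnu f ν := by group
    _ = _ := by rw [key]

theorem tcXnu_mem_H (hf3 : ∀ t, f (f (f t)) = t) (ν : K) : tcXnu f ν ∈ tgH f := by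
  have hf3' : ∀ t, (((f : K →+* K)) ^ 3) t = t := fun t => by
    rw [pow_succ, pow_two]
    exact hf3 t
  refine (mem_twH good2_D4 T3_D4 T4_D4 T19_D4 f).mpr ⟨tc_x_mem_diag _, ?_⟩
  exact mul_mem (tbd_ha_mem f hf3' _) (tbd_hb_mem f _ (tcN_fix f hf3 ν))

theorem tcXnu_mem (hf3 : ∀ t, f (f (f t)) = t) (ν : K) : tcXnu f ν ∈ tgG f :=
  ((mem_twH good2_D4 T3_D4 T4_D4 T19_D4 f).mp (tcXnu_mem_H f hf3 ν)).2

theorem tcXnu_inj (hf3 : ∀ t, f (f (f t)) = t) {ν : K} (hν : ν ≠ 0) (h : tcXnu f ν = 1) : ν = 1 := by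
  have e1 : f ν ≠ 0 := (map_ne_zero f).mpr hν
  have e2 : f (f ν) ≠ 0 := (map_ne_zero f).mpr e1
  obtain ⟨h1, h2⟩ := tah_inj' (f : K →+* K) (mul_ne_zero hν e2) (tcN_ne_zero f hν) h
  unfold tcN at h2
  have h3 : f ν = 1 := by
    have : (ν * f (f ν)) * f ν = 1 := by rw [← h2]; ring
    rw [h1, one_mul] at this
    exact this
  have := congrArg f (congrArg f h3)
  rw [hf3, map_one, map_one] at this
  exact this

/-- the kernel of the character of `b` on `H¹` consists of the `x(ν)`. -/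
theorem tc_ker_b (hf3 : ∀ t, f (f (f t)) = t) {μ l : K} (hμ : μ ≠ 0) (hl : l ≠ 0) (hfl : f l = l)
    (h : l ^ 2 = tcN f μ) : tcX (f : K →+* K) μ l = tcXnu f (μ * f μ * l⁻¹) := by
  have e1 : f μ ≠ 0 := (map_ne_zero f).mpr hμ
  have e2 : f (f μ) ≠ 0 := (map_ne_zero f).mpr e1
  unfold tcN at h
  unfold tcXnu
  congr 1
  · simp only [map_mul, map_inv₀, hf3, hfl]
    field_simp
    exact h
  · unfold tcN
    simp only [map_mul, map_inv₀, hf3, hfl]
    field_simp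
    linear_combination (l ^ 2 + μ * f μ * f (f μ)) * h

end Cfsg.Agent.Helper7.Tc
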