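import Mathlib
import Cfsg.Agent.Helper7.TcD

set_option autoImplicit false
set_option linter.unusedSectionVars false
set_option linter.unusedVariables false

/-!
`³D₄(q)`: the homomorphism `Θ` from the matrices of `GL₂` with determinant in the fixed field to the Levi
subgroup of the root `b`, `Θ(B) = h(det B) φ_b(diag(det B, 1)⁻¹ B)`.
-/

namespace Cfsg.Agent.Helper7.Tc

open Cfsg Cfsg.Lie Cfsg.Agent.Helper7.Chev Cfsg.Agent.CtRecT Matrix

variable {K : Type*} [Field K] (f : K ≃+* K)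

/-- `h(c) = h_a(c⁻¹) h_b(c⁻¹)`: for `c` in the fixed field its character on `b` is `c`. -/
noncomputable def tcHd (c : K) : GL chevD4.Idx K := tcX (f : K →+* K) c⁻¹ c⁻¹

theorem tcHd_one : tcHd f (1 : K) = 1 := by
  unfold tcHd tcX
  rw [inv_one, tbHa_one, tbHb_one, mul_one]

theorem tcHd_mul {c c' : K} (hc : c ≠ 0) (hc' : c' ≠ 0) : tcHd f c * tcHd f c' = tcHd f (c * c') := by
  unfold tcHd tcX
  have e := tbd_ha_hb (f : K →+* K) c'⁻¹ c⁻¹
  calc tbHa (f : K →+* K) c⁻¹ * tbHb c⁻¹ * (tbHa (f : K →+* K) c'⁻¹ * tbHb c'⁻¹)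
      = tbHa (f : K →+* K) c⁻¹ * (tbHb c⁻¹ * tbHa (f : K →+* K) c'⁻¹) * tbHb c'⁻¹ := by group
    _ = (tbHa (f : K →+* K) c⁻¹ * tbHa (f : K →+* K) c'⁻¹) * (tbHb c⁻¹ * tbHb c'⁻¹) := by
      rw [← e]; group
    _ = _ := by
      rw [tbHa_mul (f : K →+* K) (inv_ne_zero hc) (inv_ne_zero hc'),
        tbHb_mul (inv_ne_zero hc) (inv_ne_zero hc'), mul_inv]

theorem tcHd_inv {c : K} (hc : c ≠ 0) : (tcHd f c)⁻¹ = tcHd f c⁻¹ := by
  apply inv_eq_of_mul_eq_one_right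
  rw [tcHd_mul f hc (inv_ne_zero hc), mul_inv_cancel₀ hc, tcHd_one]

theorem tcHd_mem_diag (c : K) : tcHd f c ∈ chevD4.diagonalSubgroup K := tc_x_mem_diag _

theorem tcHd_mem (hf3 : ∀ t, f (f (f t)) = t) {c : K} (hc : f c = c) : tcHd f c ∈ tgG f := by
  have hf3' : ∀ t, (((f : K →+* K)) ^ 3) t = t := fun t => by
    rw [pow_succ, pow_two]
    exact hf3 t
  refine mul_mem (tbd_ha_mem f hf3' _) (tbd_hb_mem f _ ?_)
  rw [map_inv₀, hc]

/-- the characters of `h(c)` on `±b`. -/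
theorem tcHd_conj14 {c : K} (hc : c ≠ 0) (hfc : f c = c) (t : K) :
    tcHd f c * xd 14 t * (tcHd f c)⁻¹ = xd 14 (c * t) := by
  unfold tcHd
  rw [tc_x_conj (f : K →+* K) (inv_ne_zero hc) (inv_ne_zero hc) 14 t]
  change xd 14 (tcChi (f : K →+* K) c⁻¹ c⁻¹ 14 * t) = _
  rw [tcChi_14]
  congr 2
  simp only [RingEquiv.coe_toRingHom, map_inv₀, hfc]
  field_simp

theorem tcHd_conj9 {c : K} (hc : c ≠ 0) (hfc : f c = c) (t : K) :
    tcHd f c * xd 9 t * (tcHd f c)⁻¹ = xd 9 (c⁻¹ * t) := by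
  unfold tcHd
  rw [tc_x_conj (f : K →+* K) (inv_ne_zero hc) (inv_ne_zero hc) 9 t]
  change xd 9 (tcChi (f : K →+* K) c⁻¹ c⁻¹ 9 * t) = _
  rw [tcChi_9]
  congr 2
  simp only [RingEquiv.coe_toRingHom, map_inv₀, hfc]
  field_simp

/-- `h(c) φ_b(A) h(c)⁻¹ = φ_b(diag(c, 1) A diag(c, 1)⁻¹)`. -/
theorem tcHd_conj_phi {c : K} (hc : c ≠ 0) (hfc : f c = c) (A : Matrix.SpecialLinearGroup (Fin 2) K) :
    tcHd f c * tgPhiB f A * (tcHd f c)⁻¹ = tgPhiB f (tcDc c hc A) :=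
  tc_conj_phi f (tcHd f c) c hc (tcHd_conj14 f hc hfc) (tcHd_conj9 f hc hfc) A

/-- `diag(det B, 1)⁻¹ B`. -/
noncomputable def tcM (B : GL (Fin 2) K) : Matrix.SpecialLinearGroup (Fin 2) K :=
  ⟨!![(B.val.det)⁻¹ * B.val 0 0, (B.val.det)⁻¹ * B.val 0 1; B.val 1 0, B.val 1 1], by
    have hd : B.val.det ≠ 0 := by
      have := (Matrix.isUnits_det_units B).ne_zero
      exact this
    have e : B.val.det = B.val 0 0 * B.val 1 1 - B.val 0 1 * B.val 1 0 := Matrix.det_fin_two _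
    rw [Matrix.det_fin_two_of]
    field_simp
    rw [e]⟩

theorem tcM_val (B : GL (Fin 2) K) : (tcM B).val =
    !![(B.val.det)⁻¹ * B.val 0 0, (B.val.det)⁻¹ * B.val 0 1; B.val 1 0, B.val 1 1] := rfl

theorem tc_det_ne (B : GL (Fin 2) K) : B.val.det ≠ 0 := (Matrix.isUnits_det_units B).ne_zero

/-- `Θ(B) = h(det B) φ_b(diag(det B, 1)⁻¹ B)`. -/
noncomputable def tcTheta (B : GL (Fin 2) K) : GL chevD4.Idx K :=
  tcHd f B.val.det * tgPhiB f (tcM B)

theorem tcM_one : tcM (1 : GL (Fin 2) K) = 1 := by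
  apply Subtype.ext
  rw [tcM_val]
  simp only [Units.val_one, Matrix.det_one, inv_one, one_mul]
  ext i j
  fin_cases i <;> fin_cases j <;> simp

theorem tcTheta_one : tcTheta f (1 : GL (Fin 2) K) = 1 := by
  unfold tcTheta
  rw [tcM_one, map_one, mul_one]
  simp only [Units.val_one, Matrix.det_one]
  exact tcHd_one f

theorem tcM_mul (B B' : GL (Fin 2) K) :
    tcM (B * B') = tcDc (B'.val.det)⁻¹ (inv_ne_zero (tc_det_ne B')) (tcM B) * tcM B' := by
  have hd := tc_det_ne B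
  have hd' := tc_det_ne B'
  apply Subtype.ext
  rw [Matrix.SpecialLinearGroup.coe_mul, tcDc_val, tcM_val, tcM_val, tcM_val, Units.val_mul,
    Matrix.det_mul]
  ext i j
  fin_cases i <;> fin_cases j <;>
    simp [Matrix.mul_apply, Fin.sum_univ_two] <;> field_simp

/-- `Θ` is multiplicative on the matrices with determinant in the fixed field. -/
theorem tcTheta_mul (B B' : GL (Fin 2) K) (hB' : f B'.val.det = B'.val.det) :
    tcTheta f (B * B') = tcTheta f B * tcTheta f B' := by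
  have hd := tc_det_ne B
  have hd' := tc_det_ne B'
  unfold tcTheta
  have e1 : (tcHd f B'.val.det)⁻¹ * tgPhiB f (tcM B) * tcHd f B'.val.det =
      tgPhiB f (tcDc (B'.val.det)⁻¹ (inv_ne_zero hd') (tcM B)) := by
    have := tcHd_conj_phi f (inv_ne_zero hd') (by rw [map_inv₀, hB']) (tcM B)
    rw [← tcHd_inv f hd', inv_inv] at this
    exact this
  rw [tcM_mul, map_mul, ← e1, Units.val_mul, Matrix.det_mul, ← tcHd_mul f hd hd']
  group

end Cfsg.Agent.Helper7.Tc
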