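import Mathlib
import Cfsg.Agent.Helper7.TcE

set_option autoImplicit false
set_option linter.unusedSectionVars false
set_option linter.unusedVariables false

/-!
`³D₄(q)`: the torus `T = { x(ν) Θ(ι z) }`, the image of `Kˣ × E*`, where `ι : E* → GL₂(K)` is the nonsplit torus
of `GL₂` of the fixed field.
-/

namespace Cfsg.Agent.Helper7.Tc

open Cfsg Cfsg.Lie Cfsg.Agent.Helper7.Chev Cfsg.Agent.CtRecT Matrix

variable {K : Type*} [Field K] (f : K ≃+* K)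

/-- the nonsplit torus of `GL₂` of the fixed field of `f`, inside `GL₂(K)`. -/
structure TcQ (f : K ≃+* K) where
  /-- the multiplicative group of the quadratic extension -/
  Es : Type
  /-- it is a commutative group -/
  cg : CommGroup Es
  /-- the embedding -/
  ι : Es →* GL (Fin 2) K
  inj : Function.Injective ι
  fix : ∀ z i j, f ((ι z).val i j) = (ι z).val i j
  scal : ∀ a : K, f a = a → a ≠ 0 → ∃ z, (ι z).val = !![a, 0; 0, a]
  tri : ∀ z, (ι z).val 1 0 = 0 → (ι z).val = !![(ι z).val 0 0, 0; 0, (ι z).val 0 0]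
  /-- the element of norm one -/
  z0 : Es
  z0_det : (ι z0).val.det = 1
  z0_ne : (ι z0).val 1 0 ≠ 0
  cent : ∀ B : Matrix (Fin 2) (Fin 2) K, B.det ≠ 0 → (∀ i j, f (B i j) = B i j) →
    B * (ι z0).val = (ι z0).val * B → ∃ z, (ι z).val = B

attribute [instance] TcQ.cg

variable {f} (Q : TcQ f)

theorem TcQ.det_fix (z : Q.Es) : f (Q.ι z).val.det = (Q.ι z).val.det := by
  rw [Matrix.det_fin_two, map_sub, map_mul, map_mul, Q.fix, Q.fix, Q.fix, Q.fix]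

/-- `y(z) = Θ(ι z)`. -/
noncomputable def TcQ.y : Q.Es →* GL chevD4.Idx K where
  toFun z := tcTheta f (Q.ι z)
  map_one' := by rw [map_one, tcTheta_one]
  map_mul' z z' := by rw [map_mul, tcTheta_mul f _ _ (Q.det_fix z')]

theorem TcQ.y_apply (z : Q.Es) : Q.y z = tcTheta f (Q.ι z) := rfl

/-- `ν ↦ x(ν)` as a homomorphism. -/
noncomputable def tcXhom (f : K ≃+* K) : Kˣ →* GL chevD4.Idx K where
  toFun ν := tcXnu f (ν : K)
  map_one' := by rw [Units.val_one, tcXnu_one]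
  map_mul' ν ν' := by rw [Units.val_mul, tcXnu_mul f (Units.ne_zero ν) (Units.ne_zero ν')]

theorem tcXhom_apply (ν : Kˣ) : tcXhom f ν = tcXnu f (ν : K) := rfl

theorem tcXhom_inj (hf3 : ∀ t, f (f (f t)) = t) : Function.Injective (tcXhom f) := by
  rw [injective_iff_map_eq_one]
  intro ν h
  exact Units.ext (tcXnu_inj f hf3 (Units.ne_zero ν) h)

theorem TcQ.comm (hf3 : ∀ t, f (f (f t)) = t) (ν : Kˣ) (z : Q.Es) :
    Commute (tcXhom f ν) (Q.y z) := by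
  unfold Commute SemiconjBy
  rw [tcXhom_apply, TcQ.y_apply]
  unfold tcTheta
  have c1 : tcXnu f (ν : K) * tcHd f (Q.ι z).val.det = tcHd f (Q.ι z).val.det * tcXnu f (ν : K) :=
    diagonalSubgroup_comm d4G1 _ (tc_x_mem_diag _) _ (tcHd_mem_diag f _)
  have c2 := tcXnu_comm_phi f hf3 (Units.ne_zero ν) (tcM (Q.ι z))
  calc tcXnu f (ν : K) * (tcHd f (Q.ι z).val.det * tgPhiB f (tcM (Q.ι z)))
      = (tcXnu f (ν : K) * tcHd f (Q.ι z).val.det) * tgPhiB f (tcM (Q.ι z)) := by group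
    _ = tcHd f (Q.ι z).val.det * (tcXnu f (ν : K) * tgPhiB f (tcM (Q.ι z))) := by rw [c1]; group
    _ = _ := by rw [c2]; group

/-- `Ψ(ν, z) = x(ν) y(z)`. -/
noncomputable def TcQ.Psi (hf3 : ∀ t, f (f (f t)) = t) : Kˣ × Q.Es →* GL chevD4.Idx K :=
  MonoidHom.noncommCoprod (tcXhom f) Q.y (Q.comm hf3)

theorem TcQ.Psi_apply (hf3 : ∀ t, f (f (f t)) = t) (ν : Kˣ) (z : Q.Es) :
    Q.Psi hf3 (ν, z) = tcXnu f (ν : K) * tcTheta f (Q.ι z) := rfl

/-- the torus. -/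
noncomputable def TcQ.T (hf3 : ∀ t, f (f (f t)) = t) : Subgroup (GL chevD4.Idx K) := (Q.Psi hf3).range

theorem TcQ.mem_T (hf3 : ∀ t, f (f (f t)) = t) {g : GL chevD4.Idx K} :
    g ∈ Q.T hf3 ↔ ∃ (ν : Kˣ) (z : Q.Es), g = tcXnu f (ν : K) * tcTheta f (Q.ι z) := by
  constructor
  · rintro ⟨⟨ν, z⟩, rfl⟩
    exact ⟨ν, z, rfl⟩
  · rintro ⟨ν, z, rfl⟩
    exact ⟨(ν, z), rfl⟩

theorem tcM_fix {B : GL (Fin 2) K} (hB : ∀ i j, f (B.val i j) = B.val i j) (i j : Fin 2) :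
    f ((tcM B).val i j) = (tcM B).val i j := by
  have hd : f B.val.det = B.val.det := by
    rw [Matrix.det_fin_two, map_sub, map_mul, map_mul, hB, hB, hB, hB]
  rw [tcM_val]
  fin_cases i <;> fin_cases j <;> simp [hd, hB]

theorem tcTheta_mem (hf3 : ∀ t, f (f (f t)) = t) {B : GL (Fin 2) K}
    (hB : ∀ i j, f (B.val i j) = B.val i j) : tcTheta f B ∈ tgG f := by
  have hd : f B.val.det = B.val.det := by
    rw [Matrix.det_fin_two, map_sub, map_mul, map_mul, hB, hB, hB, hB]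
  exact mul_mem (tcHd_mem f hf3 hd) (tc_phi_mem f (tcM_fix hB))

theorem TcQ.T_le (hf3 : ∀ t, f (f (f t)) = t) : Q.T hf3 ≤ tgG f := by
  intro g hg
  obtain ⟨ν, z, rfl⟩ := (Q.mem_T hf3).mp hg
  exact mul_mem (tcXnu_mem f hf3 _) (tcTheta_mem hf3 (Q.fix z))

theorem TcQ.T_comm (hf3 : ∀ t, f (f (f t)) = t) {a b : GL chevD4.Idx K} (ha : a ∈ Q.T hf3)
    (hb : b ∈ Q.T hf3) : a * b = b * a := by
  obtain ⟨p, rfl⟩ := ha
  obtain ⟨p', rfl⟩ := hb
  rw [← map_mul, ← map_mul, mul_comm]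

end Cfsg.Agent.Helper7.Tc
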