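import Mathlib
import Cfsg.Agent.Helper7.TcF

set_option autoImplicit false
set_option linter.unusedSectionVars false
set_option linter.unusedVariables false

/-!
`³D₄(q)`: the kernel of `Ψ`, the order of the torus `T` and its cyclicity.
-/

namespace Cfsg.Agent.Helper7.Tc

open Cfsg Cfsg.Lie Cfsg.Agent.Helper7.Chev Cfsg.Agent.CtRecT Matrix

/-- an abelian finite group containing two elements whose orders have least common multiple the order of the
group is cyclic. -/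
theorem tc_cyclic_of {G : Type*} [Group G] (T : Subgroup G) [Finite T]
    (hcomm : ∀ a ∈ T, ∀ b ∈ T, a * b = b * a) (x y : G) (hx : x ∈ T) (hy : y ∈ T)
    (h : Nat.lcm (orderOf x) (orderOf y) = Nat.card T) : IsCyclic T := by
  let _ : CommGroup T := { (inferInstance : Group T) with
    mul_comm := fun a b => Subtype.ext (hcomm a a.2 b b.2) }
  rw [IsCyclic.iff_exponent_eq_card]
  apply Nat.dvd_antisymm Group.exponent_dvd_nat_card
  rw [← h]
  apply Nat.lcm_dvd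
  · have : orderOf x = orderOf (⟨x, hx⟩ : T) := (Subgroup.orderOf_mk x hx).symm
    rw [this]
    exact Monoid.order_dvd_exponent _
  · have : orderOf y = orderOf (⟨y, hy⟩ : T) := (Subgroup.orderOf_mk y hy).symm
    rw [this]
    exact Monoid.order_dvd_exponent _

variable {K : Type*} [Field K] {f : K ≃+* K} (Q : TcQ f)

/-- `Θ` of a scalar matrix. -/
theorem tcTheta_scalar {B : GL (Fin 2) K} {a : K} (ha : a ≠ 0) (hfa : f a = a)
    (hB : B.val = !![a, 0; 0, a]) : tcTheta f B = tcXnu f a⁻¹ := by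
  have hd : B.val.det = a ^ 2 := by rw [hB, Matrix.det_fin_two_of]; ring
  have hM : tcM B = diagSL a⁻¹ (inv_ne_zero ha) := by
    apply Subtype.ext
    rw [tcM_val, hd, hB]
    change _ = (!![a⁻¹, 0; 0, (a⁻¹)⁻¹] : Matrix (Fin 2) (Fin 2) K)
    ext i j
    fin_cases i <;> fin_cases j <;> (simp; try field_simp)
  unfold tcTheta
  rw [hM, tc_phi_diag, hd]
  unfold tcHd tcXnu tcX tcN
  rw [mul_assoc, tbHb_mul (inv_ne_zero (pow_ne_zero 2 ha)) (inv_ne_zero ha)]
  simp only [map_inv₀, hfa]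
  congr 2 <;> field_simp

theorem TcQ.ker_aux (hf3 : ∀ t, f (f (f t)) = t) {ν : Kˣ} {z : Q.Es}
    (h : tcXnu f (ν : K) * tcTheta f (Q.ι z) = 1) :
    (Q.ι z).val = !![(ν : K), 0; 0, (ν : K)] ∧ f (ν : K) = (ν : K) := by
  have hdiag : tgPhiB f (tcM (Q.ι z)) ∈ chevD4.diagonalSubgroup K := by
    have : tgPhiB f (tcM (Q.ι z)) = (tcXnu f (ν : K) * tcHd f (Q.ι z).val.det)⁻¹ := by
      apply eq_inv_of_mul_eq_one_right
      rw [← h]
      unfold tcTheta
      group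
    rw [this]
    exact (chevD4.diagonalSubgroup K).inv_mem
      ((chevD4.diagonalSubgroup K).mul_mem (tc_x_mem_diag _) (tcHd_mem_diag f _))
  have h10 : (Q.ι z).val 1 0 = 0 := by
    have := tc_phi_borel f
      ((le_sup_right : chevD4.diagonalSubgroup K ≤ chevD4.borelSubgroup K) hdiag)
    rw [tcM_val] at this
    simpa using this
  have hsc := Q.tri z h10
  set a : K := (Q.ι z).val 0 0 with ha
  have ha0 : a ≠ 0 := by
    intro h0
    have hd := tc_det_ne (Q.ι z)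
    rw [hsc, Matrix.det_fin_two_of, h0] at hd
    simp at hd
  have hfa : f a = a := Q.fix z 0 0
  rw [tcTheta_scalar ha0 hfa hsc, tcXnu_mul f (Units.ne_zero ν) (inv_ne_zero ha0)] at h
  have e := tcXnu_inj f hf3 (mul_ne_zero (Units.ne_zero ν) (inv_ne_zero ha0)) h
  have e' : (ν : K) = a := by
    field_simp at e
    exact e
  rw [e']
  exact ⟨hsc, hfa⟩

theorem TcQ.y_inj (hf3 : ∀ t, f (f (f t)) = t) : Function.Injective Q.y := by
  rw [injective_iff_map_eq_one]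
  intro z hz
  have h : tcXnu f ((1 : Kˣ) : K) * tcTheta f (Q.ι z) = 1 := by
    rw [Units.val_one, tcXnu_one, one_mul]
    exact hz
  have := (Q.ker_aux hf3 h).1
  apply Q.inj
  apply Units.ext
  rw [this, map_one, Units.val_one, Units.val_one]
  ext i j
  fin_cases i <;> fin_cases j <;> simp

theorem TcQ.card_ker [Fintype K] (hf3 : ∀ t, f (f (f t)) = t) :
    Nat.card (Q.Psi hf3).ker =
      Nat.card {a : Kˣ // Units.map ((f : K →+* K) : K →* K) a = a} := by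
  apply Nat.card_eq_of_bijective
    (fun p : (Q.Psi hf3).ker => (⟨p.1.1, Units.ext (Q.ker_aux hf3 (MonoidHom.mem_ker.mp p.2)).2⟩ :
      {a : Kˣ // Units.map ((f : K →+* K) : K →* K) a = a}))
  constructor
  · rintro ⟨⟨ν, z⟩, hp⟩ ⟨⟨ν', z'⟩, hp'⟩ h
    have hν : ν = ν' := congrArg Subtype.val h
    subst hν
    have e1 := (Q.ker_aux hf3 (MonoidHom.mem_ker.mp hp)).1
    have e2 := (Q.ker_aux hf3 (MonoidHom.mem_ker.mp hp')).1
    have : z = z' := Q.inj (Units.ext (e1.trans e2.symm))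
    subst this
    rfl
  · rintro ⟨a, ha⟩
    have hfa : f (a : K) = (a : K) := congrArg (fun u : Kˣ => (u : K)) ha
    obtain ⟨z, hz⟩ := Q.scal (a : K) hfa (Units.ne_zero a)
    refine ⟨⟨(a, z), ?_⟩, rfl⟩
    rw [MonoidHom.mem_ker, TcQ.Psi_apply, tcTheta_scalar (Units.ne_zero a) hfa hz,
      tcXnu_mul f (Units.ne_zero a) (inv_ne_zero (Units.ne_zero a)),
      mul_inv_cancel₀ (Units.ne_zero a), tcXnu_one]

theorem tc_q3 (k : ℕ) : (k + 1) ^ 3 - 1 = k * (k ^ 2 + 3 * k + 3) := by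
  apply Nat.sub_eq_of_eq_add
  ring

theorem tc_q2 (k : ℕ) : (k + 1) ^ 2 - 1 = k * (k + 2) := by
  apply Nat.sub_eq_of_eq_add
  ring

theorem tc_coprime (k : ℕ) : Nat.Coprime (k ^ 2 + 3 * k + 3) (k + 2) := by
  rw [← Nat.isCoprime_iff_coprime]
  refine ⟨1, -((k : ℤ) + 1), ?_⟩
  push_cast
  ring

theorem tc_lcm (k : ℕ) : Nat.lcm ((k + 1) ^ 3 - 1) ((k + 1) ^ 2 - 1) =
    ((k + 1) ^ 3 - 1) * (k + 1 + 1) := by
  rw [tc_q3, tc_q2]
  rcases Nat.eq_zero_or_pos k with h0 | hpos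
  · subst h0
    simp
  · have hg : Nat.gcd (k * (k ^ 2 + 3 * k + 3)) (k * (k + 2)) = k := by
      rw [Nat.gcd_mul_left, (tc_coprime k).gcd_eq_one, mul_one]
    have := Nat.gcd_mul_lcm (k * (k ^ 2 + 3 * k + 3)) (k * (k + 2))
    rw [hg] at this
    apply Nat.eq_of_mul_eq_mul_left hpos
    rw [this]
    ring

theorem TcQ.card_T [Fintype K] [Finite Q.Es] (hf3 : ∀ t, f (f (f t)) = t) {q : ℕ} (hq : 2 ≤ q)
    (hK : Fintype.card K = q ^ 3) (hf : ∀ t, f t = t ^ q) (hE : Nat.card Q.Es = q ^ 2 - 1) :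
    Nat.card (Q.T hf3) = (q ^ 3 - 1) * (q + 1) := by
  classical
  have h1 : Nat.card (Q.Psi hf3).ker * Nat.card (Q.Psi hf3).range = Nat.card (Kˣ × Q.Es) := by
    rw [← Subgroup.index_ker, Subgroup.card_mul_index]
  have hu : Nat.card Kˣ = q ^ 3 - 1 := by
    rw [Nat.card_eq_fintype_card, Fintype.card_units, hK]
  rw [Q.card_ker hf3, card_units_fixed hq (by norm_num : 0 < 3) hK hf, Nat.card_prod, hu, hE] at h1
  change Nat.card (Q.Psi hf3).range = _
  obtain ⟨k, rfl⟩ : ∃ k, q = k + 1 := ⟨q - 1, by omega⟩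
  have hk : 0 < k := by omega
  rw [Nat.add_sub_cancel, tc_q3, tc_q2] at h1
  rw [tc_q3]
  apply Nat.eq_of_mul_eq_mul_left hk
  rw [h1]
  ring

theorem TcQ.cyclic_T [Fintype K] [Finite Q.Es] (hf3 : ∀ t, f (f (f t)) = t) {q : ℕ} (hq : 2 ≤ q)
    (hK : Fintype.card K = q ^ 3) (hf : ∀ t, f t = t ^ q) (hE : Nat.card Q.Es = q ^ 2 - 1)
    (hcyc : IsCyclic Q.Es) : IsCyclic (Q.T hf3) := by
  classical
  have : Finite (Q.T hf3) := by
    apply Nat.finite_of_card_ne_zero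
    rw [Q.card_T hf3 hq hK hf hE]
    have : 1 < q ^ 3 := Nat.one_lt_pow (by norm_num) (by omega)
    exact Nat.mul_ne_zero (by omega) (by omega)
  obtain ⟨ν0, hν0⟩ := (inferInstance : IsCyclic Kˣ).exists_generator
  obtain ⟨ζ0, hζ0⟩ := hcyc.exists_generator
  have o1 : orderOf (tcXhom f ν0) = q ^ 3 - 1 := by
    rw [orderOf_injective (tcXhom f) (tcXhom_inj hf3), orderOf_eq_card_of_forall_mem_zpowers hν0,
      Nat.card_eq_fintype_card, Fintype.card_units, hK]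
  have o2 : orderOf (Q.y ζ0) = q ^ 2 - 1 := by
    rw [orderOf_injective Q.y (Q.y_inj hf3), orderOf_eq_card_of_forall_mem_zpowers hζ0, hE]
  refine tc_cyclic_of (Q.T hf3) (fun a ha b hb => Q.T_comm hf3 ha hb) (tcXhom f ν0) (Q.y ζ0)
    ⟨(ν0, 1), ?_⟩ ⟨(1, ζ0), ?_⟩ ?_
  · change tcXhom f ν0 * Q.y 1 = _
    rw [map_one, mul_one]
  · change tcXhom f 1 * Q.y ζ0 = _
    rw [map_one, one_mul]
  · rw [o1, o2, Q.card_T hf3 hq hK hf hE]
    obtain ⟨k, rfl⟩ : ∃ k, q = k + 1 := ⟨q - 1, by omega⟩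
    exact tc_lcm k

end Cfsg.Agent.Helper7.Tc
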