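import Mathlib
import Cfsg.Agent.Helper7.TcG

set_option autoImplicit false
set_option linter.unusedSectionVars false
set_option linter.unusedVariables false

/-!
`³D₄(q)`: an element `h φ_b(A)` of the Levi subgroup of the root `b` (`h ∈ H¹`, `A ∈ SL₂` of the fixed field) that
commutes with `y(z₀)` lies in the torus `T`.
-/

namespace Cfsg.Agent.Helper7.Tc

open Cfsg Cfsg.Lie Cfsg.Agent.Helper7.Chev Cfsg.Agent.CtRecT Matrix

variable {K : Type*} [Field K] {f : K ≃+* K}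

theorem tcX_mul {μ l μ' l' : K} (hμ : μ ≠ 0) (hl : l ≠ 0) (hμ' : μ' ≠ 0) (hl' : l' ≠ 0) :
    tcX (f : K →+* K) μ l * tcX (f : K →+* K) μ' l' = tcX (f : K →+* K) (μ * μ') (l * l') := by
  unfold tcX
  have e := tbd_ha_hb (f : K →+* K) μ' l
  calc tbHa (f : K →+* K) μ * tbHb l * (tbHa (f : K →+* K) μ' * tbHb l')
      = tbHa (f : K →+* K) μ * (tbHb l * tbHa (f : K →+* K) μ') * tbHb l' := by group
    _ = (tbHa (f : K →+* K) μ * tbHa (f : K →+* K) μ') * (tbHb l * tbHb l') := by rw [← e]; group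
    _ = _ := by rw [tbHa_mul (f : K →+* K) hμ hμ', tbHb_mul hl hl']

variable (Q : TcQ f)

/-- `ι z₀` as an element of `SL₂`. -/
noncomputable def TcQ.S0 : Matrix.SpecialLinearGroup (Fin 2) K := ⟨(Q.ι Q.z0).val, Q.z0_det⟩

theorem TcQ.S0_val : Q.S0.val = (Q.ι Q.z0).val := rfl

theorem TcQ.y_z0 : Q.y Q.z0 = tgPhiB f Q.S0 := by
  rw [TcQ.y_apply]
  unfold tcTheta
  rw [Q.z0_det, tcHd_one, one_mul]
  congr 1
  apply Subtype.ext
  rw [tcM_val, Q.z0_det, TcQ.S0_val]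
  ext i j
  fin_cases i <;> fin_cases j <;> simp

theorem TcQ.S0_fix (i j : Fin 2) : f (Q.S0.val i j) = Q.S0.val i j := Q.fix Q.z0 i j

theorem TcQ.y_z0_mem : Q.y Q.z0 ∈ tgG f := by
  rw [Q.y_z0]
  exact tc_phi_mem f Q.S0_fix

/-- the conjugation of `φ_b(A)` by `h_a(μ) h_b(l)`. -/
theorem tcX_conj_phi {μ l : K} (hμ : μ ≠ 0) (hl : l ≠ 0) {c : K} (hc0 : c ≠ 0)
    (hc : c = l ^ 2 * (tcN f μ)⁻¹) (A : Matrix.SpecialLinearGroup (Fin 2) K) :
    tcX (f : K →+* K) μ l * tgPhiB f A * (tcX (f : K →+* K) μ l)⁻¹ = tgPhiB f (tcDc c hc0 A) := by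
  apply tc_conj_phi f (tcX (f : K →+* K) μ l) c hc0
  · intro t
    rw [tc_x_conj (f : K →+* K) hμ hl 14 t]
    change xd 14 (tcChi (f : K →+* K) μ l 14 * t) = _
    rw [tcChi_14, hc]
    unfold tcN
    simp only [RingEquiv.coe_toRingHom]
  · intro t
    rw [tc_x_conj (f : K →+* K) hμ hl 9 t]
    change xd 9 (tcChi (f : K →+* K) μ l 9 * t) = _
    rw [tcChi_9, hc, mul_inv, inv_inv]
    unfold tcN
    simp only [RingEquiv.coe_toRingHom]

/-- the matrix form of the commutation relation. -/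
theorem tc_comm_mat {c : K} (hc0 : c ≠ 0) (A S : Matrix.SpecialLinearGroup (Fin 2) K)
    (hSL : tcDc c hc0 A * tcDc c hc0 S = S * tcDc c hc0 A) :
    (!![c * A.val 0 0, c * A.val 0 1; A.val 1 0, A.val 1 1] : Matrix (Fin 2) (Fin 2) K) * S.val =
      S.val * !![c * A.val 0 0, c * A.val 0 1; A.val 1 0, A.val 1 1] := by
  have hm := congrArg Subtype.val hSL
  rw [Matrix.SpecialLinearGroup.coe_mul, Matrix.SpecialLinearGroup.coe_mul, tcDc_val, tcDc_val] at hm
  have m00 := congrFun (congrFun hm 0) 0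
  have m01 := congrFun (congrFun hm 0) 1
  have m10 := congrFun (congrFun hm 1) 0
  have m11 := congrFun (congrFun hm 1) 1
  simp [Matrix.mul_apply, Fin.sum_univ_two] at m00 m01 m10 m11
  ext i j
  fin_cases i <;> fin_cases j <;> simp [Matrix.mul_apply, Fin.sum_univ_two]
  · field_simp at m00
    linear_combination m00
  · linear_combination m01
  · field_simp at m10
    linear_combination m10
  · field_simp at m11
    linear_combination m11

/-- an element of the Levi subgroup of `b` commuting with `y(z₀)` lies in `T`. -/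
theorem TcQ.levi_cent (hf3 : ∀ t, f (f (f t)) = t) {μ l : K} (hμ : μ ≠ 0) (hl : l ≠ 0)
    (hfl : f l = l) {A : Matrix.SpecialLinearGroup (Fin 2) K} (hA : ∀ i j, f (A.val i j) = A.val i j)
    (hc : (tcX (f : K →+* K) μ l * tgPhiB f A) * Q.y Q.z0 =
      Q.y Q.z0 * (tcX (f : K →+* K) μ l * tgPhiB f A)) :
    tcX (f : K →+* K) μ l * tgPhiB f A ∈ Q.T hf3 := by
  have e1 : f μ ≠ 0 := (map_ne_zero f).mpr hμ
  have e2 : f (f μ) ≠ 0 := (map_ne_zero f).mpr e1
  have hN : tcN f μ ≠ 0 := tcN_ne_zero f hμ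
  obtain ⟨c, hcdef⟩ : ∃ c : K, c = l ^ 2 * (tcN f μ)⁻¹ := ⟨_, rfl⟩
  have hc0 : c ≠ 0 := by
    rw [hcdef]
    exact mul_ne_zero (pow_ne_zero 2 hl) (inv_ne_zero hN)
  have hfc : f c = c := by
    rw [hcdef, map_mul, map_pow, map_inv₀, hfl, tcN_fix f hf3]
  have hconj := tcX_conj_phi hμ hl hc0 hcdef
  rw [Q.y_z0] at hc
  -- the equation in `SL₂`
  have hSL : tcDc c hc0 A * tcDc c hc0 Q.S0 = Q.S0 * tcDc c hc0 A := by
    apply tc_phi_inj f
    rw [map_mul, map_mul, ← hconj A, ← hconj Q.S0]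
    have hc' : tcX (f : K →+* K) μ l * tgPhiB f A * tgPhiB f Q.S0 =
        tgPhiB f Q.S0 * (tcX (f : K →+* K) μ l * tgPhiB f A) := hc
    generalize tcX (f : K →+* K) μ l = h at hc' ⊢
    generalize tgPhiB f A = a at hc' ⊢
    generalize tgPhiB f Q.S0 = s at hc' ⊢
    calc h * a * h⁻¹ * (h * s * h⁻¹) = (h * a * s) * h⁻¹ := by group
      _ = (s * (h * a)) * h⁻¹ := by rw [hc']
      _ = _ := by group
  have hBcomm := tc_comm_mat hc0 A Q.S0 hSL
  have hBdet : (!![c * A.val 0 0, c * A.val 0 1; A.val 1 0, A.val 1 1] :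
      Matrix (Fin 2) (Fin 2) K).det = c := by
    rw [Matrix.det_fin_two_of]
    have := det_two_eq A
    linear_combination c * this
  have hBfix : ∀ i j, f ((!![c * A.val 0 0, c * A.val 0 1; A.val 1 0, A.val 1 1] :
      Matrix (Fin 2) (Fin 2) K) i j) =
      (!![c * A.val 0 0, c * A.val 0 1; A.val 1 0, A.val 1 1] : Matrix (Fin 2) (Fin 2) K) i j := by
    intro i j
    fin_cases i <;> fin_cases j <;> simp [hfc, hA]
  obtain ⟨z, hz⟩ := Q.cent _ (by rw [hBdet]; exact hc0) hBfix hBcomm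
  have hdz : (Q.ι z).val.det = c := by rw [hz, hBdet]
  have hMz : tcM (Q.ι z) = A := by
    apply Subtype.ext
    rw [tcM_val, hdz, hz]
    ext i j
    fin_cases i <;> fin_cases j <;> simp [hc0]
  have hyz : Q.y z = tcHd f c * tgPhiB f A := by
    rw [TcQ.y_apply]
    unfold tcTheta
    rw [hdz, hMz]
  have hφ : tgPhiB f A = (tcHd f c)⁻¹ * Q.y z := by rw [hyz]; group
  have hhd : tcX (f : K →+* K) μ l * (tcHd f c)⁻¹ =
      tcXnu f ((μ * c) * f (μ * c) * (l * c)⁻¹) := by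
    rw [tcHd_inv f hc0]
    unfold tcHd
    rw [inv_inv, tcX_mul hμ hl hc0 hc0]
    apply tc_ker_b f hf3 (mul_ne_zero hμ hc0) (mul_ne_zero hl hc0)
    · rw [map_mul, hfl, hfc]
    · rw [tcN_mul]
      have : tcN f c = c ^ 3 := by
        unfold tcN
        rw [hfc, hfc]
        ring
      rw [this, hcdef]
      field_simp
  have hν0 : (μ * c) * f (μ * c) * (l * c)⁻¹ ≠ 0 :=
    mul_ne_zero (mul_ne_zero (mul_ne_zero hμ hc0) ((map_ne_zero f).mpr (mul_ne_zero hμ hc0)))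
      (inv_ne_zero (mul_ne_zero hl hc0))
  rw [TcQ.mem_T]
  refine ⟨Units.mk0 _ hν0, z, ?_⟩
  rw [Units.val_mk0, ← hhd, hφ, ← TcQ.y_apply]
  group

end Cfsg.Agent.Helper7.Tc
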