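import Mathlib
import Cfsg.Agent.Helper7.TcH
import Cfsg.Agent.CtRecT.TSysD4U
import Cfsg.Agent.CtRecT.TSysD4F
import Cfsg.Agent.CtRecT.TAmbCox

set_option autoImplicit false
set_option linter.unusedSectionVars false
set_option linter.unusedVariables false

/-!
`³D₄(q)`: the centraliser of `x(ν)` in `U¹`, and the subgroup of `SL₂` of the matrices with entries in the fixed
field.
-/

namespace Cfsg.Agent.Helper7.Tc

open Cfsg Cfsg.Lie Cfsg.Agent.Helper7.Chev Cfsg.Agent.CtRecT Matrix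

variable {K : Type*} [Field K]

/-! ### the matrices with fixed entries -/

/-- the subgroup of `SL₂(K)` of the matrices with entries fixed by `f`. -/
def tcSLfix (f : K ≃+* K) : Subgroup (Matrix.SpecialLinearGroup (Fin 2) K) where
  carrier := {A | ∀ i j, f (A.val i j) = A.val i j}
  one_mem' := by
    intro i j
    fin_cases i <;> fin_cases j <;> simp
  mul_mem' := by
    intro A B hA hB i j
    rw [Matrix.SpecialLinearGroup.coe_mul, Matrix.mul_apply, map_sum]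
    apply Finset.sum_congr rfl
    intro k _
    rw [map_mul, hA, hB]
  inv_mem' := by
    intro A hA i j
    rw [Matrix.SpecialLinearGroup.coe_inv, Matrix.adjugate_fin_two]
    fin_cases i <;> fin_cases j <;> simp [hA 0 0, hA 0 1, hA 1 0, hA 1 1]

theorem mem_tcSLfix {f : K ≃+* K} {A : Matrix.SpecialLinearGroup (Fin 2) K} :
    A ∈ tcSLfix f ↔ ∀ i j, f (A.val i j) = A.val i j := Iff.rfl

theorem tc_upper_fix {f : K ≃+* K} {e : K} (he : f e = e) : upperSL e ∈ tcSLfix f := by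
  intro i j
  fin_cases i <;> fin_cases j <;> simp [upperSL, he]

theorem tc_anti_fix {f : K ≃+* K} : (antiSL : Matrix.SpecialLinearGroup (Fin 2) K) ∈ tcSLfix f := by
  intro i j
  fin_cases i <;> fin_cases j <;> simp [antiSL]

theorem tc_Dc_fix {f : K ≃+* K} {c : K} (hc0 : c ≠ 0) (hc : f c = c)
    {A : Matrix.SpecialLinearGroup (Fin 2) K} (hA : A ∈ tcSLfix f) : tcDc c hc0 A ∈ tcSLfix f := by
  intro i j
  rw [tcDc_val]
  fin_cases i <;> fin_cases j <;> simp [hA 0 0, hA 0 1, hA 1 0, hA 1 1, hc]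

theorem tcDc_inv_apply {c : K} (hc0 : c ≠ 0) (A : Matrix.SpecialLinearGroup (Fin 2) K) :
    tcDc c hc0 (tcDc c⁻¹ (inv_ne_zero hc0) A) = A := by
  apply Subtype.ext
  rw [tcDc_val, tcDc_val]
  ext i j
  fin_cases i <;> fin_cases j <;> simp [hc0]

/-! ### the elements of `U¹` -/

section upar

variable [Fintype K] {q : ℕ} (hq : IsPrimePow q) (hK : Fintype.card K = q ^ 3)

/-- the normal form of the elements of `U¹`. -/
theorem tc_U_param {u : GL chevD4.Idx K} (hu : u ∈ tgU (tbF hq hK)) :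
    ∃ t w s f' g' h' : K, u = tbXa ((tbF hq hK : K ≃+* K) : K →+* K) t *
      tbYb ((tbF hq hK : K ≃+* K) : K →+* K) w * tbXab ((tbF hq hK : K ≃+* K) : K →+* K) s *
      (tbX2ab ((tbF hq hK : K ≃+* K) : K →+* K) f' * tbY3ab ((tbF hq hK : K ≃+* K) : K →+* K) g' *
        tbY3a2b ((tbF hq hK : K ≃+* K) : K →+* K) h') := by
  obtain ⟨hU, hG⟩ := (mem_twU good2_D4 T3_D4 T4_D4 T19_D4 (tbF hq hK)).mp hu
  have hG' : u ∈ twistedD4 K q := by rw [tbF_eq hq hK]; exact hG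
  have hmem : (⟨u, hG'⟩ : ↥(twistedD4 K q)) ∈
      (chevD4.posUnipotent K ⊓ twistedD4 K q).subgroupOf (twistedD4 K q) := by
    rw [Subgroup.mem_subgroupOf]
    exact ⟨hU, hG'⟩
  obtain ⟨t, w, s, f', g', h', e⟩ := (tbu_mem_iff hq hK (tdSysD4 hq hK) (tdSysD4_σ hq hK)
    (tdSysD4_xa hq hK) (tdSysD4_yb hq hK) (tdSysD4_xab hq hK) (tdSysD4_x2ab hq hK)
    (tdSysD4_y3ab hq hK) (tdSysD4_y3a2b hq hK) ⟨u, hG'⟩).mp hmem
  refine ⟨t, w, s, f', g', h', ?_⟩
  have e' := congrArg (fun x : ↥(twistedD4 K q) => (x : GL chevD4.Idx K)) e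
  simp only [tbu_coe (tdSysD4 hq hK) (tdSysD4_xa hq hK) (tdSysD4_yb hq hK) (tdSysD4_xab hq hK)
    (tdSysD4_x2ab hq hK) (tdSysD4_y3ab hq hK) (tdSysD4_y3a2b hq hK)] at e'
  exact e'

end upar

/-! ### the action of the torus on the normal form -/

section conj

variable (σ : K →+* K) (hσ : ∀ t, σ (σ (σ t)) = t) {μ l : K} (hμ : μ ≠ 0) (hl : l ≠ 0) (hfl : σ l = l)

theorem tc_conj6 {G : Type*} [Group G] (x a b c d e g : G) :
    x * (a * b * c * (d * e * g)) * x⁻¹ =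
      (x * a * x⁻¹) * (x * b * x⁻¹) * (x * c * x⁻¹) * ((x * d * x⁻¹) * (x * e * x⁻¹) * (x * g * x⁻¹)) := by
  group

theorem tc_conj_split {G : Type*} [Group G] (a b y : G) :
    (a * b) * y * (a * b)⁻¹ = a * (b * y * b⁻¹) * a⁻¹ := by group

include hσ hμ hl hfl in
theorem tc_nf_conj (t w s f' g' h' : K) :
    tcX σ μ l * (tbXa σ t * tbYb σ w * tbXab σ s * (tbX2ab σ f' * tbY3ab σ g' * tbY3a2b σ h')) *
        (tcX σ μ l)⁻¹ =
      tbXa σ (μ ^ 2 * (l⁻¹ * t)) * tbYb σ ((μ * σ μ * σ (σ μ))⁻¹ * (l ^ 2 * w)) *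
        tbXab σ (μ ^ 2 * (μ * σ μ * σ (σ μ))⁻¹ * (l * s)) *
        (tbX2ab σ (μ * σ μ * σ (σ μ) * (σ (σ μ) ^ 2)⁻¹ * f') *
          tbY3ab σ (μ * σ μ * σ (σ μ) * (l⁻¹ * g')) * tbY3a2b σ (l * h')) := by
  rw [tc_conj6]
  unfold tcX
  simp only [tc_conj_split]
  rw [tbd_hb_xa σ hl hfl, tbd_hb_yb σ hl hfl, tbd_hb_xab σ hl hfl, tbd_hb_x2ab σ hl hfl,
    tbd_hb_y3ab σ hl hfl, tbd_hb_y3a2b σ hl hfl, tbd_ha_xa σ hμ, tbd_ha_yb σ hμ hσ,
    tbd_ha_xab σ hμ hσ, tbd_ha_x2ab σ hμ hσ, tbd_ha_y3ab σ hμ hσ, tbd_ha_y3a2b σ hμ]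

theorem tcXa_zero : tbXa σ (0 : K) = 1 := by
  unfold tbXa
  rw [map_zero, map_zero, xd_zero, xd_zero, xd_zero, mul_one, mul_one]

theorem tcXab_zero : tbXab σ (0 : K) = 1 := by
  unfold tbXab
  rw [map_zero, map_zero, neg_zero, xd_zero, xd_zero, xd_zero, mul_one, mul_one]

theorem tcX2ab_zero : tbX2ab σ (0 : K) = 1 := by
  unfold tbX2ab
  rw [map_zero, map_zero, neg_zero, xd_zero, xd_zero, xd_zero, mul_one, mul_one]

end conj

/-! ### the centraliser of `x(ν)` in `U¹` -/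

section centU

variable (f : K ≃+* K)

/-- the property that the elements of `U¹` have the normal form. -/
def TcUpar (f : K ≃+* K) : Prop :=
  ∀ u ∈ tgU f, ∃ t w s f' g' h' : K, u = tbXa (f : K →+* K) t * tbYb (f : K →+* K) w *
    tbXab (f : K →+* K) s * (tbX2ab (f : K →+* K) f' * tbY3ab (f : K →+* K) g' *
      tbY3a2b (f : K →+* K) h')

/-- the centraliser of `x(ν)` in `U¹` consists of long root elements. -/
theorem tc_cent_U (hpar : TcUpar f) (hf3 : ∀ t, f (f (f t)) = t) {ν : K} (hν : ν ≠ 0)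
    (hκ : ν * f (f ν) ≠ f ν) (hν2 : ν ^ 2 ≠ 1) {u : GL chevD4.Idx K} (hu : u ∈ tgU f)
    (hc : tcXnu f ν * u = u * tcXnu f ν) :
    ∃ e₁ e₂ e₃ : K, f e₁ = e₁ ∧ f e₂ = e₂ ∧ f e₃ = e₃ ∧
      u = xd 14 e₁ * (xd 22 e₂ * xd 23 e₃) ∧ (tcN f ν ≠ 1 → e₂ = 0 ∧ e₃ = 0) := by
  have hσ3 : ∀ t, (f : K →+* K) ((f : K →+* K) ((f : K →+* K) t)) = t := hf3
  have e1 : f ν ≠ 0 := (map_ne_zero f).mpr hν
  have e2 : f (f ν) ≠ 0 := (map_ne_zero f).mpr e1
  have hμ : ν * f (f ν) ≠ 0 := mul_ne_zero hν e2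
  have hn : tcN f ν ≠ 0 := tcN_ne_zero f hν
  have hfn : (f : K →+* K) (tcN f ν) = tcN f ν := tcN_fix f hf3 ν
  obtain ⟨t, w, s, f', g', h', rfl⟩ := hpar u hu
  have hconj : tcXnu f ν * (tbXa (f : K →+* K) t * tbYb (f : K →+* K) w * tbXab (f : K →+* K) s *
      (tbX2ab (f : K →+* K) f' * tbY3ab (f : K →+* K) g' * tbY3a2b (f : K →+* K) h')) *
      (tcXnu f ν)⁻¹ = tbXa (f : K →+* K) t * tbYb (f : K →+* K) w * tbXab (f : K →+* K) s *
      (tbX2ab (f : K →+* K) f' * tbY3ab (f : K →+* K) g' * tbY3a2b (f : K →+* K) h') := by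
    rw [hc]; group
  unfold tcXnu at hconj
  rw [tc_nf_conj (f : K →+* K) hσ3 hμ hn hfn] at hconj
  obtain ⟨h1, -, h3, h4, h5, h6⟩ := tbu_uniq (f : K →+* K) hconj
  simp only [RingEquiv.coe_toRingHom, map_mul, map_inv₀, hf3] at h1 h3 h4 h5 h6
  have hfn' : f (tcN f ν) = tcN f ν := tcN_fix f hf3 ν
  rw [hfn', hfn'] at h5 h6
  have hnn : tcN f ν = ν * f ν * f (f ν) := rfl
  -- `t = 0`
  have ht : t = 0 := by
    by_contra ht0
    apply hκ
    have h1' : ((ν * f (f ν)) ^ 2 * (tcN f ν)⁻¹) * t = 1 * t := by linear_combination h1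
    have h1'' := mul_right_cancel₀ ht0 h1'
    rw [hnn] at h1''
    field_simp at h1''
    exact h1''
  have hs : s = 0 := by
    by_contra hs0
    apply hκ
    have h3' : ((ν * f (f ν)) ^ 2 * (ν * f (f ν) * (f ν * ν) * (f (f ν) * f ν))⁻¹ * tcN f ν) * s =
        1 * s := by linear_combination h3
    have h3'' := mul_right_cancel₀ hs0 h3'
    rw [hnn] at h3''
    field_simp at h3''
    exact h3''
  have hf' : f' = 0 := by
    by_contra hf0
    apply hν2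
    have h4' : (ν * f (f ν) * (f ν * ν) * (f (f ν) * f ν) * ((f (f ν) * f ν) ^ 2)⁻¹) * f' = 1 * f' := by
      linear_combination h4
    have h4'' := mul_right_cancel₀ hf0 h4'
    field_simp at h4''
    linear_combination h4''
  subst ht hs hf'
  refine ⟨w + f w + f (f w), g' + f g' + f (f g'), h' + f h' + f (f h'), tb_tr_fix f hf3 w,
    tb_tr_fix f hf3 g', tb_tr_fix f hf3 h', ?_, ?_⟩
  · rw [tcXa_zero, tcXab_zero, tcX2ab_zero, one_mul, mul_one, one_mul]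
    rfl
  · intro hn1
    have hsub : tcN f ν - 1 ≠ 0 := sub_ne_zero.mpr hn1
    constructor
    · have h5' : tcN f ν * ((tcN f ν - 1) * (g' + f g' + f (f g'))) = 0 := by
        field_simp at h5
        rw [hnn] at h5 ⊢
        linear_combination h5
      have := (mul_eq_zero.mp h5').resolve_left hn
      exact (mul_eq_zero.mp this).resolve_left hsub
    · have : (tcN f ν - 1) * (h' + f h' + f (f h')) = 0 := by linear_combination h6
      exact (mul_eq_zero.mp this).resolve_left hsub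

end centU

end Cfsg.Agent.Helper7.Tc
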