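import Mathlib
import Cfsg.Agent.Helper7.TcI

set_option autoImplicit false
set_option linter.unusedSectionVars false
set_option linter.unusedVariables false

/-!
`³D₄(q)`, `q > 2`: an element of `³D₄(q)` commuting with `x(ν)` (`ν` a generator of `Kˣ`) and with `y(z₀)` lies in
the torus `T`.
-/

namespace Cfsg.Agent.Helper7.Tc

open Cfsg Cfsg.Lie Cfsg.Agent.Helper7.Chev Cfsg.Agent.CtRecT Matrix

variable {K : Type*} [Field K]

/-- the words of the Weyl group that can commute with `x(ν)`, `q > 2`. -/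
theorem tc_w_cases : ∀ L ∈ twL_D4,
    ((tabOf chevD4).reflWord (L.flatMap (clsWord (fun i => [2, 1, 3, 0].getD i 0))) 14 ∈ [22, 23, 1, 0]) ∨
    ((tabOf chevD4).reflWord (L.flatMap (clsWord (fun i => [2, 1, 3, 0].getD i 0))) 21 = 2) ∨
    L = [] ∨ L = [(1, 1)] := by
  decide

theorem tc_w_lt : ∀ L ∈ twL_D4, ∀ i ∈ L.flatMap (clsWord (fun i => [2, 1, 3, 0].getD i 0)),
    i < chevD4.rank := by
  decide

variable (f : K ≃+* K)

/-! ### the characters of `x(ν)` -/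

section chars

variable (hf3 : ∀ t, f (f (f t)) = t) {ν : K} (hν : ν ≠ 0)

include hf3 hν

theorem tcXnu_chi22 : tcChi (f : K →+* K) (ν * f (f ν)) (tcN f ν) 22 = tcN f ν := by
  have e1 : f ν ≠ 0 := (map_ne_zero f).mpr hν
  have e2 : f (f ν) ≠ 0 := (map_ne_zero f).mpr e1
  rw [tcChi_eq _ _ _ 22 1 1 1 (-1) (by decide) (by decide) (by decide) (by decide)]
  simp only [zpow_one, _root_.zpow_neg_one, RingEquiv.coe_toRingHom, map_mul, hf3]
  unfold tcN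
  field_simp

theorem tcXnu_chi23 : tcChi (f : K →+* K) (ν * f (f ν)) (tcN f ν) 23 = tcN f ν := by
  rw [tcChi_eq _ _ _ 23 0 0 0 1 (by decide) (by decide) (by decide) (by decide)]
  simp only [zpow_one, zpow_zero, one_mul]

theorem tcXnu_chi1 : tcChi (f : K →+* K) (ν * f (f ν)) (tcN f ν) 1 = (tcN f ν)⁻¹ := by
  have e1 : f ν ≠ 0 := (map_ne_zero f).mpr hν
  have e2 : f (f ν) ≠ 0 := (map_ne_zero f).mpr e1
  rw [tcChi_eq _ _ _ 1 (-1) (-1) (-1) 1 (by decide) (by decide) (by decide) (by decide)]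
  simp only [zpow_one, _root_.zpow_neg_one, RingEquiv.coe_toRingHom, map_mul, hf3]
  unfold tcN
  field_simp

theorem tcXnu_chi0 : tcChi (f : K →+* K) (ν * f (f ν)) (tcN f ν) 0 = (tcN f ν)⁻¹ := by
  rw [tcChi_eq _ _ _ 0 0 0 0 (-1) (by decide) (by decide) (by decide) (by decide)]
  simp only [_root_.zpow_neg_one, zpow_zero, one_mul]

theorem tcXnu_chi21 : tcChi (f : K →+* K) (ν * f (f ν)) (tcN f ν) 21 = ν ^ 2 := by
  have e1 : f ν ≠ 0 := (map_ne_zero f).mpr hν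
  have e2 : f (f ν) ≠ 0 := (map_ne_zero f).mpr e1
  rw [tcChi_eq _ _ _ 21 1 1 (-1) 0 (by decide) (by decide) (by decide) (by decide)]
  simp only [zpow_one, _root_.zpow_neg_one, zpow_zero, mul_one, RingEquiv.coe_toRingHom, map_mul, hf3]
  field_simp

theorem tcXnu_chi2 : tcChi (f : K →+* K) (ν * f (f ν)) (tcN f ν) 2 = (ν ^ 2)⁻¹ := by
  have e1 : f ν ≠ 0 := (map_ne_zero f).mpr hν
  have e2 : f (f ν) ≠ 0 := (map_ne_zero f).mpr e1
  rw [tcChi_eq _ _ _ 2 (-1) (-1) 1 0 (by decide) (by decide) (by decide) (by decide)]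
  simp only [zpow_one, _root_.zpow_neg_one, zpow_zero, mul_one, RingEquiv.coe_toRingHom, map_mul, hf3]
  field_simp

end chars

/-! ### the Levi form -/

/-- `x_b(e₁) h φ_b(N) x_b(e₂) = h φ_b(A)` with `A` over the fixed field. -/
theorem tc_levi_form (hf3 : ∀ t, f (f (f t)) = t) {μ l : K} (hμ : μ ≠ 0) (hl : l ≠ 0) (hfl : f l = l)
    {e₁ e₂ : K} (he₁ : f e₁ = e₁) (he₂ : f e₂ = e₂) {N : Matrix.SpecialLinearGroup (Fin 2) K}
    (hN : N ∈ tcSLfix f) :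
    ∃ A ∈ tcSLfix f, xd 14 e₁ * tcX (f : K →+* K) μ l * tgPhiB f N * xd 14 e₂ =
      tcX (f : K →+* K) μ l * tgPhiB f A := by
  have hN0 : tcN f μ ≠ 0 := tcN_ne_zero f hμ
  obtain ⟨c, hcdef⟩ : ∃ c : K, c = l ^ 2 * (tcN f μ)⁻¹ := ⟨_, rfl⟩
  have hc0 : c ≠ 0 := by
    rw [hcdef]
    exact mul_ne_zero (pow_ne_zero 2 hl) (inv_ne_zero hN0)
  have hfc : f c = c := by
    rw [hcdef, map_mul, map_pow, map_inv₀, hfl, tcN_fix f hf3]
  have hconj := tcX_conj_phi (f := f) hμ hl hc0 hcdef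
  refine ⟨tcDc c⁻¹ (inv_ne_zero hc0) (upperSL e₁) * N * upperSL e₂, ?_, ?_⟩
  · exact mul_mem (mul_mem (tc_Dc_fix (inv_ne_zero hc0) (by rw [map_inv₀, hfc]) (tc_upper_fix he₁)) hN)
      (tc_upper_fix he₂)
  · have e := hconj (tcDc c⁻¹ (inv_ne_zero hc0) (upperSL e₁))
    rw [tcDc_inv_apply, tc_phi_upper] at e
    rw [map_mul, map_mul, tc_phi_upper, ← e]
    group

/-! ### the centraliser, `q > 2` -/

variable {f} (Q : TcQ f)

theorem TcQ.cent_big (hpar : TcUpar f) (hf3 : ∀ t, f (f (f t)) = t) {ν : K} (hν : ν ≠ 0)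
    (hκ : ν * f (f ν) ≠ f ν) (hν2 : ν ^ 2 ≠ 1) (hν4 : ν ^ 4 ≠ 1) (hN : tcN f ν ≠ 1)
    {g : GL chevD4.Idx K} (hg : g ∈ tgG f) (h1 : tcXnu f ν * g = g * tcXnu f ν)
    (h2 : g * Q.y Q.z0 = Q.y Q.z0 * g) : g ∈ Q.T hf3 := by
  have hf3' : ∀ t, (((f : K →+* K)) ^ 3) t = t := fun t => by
    rw [pow_succ, pow_two]
    exact hf3 t
  have e1 : f ν ≠ 0 := (map_ne_zero f).mpr hν
  have e2 : f (f ν) ≠ 0 := (map_ne_zero f).mpr e1
  have hμ0 : ν * f (f ν) ≠ 0 := mul_ne_zero hν e2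
  have hn0 : tcN f ν ≠ 0 := tcN_ne_zero f hν
  obtain ⟨L, hL, u₁, hu₁, h₁, hh₁, u, hu, rfl, c1, c2, c3⟩ :=
    tc_cent_D4 f (tcXnu_mem_H f hf3 ν) hg h1
  have hw := tc_w_lt L hL
  have key := tc_weyl_crit (f : K →+* K) hμ0 hn0 hw c2
  -- the two unipotent factors
  have huU : u ∈ tgU f := by
    obtain ⟨huP, hufix, -⟩ := (mem_twM good2_D4 T18_D4a f).mp hu
    exact (mem_twU good2_D4 T3_D4 T4_D4 T19_D4 f).mpr ⟨huP, tb_mem_of_fix f huP hufix⟩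
  obtain ⟨a₁, a₂, a₃, ha₁, -, -, eu₁, hz₁⟩ := tc_cent_U f hpar hf3 hν hκ hν2 hu₁ c1
  obtain ⟨b₁, b₂, b₃, hb₁, -, -, eu, hz⟩ := tc_cent_U f hpar hf3 hν hκ hν2 huU c3
  obtain ⟨rfl, rfl⟩ := hz₁ hN
  obtain ⟨rfl, rfl⟩ := hz hN
  rw [xd_zero, xd_zero, mul_one, mul_one] at eu₁ eu
  subst eu₁ eu
  obtain ⟨μ, l, hμ, hl, hfl, rfl⟩ := tc_H_param f hf3' hh₁
  rcases tc_w_cases L hL with h | h | rfl | rfl
  · exfalso
    have k14 := key 14
    rw [show ((14 : Fin 24) : ℕ) = 14 from rfl, tcXnu_chi14 f hf3 hν] at k14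
    simp only [List.mem_cons, List.not_mem_nil, or_false] at h
    rcases h with h | h | h | h <;> rw [h] at k14
    · rw [tcXnu_chi22 f hf3 hν] at k14
      exact hN k14
    · rw [tcXnu_chi23 f hf3 hν] at k14
      exact hN k14
    · rw [tcXnu_chi1 f hf3 hν] at k14
      exact hN (inv_eq_one.mp k14)
    · rw [tcXnu_chi0 f hf3 hν] at k14
      exact hN (inv_eq_one.mp k14)
  · exfalso
    have k21 := key 21
    rw [show ((21 : Fin 24) : ℕ) = 21 from rfl, h, tcXnu_chi21 f hf3 hν, tcXnu_chi2 f hf3 hν] at k21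
    apply hν4
    have h0 : ν ^ 2 ≠ 0 := pow_ne_zero 2 hν
    field_simp at k21
    linear_combination -k21
  · -- the cell of the identity
    have hnil : (([] : List (ℕ × ℕ)).flatMap (clsWord (fun i => [2, 1, 3, 0].getD i 0))) = [] := rfl
    rw [hnil, nWordGL_nil, mul_one] at h2 ⊢
    obtain ⟨A, hA, e⟩ := tc_levi_form f hf3 hμ hl hfl ha₁ hb₁ (one_mem (tcSLfix f))
    rw [map_one, mul_one] at e
    rw [e] at h2 ⊢
    exact Q.levi_cent hf3 hμ hl hfl hA h2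
  · -- the cell of `n_b`
    have hb : (([(1, 1)] : List (ℕ × ℕ)).flatMap (clsWord (fun i => [2, 1, 3, 0].getD i 0))) = [1] := rfl
    rw [hb, ← tacx_nb_eq f] at h2 ⊢
    obtain ⟨A, hA, e⟩ := tc_levi_form f hf3 hμ hl hfl ha₁ hb₁ (tc_anti_fix (f := f))
    change xd 14 a₁ * tcX (f : K →+* K) μ l * tgPhiB f antiSL * xd 14 b₁ = _ at e
    rw [e] at h2 ⊢
    exact Q.levi_cent hf3 hμ hl hfl hA h2

end Cfsg.Agent.Helper7.Tc
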