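import Mathlib
import Cfsg.Agent.Helper7.TcJ

set_option autoImplicit false
set_option linter.unusedSectionVars false
set_option linter.unusedVariables false

/-!
`³D₄(q)`: transfer of a self-centralising abelian subgroup to the subtype, and the arithmetic of a generator of
`Kˣ`.
-/

namespace Cfsg.Agent.Helper7.Tc

open Cfsg Cfsg.Lie Cfsg.Agent.Helper7.Chev Cfsg.Agent.CtRecT Matrix

/-- a subgroup `T ≤ Gs` that is abelian and contains every element of `Gs` centralising it gives a
self-centralising subgroup of `Gs`. -/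
theorem tc_transfer {Γ : Type*} [Group Γ] (Gs T : Subgroup Γ) (hT : T ≤ Gs)
    (hcomm : ∀ a ∈ T, ∀ b ∈ T, a * b = b * a)
    (hcent : ∀ g ∈ Gs, (∀ t ∈ T, g * t = t * g) → g ∈ T) :
    Subgroup.centralizer ((T.subgroupOf Gs : Subgroup Gs) : Set Gs) = T.subgroupOf Gs := by
  ext g
  rw [Subgroup.mem_centralizer_iff, Subgroup.mem_subgroupOf]
  constructor
  · intro h
    apply hcent g.1 g.2
    intro t ht
    have := h ⟨t, hT ht⟩ (by rw [SetLike.mem_coe, Subgroup.mem_subgroupOf]; exact ht)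
    have e := congrArg (fun x : Gs => (x : Γ)) this
    simp only [Subgroup.coe_mul] at e
    exact e.symm
  · intro hg t ht
    rw [SetLike.mem_coe, Subgroup.mem_subgroupOf] at ht
    apply Subtype.ext
    rw [Subgroup.coe_mul, Subgroup.coe_mul]
    exact hcomm _ ht _ hg

section arith

variable {K : Type*} [Field K] [Fintype K] {q : ℕ}

/-- a power of a generator of `Kˣ` with exponent between `0` and `q³ - 1` is not `1`. -/
theorem tc_pow_ne_one (hK : Fintype.card K = q ^ 3) {ν : Kˣ} (hν : ∀ x : Kˣ, x ∈ Subgroup.zpowers ν)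
    {m : ℕ} (hm0 : 0 < m) (hm : m < q ^ 3 - 1) : ((ν : Kˣ) : K) ^ m ≠ 1 := by
  classical
  intro h
  have h' : ν ^ m = 1 := Units.ext (by rw [Units.val_pow_eq_pow_val, h, Units.val_one])
  have ho : orderOf ν = q ^ 3 - 1 := by
    rw [orderOf_eq_card_of_forall_mem_zpowers hν, Nat.card_eq_fintype_card, Fintype.card_units, hK]
  have := Nat.le_of_dvd hm0 (orderOf_dvd_of_pow_eq_one h')
  omega

end arith

section main

variable {K : Type*} [Field K] [Fintype K] {q : ℕ}

/-- the assembly: from the centraliser statement to the self-centralising cyclic subgroup. -/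
theorem tc_main_of_cent (hq : IsPrimePow q) (hK : Fintype.card K = q ^ 3) (Q : TcQ (tbF hq hK))
    [Finite Q.Es] (hE : Nat.card Q.Es = q ^ 2 - 1) (hcyc : IsCyclic Q.Es) (ν0 : Kˣ)
    (hcent : ∀ g ∈ tgG (tbF hq hK), tcXnu (tbF hq hK) (ν0 : K) * g = g * tcXnu (tbF hq hK) (ν0 : K) →
      g * Q.y Q.z0 = Q.y Q.z0 * g → g ∈ Q.T (tbF_three hq hK)) :
    ∃ H : Subgroup ↥(Cfsg.Lie.twistedD4 K q), IsCyclic ↥H ∧ Nat.card ↥H = (q ^ 3 - 1) * (q + 1) ∧
      Subgroup.centralizer (H : Set ↥(Cfsg.Lie.twistedD4 K q)) = H := by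
  have hf3 := tbF_three hq hK
  have hf := tbF_pow hq hK
  have hTle : Q.T hf3 ≤ twistedD4 K q := by
    rw [tbF_eq hq hK]
    exact Q.T_le hf3
  refine ⟨(Q.T hf3).subgroupOf (twistedD4 K q), ?_, ?_, ?_⟩
  · have hc := Q.cyclic_T hf3 hq.two_le hK hf hE hcyc
    exact (Subgroup.subgroupOfEquivOfLe hTle).isCyclic.mpr hc
  · rw [Nat.card_congr (Subgroup.subgroupOfEquivOfLe hTle).toEquiv]
    exact Q.card_T hf3 hq.two_le hK hf hE
  · apply tc_transfer _ _ hTle (fun a ha b hb => Q.T_comm hf3 ha hb)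
    intro g hg hall
    have hg' : g ∈ tgG (tbF hq hK) := by
      have := hg
      rw [tbF_eq hq hK] at this
      exact this
    apply hcent g hg'
    · have hx : tcXnu (tbF hq hK) (ν0 : K) ∈ Q.T hf3 := by
        rw [TcQ.mem_T]
        refine ⟨ν0, 1, ?_⟩
        rw [map_one, tcTheta_one, mul_one]
      exact (hall _ hx).symm
    · have hy : Q.y Q.z0 ∈ Q.T hf3 := by
        rw [TcQ.mem_T]
        refine ⟨1, Q.z0, ?_⟩
        rw [Units.val_one, tcXnu_one, one_mul]
        rfl
      exact hall _ hy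

end main

end Cfsg.Agent.Helper7.Tc
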