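import Mathlib
import Cfsg.Agent.Helper7.TcK

set_option autoImplicit false
set_option linter.unusedSectionVars false
set_option linter.unusedVariables false

/-!
`³D₄(q)`: the nonsplit torus datum from the package `QuadEmbK`, and the main theorem for `q > 2`.
-/

namespace Cfsg.Agent.Helper7.Tc

open Cfsg Cfsg.Lie Cfsg.Agent.Helper7.Chev Cfsg.Agent.CtRecT Matrix

/-- the statement of the package `QuadEmbK.qek_exists` for a subfield `F` of `K`. -/
def TcQek (K : Type*) [Field K] (F : Subfield K) : Prop :=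
  ∃ (Es : Type) (_ : CommGroup Es) (_ : Finite Es) (ι : Es →* GL (Fin 2) K),
      Function.Injective ι ∧
      Nat.card Es = Nat.card F ^ 2 - 1 ∧
      IsCyclic Es ∧
      (∀ z i j, (ι z : Matrix (Fin 2) (Fin 2) K) i j ∈ F) ∧
      (∀ a : K, a ∈ F → a ≠ 0 → ∃ z, (ι z : Matrix (Fin 2) (Fin 2) K) = !![a, 0; 0, a]) ∧
      (∀ z, (ι z : Matrix (Fin 2) (Fin 2) K) 1 0 = 0 →
        (ι z : Matrix (Fin 2) (Fin 2) K) =
          !![(ι z : Matrix (Fin 2) (Fin 2) K) 0 0, 0; 0, (ι z : Matrix (Fin 2) (Fin 2) K) 0 0]) ∧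
      ∃ z₀ : Es, (ι z₀ : Matrix (Fin 2) (Fin 2) K).det = 1 ∧
        (ι z₀ : Matrix (Fin 2) (Fin 2) K) 1 0 ≠ 0 ∧
        orderOf z₀ = Nat.card F + 1 ∧
        ∀ B : Matrix (Fin 2) (Fin 2) K, B.det ≠ 0 → (∀ i j, B i j ∈ F) →
          B * (ι z₀ : Matrix (Fin 2) (Fin 2) K) = (ι z₀ : Matrix (Fin 2) (Fin 2) K) * B →
          ∃ z, (ι z : Matrix (Fin 2) (Fin 2) K) = B

variable {K : Type*} [Field K]

/-- the datum `TcQ` from the package. -/
theorem tc_Q_of_qek (f : K ≃+* K) (h : TcQek K (fixF f)) :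
    ∃ Q : TcQ f, Finite Q.Es ∧ Nat.card Q.Es = Nat.card (fixF f) ^ 2 - 1 ∧ IsCyclic Q.Es ∧
      orderOf Q.z0 = Nat.card (fixF f) + 1 := by
  obtain ⟨Es, cg, fin, ι, hinj, hcard, hcyc, hfix, hscal, htri, z₀, hdet, hne, hord, hcent⟩ := h
  refine ⟨{ Es := Es, cg := cg, ι := ι, inj := hinj, fix := fun z i j => hfix z i j,
            scal := fun a ha ha0 => hscal a ha ha0, tri := htri, z0 := z₀, z0_det := hdet,
            z0_ne := hne, cent := fun B hB hBf hBc => hcent B hB (fun i j => hBf i j) hBc },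
    fin, hcard, hcyc, hord⟩

section main

variable [Fintype K] {q : ℕ}

theorem tc_card_fixF (hq : IsPrimePow q) (hK : Fintype.card K = q ^ 3) :
    Nat.card (fixF (tbF hq hK)) = q := by
  refine Eq.trans ?_ (card_pow_eq_self hq.two_le (by norm_num : 0 < 3) hK)
  apply Nat.card_congr
  apply Equiv.subtypeEquivRight
  intro t
  change tbF hq hK t = t ↔ _
  rw [tbF_pow]

/-- the main theorem for `q > 2`. -/
theorem tc_main_big (hq : IsPrimePow q) (hK : Fintype.card K = q ^ 3) (hq2 : 2 < q)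
    (hQ : TcQek K (fixF (tbF hq hK))) :
    ∃ H : Subgroup ↥(Cfsg.Lie.twistedD4 K q), IsCyclic ↥H ∧ Nat.card ↥H = (q ^ 3 - 1) * (q + 1) ∧
      Subgroup.centralizer (H : Set ↥(Cfsg.Lie.twistedD4 K q)) = H := by
  classical
  obtain ⟨Q, hfin, hE, hcyc, -⟩ := tc_Q_of_qek (tbF hq hK) hQ
  rw [tc_card_fixF hq hK] at hE
  obtain ⟨ν0, hν0⟩ := (inferInstance : IsCyclic Kˣ).exists_generator
  have hf3 := tbF_three hq hK
  have hf := tbF_pow hq hK
  have hq3 : q ^ 3 = q * q * q := by ring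
  have hqq : 9 ≤ q * q := Nat.mul_le_mul hq2 hq2
  have hqqq : 27 ≤ q * q * q := Nat.mul_le_mul hqq hq2
  have hqq' : q * q * 3 ≤ q * q * q := Nat.mul_le_mul_left _ hq2
  refine tc_main_of_cent hq hK Q hE hcyc ν0 ?_
  intro g hg h1 h2
  refine Q.cent_big (fun u hu => tc_U_param hq hK hu) hf3 (Units.ne_zero ν0) ?_ ?_ ?_ ?_ hg h1 h2
  · -- `ν ν^{q²} ≠ ν^q`
    intro h
    rw [hf, hf] at h
    have h' : ((ν0 : Kˣ) : K) ^ (q * q - q + 1) = 1 := by
      have hν : ((ν0 : Kˣ) : K) ≠ 0 := Units.ne_zero ν0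
      have e : ((ν0 : Kˣ) : K) ^ q * ((ν0 : Kˣ) : K) ^ (q * q - q + 1) = ((ν0 : Kˣ) : K) ^ q * 1 := by
        rw [mul_one, ← pow_add]
        have : q + (q * q - q + 1) = 1 + q * q := by
          have : q ≤ q * q := Nat.le_mul_self q
          omega
        rw [this, pow_add, pow_one, pow_mul, h]
      exact mul_left_cancel₀ (pow_ne_zero q hν) e
    refine tc_pow_ne_one hK hν0 ?_ ?_ h'
    · omega
    · have : q ≤ q * q := Nat.le_mul_self q
      omega
  · exact tc_pow_ne_one hK hν0 (by norm_num) (by omega)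
  · exact tc_pow_ne_one hK hν0 (by norm_num) (by omega)
  · -- `N ν ≠ 1`
    unfold tcN
    rw [hf, hf]
    have e : ((ν0 : Kˣ) : K) * ((ν0 : Kˣ) : K) ^ q * (((ν0 : Kˣ) : K) ^ q) ^ q =
        ((ν0 : Kˣ) : K) ^ (1 + q + q * q) := by
      rw [pow_add, pow_add, pow_one, pow_mul]
    rw [e]
    refine tc_pow_ne_one hK hν0 (by omega) ?_
    have : q * 3 ≤ q * q := Nat.mul_le_mul_left _ hq2
    omega

end main

end Cfsg.Agent.Helper7.Tc
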