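import Mathlib
import Cfsg.Agent.Helper7.TcA

set_option autoImplicit false
set_option linter.unusedSectionVars false
set_option linter.unusedVariables false

/-!
Twisted groups: the double cosets `B¹ n_w B¹` of the words of a certified list are pairwise disjoint.
-/

namespace Cfsg.Agent.Helper7.Chev

open Cfsg Cfsg.Lie Matrix DoubleCoset
open scoped Pointwise

variable {D : ChevalleyDatum} {K : Type*} [Field K]

section main

variable (hG : Good2 D) (hT : T0 D) (h3 : (tabOf D).T3) (h4 : (tabOf D).T4 60) (h5 : (tabOf D).T5)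
  (h6 : (tabOf D).T6) (h7 : (tabOf D).T7) (h8 : (tabOf D).T8) (h9 : (tabOf D).T9)
  {ρ ρ' σ σ' : ℕ → ℕ} {ε : ℕ → ℤ} (h18 : T18 D ρ ρ' σ σ' ε) {cls : List (ℕ × ℕ)}
  (h19 : T19 D ρ σ cls) (h20 : (tabOf D).T20 ρ cls) (f : K ≃+* K)

variable {W : List (List (ℕ × ℕ))} (hW : TwWList D ρ cls W)

include hT h5 h6 h7 h8 h9 h18 h20 hW in
/-- an element of the double coset of `n_L` has a normal form with the word `L`. -/
theorem tc_cell_nf {L : List (ℕ × ℕ)} (hLW : L ∈ W) {g : GL D.Idx K}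
    (hg : g ∈ doubleCoset (nWordGL hG (L.flatMap (clsWord ρ)))
      (twB hG h3 h4 h19 f : Set (GL D.Idx K)) (twB hG h3 h4 h19 f)) :
    ∃ b ∈ twB hG h3 h4 h19 f, ∃ u ∈ twM hG h18 f (L.flatMap (clsWord ρ)),
      g = b * nWordGL hG (L.flatMap (clsWord ρ)) * u := by
  obtain ⟨b₁, hb₁, b₂, hb₂, rfl⟩ := mem_doubleCoset.mp hg
  obtain ⟨hL, hpp⟩ := hW.ok L hLW
  set n : GL D.Idx K := nWordGL hG (L.flatMap (clsWord ρ)) with hn
  have hnN : n ∈ D.monomialSubgroup K := nWordGL_mem hG _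
  have hnG : n ∈ twGroup hG h3 h4 h19 f := nWordGL_flatMap_mem hG h3 h4 h19 f hL
  have hb₂' : b₂⁻¹ ∈ twB hG h3 h4 h19 f := inv_mem hb₂
  obtain ⟨u₀, hu₀, h₀, hh₀, e₀⟩ := twB_decomp hG h3 h4 h19 f hb₂'
  have e₂ : b₂ = h₀⁻¹ * u₀⁻¹ := by
    have : b₂ = (b₂⁻¹)⁻¹ := by rw [inv_inv]
    rw [this, e₀]; group
  obtain ⟨b, hb, u', hu', e₃⟩ :=
    tw_nWord_mul_mem hG hT h3 h4 h5 h6 h7 h8 h18 h19 h20 f L hL hpp u₀⁻¹ (inv_mem hu₀)
  refine ⟨b₁ * (n * h₀⁻¹ * n⁻¹) * b, ?_, u', hu', ?_⟩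
  · exact mul_mem (mul_mem hb₁ (twH_le_twB hG h3 h4 h19 f
      (conj_mem_twH hG h3 h4 h19 f hnN hnG (inv_mem hh₀)))) (twU_le_twB hG h3 h4 h19 f hb)
  · rw [e₂]
    calc b₁ * n * (h₀⁻¹ * u₀⁻¹) = b₁ * (n * h₀⁻¹ * n⁻¹) * (n * u₀⁻¹) := by group
      _ = b₁ * (n * h₀⁻¹ * n⁻¹) * (b * n * u') := by rw [e₃]
      _ = _ := by group

include hT h5 h6 h7 h8 h9 h18 h20 hW in
/-- the double cosets of the words of the list are pairwise disjoint. -/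
theorem tc_cell_disj {L L' : List (ℕ × ℕ)} (hLW : L ∈ W) (hL'W : L' ∈ W) {g : GL D.Idx K}
    (hg : g ∈ doubleCoset (nWordGL hG (L.flatMap (clsWord ρ)))
      (twB hG h3 h4 h19 f : Set (GL D.Idx K)) (twB hG h3 h4 h19 f))
    (hg' : g ∈ doubleCoset (nWordGL hG (L'.flatMap (clsWord ρ)))
      (twB hG h3 h4 h19 f : Set (GL D.Idx K)) (twB hG h3 h4 h19 f)) : L = L' := by
  obtain ⟨b, hb, u, hu, e⟩ := tc_cell_nf hG hT h3 h4 h5 h6 h7 h8 h9 h18 h19 h20 f hW hLW hg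
  obtain ⟨b', hb', u', hu', e'⟩ := tc_cell_nf hG hT h3 h4 h5 h6 h7 h8 h9 h18 h19 h20 f hW hL'W hg'
  exact (normal_form_unique_tw hG hT h3 h4 h5 h6 h7 h8 h9 h18 h19 h20 f hW hLW hL'W hb hb' hu hu'
    (e.symm.trans e')).1

end main

end Cfsg.Agent.Helper7.Chev
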