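import Mathlib
import Cfsg.Agent.Helper7.BNBasic

set_option autoImplicit false
set_option linter.unusedSectionVars false
set_option linter.unusedVariables false

/-!
An abstract lemma on the cells of a group with a `BN`-pair of type `A₂` over the field with two elements: a
subgroup `C` containing an element `s` of the cell of `n_b` that permutes transitively the three Borel subgroups of
the minimal parabolic subgroup of `b`, and meeting only the six cells of the words in `n_b`, `n_c`, is contained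
in `⟨s⟩ B`.
-/

namespace Cfsg.Agent.Helper7.Tc

open DoubleCoset

variable {Γ : Type*} [Group Γ]

theorem tc_abs_cells (B C : Subgroup Γ) (nb nc s : Γ) (hsC : s ∈ C)
    (hcell : ∀ g ∈ C, g ∈ B ∨ g ∈ doubleCoset nb (B : Set Γ) B ∨ g ∈ doubleCoset nc (B : Set Γ) B ∨
      g ∈ doubleCoset (nb * nc) (B : Set Γ) B ∨ g ∈ doubleCoset (nc * nb) (B : Set Γ) B ∨
      g ∈ doubleCoset (nb * nc * nb) (B : Set Γ) B)
    (hdisj : ∀ g, g ∈ doubleCoset (nb * nc) (B : Set Γ) B → g ∈ doubleCoset (nc * nb) (B : Set Γ) B → False)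
    (hL : ∀ b ∈ B, nb * b * nc ∈ doubleCoset (nb * nc) (B : Set Γ) B)
    (hR : ∀ b ∈ B, nc * b * nb ∈ doubleCoset (nc * nb) (B : Set Γ) B)
    (hs : s ∈ doubleCoset nb (B : Set Γ) B)
    (htrans : ∀ b ∈ B, ∃ j : ℕ, s ^ j * b * nb ∈ B)
    (hinvb : nb⁻¹ = nb) (hinvc : nc⁻¹ = nc)
    (hcomm : ∀ g ∈ C, s * g = g * s) :
    ∀ g ∈ C, ∃ j : ℕ, s ^ j * g ∈ B := by
  -- (i) no element of `C` in the cell of `n_c`
  have h1 : ∀ g ∈ C, g ∈ doubleCoset nc (B : Set Γ) B → False := by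
    intro g hgC hg
    obtain ⟨b₁, hb₁, b₂, hb₂, rfl⟩ := mem_doubleCoset.mp hg
    obtain ⟨b₃, hb₃, b₄, hb₄, hs'⟩ := mem_doubleCoset.mp hs
    have e1 : s * (b₁ * nc * b₂) ∈ doubleCoset (nb * nc) (B : Set Γ) B := by
      obtain ⟨c₁, hc₁, c₂, hc₂, e⟩ := mem_doubleCoset.mp (hL (b₄ * b₁) (mul_mem hb₄ hb₁))
      rw [mem_doubleCoset]
      refine ⟨b₃ * c₁, mul_mem hb₃ hc₁, c₂ * b₂, mul_mem hc₂ hb₂, ?_⟩
      calc s * (b₁ * nc * b₂) = b₃ * (nb * (b₄ * b₁) * nc) * b₂ := by rw [hs']; group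
        _ = b₃ * (c₁ * (nb * nc) * c₂) * b₂ := by rw [e]
        _ = _ := by group
    have e2 : (b₁ * nc * b₂) * s ∈ doubleCoset (nc * nb) (B : Set Γ) B := by
      obtain ⟨c₁, hc₁, c₂, hc₂, e⟩ := mem_doubleCoset.mp (hR (b₂ * b₃) (mul_mem hb₂ hb₃))
      rw [mem_doubleCoset]
      refine ⟨b₁ * c₁, mul_mem hb₁ hc₁, c₂ * b₄, mul_mem hc₂ hb₄, ?_⟩
      calc (b₁ * nc * b₂) * s = b₁ * (nc * (b₂ * b₃) * nb) * b₄ := by rw [hs']; group
        _ = b₁ * (c₁ * (nc * nb) * c₂) * b₄ := by rw [e]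
        _ = _ := by group
    rw [hcomm _ hgC] at e1
    exact hdisj _ e1 e2
  have hpow : ∀ j : ℕ, s ^ j ∈ C := fun j => pow_mem hsC j
  -- (ii) the cell of `n_b n_c`
  have h2 : ∀ g ∈ C, g ∈ doubleCoset (nb * nc) (B : Set Γ) B → False := by
    intro g hgC hg
    obtain ⟨b₁, hb₁, b₂, hb₂, rfl⟩ := mem_doubleCoset.mp hg
    obtain ⟨j, hj⟩ := htrans b₁ hb₁
    apply h1 (s ^ j * (b₁ * (nb * nc) * b₂)) (mul_mem (hpow j) hgC)
    rw [mem_doubleCoset]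
    refine ⟨s ^ j * b₁ * nb, hj, b₂, hb₂, ?_⟩
    group
  -- (iii) the cell of `n_c n_b`
  have h3 : ∀ g ∈ C, g ∈ doubleCoset (nc * nb) (B : Set Γ) B → False := by
    intro g hgC hg
    obtain ⟨b₁, hb₁, b₂, hb₂, rfl⟩ := mem_doubleCoset.mp hg
    apply h2 (b₁ * (nc * nb) * b₂)⁻¹ (inv_mem hgC)
    rw [mem_doubleCoset]
    refine ⟨b₂⁻¹, inv_mem hb₂, b₁⁻¹, inv_mem hb₁, ?_⟩
    calc (b₁ * (nc * nb) * b₂)⁻¹ = b₂⁻¹ * (nb⁻¹ * nc⁻¹) * b₁⁻¹ := by group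
      _ = _ := by rw [hinvb, hinvc]
  -- (iv) the cell of `n_b n_c n_b`
  have h4 : ∀ g ∈ C, g ∈ doubleCoset (nb * nc * nb) (B : Set Γ) B → False := by
    intro g hgC hg
    obtain ⟨b₁, hb₁, b₂, hb₂, rfl⟩ := mem_doubleCoset.mp hg
    obtain ⟨j, hj⟩ := htrans b₁ hb₁
    apply h3 (s ^ j * (b₁ * (nb * nc * nb) * b₂)) (mul_mem (hpow j) hgC)
    rw [mem_doubleCoset]
    refine ⟨s ^ j * b₁ * nb, hj, b₂, hb₂, ?_⟩
    group
  intro g hgC
  rcases hcell g hgC with h | h | h | h | h | h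
  · exact ⟨0, by rw [pow_zero, one_mul]; exact h⟩
  · obtain ⟨b₁, hb₁, b₂, hb₂, rfl⟩ := mem_doubleCoset.mp h
    obtain ⟨j, hj⟩ := htrans b₁ hb₁
    refine ⟨j, ?_⟩
    have : s ^ j * (b₁ * nb * b₂) = (s ^ j * b₁ * nb) * b₂ := by group
    rw [this]
    exact mul_mem hj hb₂
  · exact (h1 g hgC h).elim
  · exact (h2 g hgC h).elim
  · exact (h3 g hgC h).elim
  · exact (h4 g hgC h).elim

end Cfsg.Agent.Helper7.Tc
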