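import Mathlib
import Cfsg.Agent.Helper7.TcL
import Cfsg.Agent.Helper7.TcM
import Cfsg.Agent.Helper7.TcN
import Cfsg.Agent.Helper7.D4InvG

set_option autoImplicit false
set_option linter.unusedSectionVars false
set_option linter.unusedVariables false

/-!
`³D₄(2)`: facts on `SL₂` in characteristic two and on the elements `n_a`, `n_b`, `n_c = n_a n_b n_a`.
-/

namespace Cfsg.Agent.Helper7.Tc

open Cfsg Cfsg.Lie Cfsg.Agent.Helper7.Chev Cfsg.Agent.CtRecT Matrix DoubleCoset

variable {K : Type*} [Field K]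

/-! ### `SL₂` -/

/-- the Bruhat form of an element of `SL₂` outside the Borel subgroup. -/
theorem tc_sl2_bruhat (S : Matrix.SpecialLinearGroup (Fin 2) K) (hm : S.val 1 0 ≠ 0) :
    S = upperSL (S.val 0 0 / S.val 1 0) * diagSL (-(S.val 1 0)⁻¹) (neg_ne_zero.mpr (inv_ne_zero hm)) *
      antiSL * upperSL (S.val 1 1 / S.val 1 0) := by
  have hdet := det_two_eq S
  apply Subtype.ext
  rw [Matrix.SpecialLinearGroup.coe_mul, Matrix.SpecialLinearGroup.coe_mul,
    Matrix.SpecialLinearGroup.coe_mul]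
  change S.val = (!![1, S.val 0 0 / S.val 1 0; 0, 1] : Matrix (Fin 2) (Fin 2) K) *
      !![-(S.val 1 0)⁻¹, 0; 0, (-(S.val 1 0)⁻¹)⁻¹] * !![0, 1; -1, 0] *
      !![1, S.val 1 1 / S.val 1 0; 0, 1]
  ext i j
  fin_cases i <;> fin_cases j <;> simp [Matrix.mul_apply, Fin.sum_univ_two] <;>
    (try field_simp) <;>
    (try (first | ring1 | linear_combination hdet | linear_combination (-1 : K) * hdet))

/-- an element of `SL₂` of order three with lower left entry `1` has trace `1` in characteristic two. -/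
theorem tc_sl2_trace [CharP K 2] (S : Matrix.SpecialLinearGroup (Fin 2) K) (hm : S.val 1 0 = 1)
    (h3 : S * S * S = 1) : S.val 0 0 + S.val 1 1 = 1 := by
  have h2 := two_eq_zero_F (F := K)
  have hdet := det_two_eq S
  have hv := congrArg Subtype.val h3
  rw [Matrix.SpecialLinearGroup.coe_mul, Matrix.SpecialLinearGroup.coe_mul] at hv
  have e := congrFun (congrFun hv 1) 0
  simp [Matrix.mul_apply, Fin.sum_univ_two, hm] at e
  rw [hm] at hdet
  have hsq : (S.val 0 0 + S.val 1 1 - 1) * (S.val 0 0 + S.val 1 1 - 1) = 0 := by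
    linear_combination e + hdet + (1 - S.val 0 0 - S.val 1 1) * h2
  have := mul_self_eq_zero.mp hsq
  linear_combination this

theorem tc_sl2_step1 (S : Matrix.SpecialLinearGroup (Fin 2) K) (hm : S.val 1 0 = 1) (t : K) :
    (S * upperSL t * antiSL).val 1 0 = -(t + S.val 1 1) := by
  rw [Matrix.SpecialLinearGroup.coe_mul, Matrix.SpecialLinearGroup.coe_mul]
  change (S.val * (!![1, t; 0, 1] : Matrix (Fin 2) (Fin 2) K) * (!![0, 1; -1, 0] : Matrix (Fin 2) (Fin 2) K)) 1 0 = _
  simp [Matrix.mul_apply, Fin.sum_univ_two, hm]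

theorem tc_sl2_step2 (S : Matrix.SpecialLinearGroup (Fin 2) K) (hm : S.val 1 0 = 1)
    (htr : S.val 0 0 + S.val 1 1 = 1) (t : K) :
    (S * S * upperSL t * antiSL).val 1 0 = -(t + S.val 1 1 - 1) := by
  have hdet := det_two_eq S
  rw [hm] at hdet
  rw [Matrix.SpecialLinearGroup.coe_mul, Matrix.SpecialLinearGroup.coe_mul,
    Matrix.SpecialLinearGroup.coe_mul]
  change (S.val * S.val * (!![1, t; 0, 1] : Matrix (Fin 2) (Fin 2) K) * (!![0, 1; -1, 0] : Matrix (Fin 2) (Fin 2) K)) 1 0 = _
  simp [Matrix.mul_apply, Fin.sum_univ_two, hm]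
  linear_combination (-t - S.val 1 1) * htr + hdet

/-- an element fixed by the squaring map is `0` or `1`. -/
theorem tc_fix_two {t : K} (h : t ^ 2 = t) : t = 0 ∨ t = 1 := by
  have : t * (t - 1) = 0 := by linear_combination h
  rcases mul_eq_zero.mp this with h | h
  · exact Or.inl h
  · exact Or.inr (sub_eq_zero.mp h)

/-- the transitivity of `⟨S⟩` on the three points of the projective line over `𝔽₂`. -/
theorem tc_sl2_trans [CharP K 2] (S : Matrix.SpecialLinearGroup (Fin 2) K) (hm : S.val 1 0 = 1)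
    (h3 : S * S * S = 1) (hd : S.val 1 1 ^ 2 = S.val 1 1) {t : K} (ht : t ^ 2 = t) :
    (S * upperSL t * antiSL).val 1 0 = 0 ∨ (S * S * upperSL t * antiSL).val 1 0 = 0 := by
  have h2 := two_eq_zero_F (F := K)
  have htr := tc_sl2_trace S hm h3
  rw [tc_sl2_step1 S hm, tc_sl2_step2 S hm htr]
  rcases tc_fix_two ht with rfl | rfl <;> rcases tc_fix_two hd with h | h <;> rw [h]
  · left; ring
  · right; ring
  · right; ring
  · left; linear_combination (-1 : K) * h2

end Cfsg.Agent.Helper7.Tc
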