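import Mathlib
import Cfsg.Agent.Helper7.TcO

set_option autoImplicit false
set_option linter.unusedSectionVars false
set_option linter.unusedVariables false

/-!
`³D₄(q)`, `q` even: the elements `n_a`, `n_b`, `n_c = n_a n_b n_a`, and the rules for the double cosets of
`n_b n_c` and `n_c n_b`.
-/

namespace Cfsg.Agent.Helper7.Tc

open Cfsg Cfsg.Lie Cfsg.Agent.Helper7.Chev Cfsg.Agent.CtRecT Matrix DoubleCoset

variable {K : Type*} [Field K] (f : K ≃+* K)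

/-- `n_c = n_a n_b n_a`, the element of the reflection in `3a + b`. -/
noncomputable def tcNc : GL chevD4.Idx K := tgNa f * tgNb f * tgNa f

theorem tcNc_eq : tcNc f = nWordGL good2_D4 [0, 2, 3, 1, 0, 2, 3] := by
  unfold tcNc
  rw [tacx_na_eq, tacx_nb_eq, ← nWordGL_append, ← nWordGL_append]
  rfl

theorem tc_nbnc_eq : tgNb f * tcNc f = nWordGL good2_D4 [1, 0, 2, 3, 1, 0, 2, 3] := by
  rw [tcNc_eq, tacx_nb_eq, ← nWordGL_append]
  rfl

theorem tc_ncnb_eq : tcNc f * tgNb f = nWordGL good2_D4 [0, 2, 3, 1, 0, 2, 3, 1] := by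
  rw [tcNc_eq, tacx_nb_eq, ← nWordGL_append]
  rfl

theorem tc_nbncnb_eq : tgNb f * tcNc f * tgNb f = nWordGL good2_D4 [1, 0, 2, 3, 1, 0, 2, 3, 1] := by
  rw [tc_nbnc_eq, tacx_nb_eq, ← nWordGL_append]
  rfl

section char2

variable [CharP K 2]

theorem tc_anti_sq : (antiSL : Matrix.SpecialLinearGroup (Fin 2) K) * antiSL = 1 := by
  have h2 := two_eq_zero_F (F := K)
  apply Subtype.ext
  rw [Matrix.SpecialLinearGroup.coe_mul]
  change (!![0, 1; -1, 0] : Matrix (Fin 2) (Fin 2) K) * !![0, 1; -1, 0] = 1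
  ext i j
  fin_cases i <;> fin_cases j <;> simp [Matrix.mul_apply, Fin.sum_univ_two]
  · linear_combination (-1 : K) * h2
  · linear_combination (-1 : K) * h2

theorem tc_nb_sq : tgNb f * tgNb f = 1 := by
  unfold tgNb
  rw [← map_mul, tc_anti_sq, map_one]

theorem tc_na_sq : tgNa f * tgNa f = 1 := by
  unfold tgNa
  rw [← map_mul, tc_anti_sq, map_one]

theorem tc_nb_inv : (tgNb f)⁻¹ = tgNb f := inv_eq_of_mul_eq_one_left (tc_nb_sq f)

theorem tc_na_inv : (tgNa f)⁻¹ = tgNa f := inv_eq_of_mul_eq_one_left (tc_na_sq f)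

theorem tc_nc_inv : (tcNc f)⁻¹ = tcNc f := by
  unfold tcNc
  rw [_root_.mul_inv_rev, _root_.mul_inv_rev, tc_na_inv, tc_nb_inv, mul_assoc]

end char2

/-! ### the rules for the double cosets -/

theorem tc_nc_mem : tcNc f ∈ tgG f := mul_mem (mul_mem (tgNa_mem f) (tgNb_mem f)) (tgNa_mem f)

/-- `n_b B n_c ⊆ B n_b n_c B`. -/
theorem tc_ruleL {b : GL chevD4.Idx K} (hb : b ∈ tgB1 f) :
    tgNb f * b * tcNc f ∈ doubleCoset (tgNb f * tcNc f) (tgB1 f : Set (GL chevD4.Idx K)) (tgB1 f) := by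
  have hw : ∀ i ∈ [0, 2, 3, 1, 0, 2, 3], i < chevD4.rank := by decide
  have hnG : (1 : GL chevD4.Idx K) * nWordGL good2_D4 [0, 2, 3, 1, 0, 2, 3] ∈ tgG f := by
    rw [one_mul, ← tcNc_eq]
    exact tc_nc_mem f
  have hpos : ∀ j < (tgB).2, chevD4.nroots / 2 ≤ (tabOf chevD4).reflWord
      ([0, 2, 3, 1, 0, 2, 3] : List ℕ).reverse
      (clsRoot chevD4 (fun i => [2, 1, 3, 0].getD i 0) (tgB).1 j) := by
    decide
  have key := tw_mul_mem_of_pos good2_D4 T0_D4 T3_D4 T4_D4 T5_D4 T6_D4 T7_D4 T8_D4 T18_D4a T19_D4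
    T20_D4 f tgB_mem (one_mem (chevD4.diagonalSubgroup K)) hw hnG hpos hb
  rw [one_mul, ← tcNc_eq] at key
  exact key

section char2

variable [CharP K 2]

/-- `n_c B n_b ⊆ B n_c n_b B`, in characteristic two. -/
theorem tc_ruleR {b : GL chevD4.Idx K} (hb : b ∈ tgB1 f) :
    tcNc f * b * tgNb f ∈ doubleCoset (tcNc f * tgNb f) (tgB1 f : Set (GL chevD4.Idx K)) (tgB1 f) := by
  obtain ⟨c₁, hc₁, c₂, hc₂, e⟩ := mem_doubleCoset.mp (tc_ruleL f (inv_mem hb))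
  rw [mem_doubleCoset]
  refine ⟨c₂⁻¹, inv_mem hc₂, c₁⁻¹, inv_mem hc₁, ?_⟩
  have e' : tcNc f * b * tgNb f = (tgNb f * b⁻¹ * tcNc f)⁻¹ := by
    rw [_root_.mul_inv_rev, _root_.mul_inv_rev, inv_inv, tc_nc_inv, tc_nb_inv, mul_assoc]
  rw [e', e, _root_.mul_inv_rev, _root_.mul_inv_rev, _root_.mul_inv_rev, tc_nc_inv, tc_nb_inv]
  group

end char2

/-- the double cosets of `n_b n_c` and `n_c n_b` are disjoint. -/
theorem tc_disj {g : GL chevD4.Idx K}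
    (h1 : g ∈ doubleCoset (tgNb f * tcNc f) (tgB1 f : Set (GL chevD4.Idx K)) (tgB1 f))
    (h2 : g ∈ doubleCoset (tcNc f * tgNb f) (tgB1 f : Set (GL chevD4.Idx K)) (tgB1 f)) : False := by
  rw [tc_nbnc_eq] at h1
  rw [tc_ncnb_eq] at h2
  have hL : ([(1, 1), (0, 3), (1, 1), (0, 3)] : List (ℕ × ℕ)) ∈ twL_D4 := by decide
  have hL' : ([(0, 3), (1, 1), (0, 3), (1, 1)] : List (ℕ × ℕ)) ∈ twL_D4 := by decide
  have := tc_cell_disj good2_D4 T0_D4 T3_D4 T4_D4 T5_D4 T6_D4 T7_D4 T8_D4 T9_D4 T18_D4a T19_D4 T20_D4 f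
    tc_wlist hL hL' h1 h2
  revert this
  decide

end Cfsg.Agent.Helper7.Tc
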