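import Mathlib
import Cfsg.Agent.Helper7.TcP

set_option autoImplicit false
set_option linter.unusedSectionVars false
set_option linter.unusedVariables false

/-!
`³D₄(2)`: the element `s₀ = y(z₀)` lies in the cell of `n_b`, and `⟨s₀⟩` is transitive on the three Borel subgroups
of the minimal parabolic subgroup of `b`.
-/

namespace Cfsg.Agent.Helper7.Tc

open Cfsg Cfsg.Lie Cfsg.Agent.Helper7.Chev Cfsg.Agent.CtRecT Matrix DoubleCoset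

variable {K : Type*} [Field K] {f : K ≃+* K}

theorem tc_xd14_mem_U {t : K} (ht : f t = t) : xd 14 t ∈ tgU f := by
  rw [← tc_phi_upper f]
  exact (mem_twU good2_D4 T3_D4 T4_D4 T19_D4 f).mpr
    ⟨by rw [tc_phi_upper]; exact xd_mem_U 14 (by decide) t, tgB_upper_mem f ht⟩

theorem tc_hb_mem_H {l : K} (hl : f l = l) : tbHb l ∈ tgH f :=
  (mem_twH good2_D4 T3_D4 T4_D4 T19_D4 f).mpr ⟨tbHb_mem_diag l, tbd_hb_mem f l hl⟩

/-- `φ_b` of an upper triangular matrix over the fixed field lies in `B¹`. -/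
theorem tc_phi_tri_mem_B {M : Matrix.SpecialLinearGroup (Fin 2) K} (hM : M ∈ tcSLfix f)
    (h10 : M.val 1 0 = 0) : tgPhiB f M ∈ tgB1 f := by
  obtain ⟨h0, e⟩ := tc_sl2_tri M h10
  rw [e, map_mul, tc_phi_diag f h0, tc_phi_upper]
  refine mul_mem (twH_le_twB good2_D4 T3_D4 T4_D4 T19_D4 f (tc_hb_mem_H (hM 0 0)))
    (twU_le_twB good2_D4 T3_D4 T4_D4 T19_D4 f (tc_xd14_mem_U ?_))
  rw [map_mul, map_inv₀, hM 0 0, hM 0 1]

variable (Q : TcQ f)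

/-- `s₀` lies in the double coset of `n_b`. -/
theorem TcQ.s0_cell : Q.y Q.z0 ∈ doubleCoset (tgNb f) (tgB1 f : Set (GL chevD4.Idx K)) (tgB1 f) := by
  rw [Q.y_z0]
  have hm : Q.S0.val 1 0 ≠ 0 := Q.z0_ne
  have e := tc_sl2_bruhat Q.S0 hm
  rw [mem_doubleCoset]
  refine ⟨xd 14 (Q.S0.val 0 0 / Q.S0.val 1 0) * tbHb (-(Q.S0.val 1 0)⁻¹), ?_,
    xd 14 (Q.S0.val 1 1 / Q.S0.val 1 0), ?_, ?_⟩
  · refine mul_mem (twU_le_twB good2_D4 T3_D4 T4_D4 T19_D4 f (tc_xd14_mem_U ?_))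
      (twH_le_twB good2_D4 T3_D4 T4_D4 T19_D4 f (tc_hb_mem_H ?_))
    · rw [map_div₀, Q.S0_fix, Q.S0_fix]
    · rw [map_neg, map_inv₀, Q.S0_fix]
  · refine twU_le_twB good2_D4 T3_D4 T4_D4 T19_D4 f (tc_xd14_mem_U ?_)
    rw [map_div₀, Q.S0_fix, Q.S0_fix]
  · conv_lhs => rw [e]
    rw [map_mul, map_mul, map_mul, tc_phi_upper, tc_phi_upper, tc_phi_diag]

/-! ### `q = 2` -/

section two

variable (hf2 : ∀ t, f t = t ^ 2) (hf3 : ∀ t, f (f (f t)) = t)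

include hf2 in
theorem tc2_fix {t : K} (ht : f t = t) : t = 0 ∨ t = 1 := by
  rw [hf2] at ht
  exact tc_fix_two ht

include hf2 in
theorem tc2_fix_one {t : K} (ht : f t = t) (h0 : t ≠ 0) : t = 1 :=
  (tc2_fix hf2 ht).resolve_left h0

include hf2 hf3 in
/-- for `q = 2` every element of `H¹` is an `x(ν)`. -/
theorem tc2_H {h : GL chevD4.Idx K} (hh : h ∈ tgH f) : ∃ ν : K, ν ≠ 0 ∧ h = tcXnu f ν := by
  have hf3' : ∀ t, (((f : K →+* K)) ^ 3) t = t := fun t => by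
    rw [pow_succ, pow_two]
    exact hf3 t
  obtain ⟨μ, l, hμ, hl, hfl, rfl⟩ := tc_H_param f hf3' hh
  have hl1 : l = 1 := tc2_fix_one hf2 hfl hl
  have hN1 : tcN f μ = 1 := tc2_fix_one hf2 (tcN_fix f hf3 μ) (tcN_ne_zero f hμ)
  refine ⟨μ * f μ * l⁻¹, ?_, tc_ker_b f hf3 hμ hl hfl (by rw [hl1, hN1, one_pow])⟩
  exact mul_ne_zero (mul_ne_zero hμ ((map_ne_zero f).mpr hμ)) (inv_ne_zero hl)

include hf2 hf3 in
theorem tc2_H_comm {h : GL chevD4.Idx K} (hh : h ∈ tgH f) (A : Matrix.SpecialLinearGroup (Fin 2) K) :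
    h * tgPhiB f A = tgPhiB f A * h := by
  obtain ⟨ν, hν, rfl⟩ := tc2_H hf2 hf3 hh
  exact tcXnu_comm_phi f hf3 hν A

include hf2 hf3 in
theorem TcQ.H_le_T {h : GL chevD4.Idx K} (hh : h ∈ tgH f) : h ∈ Q.T hf3 := by
  obtain ⟨ν, hν, rfl⟩ := tc2_H hf2 hf3 hh
  rw [TcQ.mem_T]
  refine ⟨Units.mk0 ν hν, 1, ?_⟩
  rw [map_one, tcTheta_one, mul_one, Units.val_mk0]

include hf2 in
theorem TcQ.S0_10 : Q.S0.val 1 0 = 1 := tc2_fix_one hf2 (Q.S0_fix 1 0) Q.z0_ne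

theorem TcQ.S0_cube (hz3 : Q.z0 ^ 3 = 1) : Q.S0 * Q.S0 * Q.S0 = 1 := by
  have h1 : Q.ι (Q.z0 ^ 3) = 1 := by rw [hz3, map_one]
  rw [map_pow] at h1
  have h2 := congrArg (fun g : GL (Fin 2) K => (g : Matrix (Fin 2) (Fin 2) K)) h1
  simp only [Units.val_pow_eq_pow_val, Units.val_one] at h2
  apply Subtype.ext
  rw [Matrix.SpecialLinearGroup.coe_mul, Matrix.SpecialLinearGroup.coe_mul, TcQ.S0_val]
  rw [pow_succ, pow_two] at h2
  exact h2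

section trans

variable [CharP K 2]

include hf2 hf3 in
/-- if `A x_b(t) n_b` is upper triangular, where `x_b(t)` is the component of `b₁⁻¹` on the root `b`, then
`φ_b(A) b₁ n_b ∈ B¹`. -/
theorem tc2_trans_aux {b₁ : GL chevD4.Idx K} (hb₁ : b₁ ∈ tgB1 f) :
    ∃ t : K, f t = t ∧ ∀ A : Matrix.SpecialLinearGroup (Fin 2) K, A ∈ tcSLfix f →
      (A * upperSL t * antiSL).val 1 0 = 0 → tgPhiB f A * b₁ * tgNb f ∈ tgB1 f := by
  obtain ⟨u, hu, h, hh, e⟩ := twB_decomp good2_D4 T3_D4 T4_D4 T19_D4 f (inv_mem hb₁)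
  obtain ⟨u', hu', hu'G, t, ht, eu⟩ := tau_dec f tgB_mem hu
  have hft : f t = t := (adm_one_iff f t).mp ht
  refine ⟨t, hft, ?_⟩
  intro A hA h10
  have eb : b₁ = h⁻¹ * xd 14 t * u'⁻¹ := by
    have : b₁ = (b₁⁻¹)⁻¹ := by rw [inv_inv]
    rw [this, e, eu]
    change (u' * tgPhiB f (upperSL t) * h)⁻¹ = _
    rw [tc_phi_upper, _root_.mul_inv_rev, _root_.mul_inv_rev, xd_inv2, mul_assoc]
  have hM : A * upperSL t * antiSL ∈ tcSLfix f :=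
    mul_mem (mul_mem hA (tc_upper_fix hft)) tc_anti_fix
  have hφM := tc_phi_tri_mem_B hM h10
  have hcomm := tc2_H_comm hf2 hf3 (inv_mem hh) A
  have hconj : tgNb f * u'⁻¹ * (tgNb f)⁻¹ ∈ tgU f :=
    tau_n_conj f tgB_mem (inv_mem hu') (inv_mem hu'G)
  have key : tgPhiB f A * b₁ * tgNb f =
      h⁻¹ * tgPhiB f (A * upperSL t * antiSL) * (tgNb f * u'⁻¹ * (tgNb f)⁻¹) := by
    rw [eb, map_mul, map_mul, tc_phi_upper, tc_nb_inv]
    change _ = h⁻¹ * (tgPhiB f A * xd 14 t * tgNb f) * (tgNb f * u'⁻¹ * tgNb f)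
    have e1 : tgNb f * (tgNb f * u'⁻¹ * tgNb f) = u'⁻¹ * tgNb f := by
      rw [← mul_assoc, ← mul_assoc, tc_nb_sq, one_mul]
    calc tgPhiB f A * (h⁻¹ * xd 14 t * u'⁻¹) * tgNb f
        = (tgPhiB f A * h⁻¹) * xd 14 t * (u'⁻¹ * tgNb f) := by group
      _ = (h⁻¹ * tgPhiB f A) * xd 14 t * (tgNb f * (tgNb f * u'⁻¹ * tgNb f)) := by
        rw [← hcomm, e1]
      _ = _ := by group
  rw [key]
  exact mul_mem (mul_mem (twH_le_twB good2_D4 T3_D4 T4_D4 T19_D4 f (inv_mem hh)) hφM)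
    (twU_le_twB good2_D4 T3_D4 T4_D4 T19_D4 f hconj)

include hf2 hf3 in
/-- `⟨s₀⟩` is transitive on the three Borel subgroups. -/
theorem TcQ.trans2 (hz3 : Q.z0 ^ 3 = 1) {b₁ : GL chevD4.Idx K} (hb₁ : b₁ ∈ tgB1 f) :
    ∃ j : ℕ, (Q.y Q.z0) ^ j * b₁ * tgNb f ∈ tgB1 f := by
  obtain ⟨t, hft, key⟩ := tc2_trans_aux hf2 hf3 hb₁
  have hS : Q.S0 ∈ tcSLfix f := Q.S0_fix
  have hd : Q.S0.val 1 1 ^ 2 = Q.S0.val 1 1 := by rw [← hf2]; exact Q.S0_fix 1 1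
  have ht2 : t ^ 2 = t := by rw [← hf2]; exact hft
  rcases tc_sl2_trans Q.S0 (Q.S0_10 hf2) (Q.S0_cube hz3) hd ht2 with h10 | h10
  · refine ⟨1, ?_⟩
    rw [pow_one, Q.y_z0]
    exact key Q.S0 hS h10
  · refine ⟨2, ?_⟩
    rw [pow_two, Q.y_z0, ← map_mul]
    exact key (Q.S0 * Q.S0) (mul_mem hS hS) h10

end trans

end two

end Cfsg.Agent.Helper7.Tc
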