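import Mathlib
import Cfsg.Agent.Helper7.TcR

set_option autoImplicit false
set_option linter.unusedSectionVars false
set_option linter.unusedVariables false

/-!
`³D₄(2)`: the cells that can meet the centraliser of `x(ν)`, and the elements of `B¹` commuting with `x(ν)` and
`s₀`.
-/

namespace Cfsg.Agent.Helper7.Tc

open Cfsg Cfsg.Lie Cfsg.Agent.Helper7.Chev Cfsg.Agent.CtRecT Matrix DoubleCoset

variable {K : Type*} [Field K] {f : K ≃+* K}

/-- the words of the Weyl group that can commute with `x(ν)`, `q = 2`. -/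
theorem tc_w_cases2 : ∀ L ∈ twL_D4,
    ((tabOf chevD4).reflWord (L.flatMap (clsWord (fun i => [2, 1, 3, 0].getD i 0))) 18 ∈ [5, 4, 17]) ∨
    L ∈ [[], [(1, 1)], [(0, 3), (1, 1), (0, 3)], [(1, 1), (0, 3), (1, 1), (0, 3)],
      [(0, 3), (1, 1), (0, 3), (1, 1)], [(1, 1), (0, 3), (1, 1), (0, 3), (1, 1)]] := by
  decide

section chars

variable (hf3 : ∀ t, f (f (f t)) = t) {ν : K} (hν : ν ≠ 0) (hn1 : tcN f ν = 1)

include hf3 hν hn1

/-- if `N ν = 1` and the character of `x(ν)` takes the same value on `a` and on one of `-a`, `-(a+b)`, the root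
`17`, then `(ν ν^{σ²})⁴ = 1`. -/
theorem tc2_chi_contra {r : ℕ} (hr : r ∈ [5, 4, 17])
    (h : tcChi (f : K →+* K) (ν * f (f ν)) (tcN f ν) r =
      tcChi (f : K →+* K) (ν * f (f ν)) (tcN f ν) 18) : (ν * f (f ν)) ^ 4 = 1 := by
  have e1 : f ν ≠ 0 := (map_ne_zero f).mpr hν
  have e2 : f (f ν) ≠ 0 := (map_ne_zero f).mpr e1
  have hn : ν * f ν * f (f ν) = 1 := hn1
  rw [tcChi_eq _ _ _ 18 2 0 0 (-1) (by decide) (by decide) (by decide) (by decide), hn1] at h
  simp only [List.mem_cons, List.not_mem_nil, or_false] at hr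
  rcases hr with rfl | rfl | rfl
  · rw [tcChi_eq _ _ _ 5 (-2) 0 0 1 (by decide) (by decide) (by decide) (by decide)] at h
    simp only [zpow_zero, one_mul, mul_one, zpow_one, _root_.zpow_neg, zpow_ofNat, inv_one,
      _root_.one_zpow] at h
    field_simp at h
    linear_combination -h
  · rw [tcChi_eq _ _ _ 4 (-1) 1 1 (-1) (by decide) (by decide) (by decide) (by decide)] at h
    simp only [zpow_zero, one_mul, mul_one, zpow_one, _root_.zpow_neg, zpow_ofNat, inv_one,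
      _root_.one_zpow, RingEquiv.coe_toRingHom, map_mul, hf3] at h
    field_simp at h
    linear_combination (-(ν * f (f ν)) ^ 2) * h + (ν * f ν * f (f ν) + 1) * hn
  · rw [tcChi_eq _ _ _ 17 (-1) 1 1 0 (by decide) (by decide) (by decide) (by decide)] at h
    simp only [zpow_zero, one_mul, mul_one, zpow_one, _root_.zpow_neg, zpow_ofNat, inv_one,
      _root_.one_zpow, RingEquiv.coe_toRingHom, map_mul, hf3] at h
    field_simp at h
    linear_combination (-(ν * f (f ν)) ^ 2) * h + (ν * f ν * f (f ν) + 1) * hn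

end chars

/-- the cells meeting the centraliser of `x(ν)` when `N ν = 1`. -/
theorem tc2_cells (hf3 : ∀ t, f (f (f t)) = t) {ν : K} (hν : ν ≠ 0) (hn1 : tcN f ν = 1)
    (hμ4 : (ν * f (f ν)) ^ 4 ≠ 1) {g : GL chevD4.Idx K} (hg : g ∈ tgG f)
    (h1 : tcXnu f ν * g = g * tcXnu f ν) :
    g ∈ tgB1 f ∨ g ∈ doubleCoset (tgNb f) (tgB1 f : Set (GL chevD4.Idx K)) (tgB1 f) ∨
      g ∈ doubleCoset (tcNc f) (tgB1 f : Set (GL chevD4.Idx K)) (tgB1 f) ∨
      g ∈ doubleCoset (tgNb f * tcNc f) (tgB1 f : Set (GL chevD4.Idx K)) (tgB1 f) ∨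
      g ∈ doubleCoset (tcNc f * tgNb f) (tgB1 f : Set (GL chevD4.Idx K)) (tgB1 f) ∨
      g ∈ doubleCoset (tgNb f * tcNc f * tgNb f) (tgB1 f : Set (GL chevD4.Idx K)) (tgB1 f) := by
  have e1 : f ν ≠ 0 := (map_ne_zero f).mpr hν
  have e2 : f (f ν) ≠ 0 := (map_ne_zero f).mpr e1
  have hμ0 : ν * f (f ν) ≠ 0 := mul_ne_zero hν e2
  have hn0 : tcN f ν ≠ 0 := tcN_ne_zero f hν
  obtain ⟨L, hL, u₁, hu₁, h₁, hh₁, u, hu, rfl, -, c2, -⟩ :=
    tc_cent_D4 f (tcXnu_mem_H f hf3 ν) hg h1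
  have hw := tc_w_lt L hL
  have key := tc_weyl_crit (f : K →+* K) hμ0 hn0 hw c2 18
  have huU : u ∈ tgU f := by
    obtain ⟨huP, hufix, -⟩ := (mem_twM good2_D4 T18_D4a f).mp hu
    exact (mem_twU good2_D4 T3_D4 T4_D4 T19_D4 f).mpr ⟨huP, tb_mem_of_fix f huP hufix⟩
  have hb₁ : u₁ * h₁ ∈ tgB1 f :=
    mul_mem (twU_le_twB good2_D4 T3_D4 T4_D4 T19_D4 f hu₁) (twH_le_twB good2_D4 T3_D4 T4_D4 T19_D4 f hh₁)
  have hb₂ : u ∈ tgB1 f := twU_le_twB good2_D4 T3_D4 T4_D4 T19_D4 f huU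
  have hcell : ∀ n : GL chevD4.Idx K, u₁ * h₁ * n * u ∈
      doubleCoset n (tgB1 f : Set (GL chevD4.Idx K)) (tgB1 f) := fun n =>
    mem_doubleCoset.mpr ⟨u₁ * h₁, hb₁, u, hb₂, rfl⟩
  rcases tc_w_cases2 L hL with h | h
  · exact (hμ4 (tc2_chi_contra hf3 hν hn1 h key)).elim
  · simp only [List.mem_cons, List.not_mem_nil, or_false] at h
    rcases h with rfl | rfl | rfl | rfl | rfl | rfl
    · left
      have : (([] : List (ℕ × ℕ)).flatMap (clsWord (fun i => [2, 1, 3, 0].getD i 0))) = [] := rfl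
      rw [this, nWordGL_nil, mul_one]
      exact mul_mem hb₁ hb₂
    · right; left
      have : (([(1, 1)] : List (ℕ × ℕ)).flatMap (clsWord (fun i => [2, 1, 3, 0].getD i 0))) = [1] := rfl
      rw [this, ← tacx_nb_eq f]
      exact hcell _
    · right; right; left
      have : (([(0, 3), (1, 1), (0, 3)] : List (ℕ × ℕ)).flatMap
          (clsWord (fun i => [2, 1, 3, 0].getD i 0))) = [0, 2, 3, 1, 0, 2, 3] := rfl
      rw [this, ← tcNc_eq f]
      exact hcell _
    · right; right; right; left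
      have : (([(1, 1), (0, 3), (1, 1), (0, 3)] : List (ℕ × ℕ)).flatMap
          (clsWord (fun i => [2, 1, 3, 0].getD i 0))) = [1, 0, 2, 3, 1, 0, 2, 3] := rfl
      rw [this, ← tc_nbnc_eq f]
      exact hcell _
    · right; right; right; right; left
      have : (([(0, 3), (1, 1), (0, 3), (1, 1)] : List (ℕ × ℕ)).flatMap
          (clsWord (fun i => [2, 1, 3, 0].getD i 0))) = [0, 2, 3, 1, 0, 2, 3, 1] := rfl
      rw [this, ← tc_ncnb_eq f]
      exact hcell _
    · right; right; right; right; right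
      have : (([(1, 1), (0, 3), (1, 1), (0, 3), (1, 1)] : List (ℕ × ℕ)).flatMap
          (clsWord (fun i => [2, 1, 3, 0].getD i 0))) = [1, 0, 2, 3, 1, 0, 2, 3, 1] := rfl
      rw [this, ← tc_nbncnb_eq f]
      exact hcell _

end Cfsg.Agent.Helper7.Tc
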