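import Mathlib
import Cfsg.Agent.Helper7.TcS

set_option autoImplicit false
set_option linter.unusedSectionVars false
set_option linter.unusedVariables false

/-!
`³D₄(2)`: the elements of `B¹` commuting with `x(ν)` and `s₀` lie in `T`.
-/

namespace Cfsg.Agent.Helper7.Tc

open Cfsg Cfsg.Lie Cfsg.Agent.Helper7.Chev Cfsg.Agent.CtRecT Matrix DoubleCoset

variable {K : Type*} [Field K] {f : K ≃+* K}

theorem tc2_tw_long (e₁ e₂ e₃ : K) :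
    tw f e₁ 0 0 0 e₂ e₃ = xd 14 e₁ * (xd 22 e₂ * xd 23 e₃) := by
  unfold tw tA tB tC tD tE tG
  simp only [map_zero, xd_zero, mul_one, one_mul]

theorem tc_grp_aux {G : Type*} [Group G] {A N D U : G} (h : A * N * D * U = U * (A * N * D)) :
    N * (D * U * D⁻¹) * N⁻¹ = A⁻¹ * U * A := by
  calc N * (D * U * D⁻¹) * N⁻¹ = A⁻¹ * (A * N * D * U) * D⁻¹ * N⁻¹ := by group
    _ = A⁻¹ * (U * (A * N * D)) * D⁻¹ * N⁻¹ := by rw [h]
    _ = _ := by group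

set_option maxRecDepth 1000000 in
theorem tc_refl_14_fast : fastD4.reflWord [1] 14 = 9 := by decide +kernel

theorem tc_refl_14 : (tabOf chevD4).reflWord [1] 14 = 9 := tab_D4 ▸ tc_refl_14_fast

section two

variable [CharP K 2] (hf2 : ∀ t, f t = t ^ 2) (hf3 : ∀ t, f (f (f t)) = t)

include hf3 in
/-- a long root element of `U¹` commuting with `x_b(a) n_b x_b(d)`, `a + d = 1`, is trivial. -/
theorem tc2_long_comm {a d e₁ e₂ e₃ : K} (ha : f a = a) (hd : f d = d) (h1 : f e₁ = e₁)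
    (h2 : f e₂ = e₂) (h3 : f e₃ = e₃) (htr : a + d = 1)
    (hc : (xd 14 a * tgNb f * xd 14 d) * (xd 14 e₁ * (xd 22 e₂ * xd 23 e₃)) =
      (xd 14 e₁ * (xd 22 e₂ * xd 23 e₃)) * (xd 14 a * tgNb f * xd 14 d)) :
    e₁ = 0 ∧ e₂ = 0 ∧ e₃ = 0 := by
  have hh2 := two_eq_zero_F (F := K)
  have hnb : tgNb f = nB := tacx_nb_eq f
  rw [hnb, ← tc2_tw_long (f := f)] at hc
  have key := tc_grp_aux hc
  rw [xd_inv2, xd_inv2] at key
  have c1 : xd 14 d * tw f e₁ 0 0 0 e₂ e₃ * xd 14 d = tw f e₁ 0 0 0 e₂ (e₂ * d + e₃) := by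
    have := cjB f hf3 d e₁ 0 0 0 e₂ e₃ h1 h2 h3 hd
    simp only [map_zero, zero_mul, mul_zero, zero_add, add_zero] at this
    exact this
  have c2 : xd 14 a * tw f e₁ 0 0 0 e₂ e₃ * xd 14 a = tw f e₁ 0 0 0 e₂ (e₂ * a + e₃) := by
    have := cjB f hf3 a e₁ 0 0 0 e₂ e₃ h1 h2 h3 ha
    simp only [map_zero, zero_mul, mul_zero, zero_add, add_zero] at this
    exact this
  rw [c1, c2, tc2_tw_long, tc2_tw_long] at key
  have c3 : nB * (xd 14 e₁ * (xd 22 e₂ * xd 23 (e₂ * d + e₃))) * nB⁻¹ =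
      xd 9 e₁ * (xd 23 e₂ * xd 22 (e₂ * d + e₃)) := by
    have c := fun (s r : Fin 24) h (a : K) => conj_xd (K := K) d4_wB_lt s r h a
    have e22 := nB_tE (K := K) e₂
    have e23 := nB_tG (K := K) (e₂ * d + e₃)
    unfold tE tG at e22 e23
    rw [← c 14 9 tc_refl_14 e₁, ← e22, ← e23]
    unfold nB
    group
  rw [c3] at key
  -- `e₁ = 0`
  have h9 : xd 9 e₁ ∈ chevD4.posUnipotent K := by
    have : xd 9 e₁ = (xd 14 e₁ * (xd 22 e₂ * xd 23 (e₂ * a + e₃))) *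
        (xd 23 e₂ * xd 22 (e₂ * d + e₃))⁻¹ := by rw [← key]; group
    rw [this]
    exact mul_mem (mul_mem (xd_mem_U 14 (by decide) _) (mul_mem (xd_mem_U 22 (by decide) _)
      (xd_mem_U 23 (by decide) _))) (inv_mem (mul_mem (xd_mem_U 23 (by decide) _)
        (xd_mem_U 22 (by decide) _)))
  have he1 : e₁ = 0 := by
    by_contra h0
    exact xd_ne_one 9 h0 (xd_neg_eq_one 9 (by decide) h9)
  subst he1
  simp only [xd_zero, one_mul] at key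
  rw [xd_comm_of_mem (r := 22) (s := 23) (by decide)] at key
  have key' : tw f 0 0 0 0 (e₂ * d + e₃) e₂ = tw f 0 0 0 0 e₂ (e₂ * a + e₃) := by
    rw [tc2_tw_long, tc2_tw_long, xd_zero, one_mul, one_mul]
    exact key
  obtain ⟨-, -, -, -, k1, k2⟩ := tw_inj f hf3 key'
  have he2 : e₂ = 0 := by linear_combination (-e₂) * htr + k1 - k2 + (e₂ - e₃) * hh2
  subst he2
  refine ⟨rfl, rfl, ?_⟩
  linear_combination k1

include hf2 in
/-- the Bruhat form of `s₀`. -/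
theorem TcQ.s0_form (Q : TcQ f) :
    Q.y Q.z0 = xd 14 (Q.S0.val 0 0) * tgNb f * xd 14 (Q.S0.val 1 1) := by
  have h2 := two_eq_zero_F (F := K)
  rw [Q.y_z0]
  have hm : Q.S0.val 1 0 ≠ 0 := Q.z0_ne
  have e := tc_sl2_bruhat Q.S0 hm
  conv_lhs => rw [e]
  rw [map_mul, map_mul, map_mul, tc_phi_upper, tc_phi_upper, tc_phi_diag]
  have h1 : -(Q.S0.val 1 0)⁻¹ = 1 := by
    rw [Q.S0_10 hf2, inv_one]
    linear_combination (-1 : K) * h2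
  rw [h1, tbHb_one, mul_one, Q.S0_10 hf2, div_one, div_one]

include hf2 hf3 in
/-- the elements of `B¹` commuting with `x(ν)` and `s₀` lie in `T`. -/
theorem TcQ.borel2 (Q : TcQ f) (hpar : TcUpar f) {ν : K} (hν : ν ≠ 0) (hκ : ν * f (f ν) ≠ f ν)
    (hν2 : ν ^ 2 ≠ 1) (hz3 : Q.z0 ^ 3 = 1) {g : GL chevD4.Idx K} (hg : g ∈ tgB1 f)
    (h1 : tcXnu f ν * g = g * tcXnu f ν) (h2 : Q.y Q.z0 * g = g * Q.y Q.z0) : g ∈ Q.T hf3 := by
  obtain ⟨u, hu, h, hh, rfl⟩ := twB_decomp good2_D4 T3_D4 T4_D4 T19_D4 f hg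
  have hhT := Q.H_le_T hf2 hf3 hh
  have hs : h * Q.y Q.z0 = Q.y Q.z0 * h := by
    rw [Q.y_z0]
    exact tc2_H_comm hf2 hf3 hh _
  have hx : h * tcXnu f ν = tcXnu f ν * h := by
    obtain ⟨ν', hν', rfl⟩ := tc2_H hf2 hf3 hh
    rw [tcXnu_mul f hν' hν, tcXnu_mul f hν hν', mul_comm]
  have hu1 : tcXnu f ν * u = u * tcXnu f ν := by
    calc tcXnu f ν * u = (tcXnu f ν * (u * h)) * h⁻¹ := by group
      _ = (u * h) * tcXnu f ν * h⁻¹ := by rw [h1]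
      _ = u * (h * tcXnu f ν) * h⁻¹ := by group
      _ = u * (tcXnu f ν * h) * h⁻¹ := by rw [hx]
      _ = u * tcXnu f ν := by group
  have hu2 : Q.y Q.z0 * u = u * Q.y Q.z0 := by
    calc Q.y Q.z0 * u = (Q.y Q.z0 * (u * h)) * h⁻¹ := by group
      _ = (u * h) * Q.y Q.z0 * h⁻¹ := by rw [h2]
      _ = u * (h * Q.y Q.z0) * h⁻¹ := by group
      _ = u * (Q.y Q.z0 * h) * h⁻¹ := by rw [hs]
      _ = u * Q.y Q.z0 := by group
  obtain ⟨e₁, e₂, e₃, he₁, he₂, he₃, rfl, -⟩ := tc_cent_U f hpar hf3 hν hκ hν2 hu hu1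
  rw [Q.s0_form hf2] at hu2
  have htr := tc_sl2_trace Q.S0 (Q.S0_10 hf2) (Q.S0_cube hz3)
  obtain ⟨rfl, rfl, rfl⟩ := tc2_long_comm hf3 (Q.S0_fix 0 0) (Q.S0_fix 1 1) he₁ he₂ he₃ htr hu2
  rw [xd_zero, xd_zero, xd_zero, mul_one, mul_one, one_mul]
  exact hhT

include hf2 hf3 in
/-- the centraliser of `x(ν)` and `s₀` in `³D₄(2)` is `T`. -/
theorem TcQ.cent_two (Q : TcQ f) (hpar : TcUpar f) {ν : K} (hν : ν ≠ 0) (hκ : ν * f (f ν) ≠ f ν)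
    (hν2 : ν ^ 2 ≠ 1) (hn1 : tcN f ν = 1) (hμ4 : (ν * f (f ν)) ^ 4 ≠ 1) (hz3 : Q.z0 ^ 3 = 1)
    {g : GL chevD4.Idx K} (hg : g ∈ tgG f) (h1 : tcXnu f ν * g = g * tcXnu f ν)
    (h2 : g * Q.y Q.z0 = Q.y Q.z0 * g) : g ∈ Q.T hf3 := by
  let C : Subgroup (GL chevD4.Idx K) :=
    tgG f ⊓ Subgroup.centralizer {tcXnu f ν, Q.y Q.z0}
  have hC : ∀ x, x ∈ C ↔ x ∈ tgG f ∧ tcXnu f ν * x = x * tcXnu f ν ∧
      Q.y Q.z0 * x = x * Q.y Q.z0 := by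
    intro x
    simp only [C, Subgroup.mem_inf, Subgroup.mem_centralizer_iff, Set.mem_insert_iff,
      Set.mem_singleton_iff, forall_eq_or_imp, forall_eq]
  have hsT : Q.y Q.z0 ∈ Q.T hf3 := by
    rw [TcQ.mem_T]
    refine ⟨1, Q.z0, ?_⟩
    rw [Units.val_one, tcXnu_one, one_mul]
    rfl
  have hsC : Q.y Q.z0 ∈ C := by
    rw [hC]
    refine ⟨Q.y_z0_mem, ?_, rfl⟩
    rw [Q.y_z0]
    exact tcXnu_comm_phi f hf3 hν _
  have hgC : g ∈ C := (hC g).mpr ⟨hg, h1, h2.symm⟩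
  obtain ⟨j, hj⟩ := tc_abs_cells (tgB1 f) C (tgNb f) (tcNc f) (Q.y Q.z0) hsC
    (fun x hx => tc2_cells hf3 hν hn1 hμ4 ((hC x).mp hx).1 ((hC x).mp hx).2.1)
    (fun x hx hx' => tc_disj f hx hx')
    (fun b hb => tc_ruleL f hb)
    (fun b hb => tc_ruleR f hb)
    (Q.s0_cell)
    (fun b hb => Q.trans2 hf2 hf3 hz3 hb)
    (tc_nb_inv f) (tc_nc_inv f)
    (fun x hx => ((hC x).mp hx).2.2) g hgC
  have hjC : Q.y Q.z0 ^ j * g ∈ C := mul_mem (pow_mem hsC j) hgC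
  have hjT : Q.y Q.z0 ^ j * g ∈ Q.T hf3 :=
    Q.borel2 hf2 hf3 hpar hν hκ hν2 hz3 hj ((hC _).mp hjC).2.1 ((hC _).mp hjC).2.2
  have : g = (Q.y Q.z0 ^ j)⁻¹ * (Q.y Q.z0 ^ j * g) := by group
  rw [this]
  exact mul_mem (inv_mem (pow_mem hsT j)) hjT

end two

end Cfsg.Agent.Helper7.Tc
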