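import Mathlib
import Cfsg.Agent.Helper7.TcT

set_option autoImplicit false
set_option linter.unusedSectionVars false
set_option linter.unusedVariables false

/-!
`³D₄(2)`: the main theorem for `q = 2`.
-/

namespace Cfsg.Agent.Helper7.Tc

open Cfsg Cfsg.Lie Cfsg.Agent.Helper7.Chev Cfsg.Agent.CtRecT Matrix

variable {K : Type*} [Field K] [Fintype K] {q : ℕ}

/-- the main theorem for `q = 2`. -/
theorem tc_main_two (hq : IsPrimePow q) (hK : Fintype.card K = q ^ 3) (hq2 : q = 2)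
    (hQ : TcQek K (fixF (tbF hq hK))) :
    ∃ H : Subgroup ↥(Cfsg.Lie.twistedD4 K q), IsCyclic ↥H ∧ Nat.card ↥H = (q ^ 3 - 1) * (q + 1) ∧
      Subgroup.centralizer (H : Set ↥(Cfsg.Lie.twistedD4 K q)) = H := by
  subst hq2
  classical
  obtain ⟨Q, hfin, hE, hcyc, hord⟩ := tc_Q_of_qek (tbF hq hK) hQ
  rw [tc_card_fixF hq hK] at hE hord
  obtain ⟨ν0, hν0⟩ := (inferInstance : IsCyclic Kˣ).exists_generator
  have hf3 := tbF_three hq hK
  have hf := tbF_pow hq hK
  have h2 : (2 : K) = 0 := by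
    have h := hf (1 + 1)
    rw [map_add, map_one] at h
    linear_combination -h
  haveI : CharP K 2 := CharTwo.of_one_ne_zero_of_two_eq_zero one_ne_zero h2
  have hν : ((ν0 : Kˣ) : K) ≠ 0 := Units.ne_zero ν0
  have h7 : ((ν0 : Kˣ) : K) ^ 7 = 1 := by
    have := FiniteField.pow_card_sub_one_eq_one ((ν0 : Kˣ) : K) hν
    rw [hK] at this
    exact this
  have hz3 : Q.z0 ^ 3 = 1 := by
    have := pow_orderOf_eq_one Q.z0
    rw [hord] at this
    exact this
  refine tc_main_of_cent hq hK Q hE hcyc ν0 ?_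
  intro g hg h1 h2'
  refine Q.cent_two hf hf3 (fun u hu => tc_U_param hq hK hu) hν ?_ ?_ ?_ ?_ hz3 hg h1 h2'
  · -- `ν ν^{4} ≠ ν^2`
    intro h
    rw [hf, hf] at h
    have h' : ((ν0 : Kˣ) : K) ^ 3 = 1 := by
      have e : ((ν0 : Kˣ) : K) ^ 2 * ((ν0 : Kˣ) : K) ^ 3 = ((ν0 : Kˣ) : K) ^ 2 * 1 := by
        linear_combination h
      exact mul_left_cancel₀ (pow_ne_zero 2 hν) e
    exact tc_pow_ne_one hK hν0 (by norm_num) (by norm_num) h'
  · exact tc_pow_ne_one hK hν0 (by norm_num) (by norm_num)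
  · -- `N ν = 1`
    unfold tcN
    rw [hf, hf]
    linear_combination h7
  · -- `(ν ν^4)^4 ≠ 1`
    rw [hf, hf]
    intro h
    have h' : ((ν0 : Kˣ) : K) ^ 6 = 1 := by
      linear_combination h - (((ν0 : Kˣ) : K) ^ 13 + ((ν0 : Kˣ) : K) ^ 6) * h7
    exact tc_pow_ne_one hK hν0 (by norm_num) (by norm_num) h'

end Cfsg.Agent.Helper7.Tc
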