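import Cfsg.Agent.Helper8.TensD

set_option autoImplicit false
set_option linter.unusedSectionVars false
set_option linter.unusedVariables false
set_option maxHeartbeats 800000

/-! Tensor decompositions, L3 without the hypothesis `dim U < dim W`, in characteristic `≠ 2`
(helper7): a quadratic element `A ⊗ B` has `A` scalar or `B` scalar; hence, if its displacement space
has the dimension of `U`, it is a root element of the second factor or a "twin" `A' ⊗ 1`. -/

namespace Cfsg.Agent.Helper7.TensL3

open Module Cfsg.Agent.Helper7.ExtF Cfsg.Agent.Helper8.Tens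

variable {F : Type*} [Field F] {U W V : Type*} [AddCommGroup U] [Module F U]
  [AddCommGroup W] [Module F W] [AddCommGroup V] [Module F V]
  {t : U →ₗ[F] W →ₗ[F] V}

/-- a quadratic element `A ⊗ B`, characteristic `≠ 2`: if `A` is not a scalar then `B` is. -/
theorem scalar_right_of_quad (ht : IsTensorProduct t) (h2 : (2 : F) ≠ 0) {g : V ≃ₗ[F] V}
    (hq : Quad g) (A : U ≃ₗ[F] U) (B : W ≃ₗ[F] W) (hAB : ∀ u w, g (t u w) = t (A u) (B w))
    (hA : ¬ ∃ c : F, (A : U →ₗ[F] U) = c • 1) :
    ∃ β : F, β ≠ 0 ∧ ∀ w, B w = β • w := by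
  classical
  -- a vector which is not an eigenvector
  obtain ⟨u, hli⟩ : ∃ u, LinearIndependent F ![u, (A : U →ₗ[F] U) u] := by
    by_contra hcon
    push Not at hcon
    exact hA (LinearMap.exists_eq_smul_id_of_forall_notLinearIndependent hcon)
  rw [LinearEquiv.coe_coe] at hli
  have hAu : A u ∉ Submodule.span F {u} := by
    intro hmem
    obtain ⟨c, hc⟩ := Submodule.mem_span_singleton.mp hmem
    have := (LinearIndependent.pair_iff.mp hli) c (-1) (by rw [hc]; simp)
    exact one_ne_zero (neg_eq_zero.mp this.2)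
  -- the quadratic relation on pure tensors
  have hrel : ∀ w, t (A (A u)) (B (B w)) + t u w = t (A u) (B w) + t (A u) (B w) := by
    intro w
    have := hq (t u w)
    rwa [hAB, hAB] at this
  -- if all vectors of `W` vanish, there is nothing to prove
  by_cases hW : ∀ w : W, w = 0
  · exact ⟨1, one_ne_zero, fun w => by rw [hW (B w), hW w, smul_zero]⟩
  push Not at hW
  obtain ⟨w₁, hw₁⟩ := hW
  by_cases hmem : A (A u) ∈ Submodule.span F {u, A u}
  · obtain ⟨r, p, hrp⟩ := Submodule.mem_span_pair.mp hmem
    obtain ⟨a, ha0, ha1⟩ := exists_kfunc (K := F) (Submodule.span F {u}) hAu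
    have hau : a u = 0 := ha0 u (Submodule.mem_span_singleton_self u)
    -- `p • B (B w) = 2 • B w`
    have h1 : ∀ w, p • B (B w) = (2 : F) • B w := by
      intro w
      have := congrArg (evU ht a) (hrel w)
      rw [map_add, map_add, evU_t, evU_t, evU_t, ← hrp, map_add, map_smul, map_smul, hau, ha1,
        smul_eq_mul, smul_eq_mul, mul_zero, zero_add, mul_one, zero_smul, add_zero, one_smul,
        ← two_smul F (B w)] at this
      exact this
    have h3 : ∀ w', p • B w' = (2 : F) • w' := by
      intro w'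
      obtain ⟨w, rfl⟩ := B.surjective w'
      exact h1 w
    have hp : p ≠ 0 := by
      intro hp0
      have := h3 w₁
      rw [hp0, zero_smul] at this
      rcases smul_eq_zero.mp this.symm with h | h
      · exact h2 h
      · exact hw₁ h
    refine ⟨2 / p, div_ne_zero h2 hp, fun w => ?_⟩
    have := h3 w
    rw [div_eq_mul_inv, mul_comm, mul_smul, ← this, smul_smul, inv_mul_cancel₀ hp, one_smul]
  · -- `u, A u, A (A u)` independent: impossible
    exfalso
    have hu : u ∉ Submodule.span F {A u, A (A u)} := by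
      intro hu
      obtain ⟨x, y, hxy⟩ := Submodule.mem_span_pair.mp hu
      by_cases hy : y = 0
      · rw [hy, zero_smul, add_zero] at hxy
        have := (LinearIndependent.pair_iff.mp hli) (-1) x (by rw [hxy]; simp)
        exact one_ne_zero (neg_eq_zero.mp this.1)
      · apply hmem
        have : A (A u) = y⁻¹ • u - (y⁻¹ * x) • A u := by
          have h := congrArg (fun z => y⁻¹ • z) hxy
          simp only [smul_add, smul_smul, inv_mul_cancel₀ hy, one_smul] at h
          rw [← h]; abel
        rw [this]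
        exact Submodule.sub_mem _ (Submodule.smul_mem _ _ (Submodule.subset_span (by simp)))
          (Submodule.smul_mem _ _ (Submodule.subset_span (by simp)))
    obtain ⟨a, ha0, ha1⟩ := exists_kfunc (K := F) (Submodule.span F {A u, A (A u)}) hu
    have haA : a (A u) = 0 := ha0 _ (Submodule.subset_span (by simp))
    have haAA : a (A (A u)) = 0 := ha0 _ (Submodule.subset_span (by simp))
    have := congrArg (evU ht a) (hrel w₁)
    rw [map_add, map_add, evU_t, evU_t, evU_t, haA, haAA, ha1, zero_smul, zero_smul, one_smul,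
      zero_add, add_zero] at this
    exact hw₁ this

section

variable [FiniteDimensional F U] [FiniteDimensional F W] [FiniteDimensional F V]

/-- helper8's L3, second half: an element `c ⊗ B` whose displacement space has the dimension of
`U` and which is quadratic is a root element of the second factor. -/
theorem isRootB_of_scalar_left (ht : IsTensorProduct t) (hU : 1 ≤ finrank F U)
    {g : V ≃ₗ[F] V} (hq : Quad g) (A : U ≃ₗ[F] U) (B : W ≃ₗ[F] W)
    (hAB : ∀ u w, g (t u w) = t (A u) (B w)) (c : F) (hc : (A : U →ₗ[F] U) = c • 1)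
    (hr : finrank F ↥(disp g) = finrank F U) : IsRootB ht g := by
  have hAu : ∀ u, A u = c • u := by
    intro u
    have := LinearMap.congr_fun hc u
    simpa using this
  -- the second factor
  set C : W →ₗ[F] W := c • (B : W →ₗ[F] W) - 1 with hC
  have hgC : ∀ u w, g (t u w) - t u w = t u (C w) := by
    intro u w
    rw [hAB, hAu, hC, LinearMap.sub_apply, LinearMap.smul_apply, Module.End.one_apply,
      LinearEquiv.coe_coe, map_sub, map_smul, map_smul, LinearMap.smul_apply]
  have hCne : C ≠ 0 := by
    intro hC0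
    have hg1 : g = 1 := by
      apply equiv_ext_pure ht; intro u w
      have := hgC u w
      rw [hC0, LinearMap.zero_apply, map_zero, sub_eq_zero] at this
      rw [this]; rfl
    have : disp g = ⊥ := by
      rw [eq_bot_iff]; intro v hv
      obtain ⟨r, rfl⟩ := mem_disp.mp hv
      rw [hg1]; simp
    rw [this, finrank_bot] at hr
    omega
  obtain ⟨w₁, hw₁⟩ : ∃ w₁, C w₁ ≠ 0 := by
    by_contra hcon
    push Not at hcon
    exact hCne (LinearMap.ext hcon)
  set w₀ := C w₁ with hw₀
  have hfibC : ∀ w, fib t (C w) ≤ disp g := by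
    intro w v hv
    obtain ⟨u, rfl⟩ := mem_fib.mp hv
    rw [← hgC]; exact sub_mem_disp g _
  have hCspan : ∀ w, ∃ k : F, C w = k • w₀ := by
    intro w
    by_contra hcon
    push Not at hcon
    have hCw0 : C w ≠ 0 := by
      intro h0; exact hcon 0 (by rw [h0, zero_smul])
    have hne : fib t (C w) ≠ fib t w₀ := by
      intro heq
      obtain ⟨u, hu⟩ := exists_ne_zero_of_one_le (F := F) (M := U) hU
      have : t u (C w) ∈ fib t w₀ := by rw [← heq]; exact t_mem_fib _ _
      obtain ⟨k, hk⟩ := span_of_t_mem_fib ht hu this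
      exact hcon k hk
    have hdisj := fib_inf_fib ht hCw0 hw₁ hne
    have hsup : fib t (C w) ⊔ fib t w₀ ≤ disp g := sup_le (hfibC w) (hfibC w₁)
    have h1 := Submodule.finrank_mono hsup
    have h2 := Submodule.finrank_sup_add_finrank_inf_eq (fib t (C w)) (fib t w₀)
    rw [hdisj, finrank_bot, add_zero, finrank_fib ht hCw0, finrank_fib ht hw₁] at h2
    omega
  obtain ⟨l₀, hl₀⟩ := exists_dual_eq_one (F := F) hw₁
  set l : Module.Dual F W := l₀.comp C with hl
  have hCl : ∀ w, C w = l w • w₀ := by
    intro w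
    obtain ⟨k, hk⟩ := hCspan w
    have : l w = k := by
      rw [hl, LinearMap.comp_apply, hk, map_smul, hl₀, smul_eq_mul, mul_one]
    rw [this, hk]
  have hl0 : l ≠ 0 := by
    intro h0
    apply hw₁
    have := hCl w₁
    rw [h0, LinearMap.zero_apply, zero_smul] at this
    exact this
  have hgt : ∀ u w, g (t u w) = t u (w + l w • w₀) := by
    intro u w
    have := hgC u w
    rw [hCl] at this
    rw [map_add, ← this]; abel
  have hlw₀ : l w₀ = 0 := by
    obtain ⟨u, hu⟩ := exists_ne_zero_of_one_le (F := F) (M := U) hU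
    have hq1 := hq (t u w₁)
    rw [hgt, hgt] at hq1
    have hinj := t_right_injective ht hu
    have e : t u (w₁ + l w₁ • w₀ + l (w₁ + l w₁ • w₀) • w₀) + t u w₁ =
        t u (w₁ + l w₁ • w₀ + l (w₁ + l w₁ • w₀) • w₀ + w₁) := by rw [← map_add]
    have e' : t u (w₁ + l w₁ • w₀) + t u (w₁ + l w₁ • w₀) =
        t u (w₁ + l w₁ • w₀ + (w₁ + l w₁ • w₀)) := by rw [← map_add]
    rw [e, e'] at hq1
    have h3 := hinj hq1
    have h4 : (l w₁ * l w₀) • w₀ = 0 := by
      have : l (w₁ + l w₁ • w₀) • w₀ = l w₁ • w₀ + (l w₁ * l w₀) • w₀ := by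
        rw [map_add, map_smul, smul_eq_mul, add_smul]
      rw [this] at h3
      have h5 : w₁ + l w₁ • w₀ + (l w₁ • w₀ + (l w₁ * l w₀) • w₀) + w₁ =
          (w₁ + l w₁ • w₀ + (w₁ + l w₁ • w₀)) + (l w₁ * l w₀) • w₀ := by abel
      rw [h5] at h3
      exact add_eq_left.mp h3
    have hlw₁ : l w₁ = 1 := by
      rw [hl, LinearMap.comp_apply, hl₀]
    rw [hlw₁, one_mul] at h4
    rcases smul_eq_zero.mp h4 with h5 | h5
    · exact h5
    · exact absurd h5 hw₁
  refine ⟨w₀, l, hlw₀, hw₁, hl0, ?_⟩
  apply equiv_ext_pure ht; intro u w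
  rw [hgt, xB_t]

/-- **L3 in characteristic `≠ 2`, no hypothesis on the dimensions**: a quadratic element `A ⊗ B`
whose displacement space has the dimension of `U` is a root element of the second factor, or a
"twin" `A' ⊗ 1` with `A'` quadratic. -/
theorem isRootB_or_twin (ht : IsTensorProduct t) (h2 : (2 : F) ≠ 0) (hU : 1 ≤ finrank F U)
    (hW : 1 ≤ finrank F W) {g : V ≃ₗ[F] V} (hg : IsTens t g) (hq : Quad g)
    (hr : finrank F ↥(disp g) = finrank F U) :
    IsRootB ht g ∨ ∃ A' : U ≃ₗ[F] U, (∀ u w, g (t u w) = t (A' u) w) ∧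
      ∀ u, A' (A' u) + u = A' u + A' u := by
  obtain ⟨A, B, hAB⟩ := hg
  by_cases hA : ∃ c : F, (A : U →ₗ[F] U) = c • 1
  · obtain ⟨c, hc⟩ := hA
    exact Or.inl (isRootB_of_scalar_left ht hU hq A B hAB c hc hr)
  · right
    obtain ⟨β, hβ, hB⟩ := scalar_right_of_quad ht h2 hq A B hAB hA
    set A' : U ≃ₗ[F] U := A.trans (LinearEquiv.smulOfNeZero F U β hβ) with hA'
    have hA'u : ∀ u, A' u = β • A u := fun u => rfl
    have hgA' : ∀ u w, g (t u w) = t (A' u) w := by
      intro u w
      rw [hAB, hB, hA'u, map_smul, map_smul, LinearMap.smul_apply]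
    refine ⟨A', hgA', fun u => ?_⟩
    obtain ⟨w, hw⟩ := exists_ne_zero_of_one_le (F := F) (M := W) hW
    have := hq (t u w)
    rw [hgA', hgA', ← LinearMap.add_apply, ← LinearMap.add_apply, ← map_add, ← map_add] at this
    exact t_left_injective ht hw this

end

end Cfsg.Agent.Helper7.TensL3
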