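import Mathlib
import Cfsg.Agent.Helper7.TensNMG

set_option autoImplicit false

/-! # `O_3(3) ⊗ O_{n₂}(3)` is not maximal in `Ω(Q)` -/

namespace Cfsg.Agent.Helper7.TensNM

open Matrix Cfsg Cfsg.Geo Cfsg.Agent.Helper7.OrthMax
  Cfsg.Agent.Helper8.QuadForm Cfsg.Agent.Helper8.Siegel Cfsg.Agent.Helper8.SiegelGroup
open scoped Kronecker

variable {F : Type*} [Field F] [Fintype F] {ι : Type} [Fintype ι] [DecidableEq ι] (Q : QuadraticForm F (ι → F))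

theorem sieg_val {u w : ι → F} (hu : Q u = 0) (huw : QuadraticMap.polar Q u w = 0) (x : ι → F) :
    ((toGL Q (siegG Q u w) : GL ι F) : Matrix ι ι F) *ᵥ x =
      x + QuadraticMap.polar Q x w • u - QuadraticMap.polar Q x u • w - (Q w * QuadraticMap.polar Q x u) • u := by
  rw [toGL_mulVec, siegG_val, siegE_apply Q hu huw, sieg_apply]

theorem sieg_mul_inv {u w : ι → F} (hu : Q u = 0) (huw : QuadraticMap.polar Q u w = 0) :
    ((toGL Q (siegG Q u w) : GL ι F) : Matrix ι ι F) * ((toGL Q (siegG Q u (-w)) : GL ι F) : Matrix ι ι F) = 1 := by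
  rw [← Units.val_mul, ← map_mul, ← siegG_inv Q hu huw, mul_inv_cancel, map_one, Units.val_one]

variable {t : ℕ} {J : Type} [Fintype J] [DecidableEq J]
  {R : Matrix ι (Fin t × J) F} {R' : Matrix (Fin t × J) ι F} {G₂ : Matrix J J F} {c : F}

/-- A Siegel element with both parameters in one block preserves every block and fixes the others pointwise. -/
theorem sieg_mem_stab (h : Frame R R' (RingHom.id F) (QuadraticMap.polar ⇑Q) G₂ c)
    (l₀ : Fin t) (yu yw : J → F) (hu : Q (R *ᵥ pt (ev F l₀) yu) = 0)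
    (huw : QuadraticMap.polar Q (R *ᵥ pt (ev F l₀) yu) (R *ᵥ pt (ev F l₀) yw) = 0) :
    (∀ l, ∀ v ∈ blk R l,
      ((toGL Q (siegG Q (R *ᵥ pt (ev F l₀) yu) (R *ᵥ pt (ev F l₀) yw)) : GL ι F) : Matrix ι ι F) *ᵥ v ∈ blk R l) ∧
    (∀ l, l ≠ l₀ → ∀ v ∈ blk R l,
      ((toGL Q (siegG Q (R *ᵥ pt (ev F l₀) yu) (R *ᵥ pt (ev F l₀) yw)) : GL ι F) : Matrix ι ι F) *ᵥ v = v) := by
  have hfix : ∀ l, l ≠ l₀ → ∀ v ∈ blk R l,
      ((toGL Q (siegG Q (R *ᵥ pt (ev F l₀) yu) (R *ᵥ pt (ev F l₀) yw)) : GL ι F) : Matrix ι ι F) *ᵥ v = v := by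
    intro l hl v hv
    obtain ⟨y, rfl⟩ := mem_blk.mp hv
    rw [sieg_val Q hu huw, h.form_ev, h.form_ev]
    simp only [if_neg hl, mul_zero, zero_smul, add_zero, sub_zero]
  refine ⟨?_, hfix⟩
  intro l v hv
  by_cases hl : l = l₀
  · subst hl
    rw [sieg_val Q hu huw]
    have hu' : R *ᵥ pt (ev F l) yu ∈ blk R l := mem_blk.mpr ⟨yu, rfl⟩
    have hw' : R *ᵥ pt (ev F l) yw ∈ blk R l := mem_blk.mpr ⟨yw, rfl⟩
    exact (blk R l).sub_mem ((blk R l).sub_mem ((blk R l).add_mem hv ((blk R l).smul_mem _ hu'))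
      ((blk R l).smul_mem _ hw')) ((blk R l).smul_mem _ hu')
  · rw [hfix l hl v hv]
    exact hv

theorem toGL_sieg_mem_stab (h : Frame R R' (RingHom.id F) (QuadraticMap.polar ⇑Q) G₂ c)
    (l₀ : Fin t) (yu yw : J → F) (hu : Q (R *ᵥ pt (ev F l₀) yu) = 0)
    (huw : QuadraticMap.polar Q (R *ᵥ pt (ev F l₀) yu) (R *ᵥ pt (ev F l₀) yw) = 0) :
    toGL Q (siegG Q (R *ᵥ pt (ev F l₀) yu) (R *ᵥ pt (ev F l₀) yw)) ∈ decompositionStabilizer (blk R) := by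
  refine ⟨1, fun l => ?_⟩
  rw [Equiv.Perm.one_apply]
  have huw' : QuadraticMap.polar Q (R *ᵥ pt (ev F l₀) yu) (R *ᵥ pt (ev F l₀) (-yw)) = 0 := by
    have : pt (ev F l₀) (-yw) = -pt (ev F l₀) yw := by
      ext a; simp [pt_apply]
    rw [this, Matrix.mulVec_neg, QuadraticMap.polar_neg_right, huw, neg_zero]
  have hneg : -(R *ᵥ pt (ev F l₀) yw) = R *ᵥ pt (ev F l₀) (-yw) := by
    have : pt (ev F l₀) (-yw) = -pt (ev F l₀) yw := by
      ext a; simp [pt_apply]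
    rw [this, Matrix.mulVec_neg]
  refine map_eq_of_mapsTo _ _ _ (sieg_mul_inv Q hu huw) ((sieg_mem_stab Q h l₀ yu yw hu huw).1 l) ?_
  rw [hneg]
  exact (sieg_mem_stab Q h l₀ yu (-yw) hu huw').1 l

end Cfsg.Agent.Helper7.TensNM
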