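import Mathlib
import Cfsg.Agent.Helper7.TensNMH

set_option autoImplicit false

/-! # `O_3(3) ⊗ O_{n₂}(3)` is not maximal in `Ω(Q)`: the main argument -/

namespace Cfsg.Agent.Helper7.TensNM

open Matrix Cfsg Cfsg.Geo Cfsg.Agent.Helper7.OrthMax
  Cfsg.Agent.Helper8.QuadForm Cfsg.Agent.Helper8.Siegel Cfsg.Agent.Helper8.SiegelGroup
  Cfsg.Agent.Helper8.OrthOrder
open scoped Kronecker

variable {F : Type*} [Field F] [Fintype F] {ι : Type} [Fintype ι] [DecidableEq ι]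

theorem form_zero_left {n : ℕ} {f : (Fin n → F) → (Fin n → F) → F} (hb : IsBilinearForm f) (y : Fin n → F) :
    f 0 y = 0 := by
  have := hb.smul_left 0 0 y
  simpa using this

/-- Elements of `Ω(Q)` preserve the polar form. -/
theorem omegaGL_polar (Q : QuadraticForm F (ι → F)) (hQ : (QuadraticMap.polarBilin Q).Nondegenerate)
    (h5 : 5 ≤ Fintype.card ι) {g : GL ι F} (hg : g ∈ omegaGL ⇑Q) (x y : ι → F) :
    QuadraticMap.polar ⇑Q ((g : Matrix ι ι F) *ᵥ x) ((g : Matrix ι ι F) *ᵥ y) = QuadraticMap.polar ⇑Q x y := by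
  obtain ⟨k, -, rfl⟩ := exists_toGL_eq Q hQ h5 hg
  rw [toGL_mulVec, toGL_mulVec]
  have hk : ∀ v, Q ((k : (ι → F) ≃ₗ[F] (ι → F)) v) = Q v := (mem_Isom Q _).mp k.2
  unfold QuadraticMap.polar
  rw [← map_add, hk, hk, hk]

/-- `O_3(3) ⊗ O_{n₂}(3)` is not maximal in `Ω(Q)`: it stabilises a decomposition into three non-degenerate
subspaces, and the full stabiliser in `Ω(Q)` is strictly larger. -/
theorem orth_not_max (Q : QuadraticForm F (ι → F)) (hQ : (QuadraticMap.polarBilin Q).Nondegenerate)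
    (h5 : 5 ≤ Fintype.card ι) (hq : Fintype.card F = 3) (n₂ : ℕ) (hn₂ : 3 ≤ n₂)
    (e : ι ≃ Fin 3 × Fin n₂) (P : GL ι F)
    (f₁ : (Fin 3 → F) → (Fin 3 → F) → F) (f₂ : (Fin n₂ → F) → (Fin n₂ → F) → F)
    (hf₁ : IsSymmetricForm f₁) (hf₂ : IsSymmetricForm f₂)
    (hT : IsTensorFormStructure id (QuadraticMap.polar ⇑Q) f₁ f₂ e P) :
    ∃ K : Subgroup (GL ι F), tensorProductSubgroup 3 n₂ e P ⊓ omegaGL ⇑Q < K ∧ K < omegaGL ⇑Q := by
  obtain ⟨c, hc, hform⟩ := hT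
  have h2 : (2 : F) ≠ 0 := by
    rw [two_eq_neg_one hq]
    exact neg_ne_zero.mpr one_ne_zero
  obtain ⟨U, U', ε, hU, hU', hε, hG⟩ := frame_F3 hq (gramMatrix f₁) (gram_transpose hf₁.symm)
    (gram_nondegenerate hf₁.bilinear hf₁.nondegenerate)
  have hf : ∀ (u u' : Fin 3 → F) (y y' : Fin n₂ → F),
      QuadraticMap.polar ⇑Q (Rm e P *ᵥ pt u y) (Rm e P *ᵥ pt u' y') =
        c * (formOfGram (RingHom.id F) (gramMatrix f₁) u u' * formOfGram (RingHom.id F) (gramMatrix f₂) y y') := by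
    intro u u' y y'
    rw [← mulVec_comp, ← mulVec_comp, hform]
    exact congrArg (fun z => c * z) (formOfGram_pt (RingHom.id F) (gramMatrix f₁) (gramMatrix f₂) u u' y y')
  obtain ⟨yu, yw, yv, huu, huw, hww, hvu, hvw⟩ := exists_triple hq hn₂ hf₂
  have hgram : ∀ y y' : Fin n₂ → F, formOfGram (RingHom.id F) (gramMatrix f₂) y y' = f₂ y y' :=
    fun y y' => (form_eq_gram hf₂.bilinear y y').symm
  have hnz : ∃ y y', formOfGram (RingHom.id F) (gramMatrix f₂) y y' ≠ 0 := ⟨yw, yw, by rw [hgram]; exact hww⟩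
  have hG' : Uᵀ * gramMatrix f₁ * U.map (RingHom.id F) = ε • (1 : Matrix (Fin 3) (Fin 3) F) := by
    have : U.map (RingHom.id F) = U := by
      ext i j; rfl
    rw [this]
    exact hG
  have hFr := frame_of (Rm_mul_Rm' e P) (Rm'_mul_Rm e P) hc hf hU hU' hε hG' hnz
  obtain ⟨R, hR⟩ : ∃ R, R = Rm e P * (U ⊗ₖ (1 : Matrix (Fin n₂) (Fin n₂) F)) := ⟨_, rfl⟩
  obtain ⟨R', hR'⟩ : ∃ R', R' = (U' ⊗ₖ (1 : Matrix (Fin n₂) (Fin n₂) F)) * Rm' e P := ⟨_, rfl⟩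
  rw [← hR, ← hR'] at hFr
  haveI : Nonempty (Fin n₂) := ⟨⟨0, by omega⟩⟩
  have hκ0 : c * ε ≠ 0 := mul_ne_zero hc hε
  -- the values of the polar form
  have hval : ∀ (l l' : Fin 3) (y y' : Fin n₂ → F),
      QuadraticMap.polar ⇑Q (R *ᵥ pt (ev F l) y) (R *ᵥ pt (ev F l') y') =
        if l = l' then c * ε * f₂ y y' else 0 := by
    intro l l' y y'
    rw [hFr.form_ev, hgram]
  -- the singular vector
  have hQu : Q (R *ᵥ pt (ev F 0) yu) = 0 := by
    have h1 := hval 0 0 yu yu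
    rw [if_pos rfl, huu, mul_zero, QuadraticMap.polar_self, nsmul_eq_mul, Nat.cast_ofNat] at h1
    rcases mul_eq_zero.mp h1 with h | h
    · exact absurd h h2
    · exact h
  have huw0 : QuadraticMap.polar ⇑Q (R *ᵥ pt (ev F 0) yu) (R *ᵥ pt (ev F 0) yw) = 0 := by
    rw [hval, if_pos rfl, huw, mul_zero]
  have huw1 : QuadraticMap.polar ⇑Q (R *ᵥ pt (ev F 0) yu) (R *ᵥ pt (ev F 1) yw) = 0 := by
    rw [hval, if_neg (by decide)]
  have hvu' : QuadraticMap.polar ⇑Q (R *ᵥ pt (ev F 0) yv) (R *ᵥ pt (ev F 0) yu) = c * ε * f₂ yv yu := by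
    rw [hval, if_pos rfl]
  have hκ : c * ε * f₂ yv yu ≠ 0 := mul_ne_zero hκ0 hvu
  -- elements of the tensor subgroup in frame coordinates
  have hrep : ∀ g ∈ tensorProductSubgroup 3 n₂ e P, ∃ (B : Matrix (Fin 3) (Fin 3) F) (a : GL (Fin n₂) F),
      (g : Matrix ι ι F) = R * (B ⊗ₖ (a : Matrix (Fin n₂) (Fin n₂) F)) * R' := by
    intro g hg
    obtain ⟨b, a, hab⟩ := mem_tensor hg
    refine ⟨U' * (b : Matrix (Fin 3) (Fin 3) F) * U, a, ?_⟩
    rw [hR, hR']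
    exact conj_of hU hab
  refine ⟨decompositionStabilizer (blk R) ⊓ omegaGL ⇑Q, lt_of_le_not_ge ?_ ?_, lt_of_le_not_ge inf_le_right ?_⟩
  · rintro g ⟨hg1, hg2⟩
    obtain ⟨B, a, hg⟩ := hrep g hg1
    refine ⟨hFr.stab (mono_F3 hq) (A := (a : Matrix (Fin n₂) (Fin n₂) F))
      (A' := ((a⁻¹ : GL (Fin n₂) F) : Matrix (Fin n₂) (Fin n₂) F)) ?_ hg
      (fun x y => omegaGL_polar Q hQ h5 hg2 x y), hg2⟩
    rw [← Units.val_mul, mul_inv_cancel, Units.val_one]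
  · intro hle
    have hmem : toGL Q (siegG Q (R *ᵥ pt (ev F 0) yu) (R *ᵥ pt (ev F 0) yw)) ∈
        decompositionStabilizer (blk R) ⊓ omegaGL ⇑Q :=
      ⟨toGL_sieg_mem_stab Q hFr 0 yu yw hQu huw0, toGL_mem_omegaGL Q hQ h5 (siegG_mem_SG Q hQu huw0)⟩
    obtain ⟨B, a, hg⟩ := hrep _ (hle hmem).1
    obtain ⟨s, hs⟩ := hFr.scalar_of_fix hg (l₀ := 0) (l₁ := 1)
      (fun v hv => (sieg_mem_stab Q hFr 0 yu yw hQu huw0).2 1 (by decide) v hv)
      (fun v hv => (sieg_mem_stab Q hFr 0 yu yw hQu huw0).1 0 v hv)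
    have h1 := hs _ (mem_blk.mpr ⟨yv, rfl⟩)
    rw [sieg_val Q hQu huw0] at h1
    have h3 := congrArg (fun z => QuadraticMap.polar ⇑Q z (R *ᵥ pt (ev F 0) yw)) h1
    simp only [QuadraticMap.polar_add_left, QuadraticMap.polar_sub_left, QuadraticMap.polar_smul_left, hval,
      if_pos rfl, if_true, huw, hvw, mul_zero, smul_eq_mul, zero_add, zero_mul, sub_zero, zero_sub] at h3
    rcases mul_eq_zero.mp (neg_eq_zero.mp h3) with h | h
    · rcases mul_eq_zero.mp h with h' | h'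
      · exact hκ0 h'
      · exact hvu h'
    · rcases mul_eq_zero.mp h with h' | h'
      · exact hκ0 h'
      · exact hww h'
  · intro hle
    have hmem : toGL Q (siegG Q (R *ᵥ pt (ev F 0) yu) (R *ᵥ pt (ev F 1) yw)) ∈ decompositionStabilizer (blk R) :=
      (hle (toGL_mem_omegaGL Q hQ h5 (siegG_mem_SG Q hQu huw1))).1
    obtain ⟨π, hπ⟩ := hmem
    have h1 : ((toGL Q (siegG Q (R *ᵥ pt (ev F 0) yu) (R *ᵥ pt (ev F 1) yw)) : GL ι F) : Matrix ι ι F) *ᵥ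
        (R *ᵥ pt (ev F 0) yv) ∈ blk R (π 0) := by
      rw [← hπ 0]
      exact ⟨_, mem_blk.mpr ⟨yv, rfl⟩, by rw [Matrix.toLin'_apply]⟩
    rw [sieg_val Q hQu huw1, hvu', hval, if_neg (by decide), zero_smul, add_zero] at h1
    obtain ⟨a, ha⟩ : ∃ a : F, a = Q (R *ᵥ pt (ev F 1) yw) * (c * ε * f₂ yv yu) := ⟨_, rfl⟩
    rw [← ha] at h1
    have hsum : R *ᵥ pt (ev F 0) yv - (c * ε * f₂ yv yu) • R *ᵥ pt (ev F 1) yw - a • R *ᵥ pt (ev F 0) yu =
        R *ᵥ pt (ev F 0) (yv + (-a) • yu) + R *ᵥ pt (ev F 1) ((-(c * ε * f₂ yv yu)) • yw) := by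
      rw [pt_add_right, pt_smul_right, pt_smul_right, Matrix.mulVec_add, Matrix.mulVec_smul, Matrix.mulVec_smul]
      module
    rw [hsum] at h1
    refine hFr.not_mem_blk_of_two (show (0 : Fin 3) ≠ 1 by decide) ?_ ?_ (π 0) h1
    · intro h0
      have h4 := congrArg (fun y => f₂ y yu) h0
      simp only [hf₂.bilinear.add_left, hf₂.bilinear.smul_left, huu, mul_zero, add_zero,
        form_zero_left hf₂.bilinear] at h4
      exact hvu h4
    · intro h0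
      have h4 := congrArg (fun y => f₂ y yw) h0
      simp only [hf₂.bilinear.smul_left, form_zero_left hf₂.bilinear] at h4
      rcases mul_eq_zero.mp h4 with h | h
      · exact hκ (neg_eq_zero.mp h)
      · exact hww h

end Cfsg.Agent.Helper7.TensNM
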