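import Mathlib
import Cfsg.Agent.Helper7.TensNMJ
import Cfsg.Agent.S5653

set_option autoImplicit false

/-! # `GU_2(2) ⊗ GU_{n₂}(2)` is not maximal in `SU_{2 n₂}(2)` -/

namespace Cfsg.Agent.Helper7.TensNM

open Matrix Cfsg Cfsg.Geo Cfsg.Agent.Helper7.Herm Cfsg.Agent.Helper8.GUOrder Cfsg.Agent.Helper8.SURoot
  Cfsg.Agent.S5653
open scoped Kronecker

variable {F : Type*} [Field F] [Fintype F] {n : ℕ} [hF : Fact (Fintype.card F = 2 ^ 2)]

theorem one_tz : (1 : F) ^ 2 + 1 = 0 := by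
  have := add_self_F4 hF.out (1 : F)
  linear_combination this

theorem toGL_val' (A : SU n F 2) :
    ((toGL n F 2 A : GL (Fin n) F) : Matrix (Fin n) (Fin n) F) = mt A := rfl

theorem TU_mul_self {p : Fin n → F} (hp : hermForm n F 2 p p = 0) :
    mt (TU 2 p (1 : F)) * mt (TU 2 p (1 : F)) = 1 := by
  rw [← mt_mul, TU_mul hp one_tz one_tz, add_self_F4 hF.out, TU_zero p hp, mt_one]

variable {t : ℕ} {J : Type} [Fintype J] [DecidableEq J]
  {R : Matrix (Fin n) (Fin t × J) F} {R' : Matrix (Fin t × J) (Fin n) F} {σ : F →+* F} {G₂ : Matrix J J F} {c : F}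

/-- A unitary transvection whose centre lies in one block stabilises the decomposition. -/
theorem TU_mem_stab (h : Frame R R' σ (hermForm n F 2) G₂ c) (l₀ : Fin t) (y₀ : J → F)
    (hp : hermForm n F 2 (R *ᵥ pt (ev F l₀) y₀) (R *ᵥ pt (ev F l₀) y₀) = 0) :
    (∀ l, ∀ v ∈ blk R l, mt (TU 2 (R *ᵥ pt (ev F l₀) y₀) (1 : F)) *ᵥ v ∈ blk R l) ∧
    (∀ l, l ≠ l₀ → ∀ v ∈ blk R l, mt (TU 2 (R *ᵥ pt (ev F l₀) y₀) (1 : F)) *ᵥ v = v) := by
  have hfix : ∀ l, l ≠ l₀ → ∀ v ∈ blk R l, mt (TU 2 (R *ᵥ pt (ev F l₀) y₀) (1 : F)) *ᵥ v = v := by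
    intro l hl v hv
    obtain ⟨y, rfl⟩ := mem_blk.mp hv
    rw [TU_mulVec hp one_tz, h.form_ev, if_neg hl, mul_zero, zero_smul, add_zero]
  refine ⟨?_, hfix⟩
  intro l v hv
  by_cases hl : l = l₀
  · subst hl
    rw [TU_mulVec hp one_tz]
    exact (blk R l).add_mem hv ((blk R l).smul_mem _ (mem_blk.mpr ⟨y₀, rfl⟩))
  · rw [hfix l hl v hv]
    exact hv

theorem toGL_TU_mem_stab (h : Frame R R' σ (hermForm n F 2) G₂ c) (l₀ : Fin t) (y₀ : J → F)
    (hp : hermForm n F 2 (R *ᵥ pt (ev F l₀) y₀) (R *ᵥ pt (ev F l₀) y₀) = 0) :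
    toGL n F 2 (TU 2 (R *ᵥ pt (ev F l₀) y₀) (1 : F)) ∈ decompositionStabilizer (blk R) := by
  refine ⟨1, fun l => ?_⟩
  rw [Equiv.Perm.one_apply, toGL_val']
  exact map_eq_of_mapsTo _ _ _ (TU_mul_self hp) ((TU_mem_stab h l₀ y₀ hp).1 l) ((TU_mem_stab h l₀ y₀ hp).1 l)

/-- `GU_2(2) ⊗ GU_{n₂}(2)` is not maximal in the special unitary group: it stabilises a decomposition into two
non-degenerate subspaces. -/
theorem su_not_max (n₂ : ℕ) (hn₂ : 2 ≤ n₂) (e : Fin n ≃ Fin 2 × Fin n₂) (P : GL (Fin n) F)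
    (f₁ : (Fin 2 → F) → (Fin 2 → F) → F) (f₂ : (Fin n₂ → F) → (Fin n₂ → F) → F)
    (hf₁ : IsUnitaryFormPow 2 f₁) (hf₂ : IsUnitaryFormPow 2 f₂)
    (hT : IsTensorFormStructure (fun x : F => x ^ 2) (hermForm n F 2) f₁ f₂ e P) :
    ∃ K : Subgroup (GL (Fin n) F),
      tensorProductSubgroup 2 n₂ e P ⊓ (GU n F 2 ⊓ specialLinear (Fin n) F) < K ∧
        K < GU n F 2 ⊓ specialLinear (Fin n) F := by
  obtain ⟨c, hc, hform⟩ := hT
  obtain ⟨τ, hτ⟩ : ∃ τ : F →+* F, τ = frobQ hF.out := ⟨_, rfl⟩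
  obtain ⟨U, U', ε, hU, hU', hε, hG⟩ := frame_F4 hF.out hf₁
  rw [← hτ] at hG
  have hf : ∀ (u u' : Fin 2 → F) (y y' : Fin n₂ → F),
      hermForm n F 2 (Rm e P *ᵥ pt u y) (Rm e P *ᵥ pt u' y') =
        c * (formOfGram τ (gramMatrix f₁) u u' * formOfGram τ (gramMatrix f₂) y y') := by
    intro u u' y y'
    rw [← mulVec_comp, ← mulVec_comp, hform, hτ]
    exact congrArg (fun z => c * z) (formOfGram_pt (frobQ hF.out) (gramMatrix f₁) (gramMatrix f₂) u u' y y')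
  obtain ⟨yu, yv, huu, hvu⟩ := exists_singular_pair hF.out hn₂ hf₂
  have hgram : ∀ y y' : Fin n₂ → F, formOfGram τ (gramMatrix f₂) y y' = f₂ y y' := by
    intro y y'
    rw [hτ]
    exact (unitary_eq_gram hF.out hf₂ y y').symm
  have hnz : ∃ y y', formOfGram τ (gramMatrix f₂) y y' ≠ 0 := ⟨yv, yu, by rw [hgram]; exact hvu⟩
  have hFr := frame_of (Rm_mul_Rm' e P) (Rm'_mul_Rm e P) hc hf hU hU' hε hG hnz
  obtain ⟨R, hR⟩ : ∃ R, R = Rm e P * (U ⊗ₖ (1 : Matrix (Fin n₂) (Fin n₂) F)) := ⟨_, rfl⟩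
  obtain ⟨R', hR'⟩ : ∃ R', R' = (U' ⊗ₖ (1 : Matrix (Fin n₂) (Fin n₂) F)) * Rm' e P := ⟨_, rfl⟩
  rw [← hR, ← hR'] at hFr
  haveI : Nonempty (Fin n₂) := ⟨⟨0, by omega⟩⟩
  have hκ0 : c * ε ≠ 0 := mul_ne_zero hc hε
  have hval : ∀ (l l' : Fin 2) (y y' : Fin n₂ → F),
      hermForm n F 2 (R *ᵥ pt (ev F l) y) (R *ᵥ pt (ev F l') y') = if l = l' then c * ε * f₂ y y' else 0 := by
    intro l l' y y'
    rw [hFr.form_ev, hgram]
  have hκ : c * ε * f₂ yv yu ≠ 0 := mul_ne_zero hκ0 hvu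
  have hyu : yu ≠ 0 := by
    intro h
    rw [h, unitary_zero_right hF.out hf₂] at hvu
    exact hvu rfl
  have hp0 : hermForm n F 2 (R *ᵥ pt (ev F 0) yu) (R *ᵥ pt (ev F 0) yu) = 0 := by
    rw [hval, if_pos rfl, huu, mul_zero]
  have hp01 : hermForm n F 2 (R *ᵥ pt (ev F 0 + ev F 1) yu) (R *ᵥ pt (ev F 0 + ev F 1) yu) = 0 := by
    rw [hFr.form_pt, hgram, huu, mul_zero, mul_zero]
  -- elements of the tensor subgroup in frame coordinates
  have hrep : ∀ g ∈ tensorProductSubgroup 2 n₂ e P, ∃ (B : Matrix (Fin 2) (Fin 2) F) (a : GL (Fin n₂) F),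
      (g : Matrix (Fin n) (Fin n) F) = R * (B ⊗ₖ (a : Matrix (Fin n₂) (Fin n₂) F)) * R' := by
    intro g hg
    obtain ⟨b, a, hab⟩ := mem_tensor hg
    refine ⟨U' * (b : Matrix (Fin 2) (Fin 2) F) * U, a, ?_⟩
    rw [hR, hR']
    exact conj_of hU hab
  refine ⟨decompositionStabilizer (blk R) ⊓ (GU n F 2 ⊓ specialLinear (Fin n) F),
    lt_of_le_not_ge ?_ ?_, lt_of_le_not_ge inf_le_right ?_⟩
  · rintro g ⟨hg1, hg2⟩
    obtain ⟨B, a, hg⟩ := hrep g hg1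
    have hmono : Mono τ 2 := by
      rw [hτ]
      exact mono_F4 hF.out
    refine ⟨hFr.stab hmono (A := (a : Matrix (Fin n₂) (Fin n₂) F))
      (A' := ((a⁻¹ : GL (Fin n₂) F) : Matrix (Fin n₂) (Fin n₂) F)) ?_ hg (fun x y => hg2.1 x y), hg2⟩
    rw [← Units.val_mul, mul_inv_cancel, Units.val_one]
  · intro hle
    have hmem : toGL n F 2 (TU 2 (R *ᵥ pt (ev F 0) yu) (1 : F)) ∈
        decompositionStabilizer (blk R) ⊓ (GU n F 2 ⊓ specialLinear (Fin n) F) :=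
      ⟨toGL_TU_mem_stab hFr 0 yu hp0, toGL_mem _⟩
    obtain ⟨B, a, hg⟩ := hrep _ (hle hmem).1
    obtain ⟨s, hs⟩ := hFr.scalar_of_fix hg (l₀ := 0) (l₁ := 1)
      (fun v hv => (TU_mem_stab hFr 0 yu hp0).2 1 (by decide) v hv)
      (fun v hv => (TU_mem_stab hFr 0 yu hp0).1 0 v hv)
    have h1 := hs _ (mem_blk.mpr ⟨yv, rfl⟩)
    rw [toGL_val', TU_mulVec hp0 one_tz, hval, if_pos rfl, one_mul] at h1
    -- test against the centre
    have h2 := congrArg (fun z => hermForm n F 2 z (R *ᵥ pt (ev F 0) yu)) h1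
    simp only [hermForm_add_left, hermForm_smul_left, hval, if_pos rfl, if_true, huu, mul_zero, add_zero] at h2
    have hs1 : s = 1 := by
      have h3 : (s - 1) * (c * ε * f₂ yv yu) = 0 := by linear_combination -h2
      rcases mul_eq_zero.mp h3 with h | h
      · exact sub_eq_zero.mp h
      · exact absurd h hκ
    rw [hs1, one_smul] at h1
    have h4 : (c * ε * f₂ yv yu) • R *ᵥ pt (ev F 0) yu = 0 := by
      have := congrArg (fun z => z - R *ᵥ pt (ev F 0) yv) h1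
      simpa using this
    rcases smul_eq_zero.mp h4 with h | h
    · exact hκ h
    · have h5 : R *ᵥ pt (ev F 0) yu = R *ᵥ pt (ev F 0) (0 : Fin n₂ → F) := by
        rw [h, pt_zero_right, Matrix.mulVec_zero]
      have h6 := hFr.R_inj h5
      rw [pt_zero_right] at h6
      apply hyu
      ext j
      have := congrFun h6 (0, j)
      rw [pt_apply, ev_apply, if_pos rfl, one_mul] at this
      exact this
  · intro hle
    have hmem : toGL n F 2 (TU 2 (R *ᵥ pt (ev F 0 + ev F 1) yu) (1 : F)) ∈ decompositionStabilizer (blk R) :=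
      (hle (toGL_mem _)).1
    obtain ⟨π, hπ⟩ := hmem
    have h1 : (toGL n F 2 (TU 2 (R *ᵥ pt (ev F 0 + ev F 1) yu) (1 : F)) : Matrix _ _ F) *ᵥ
        (R *ᵥ pt (ev F 0) yv) ∈ blk R (π 0) := by
      rw [← hπ 0]
      exact ⟨_, mem_blk.mpr ⟨yv, rfl⟩, by rw [Matrix.toLin'_apply]⟩
    have hw : hermForm n F 2 (R *ᵥ pt (ev F 0) yv) (R *ᵥ pt (ev F 0 + ev F 1) yu) = c * ε * f₂ yv yu := by
      rw [pt_add_left, Matrix.mulVec_add, hermForm_add_right hF.out, hval, hval, if_pos rfl, if_neg (by decide),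
        add_zero]
    rw [toGL_val', TU_mulVec hp01 one_tz, hw, one_mul] at h1
    have hsum : R *ᵥ pt (ev F 0) yv + (c * ε * f₂ yv yu) • R *ᵥ pt (ev F 0 + ev F 1) yu =
        R *ᵥ pt (ev F 0) (yv + (c * ε * f₂ yv yu) • yu) + R *ᵥ pt (ev F 1) ((c * ε * f₂ yv yu) • yu) := by
      rw [pt_add_left, pt_add_right, pt_smul_right, pt_smul_right, Matrix.mulVec_add, Matrix.mulVec_add,
        Matrix.mulVec_smul, Matrix.mulVec_smul]
      module
    rw [hsum] at h1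
    refine hFr.not_mem_blk_of_two (show (0 : Fin 2) ≠ 1 by decide) ?_ ?_ (π 0) h1
    · intro h0
      have h4 := congrArg (fun y => f₂ y yu) h0
      simp only [hf₂.add_left, hf₂.smul_left, huu, mul_zero, add_zero, unitary_zero_left hf₂] at h4
      exact hvu h4
    · exact smul_ne_zero hκ hyu

end Cfsg.Agent.Helper7.TensNM
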