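import Mathlib
import Cfsg.Agent.Helper7.TensNMI
import Cfsg.Agent.Helper7.SLMaxA
import Cfsg.Agent.Lead.OrthPlaneC

set_option autoImplicit false
set_option linter.unusedSectionVars false

/-! # `Sp_2(2) ⊗ Sp_{n₂}(2)` in `Ω⁺(Q)` over the field with two elements: coordinates, the
element of order three and its normaliser (helper7). -/

namespace Cfsg.Agent.Helper7.TensNM

open Matrix Cfsg Cfsg.Geo
open scoped Kronecker

section groups

variable {G : Type*} [Group G]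

/-- the elements commuting with or inverting an element of order three. -/
def normC3 (J : G) (hJ : J * J * J = 1) : Subgroup G where
  carrier := {g | g * J = J * g ∨ g * J = J * J * g}
  one_mem' := Or.inl (by rw [one_mul, mul_one])
  mul_mem' := by
    rintro g h (hg | hg) (hh | hh)
    · left
      rw [mul_assoc, hh, ← mul_assoc, hg, mul_assoc]
    · right
      rw [mul_assoc, hh, ← mul_assoc, ← mul_assoc, hg, mul_assoc J g J, hg]
      simp only [mul_assoc]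
    · right
      rw [mul_assoc, hh, ← mul_assoc, hg, mul_assoc]
    · left
      have e1 : g * h * J = g * (J * J * h) := by rw [mul_assoc, hh]
      rw [e1, ← mul_assoc, ← mul_assoc, hg, mul_assoc (J * J) g J, hg]
      have e2 : J * J * (J * J * g) * h = (J * J * J) * J * g * h := by simp only [mul_assoc]
      rw [e2, hJ, one_mul, mul_assoc]
  inv_mem' := by
    rintro g (hg | hg)
    · left
      have : g⁻¹ * (g * J) * g⁻¹ = g⁻¹ * (J * g) * g⁻¹ := by rw [hg]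
      rw [← mul_assoc, inv_mul_cancel, one_mul, mul_assoc, mul_assoc, mul_inv_cancel, mul_one] at this
      exact this.symm
    · right
      have h1 : J * g⁻¹ = g⁻¹ * (J * J) := by
        have : g⁻¹ * (g * J) * g⁻¹ = g⁻¹ * (J * J * g) * g⁻¹ := by rw [hg]
        rw [← mul_assoc, inv_mul_cancel, one_mul, mul_assoc, mul_assoc, mul_inv_cancel,
          mul_one] at this
        exact this
      calc g⁻¹ * J = g⁻¹ * ((J * J * J) * J) := by rw [hJ, one_mul]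
        _ = (g⁻¹ * (J * J)) * (J * J) := by simp only [mul_assoc]
        _ = J * g⁻¹ * (J * J) := by rw [h1]
        _ = J * (g⁻¹ * (J * J)) := by rw [mul_assoc]
        _ = J * (J * g⁻¹) := by rw [h1]
        _ = J * J * g⁻¹ := by rw [mul_assoc]

theorem mem_normC3 {J : G} (hJ : J * J * J = 1) (g : G) :
    g ∈ normC3 J hJ ↔ g * J = J * g ∨ g * J = J * J * g := Iff.rfl

end groups

section f2

variable {F : Type*} [Field F] [Fintype F]

theorem f2_add_self (hq : Fintype.card F = 2) (x : F) : x + x = 0 := by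
  have h := Cfsg.Agent.Lead.OrthPlane.f2_two hq
  linear_combination x * h

theorem f2_neg (hq : Fintype.card F = 2) (x : F) : -x = x := by
  linear_combination (-1 : F) * f2_add_self hq x

theorem f2_eq_one (hq : Fintype.card F = 2) {x : F} (hx : x ≠ 0) : x = 1 :=
  (Cfsg.Agent.Lead.OrthPlane.f2_cases hq x).resolve_left hx

theorem f2_vec_add_self (hq : Fintype.card F = 2) {J : Type} (y : J → F) : y + y = 0 := by
  ext j
  exact f2_add_self hq (y j)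

theorem f2_vec_neg (hq : Fintype.card F = 2) {J : Type} (y : J → F) : -y = y := by
  ext j
  exact f2_neg hq (y j)

/-- the six invertible two by two matrices over the field with two elements: three commute with
`!![0,1;1,1]` and three invert it. -/
theorem gl2_F2_cases (hq : Fintype.card F = 2) (p q r s : F) (hdet : p * s - q * r ≠ 0) :
    (q = r ∧ s = p + q) ∨ (p = s ∧ q = p + r) := by
  have h2 : (1 : F) + 1 = 0 := f2_add_self hq 1
  rcases Cfsg.Agent.Lead.OrthPlane.f2_cases hq p with rfl | rfl <;>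
  rcases Cfsg.Agent.Lead.OrthPlane.f2_cases hq q with rfl | rfl <;>
  rcases Cfsg.Agent.Lead.OrthPlane.f2_cases hq r with rfl | rfl <;>
  rcases Cfsg.Agent.Lead.OrthPlane.f2_cases hq s with rfl | rfl
  all_goals first
    | (refine absurd ?_ hdet; ring1)
    | (refine Or.inl ⟨?_, ?_⟩ <;> simp [h2] <;> done)
    | (refine Or.inr ⟨?_, ?_⟩ <;> simp [h2] <;> done)

end f2

section pr

variable {F : Type*} [Field F] {n₂ : ℕ}

/-- the vector `e₀ ⊗ y₀ + e₁ ⊗ y₁`. -/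
def pr (y₀ y₁ : Fin n₂ → F) : Fin 2 × Fin n₂ → F := pt (ev F 0) y₀ + pt (ev F 1) y₁

theorem pr_apply0 (y₀ y₁ : Fin n₂ → F) (j : Fin n₂) : pr y₀ y₁ (0, j) = y₀ j := by
  simp [pr, pt_apply, ev_apply]

theorem pr_apply1 (y₀ y₁ : Fin n₂ → F) (j : Fin n₂) : pr y₀ y₁ (1, j) = y₁ j := by
  simp [pr, pt_apply, ev_apply]

theorem pr_add (y₀ y₁ z₀ z₁ : Fin n₂ → F) : pr (y₀ + z₀) (y₁ + z₁) = pr y₀ y₁ + pr z₀ z₁ := by
  unfold pr
  rw [pt_add_right, pt_add_right]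
  abel

theorem pr_smul (c : F) (y₀ y₁ : Fin n₂ → F) : pr (c • y₀) (c • y₁) = c • pr y₀ y₁ := by
  unfold pr
  rw [pt_smul_right, pt_smul_right, smul_add]

theorem pr_inj {y₀ y₁ z₀ z₁ : Fin n₂ → F} (h : pr y₀ y₁ = pr z₀ z₁) : y₀ = z₀ ∧ y₁ = z₁ := by
  refine ⟨funext fun j => ?_, funext fun j => ?_⟩
  · have := congrFun h (0, j)
    rwa [pr_apply0, pr_apply0] at this
  · have := congrFun h (1, j)
    rwa [pr_apply1, pr_apply1] at this

theorem pr_surj (x : Fin 2 × Fin n₂ → F) : x = pr (fun j => x (0, j)) (fun j => x (1, j)) := by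
  ext ⟨i, j⟩
  fin_cases i
  · exact (pr_apply0 (fun j => x (0, j)) (fun j => x (1, j)) j).symm
  · exact (pr_apply1 (fun j => x (0, j)) (fun j => x (1, j)) j).symm

theorem kron_pr (a : Matrix (Fin 2) (Fin 2) F) (b : Matrix (Fin n₂) (Fin n₂) F) (y₀ y₁ : Fin n₂ → F) :
    (a ⊗ₖ b) *ᵥ pr y₀ y₁ =
      pr (a 0 0 • b *ᵥ y₀ + a 0 1 • b *ᵥ y₁) (a 1 0 • b *ᵥ y₀ + a 1 1 • b *ᵥ y₁) := by
  have h : ∀ (l : Fin 2) (y : Fin n₂ → F), pt (a *ᵥ ev F l) (b *ᵥ y) =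
      pr (a 0 l • b *ᵥ y) (a 1 l • b *ᵥ y) := by
    intro l y
    ext ⟨i, j⟩
    fin_cases i
    · show pt (a *ᵥ ev F l) (b *ᵥ y) (0, j) = pr _ _ (0, j)
      rw [pr_apply0, pt_apply, Frame.mulVec_ev]
      rfl
    · show pt (a *ᵥ ev F l) (b *ᵥ y) (1, j) = pr _ _ (1, j)
      rw [pr_apply1, pt_apply, Frame.mulVec_ev]
      rfl
  conv_lhs => unfold pr
  rw [Matrix.mulVec_add, kron_mulVec_pt, kron_mulVec_pt, h, h, ← pr_add]

end pr

section model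

open Cfsg.Agent.Helper7.OrthMax Cfsg.Agent.Helper8.QuadForm Cfsg.Agent.Helper8.Siegel
  Cfsg.Agent.Helper8.SiegelGroup Cfsg.Agent.Helper8.OrthOrder

variable {F : Type*} [Field F] [Fintype F] {ι : Type} [Fintype ι] [DecidableEq ι] {n₂ : ℕ}

theorem f2_vec_cancel (hq : Fintype.card F = 2) {J : Type} (a b : J → F) : a + (b + a) = b := by
  rw [add_comm b a, ← add_assoc, f2_vec_add_self hq, zero_add]

theorem f2_vec_cancel' (hq : Fintype.card F = 2) {J : Type} (a b : J → F) : a + b + a = b := by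
  rw [add_comm a b, add_assoc, f2_vec_add_self hq, add_zero]

/-- coordinates in which the quadratic form is `(y₀, y₁) ↦ f₂ y₀ y₁`. -/
structure Model (Q : QuadraticForm F (ι → F)) (R : Matrix ι (Fin 2 × Fin n₂) F)
    (R' : Matrix (Fin 2 × Fin n₂) ι F) (f₂ : (Fin n₂ → F) → (Fin n₂ → F) → F) : Prop where
  RR' : R * R' = 1
  R'R : R' * R = 1
  polar : ∀ y₀ y₁ z₀ z₁ : Fin n₂ → F,
    QuadraticMap.polar ⇑Q (R *ᵥ pr y₀ y₁) (R *ᵥ pr z₀ z₁) = f₂ y₀ z₁ + f₂ y₁ z₀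
  quad : ∀ y₀ y₁ : Fin n₂ → F, Q (R *ᵥ pr y₀ y₁) = f₂ y₀ y₁

theorem model_of (Q : QuadraticForm F (ι → F)) (hq : Fintype.card F = 2)
    (e : ι ≃ Fin 2 × Fin n₂) (P : GL ι F)
    (f₁ : (Fin 2 → F) → (Fin 2 → F) → F) (f₂ : (Fin n₂ → F) → (Fin n₂ → F) → F)
    (hf₁ : IsSymplecticForm f₁) (hf₂ : IsSymplecticForm f₂)
    (hT : IsTensorFormStructure id (QuadraticMap.polar ⇑Q) f₁ f₂ e P)
    (hpure : ∀ (x₁ : Fin 2 → F) (x₂ : Fin n₂ → F),
      Q ((P : Matrix ι ι F) *ᵥ ((fun a : Fin 2 × Fin n₂ => x₁ a.1 * x₂ a.2) ∘ e)) = 0) :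
    Model Q (Rm e P) (Rm' e P) f₂ := by
  obtain ⟨c, hc, hform⟩ := hT
  have hc1 : c = 1 := f2_eq_one hq hc
  subst hc1
  have hf : ∀ (u u' : Fin 2 → F) (y y' : Fin n₂ → F),
      QuadraticMap.polar ⇑Q (Rm e P *ᵥ pt u y) (Rm e P *ᵥ pt u' y') = f₁ u u' * f₂ y y' := by
    intro u u' y y'
    rw [← mulVec_comp, ← mulVec_comp, hform, one_mul, form_eq_gram hf₁.bilinear,
      form_eq_gram hf₂.bilinear]
    exact formOfGram_pt (RingHom.id F) (gramMatrix f₁) (gramMatrix f₂) u u' y y'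
  have hpure' : ∀ (u : Fin 2 → F) (y : Fin n₂ → F), Q (Rm e P *ᵥ pt u y) = 0 := by
    intro u y
    rw [← mulVec_comp]
    exact hpure u y
  have h01 : f₁ (ev F 0) (ev F 1) = 1 := by
    apply f2_eq_one hq
    intro h0
    have hne : ev F (0 : Fin 2) ≠ 0 := by
      intro h
      have := congrFun h 0
      simp [ev_apply] at this
    obtain ⟨-, ⟨x, hx⟩⟩ := hf₁.nondegenerate (ev F 0) hne
    apply hx
    have hx' : x = x 0 • ev F 0 + x 1 • ev F 1 := by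
      ext i
      fin_cases i <;> simp [ev_apply]
    rw [hx', hf₁.bilinear.add_right, hf₁.bilinear.smul_right, hf₁.bilinear.smul_right,
      hf₁.alternating, h0]
    ring
  have h10 : f₁ (ev F 1) (ev F 0) = 1 := by
    rw [hf₁.skew, h01, f2_neg hq]
  refine ⟨Rm_mul_Rm' e P, Rm'_mul_Rm e P, ?_, ?_⟩
  · intro y₀ y₁ z₀ z₁
    unfold pr
    rw [Matrix.mulVec_add, Matrix.mulVec_add, QuadraticMap.polar_add_left,
      QuadraticMap.polar_add_right, QuadraticMap.polar_add_right, hf, hf, hf, hf,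
      hf₁.alternating, hf₁.alternating, h01, h10]
    ring
  · intro y₀ y₁
    unfold pr
    rw [Matrix.mulVec_add]
    have h := hf (ev F 0) (ev F 1) y₀ y₁
    unfold QuadraticMap.polar at h
    rw [hpure', hpure', h01] at h
    linear_combination h

theorem mat_ext_mulVec {κ : Type} [Fintype κ] [DecidableEq κ] {A B : Matrix κ κ F}
    (h : ∀ x : κ → F, A *ᵥ x = B *ᵥ x) : A = B := by
  apply Matrix.toLin'.injective
  apply LinearMap.ext
  intro x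
  rw [Matrix.toLin'_apply, Matrix.toLin'_apply]
  exact h x

/-- the matrix of the element of order three in coordinates. -/
def Jm (F : Type*) [Field F] (n₂ : ℕ) : Matrix (Fin 2 × Fin n₂) (Fin 2 × Fin n₂) F :=
  !![0, 1; 1, 1] ⊗ₖ (1 : Matrix (Fin n₂) (Fin n₂) F)

/-- its square. -/
def Jm2 (F : Type*) [Field F] (n₂ : ℕ) : Matrix (Fin 2 × Fin n₂) (Fin 2 × Fin n₂) F :=
  !![1, 1; 1, 0] ⊗ₖ (1 : Matrix (Fin n₂) (Fin n₂) F)

theorem Jm_pr (y₀ y₁ : Fin n₂ → F) : Jm F n₂ *ᵥ pr y₀ y₁ = pr y₁ (y₀ + y₁) := by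
  unfold Jm
  rw [kron_pr]
  simp

theorem Jm2_pr (y₀ y₁ : Fin n₂ → F) : Jm2 F n₂ *ᵥ pr y₀ y₁ = pr (y₀ + y₁) y₀ := by
  unfold Jm2
  rw [kron_pr]
  simp

theorem Jm_mul_Jm2 (hq : Fintype.card F = 2) : Jm F n₂ * Jm2 F n₂ = 1 := by
  apply mat_ext_mulVec
  intro x
  rw [pr_surj x, ← Matrix.mulVec_mulVec, Jm2_pr, Jm_pr, Matrix.one_mulVec, f2_vec_cancel' hq]

theorem Jm2_mul_Jm (hq : Fintype.card F = 2) : Jm2 F n₂ * Jm F n₂ = 1 := by
  apply mat_ext_mulVec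
  intro x
  rw [pr_surj x, ← Matrix.mulVec_mulVec, Jm_pr, Jm2_pr, Matrix.one_mulVec, f2_vec_cancel hq]

namespace Model

variable {Q : QuadraticForm F (ι → F)} {R : Matrix ι (Fin 2 × Fin n₂) F}
  {R' : Matrix (Fin 2 × Fin n₂) ι F} {f₂ : (Fin n₂ → F) → (Fin n₂ → F) → F}

theorem R'_R (M : Model Q R R' f₂) (x : Fin 2 × Fin n₂ → F) : R' *ᵥ (R *ᵥ x) = x := by
  rw [Matrix.mulVec_mulVec, M.R'R, Matrix.one_mulVec]

theorem R_R' (M : Model Q R R' f₂) (v : ι → F) : R *ᵥ (R' *ᵥ v) = v := by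
  rw [Matrix.mulVec_mulVec, M.RR', Matrix.one_mulVec]

theorem R_inj (M : Model Q R R' f₂) {x y : Fin 2 × Fin n₂ → F} (h : R *ᵥ x = R *ᵥ y) : x = y := by
  rw [← M.R'_R x, ← M.R'_R y, h]

theorem exists_pr (M : Model Q R R' f₂) (v : ι → F) : ∃ y₀ y₁ : Fin n₂ → F, v = R *ᵥ pr y₀ y₁ :=
  ⟨_, _, by rw [← pr_surj, M.R_R']⟩

theorem conj_R (M : Model Q R R' f₂) (A : Matrix (Fin 2 × Fin n₂) (Fin 2 × Fin n₂) F)
    (x : Fin 2 × Fin n₂ → F) : (R * A * R') *ᵥ (R *ᵥ x) = R *ᵥ (A *ᵥ x) := by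
  rw [← Matrix.mulVec_mulVec, M.R'_R, ← Matrix.mulVec_mulVec]

/-- the element of order three. -/
def J3 (M : Model Q R R' f₂) (hq : Fintype.card F = 2) : GL ι F :=
  ⟨R * Jm F n₂ * R', R * Jm2 F n₂ * R', by
    rw [Matrix.mul_assoc (R * Jm F n₂), ← Matrix.mul_assoc R' , ← Matrix.mul_assoc R', M.R'R, Matrix.one_mul,
      ← Matrix.mul_assoc, Matrix.mul_assoc R, Jm_mul_Jm2 hq, Matrix.mul_one, M.RR'], by
    rw [Matrix.mul_assoc (R * Jm2 F n₂), ← Matrix.mul_assoc R' , ← Matrix.mul_assoc R', M.R'R, Matrix.one_mul,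
      ← Matrix.mul_assoc, Matrix.mul_assoc R, Jm2_mul_Jm hq, Matrix.mul_one, M.RR']⟩

theorem J3_R (M : Model Q R R' f₂) (hq : Fintype.card F = 2) (y₀ y₁ : Fin n₂ → F) :
    ((M.J3 hq : GL ι F) : Matrix ι ι F) *ᵥ (R *ᵥ pr y₀ y₁) = R *ᵥ pr y₁ (y₀ + y₁) := by
  show (R * Jm F n₂ * R') *ᵥ (R *ᵥ pr y₀ y₁) = _
  rw [M.conj_R, Jm_pr]

theorem J3_cube (M : Model Q R R' f₂) (hq : Fintype.card F = 2) : M.J3 hq * M.J3 hq * M.J3 hq = 1 := by
  apply Cfsg.Agent.Helper7.SLMax.gl_ext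
  intro v
  obtain ⟨y₀, y₁, rfl⟩ := M.exists_pr v
  rw [Cfsg.Agent.Helper7.SLMax.gl_mul_mulVec, Cfsg.Agent.Helper7.SLMax.gl_mul_mulVec, M.J3_R, M.J3_R, M.J3_R,
    Units.val_one, Matrix.one_mulVec, f2_vec_cancel hq, f2_vec_cancel' hq]

theorem tens_R (M : Model Q R R' f₂) {g : GL ι F} {a : Matrix (Fin 2) (Fin 2) F}
    {b : Matrix (Fin n₂) (Fin n₂) F} (hg : (g : Matrix ι ι F) = R * (a ⊗ₖ b) * R') (y₀ y₁ : Fin n₂ → F) :
    (g : Matrix ι ι F) *ᵥ (R *ᵥ pr y₀ y₁) =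
      R *ᵥ pr (a 0 0 • b *ᵥ y₀ + a 0 1 • b *ᵥ y₁) (a 1 0 • b *ᵥ y₀ + a 1 1 • b *ᵥ y₁) := by
  rw [hg, M.conj_R, kron_pr]

end Model

theorem sieg2 (hq : Fintype.card F = 2) (Q : QuadraticForm F (ι → F)) {u w : ι → F} (hu : Q u = 0)
    (huw : QuadraticMap.polar Q u w = 0) (hw : Q w = 0) (x : ι → F) :
    ((toGL Q (siegG Q u w) : GL ι F) : Matrix ι ι F) *ᵥ x =
      x + QuadraticMap.polar Q x w • u + QuadraticMap.polar Q x u • w := by
  rw [sieg_val Q hu huw, hw, zero_mul, zero_smul, sub_zero, sub_eq_add_neg, ← neg_smul, f2_neg hq]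

theorem exists_triple2 (hq : Fintype.card F = 2) {n : ℕ} (hn : 2 < n)
    {f₂ : (Fin n → F) → (Fin n → F) → F} (hf₂ : IsSymplecticForm f₂) :
    ∃ y₁ y₂ z : Fin n → F, y₂ ≠ 0 ∧ f₂ y₂ y₁ = 0 ∧ f₂ z y₁ = 1 ∧ f₂ z y₂ = 0 := by
  obtain ⟨y₁, hy₁⟩ : ∃ y₁ : Fin n → F, y₁ ≠ 0 := by
    refine ⟨Pi.single ⟨0, by omega⟩ 1, ?_⟩
    intro h
    have := congrFun h ⟨0, by omega⟩
    simp at this
  obtain ⟨⟨z, hz⟩, -⟩ := hf₂.nondegenerate y₁ hy₁
  have hz1 : f₂ z y₁ = 1 := f2_eq_one hq hz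
  let L1 : (Fin n → F) →ₗ[F] F :=
    { toFun := fun y => f₂ y y₁
      map_add' := fun x y => hf₂.bilinear.add_left x y y₁
      map_smul' := fun c x => by
        simp only [RingHom.id_apply, smul_eq_mul]
        exact hf₂.bilinear.smul_left c x y₁ }
  let L2 : (Fin n → F) →ₗ[F] F :=
    { toFun := fun y => f₂ y z
      map_add' := fun x y => hf₂.bilinear.add_left x y z
      map_smul' := fun c x => by
        simp only [RingHom.id_apply, smul_eq_mul]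
        exact hf₂.bilinear.smul_left c x z }
  have hker : LinearMap.ker (L1.prod L2) ≠ ⊥ := by
    apply LinearMap.ker_ne_bot_of_finrank_lt
    rw [Module.finrank_prod, Module.finrank_self, Module.finrank_fin_fun]
    exact hn
  obtain ⟨y₂, hy₂, hne⟩ := Submodule.exists_mem_ne_zero_of_ne_bot hker
  rw [LinearMap.mem_ker] at hy₂
  have h1 : f₂ y₂ y₁ = 0 := congrArg Prod.fst hy₂
  have h2 : f₂ y₂ z = 0 := congrArg Prod.snd hy₂
  refine ⟨y₁, y₂, z, hne, h1, hz1, ?_⟩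
  rw [hf₂.skew]
  exact neg_eq_zero.mpr h2

/-- `Sp_2(2) ⊗ Sp_{n₂}(2)` is not maximal in `Ω(Q)`: it lies in the normaliser of an element of order three
(the centraliser of which is a unitary group over the field with four elements). -/
theorem symp_not_max (Q : QuadraticForm F (ι → F)) (hQ : (QuadraticMap.polarBilin Q).Nondegenerate)
    (h5 : 5 ≤ Fintype.card ι) (hq : Fintype.card F = 2) (n₂ : ℕ) (hn₂ : 2 < n₂)
    (e : ι ≃ Fin 2 × Fin n₂) (P : GL ι F)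
    (f₁ : (Fin 2 → F) → (Fin 2 → F) → F) (f₂ : (Fin n₂ → F) → (Fin n₂ → F) → F)
    (hf₁ : IsSymplecticForm f₁) (hf₂ : IsSymplecticForm f₂)
    (hT : IsTensorFormStructure id (QuadraticMap.polar ⇑Q) f₁ f₂ e P)
    (hpure : ∀ (x₁ : Fin 2 → F) (x₂ : Fin n₂ → F),
      Q ((P : Matrix ι ι F) *ᵥ ((fun a : Fin 2 × Fin n₂ => x₁ a.1 * x₂ a.2) ∘ e)) = 0) :
    ∃ K : Subgroup (GL ι F), tensorProductSubgroup 2 n₂ e P ⊓ omegaGL ⇑Q < K ∧ K < omegaGL ⇑Q := by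
  have M := model_of Q hq e P f₁ f₂ hf₁ hf₂ hT hpure
  obtain ⟨y₁, y₂, z, hy₂, h21, hz1, hz2⟩ := exists_triple2 hq hn₂ hf₂
  have h2 : (2 : F) = 0 := Cfsg.Agent.Lead.OrthPlane.f2_two hq
  have hb := hf₂.bilinear
  have f0l : ∀ y, f₂ 0 y = 0 := form_zero_left hb
  have f0r : ∀ y, f₂ y 0 = 0 := by
    intro y
    rw [hf₂.skew, f0l, neg_zero]
  have hsym : ∀ x y, f₂ x y = f₂ y x := by
    intro x y
    rw [hf₂.skew, f2_neg hq]
  have h12 : f₂ y₁ y₂ = 0 := by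
    rw [hsym]
    exact h21
  obtain ⟨R, hR⟩ : ∃ R, R = Rm e P := ⟨_, rfl⟩
  obtain ⟨R', hR'⟩ : ∃ R', R' = Rm' e P := ⟨_, rfl⟩
  rw [← hR, ← hR'] at M
  -- the vectors `u'` and `J u'`
  obtain ⟨U, hU⟩ : ∃ U, U = R *ᵥ pr y₁ y₂ := ⟨_, rfl⟩
  obtain ⟨JU, hJU⟩ : ∃ JU, JU = R *ᵥ pr y₂ (y₁ + y₂) := ⟨_, rfl⟩
  have hQU : Q U = 0 := by rw [hU, M.quad, h12]
  have hQJU : Q JU = 0 := by rw [hJU, M.quad, hb.add_right, h21, hf₂.alternating, add_zero]
  have hUJU : QuadraticMap.polar ⇑Q U JU = 0 := by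
    rw [hU, hJU, M.polar, hb.add_right, hf₂.alternating, h12, hf₂.alternating]
    ring
  obtain ⟨τ, hτ⟩ : ∃ τ, τ = toGL Q (siegG Q U JU) := ⟨_, rfl⟩
  have hτΩ : τ ∈ omegaGL ⇑Q := by
    rw [hτ]
    exact toGL_mem_omegaGL Q hQ h5 (siegG_mem_SG Q hQU hUJU)
  have hτv : ∀ x, (τ : Matrix ι ι F) *ᵥ x =
      x + QuadraticMap.polar ⇑Q x JU • U + QuadraticMap.polar ⇑Q x U • JU := by
    intro x
    rw [hτ]
    exact sieg2 hq Q hQU hUJU hQJU x
  have hτJ : τ * M.J3 hq = M.J3 hq * τ := by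
    apply Cfsg.Agent.Helper7.SLMax.gl_ext
    intro v
    obtain ⟨x₀, x₁, rfl⟩ := M.exists_pr v
    rw [Cfsg.Agent.Helper7.SLMax.gl_mul_mulVec, Cfsg.Agent.Helper7.SLMax.gl_mul_mulVec, M.J3_R, hτv, hτv,
      Matrix.mulVec_add, Matrix.mulVec_add, Matrix.mulVec_smul, Matrix.mulVec_smul, M.J3_R]
    have e1 : ((M.J3 hq : GL ι F) : Matrix ι ι F) *ᵥ U = JU := by rw [hU, hJU, M.J3_R]
    have e2 : ((M.J3 hq : GL ι F) : Matrix ι ι F) *ᵥ JU = U + JU := by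
      rw [hJU, M.J3_R, hU, ← Matrix.mulVec_add, ← pr_add]
    rw [e1, e2]
    have a1 : QuadraticMap.polar ⇑Q (R *ᵥ pr x₁ (x₀ + x₁)) JU = QuadraticMap.polar ⇑Q (R *ᵥ pr x₀ x₁) U := by
      rw [hJU, hU]
      simp only [M.polar, hb.add_right, hb.add_left]
      linear_combination (f₂ x₁ y₂) * h2
    have a2 : QuadraticMap.polar ⇑Q (R *ᵥ pr x₁ (x₀ + x₁)) U =
        QuadraticMap.polar ⇑Q (R *ᵥ pr x₀ x₁) JU + QuadraticMap.polar ⇑Q (R *ᵥ pr x₀ x₁) U := by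
      rw [hJU, hU]
      simp only [M.polar, hb.add_right, hb.add_left]
      linear_combination (-(f₂ x₀ y₂)) * h2
    rw [a1, a2]
    module
  -- the second Siegel element
  obtain ⟨U₀, hU₀⟩ : ∃ U₀, U₀ = R *ᵥ pr y₁ 0 := ⟨_, rfl⟩
  obtain ⟨W, hW⟩ : ∃ W, W = R *ᵥ pr y₂ 0 := ⟨_, rfl⟩
  have hQU₀ : Q U₀ = 0 := by rw [hU₀, M.quad, f0r]
  have hQW : Q W = 0 := by rw [hW, M.quad, f0r]
  have hU₀W : QuadraticMap.polar ⇑Q U₀ W = 0 := by
    rw [hU₀, hW, M.polar, f0r, f0l, add_zero]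
  obtain ⟨ρ, hρ⟩ : ∃ ρ, ρ = toGL Q (siegG Q U₀ W) := ⟨_, rfl⟩
  have hρΩ : ρ ∈ omegaGL ⇑Q := by
    rw [hρ]
    exact toGL_mem_omegaGL Q hQ h5 (siegG_mem_SG Q hQU₀ hU₀W)
  have hρv : ∀ x₀ x₁ : Fin n₂ → F, (ρ : Matrix ι ι F) *ᵥ (R *ᵥ pr x₀ x₁) =
      R *ᵥ pr (x₀ + f₂ x₁ y₂ • y₁ + f₂ x₁ y₁ • y₂) x₁ := by
    intro x₀ x₁
    rw [hρ, sieg2 hq Q hQU₀ hU₀W hQW, hU₀, hW, M.polar, M.polar, f0r, ← Matrix.mulVec_smul,
      ← Matrix.mulVec_smul, ← Matrix.mulVec_add, ← Matrix.mulVec_add, ← pr_smul, ← pr_smul, ← pr_add, ← pr_add]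
    simp only [zero_add, smul_zero, add_zero]
  refine ⟨normC3 (M.J3 hq) (M.J3_cube hq) ⊓ omegaGL ⇑Q, lt_of_le_not_ge ?_ ?_, lt_of_le_not_ge inf_le_right ?_⟩
  · rintro g ⟨hg1, hg2⟩
    refine ⟨?_, hg2⟩
    obtain ⟨a, b, hab⟩ := mem_tensor hg1
    rw [← hR, ← hR'] at hab
    have hdet : (a : Matrix (Fin 2) (Fin 2) F) 0 0 * (a : Matrix (Fin 2) (Fin 2) F) 1 1 -
        (a : Matrix (Fin 2) (Fin 2) F) 0 1 * (a : Matrix (Fin 2) (Fin 2) F) 1 0 ≠ 0 := by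
      rw [← Matrix.det_fin_two]
      exact ((Matrix.isUnit_iff_isUnit_det (a : Matrix (Fin 2) (Fin 2) F)).mp a.isUnit).ne_zero
    show g * M.J3 hq = M.J3 hq * g ∨ g * M.J3 hq = M.J3 hq * M.J3 hq * g
    rcases gl2_F2_cases hq _ _ _ _ hdet with ⟨c1, c2⟩ | ⟨c1, c2⟩
    · left
      apply Cfsg.Agent.Helper7.SLMax.gl_ext
      intro v
      obtain ⟨x₀, x₁, rfl⟩ := M.exists_pr v
      rw [Cfsg.Agent.Helper7.SLMax.gl_mul_mulVec, Cfsg.Agent.Helper7.SLMax.gl_mul_mulVec, M.J3_R, M.tens_R hab,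
        M.tens_R hab, M.J3_R, Matrix.mulVec_add, ← c1, c2]
      congr 2
      · module
      · module
    · right
      apply Cfsg.Agent.Helper7.SLMax.gl_ext
      intro v
      obtain ⟨x₀, x₁, rfl⟩ := M.exists_pr v
      simp only [Cfsg.Agent.Helper7.SLMax.gl_mul_mulVec]
      rw [M.J3_R, M.tens_R hab, M.tens_R hab, M.J3_R, M.J3_R, f2_vec_cancel hq, Matrix.mulVec_add, ← c1, c2]
      congr 2
      · module
      · module
  · intro hle
    have hmem : τ ∈ normC3 (M.J3 hq) (M.J3_cube hq) ⊓ omegaGL ⇑Q := ⟨Or.inl hτJ, hτΩ⟩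
    obtain ⟨a, b, hab⟩ := mem_tensor (hle hmem).1
    rw [← hR, ← hR'] at hab
    have h1 := M.tens_R hab z 0
    rw [hτv, hU, hJU, M.polar, M.polar, hb.add_right, hz1, hz2, f0l, f0l] at h1
    simp only [add_zero, zero_add, one_smul, zero_smul, Matrix.mulVec_zero, smul_zero] at h1
    rw [← Matrix.mulVec_add, ← pr_add, zero_add] at h1
    obtain ⟨h3, h4⟩ := pr_inj (M.R_inj h1)
    have h5' : (a : Matrix (Fin 2) (Fin 2) F) 1 0 • (z + y₁) = (a : Matrix (Fin 2) (Fin 2) F) 0 0 • y₂ := by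
      rw [h3, h4, smul_smul, smul_smul, mul_comm]
    have h6 := congrArg (fun y => f₂ y y₁) h5'
    simp only [hb.smul_left, hb.add_left, hz1, hf₂.alternating, h21, add_zero, mul_one, mul_zero] at h6
    rw [h6, zero_smul] at h4
    exact hy₂ h4
  · intro hle
    have hmem : ρ * M.J3 hq = M.J3 hq * ρ ∨ ρ * M.J3 hq = M.J3 hq * M.J3 hq * ρ := (hle hρΩ).1
    rcases hmem with hc | hc
    · have h1 := congrArg (fun g : GL ι F => (g : Matrix ι ι F) *ᵥ (R *ᵥ pr 0 z)) hc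
      simp only [Cfsg.Agent.Helper7.SLMax.gl_mul_mulVec] at h1
      rw [M.J3_R, hρv, hρv, M.J3_R] at h1
      obtain ⟨h3, -⟩ := pr_inj (M.R_inj h1)
      simp only [zero_add, add_zero, hz1, hz2, zero_smul, one_smul] at h3
      have h4 : z + y₂ = z + 0 := by rw [add_zero]; exact h3
      exact hy₂ (add_left_cancel h4)
    · have h1 := congrArg (fun g : GL ι F => (g : Matrix ι ι F) *ᵥ (R *ᵥ pr 0 z)) hc
      simp only [Cfsg.Agent.Helper7.SLMax.gl_mul_mulVec] at h1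
      rw [M.J3_R, hρv, hρv, M.J3_R, M.J3_R] at h1
      obtain ⟨-, h3⟩ := pr_inj (M.R_inj h1)
      simp only [zero_add, add_zero, hz1, hz2, zero_smul, one_smul] at h3
      rw [f2_vec_cancel hq] at h3
      have h4 := congrArg (fun y => f₂ y y₁) h3
      simp only [hz1, h21] at h4
      exact one_ne_zero h4

end model

end Cfsg.Agent.Helper7.TensNM
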