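import Cfsg.Prelude.Def_SporadicCombinatorics
import Mathlib

set_option autoImplicit false

/-!
The ternary code of length twelve: a systematic encoder, and the facts obtained from it by
enumeration of the `729` words.
-/

namespace Cfsg.Agent.Helper7.TernaryGolay

open Cfsg

theorem sum_zmod3 (f : ZMod 3 → ZMod 3) : ∑ r : ZMod 3, f r = f 0 + f 1 + f 2 :=
  Fin.sum_univ_three f

theorem tet_mem (a b : ZMod 3) (t : Fin 4 → ZMod 3)
    (h : t = a • ![0, 1, 1, 1] + b • ![1, 0, 1, 2]) : t ∈ tetracode := by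
  rw [h]
  exact Submodule.add_mem _ (Submodule.smul_mem _ _ (Submodule.subset_span (by simp)))
    (Submodule.smul_mem _ _ (Submodule.subset_span (by simp)))

theorem mem_tetracode (t : Fin 4 → ZMod 3) (h : t ∈ tetracode) :
    ∃ a b : ZMod 3, t = a • ![0, 1, 1, 1] + b • ![1, 0, 1, 2] := by
  rw [tetracode, Submodule.mem_span_pair] at h
  obtain ⟨a, b, h⟩ := h
  exact ⟨a, b, h.symm⟩

theorem three_eq_zero : (3 : ZMod 3) = 0 := by decide

/-- The parity checks satisfied by the words of the code. -/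
theorem parity (x : ArrayPt → ZMod 3) (h : IsTernaryGolayWord x) :
    x (1, 2) = 1 * x (0, 0) + 1 * x (0, 1) + 1 * x (0, 2) + 2 * x (1, 0) + 2 * x (1, 1) ∧
      x (2, 1) = 2 * x (0, 1) + 1 * x (0, 2) + 2 * x (1, 0) + 1 * x (1, 1) + 1 * x (2, 0) ∧
      x (2, 2) = 1 * x (0, 0) + 2 * x (0, 1) + 1 * x (1, 0) + 2 * x (1, 1) + 1 * x (2, 0) ∧
      x (3, 0) = 1 * x (0, 0) + 2 * x (0, 1) + 2 * x (0, 2) + 2 * x (1, 0) + 2 * x (2, 0) ∧
      x (3, 1) = 1 * x (0, 0) + 1 * x (0, 2) + 1 * x (1, 0) + 1 * x (1, 1) + 2 * x (2, 0) ∧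
      x (3, 2) = 2 * x (0, 0) + 2 * x (0, 1) + 1 * x (0, 2) + 2 * x (1, 1) + 2 * x (2, 0) := by
  obtain ⟨s, hcol, htet⟩ := h
  have hc0 : x (0, 0) + x (0, 1) + x (0, 2) = -s := by
    have := hcol 0
    rwa [sum_zmod3] at this
  have hc1 : x (1, 0) + x (1, 1) + x (1, 2) = -s := by
    have := hcol 1
    rwa [sum_zmod3] at this
  have hc2 : x (2, 0) + x (2, 1) + x (2, 2) = -s := by
    have := hcol 2
    rwa [sum_zmod3] at this
  have hc3 : x (3, 0) + x (3, 1) + x (3, 2) = -s := by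
    have := hcol 3
    rwa [sum_zmod3] at this
  have ht00 : x (0, 0) + x (1, 0) + x (2, 0) + x (3, 0) = s := by
    have := htet ![0, 0, 0, 0] (tet_mem 0 0 _ (by decide))
    simpa [Fin.sum_univ_four] using this
  have ht01 : x (0, 1) + x (1, 0) + x (2, 1) + x (3, 2) = s := by
    have := htet ![1, 0, 1, 2] (tet_mem 0 1 _ (by decide))
    simpa [Fin.sum_univ_four] using this
  have ht02 : x (0, 2) + x (1, 0) + x (2, 2) + x (3, 1) = s := by
    have := htet ![2, 0, 2, 1] (tet_mem 0 2 _ (by decide))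
    simpa [Fin.sum_univ_four] using this
  have ht10 : x (0, 0) + x (1, 1) + x (2, 1) + x (3, 1) = s := by
    have := htet ![0, 1, 1, 1] (tet_mem 1 0 _ (by decide))
    simpa [Fin.sum_univ_four] using this
  have ht11 : x (0, 1) + x (1, 1) + x (2, 2) + x (3, 0) = s := by
    have := htet ![1, 1, 2, 0] (tet_mem 1 1 _ (by decide))
    simpa [Fin.sum_univ_four] using this
  have ht12 : x (0, 2) + x (1, 1) + x (2, 0) + x (3, 2) = s := by
    have := htet ![2, 1, 0, 2] (tet_mem 1 2 _ (by decide))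
    simpa [Fin.sum_univ_four] using this
  have ht20 : x (0, 0) + x (1, 2) + x (2, 2) + x (3, 2) = s := by
    have := htet ![0, 2, 2, 2] (tet_mem 2 0 _ (by decide))
    simpa [Fin.sum_univ_four] using this
  have ht21 : x (0, 1) + x (1, 2) + x (2, 0) + x (3, 1) = s := by
    have := htet ![1, 2, 0, 1] (tet_mem 2 1 _ (by decide))
    simpa [Fin.sum_univ_four] using this
  have ht22 : x (0, 2) + x (1, 2) + x (2, 1) + x (3, 0) = s := by
    have := htet ![2, 2, 1, 0] (tet_mem 2 2 _ (by decide))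
    simpa [Fin.sum_univ_four] using this
  have h3 := three_eq_zero
  refine ⟨?_, ?_, ?_, ?_, ?_, ?_⟩
  · linear_combination (2) * hc0 + (1) * hc1 + ((-1) * x (0, 0) + (-1) * x (0, 1) + (-1) * x (0, 2) + (-1) * x (1, 0) + (-1) * x (1, 1) + (-1) * s) * h3
  · linear_combination (2) * hc0 + (1) * hc3 + (2) * ht00 + (2) * ht01 + (2) * ht10 + ((-2) * x (0, 0) + (-2) * x (0, 1) + (-1) * x (0, 2) + (-2) * x (1, 0) + (-1) * x (1, 1) + (-1) * x (2, 0) + (-1) * x (2, 1) + (-1) * x (3, 0) + (-1) * x (3, 1) + (-1) * x (3, 2) + (1) * s) * h3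
  · linear_combination (1) * hc2 + (2) * hc3 + (1) * ht00 + (1) * ht01 + (1) * ht10 + ((-1) * x (0, 0) + (-1) * x (0, 1) + (-1) * x (1, 0) + (-1) * x (1, 1) + (-1) * x (2, 0) + (-1) * x (2, 1) + (-1) * x (3, 0) + (-1) * x (3, 1) + (-1) * x (3, 2)) * h3
  · linear_combination (1) * hc0 + (1) * ht00 + ((-1) * x (0, 0) + (-1) * x (0, 1) + (-1) * x (0, 2) + (-1) * x (1, 0) + (-1) * x (2, 0)) * h3
  · linear_combination (2) * hc0 + (2) * hc3 + (1) * ht00 + (1) * ht01 + (2) * ht10 + ((-2) * x (0, 0) + (-1) * x (0, 1) + (-1) * x (0, 2) + (-1) * x (1, 0) + (-1) * x (1, 1) + (-1) * x (2, 0) + (-1) * x (2, 1) + (-1) * x (3, 0) + (-1) * x (3, 1) + (-1) * x (3, 2)) * h3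
  · linear_combination (2) * hc0 + (2) * hc3 + (1) * ht00 + (2) * ht01 + (1) * ht10 + ((-2) * x (0, 0) + (-2) * x (0, 1) + (-1) * x (0, 2) + (-1) * x (1, 0) + (-1) * x (1, 1) + (-1) * x (2, 0) + (-1) * x (2, 1) + (-1) * x (3, 0) + (-1) * x (3, 1) + (-1) * x (3, 2)) * h3

/-- The position with a given index. -/
def pt (k : Fin 12) : ArrayPt :=
  (⟨k.val / 3, by omega⟩, (show ZMod 3 from (⟨k.val % 3, by omega⟩ : Fin 3)))

/-- The index of a position. -/
def idx (p : ArrayPt) : Fin 12 := ⟨3 * p.1.val + (show Fin 3 from p.2).val, by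
  have := (show Fin 3 from p.2).isLt
  have := p.1.isLt
  omega⟩

theorem pt_idx : ∀ p : ArrayPt, pt (idx p) = p := by decide

theorem idx_pt : ∀ k : Fin 12, idx (pt k) = k := by decide

/-- The word with given entries at the six information positions, as a vector. -/
def encV (c : Fin 6 → ZMod 3) : Fin 12 → ZMod 3 :=
  ![c 0,
    c 1,
    c 2,
    c 3,
    c 4,
    1 * c 0 + 1 * c 1 + 1 * c 2 + 2 * c 3 + 2 * c 4,
    c 5,
    2 * c 1 + 1 * c 2 + 2 * c 3 + 1 * c 4 + 1 * c 5,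
    1 * c 0 + 2 * c 1 + 1 * c 3 + 2 * c 4 + 1 * c 5,
    1 * c 0 + 2 * c 1 + 2 * c 2 + 2 * c 3 + 2 * c 5,
    1 * c 0 + 1 * c 2 + 1 * c 3 + 1 * c 4 + 2 * c 5,
    2 * c 0 + 2 * c 1 + 1 * c 2 + 2 * c 4 + 2 * c 5]

/-- The word with given entries at the six information positions. -/
def enc (c : Fin 6 → ZMod 3) : ArrayPt → ZMod 3 := fun p => encV c (idx p)

/-- The entries at the six information positions. -/
def info (x : ArrayPt → ZMod 3) : Fin 6 → ZMod 3 :=
  ![x (0, 0), x (0, 1), x (0, 2), x (1, 0), x (1, 1), x (2, 0)]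

theorem enc_info (x : ArrayPt → ZMod 3) (h : IsTernaryGolayWord x) : enc (info x) = x := by
  obtain ⟨h5, h7, h8, h9, h10, h11⟩ := parity x h
  have key : ∀ k : Fin 12, enc (info x) (pt k) = x (pt k) := by
    intro k
    fin_cases k
    · rfl
    · rfl
    · rfl
    · rfl
    · rfl
    · exact h5.symm
    · rfl
    · exact h7.symm
    · exact h8.symm
    · exact h9.symm
    · exact h10.symm
    · exact h11.symm
  funext p
  rw [← pt_idx p]
  exact key _

theorem info_enc (c : Fin 6 → ZMod 3) : info (enc c) = c := by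
  funext j
  fin_cases j <;> rfl

/-- The scalar attached to the word with given information entries. -/
def sOf (c : Fin 6 → ZMod 3) : ZMod 3 := -(c 0 + c 1 + c 2)

set_option maxRecDepth 100000 in
theorem enc_col : ∀ (c : Fin 6 → ZMod 3) (i : Fin 4), ∑ r : ZMod 3, enc c (i, r) = -sOf c := by
  decide +kernel

set_option maxRecDepth 100000 in
theorem enc_tet : ∀ (c : Fin 6 → ZMod 3) (a b : ZMod 3),
    ∑ i : Fin 4, enc c (i, (a • ![0, 1, 1, 1] + b • ![1, 0, 1, 2] : Fin 4 → ZMod 3) i) = sOf c := by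
  decide +kernel

theorem enc_mem (c : Fin 6 → ZMod 3) : IsTernaryGolayWord (enc c) := by
  refine ⟨sOf c, enc_col c, ?_⟩
  intro t ht
  obtain ⟨a, b, rfl⟩ := mem_tetracode t ht
  exact enc_tet c a b

/-- The code, parametrized by the entries at the information positions. -/
def codeEquiv : ternaryGolayCode ≃ (Fin 6 → ZMod 3) where
  toFun x := info x.1
  invFun c := ⟨enc c, enc_mem c⟩
  left_inv x := Subtype.ext (enc_info x.1 x.2)
  right_inv c := info_enc c

theorem mem_iff (x : ArrayPt → ZMod 3) : x ∈ ternaryGolayCode ↔ ∃ c, x = enc c :=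
  ⟨fun h => ⟨info x, (enc_info x h).symm⟩, fun ⟨c, hc⟩ => hc ▸ enc_mem c⟩

theorem enc_injective : Function.Injective enc := by
  intro a b h
  rw [← info_enc a, ← info_enc b, h]

theorem card_code : Nat.card ternaryGolayCode = 729 := by
  rw [Nat.card_congr codeEquiv, Nat.card_fun]
  simp

end Cfsg.Agent.Helper7.TernaryGolay
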