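import Mathlib
import Cfsg.Agent.Helper7.TnB
import Cfsg.Agent.Helper7.POrdI

set_option autoImplicit false
set_option linter.unusedSectionVars false
set_option linter.unusedVariables false

/-!
# Elements of prime order of `SL_n` outside every conjugate of the stabilizer of a tensor decomposition
-/

namespace Cfsg.Agent.Helper7.Tn

open Matrix Module Cfsg.Agent.Helper7.POrd Polynomial
open scoped Kronecker

variable {F : Type*} [Field F]

/-- membership in the special linear group. -/
theorem mem_specialLinear_iff {n : ℕ} (x : GL (Fin n) F) :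
    x ∈ Cfsg.Geo.specialLinear (Fin n) F ↔ (x : Matrix (Fin n) (Fin n) F).det = 1 := by
  unfold Cfsg.Geo.specialLinear
  rw [MonoidHom.mem_ker]
  constructor
  · intro h
    have := congrArg Units.val h
    exact this
  · intro h
    apply Units.ext
    exact h

/-- the rank of a diagonal matrix minus a scalar. -/
theorem rank_diagonal_sub {n : ℕ} (d : Fin n → F) (c : F) (S : Finset (Fin n)) (hS : ∀ k, d k ≠ c ↔ k ∈ S) :
    (Matrix.diagonal d - c • (1 : Matrix (Fin n) (Fin n) F)).rank = S.card := by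
  classical
  have h1 : Matrix.diagonal d - c • (1 : Matrix (Fin n) (Fin n) F) = Matrix.diagonal (fun k => d k - c) := by
    ext i j
    by_cases hij : i = j
    · subst hij
      simp
    · simp [hij]
  rw [h1, Matrix.rank_diagonal, Fintype.card_subtype]
  congr 1
  ext k
  simp only [Finset.mem_filter, Finset.mem_univ, true_and]
  rw [← hS k, sub_ne_zero]

/-- the diagonal element of `GL_n`. -/
noncomputable def diagGL {n : ℕ} (d : Fin n → F) (hd : ∀ k, d k ≠ 0) : GL (Fin n) F :=
  Matrix.GeneralLinearGroup.mkOfDetNeZero (Matrix.diagonal d) (by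
    rw [Matrix.det_diagonal]
    exact Finset.prod_ne_zero_iff.mpr (fun k _ => hd k))

theorem diagGL_val {n : ℕ} (d : Fin n → F) (hd : ∀ k, d k ≠ 0) :
    ((diagGL d hd : GL (Fin n) F) : Matrix (Fin n) (Fin n) F) = Matrix.diagonal d := rfl

/-- a diagonal matrix with two different entries is not scalar. -/
theorem diagonal_ne_scalar {n : ℕ} (d : Fin n → F) {k k' : Fin n} (h : d k ≠ d k') (z : F) :
    Matrix.diagonal d ≠ z • (1 : Matrix (Fin n) (Fin n) F) := by
  intro hz
  have h1 := congrFun (congrFun hz k) k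
  have h2 := congrFun (congrFun hz k') k'
  rw [Matrix.diagonal_apply_eq, Matrix.smul_apply, Matrix.one_apply_eq, smul_eq_mul, mul_one] at h1 h2
  exact h (h1.trans h2.symm)

/-- **the general diagonal criterion.** -/
theorem not_forall_of_diag {n a b : ℕ} (e : Fin n ≃ Fin a × Fin b) (P : GL (Fin n) F) {r : ℕ}
    (d : Fin n → F) (hd : ∀ k, d k ≠ 0) (hdet : ∏ k, d k = 1) {z : F} (hz : ∀ k, d k ^ r = z)
    {k k' : Fin n} (hkk : d k ≠ d k') {c c' : F} (S S' : Finset (Fin n)) (hS : ∀ k, d k ≠ c ↔ k ∈ S)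
    (hS' : ∀ k, d k ≠ c' ↔ k ∈ S') (h1 : S.card < b) (h2 : ¬ a ∣ S'.card)
    (hall : ∀ x ∈ Cfsg.Geo.specialLinear (Fin n) F,
      (∃ z : F, ((x ^ r : GL (Fin n) F) : Matrix (Fin n) (Fin n) F) = z • (1 : Matrix (Fin n) (Fin n) F)) →
      (∀ z : F, (x : Matrix (Fin n) (Fin n) F) ≠ z • (1 : Matrix (Fin n) (Fin n) F)) →
      ∃ g ∈ Cfsg.Geo.specialLinear (Fin n) F, g⁻¹ * x * g ∈ Cfsg.Geo.tensorProductSubgroup a b e P) : False := by
  obtain ⟨g, -, hg⟩ := hall (diagGL d hd) (by rw [mem_specialLinear_iff, diagGL_val, Matrix.det_diagonal, hdet])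
    ⟨z, by
      rw [Units.val_pow_eq_pow_val, diagGL_val, Matrix.diagonal_pow]
      ext i j
      by_cases hij : i = j
      · subst hij
        simp [hz]
      · simp [hij]⟩
    (by rw [diagGL_val]; exact diagonal_ne_scalar d hkk)
  refine not_conj_mem_of_rank e P (diagGL d hd) g (c := c) (c' := c') ?_ ?_ hg
  · rw [diagGL_val, rank_diagonal_sub d c S hS]
    exact h1
  · rw [diagGL_val, rank_diagonal_sub d c' S' hS']
    exact h2

/-- **the transvection** is not conjugate into the stabilizer of a tensor decomposition. -/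
theorem not_forall_of_char {n a b : ℕ} (hn : 2 ≤ n) (ha : 2 ≤ a) (hb : 2 ≤ b) (e : Fin n ≃ Fin a × Fin b)
    (P : GL (Fin n) F) {p : ℕ} [Fact p.Prime] [CharP F p]
    (hall : ∀ x ∈ Cfsg.Geo.specialLinear (Fin n) F,
      (∃ z : F, ((x ^ p : GL (Fin n) F) : Matrix (Fin n) (Fin n) F) = z • (1 : Matrix (Fin n) (Fin n) F)) →
      (∀ z : F, (x : Matrix (Fin n) (Fin n) F) ≠ z • (1 : Matrix (Fin n) (Fin n) F)) →
      ∃ g ∈ Cfsg.Geo.specialLinear (Fin n) F, g⁻¹ * x * g ∈ Cfsg.Geo.tensorProductSubgroup a b e P) : False := by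
  classical
  let k₀ : Fin n := ⟨0, by omega⟩
  let k₁ : Fin n := ⟨1, by omega⟩
  have hk : k₀ ≠ k₁ := by
    intro h
    have := congrArg Fin.val h
    simp [k₀, k₁] at this
  have hdet : (Matrix.transvection k₀ k₁ (1 : F)).det = 1 := Matrix.det_transvection_of_ne k₀ k₁ hk 1
  let x : GL (Fin n) F := Matrix.GeneralLinearGroup.mkOfDetNeZero (Matrix.transvection k₀ k₁ (1 : F))
    (by rw [hdet]; exact one_ne_zero)
  have hxval : (x : Matrix (Fin n) (Fin n) F) = Matrix.transvection k₀ k₁ (1 : F) := rfl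
  have hpow : ∀ t : ℕ, (Matrix.transvection k₀ k₁ (1 : F)) ^ t = Matrix.transvection k₀ k₁ (t : F) := by
    intro t
    induction t with
    | zero => simp [Matrix.transvection_zero]
    | succ t ih =>
      rw [pow_succ, ih, Matrix.transvection_mul_transvection_same k₀ k₁ hk]
      push_cast
      rfl
  have hsub : (x : Matrix (Fin n) (Fin n) F) - (1 : F) • 1 = Matrix.single k₀ k₁ (1 : F) := by
    rw [hxval, one_smul]
    unfold Matrix.transvection
    rw [add_sub_cancel_left]
  have hrank : ((x : Matrix (Fin n) (Fin n) F) - (1 : F) • 1).rank = 1 := by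
    rw [hsub]
    apply le_antisymm
    · have h1 : Matrix.single k₀ k₁ (1 : F) = Matrix.vecMulVec (Pi.single k₀ 1) (Pi.single k₁ 1) := by
        ext i j
        simp only [Matrix.single, Matrix.of_apply, Matrix.vecMulVec_apply, Pi.single_apply]
        by_cases hi : i = k₀
        · by_cases hj : j = k₁
          · simp [hi, hj]
          · simp [hi, hj, Ne.symm hj]
        · simp [hi, Ne.symm hi]
      rw [h1]
      exact Matrix.rank_vecMulVec_le _ _
    · by_contra hcon
      have h0 : (Matrix.single k₀ k₁ (1 : F)).rank = 0 := by omega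
      have h1 := eq_zero_of_rank_eq_zero _ h0
      have h2 := congrFun (congrFun h1 k₀) k₁
      rw [Matrix.single_apply_same, Matrix.zero_apply] at h2
      exact one_ne_zero h2
  obtain ⟨g, -, hg⟩ := hall x (by rw [mem_specialLinear_iff]; exact hdet)
    ⟨1, by
      rw [Units.val_pow_eq_pow_val, hxval, hpow, CharP.cast_eq_zero, Matrix.transvection_zero, one_smul]⟩
    (by
      intro z hz
      rw [hxval] at hz
      have h1 := congrFun (congrFun hz k₀) k₁
      unfold Matrix.transvection at h1
      rw [Matrix.add_apply, Matrix.one_apply_ne hk, Matrix.single_apply_same, Matrix.smul_apply,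
        Matrix.one_apply_ne hk, smul_zero, zero_add] at h1
      exact one_ne_zero h1)
  refine not_conj_mem_of_rank e P x g (c := 1) (c' := 1) ?_ ?_ hg
  · rw [hrank]
    omega
  · rw [hrank]
    intro h
    have := Nat.le_of_dvd one_pos h
    omega

end Cfsg.Agent.Helper7.Tn
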