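import Mathlib
import Cfsg.Agent.Helper7.TnC

set_option autoImplicit false
set_option linter.unusedSectionVars false
set_option linter.unusedVariables false

/-!
# The necessary conditions for the tensor decomposition statement
-/

namespace Cfsg.Agent.Helper7.Tn

open Matrix Module Cfsg.Agent.Helper7.POrd Polynomial
open scoped Kronecker

variable {F : Type*} [Field F] [Fintype F] {p : ℕ} [Fact p.Prime] [CharP F p] {r : ℕ} [Fact r.Prime]

/-- **model**: a matrix of determinant one and order `r` moving a space of dimension `i`. -/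
theorem exists_model_single (hrp : r ≠ p) (n : ℕ) (hi : orderOf ((Fintype.card F : ℕ) : ZMod r) ≠ 1)
    (hin : orderOf ((Fintype.card F : ℕ) : ZMod r) ≤ n) :
    ∃ M : Matrix (Fin n) (Fin n) F, M ^ r = 1 ∧ M.det = 1 ∧
      (M - 1).rank = orderOf ((Fintype.card F : ℕ) : ZMod r) := by
  classical
  obtain ⟨g, hg, hgc, hgd⟩ := exists_irred_factor (F := F) hrp
  have hipos : 0 < orderOf ((Fintype.card F : ℕ) : ZMod r) := orderOf_q_pos hrp
  generalize hidef : orderOf ((Fintype.card F : ℕ) : ZMod r) = i at *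
  haveI : Fact (Irreducible g) := ⟨hg⟩
  haveI : Module.Finite F (AdjoinRoot g) := finite_adjoinRoot hg.ne_zero
  haveI : Finite (AdjoinRoot g) := Module.finite_of_finite F
  let K := AdjoinRoot g
  let ζ : K := AdjoinRoot.root g
  have hr0 : (r : F) ≠ 0 := natCast_ne_zero_of_ne hrp
  have hζr : ζ ^ r = 1 := by
    have h1 : g ∣ X ^ r - 1 := by
      rw [← cyclotomic_prime_mul_X_sub_one F r]
      exact Dvd.dvd.mul_right hgc _
    have h := AdjoinRoot.mk_eq_zero.mpr h1
    rw [map_sub, map_pow, AdjoinRoot.mk_X, map_one, sub_eq_zero] at h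
    exact h
  have hζ1 : ζ ≠ 1 := by
    intro h
    have h2 := AdjoinRoot.mk_eq_zero.mpr hgc
    rw [cyclotomic_prime, map_sum] at h2
    simp only [map_pow, AdjoinRoot.mk_X] at h2
    have h3 : ∑ t ∈ Finset.range r, (AdjoinRoot.root g) ^ t = (r : AdjoinRoot g) := by
      have : AdjoinRoot.root g = 1 := h
      rw [this]
      simp
    rw [h3] at h2
    have h4 : algebraMap F (AdjoinRoot g) (r : F) = 0 := by
      rw [map_natCast]
      exact h2
    exact hr0 ((map_eq_zero _).mp h4)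
  let k := n - i
  let T' : Module.End F ((Fin 1 → K) × (Fin k → F)) := LinearMap.prodMap (smulEnd (F := F) K 1 ζ) LinearMap.id
  have hTpow : ∀ (t : ℕ) (y : (Fin 1 → K) × (Fin k → F)), (T' ^ t) y = (ζ ^ t • y.1, y.2) := by
    intro t
    induction t with
    | zero => intro y; simp
    | succ t ih =>
      intro y
      rw [pow_succ, Module.End.mul_apply, ih]
      show (ζ ^ t • (ζ • y.1), y.2) = _
      rw [smul_smul, pow_succ]
  have hT1 : T' ^ r = 1 := by
    apply LinearMap.ext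
    intro y
    rw [hTpow, hζr, one_smul, Module.End.one_apply]
  have hn : finrank F ((Fin 1 → K) × (Fin k → F)) = n := by
    rw [Module.finrank_prod, finrank_fin_fun_ext, finrank_adjoinRoot hg.ne_zero, hgd, Module.finrank_fin_fun]
    omega
  have hdet : LinearMap.det T' = 1 := by
    apply eq_one_of_pow_eq_one (F := F) (Fact.out : r.Prime) (by rw [hidef]; exact hi)
    rw [← map_pow, hT1, map_one]
  have hker : LinearMap.ker (T' - 1) = LinearMap.ker (LinearMap.fst F (Fin 1 → K) (Fin k → F)) := by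
    ext y
    rw [LinearMap.mem_ker, LinearMap.mem_ker, LinearMap.fst_apply, LinearMap.sub_apply, Module.End.one_apply,
      sub_eq_zero]
    constructor
    · intro hy
      have h1 : ζ • y.1 = y.1 := congrArg Prod.fst hy
      have h2 : (ζ - 1) • y.1 = 0 := by rw [sub_smul, one_smul, h1, sub_self]
      rcases smul_eq_zero.mp h2 with h | h
      · exact absurd (sub_eq_zero.mp h) hζ1
      · exact h
    · intro hy
      show (ζ • y.1, y.2) = y
      rw [hy, smul_zero]
      exact Prod.ext hy.symm rfl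
  have hkerdim : finrank F ↥(LinearMap.ker (T' - 1)) = k := by
    rw [hker, LinearMap.ker_fst, LinearMap.finrank_range_of_inj LinearMap.inr_injective, Module.finrank_fin_fun]
  have hrange : finrank F ↥(LinearMap.range (T' - 1)) = i := by
    have := LinearMap.finrank_range_add_finrank_ker (T' - 1)
    rw [hkerdim, hn] at this
    omega
  let bas : Basis (Fin n) F ((Fin 1 → K) × (Fin k → F)) := Module.finBasisOfFinrankEq F _ hn
  refine ⟨LinearMap.toMatrix bas bas T', ?_, ?_, ?_⟩
  · rw [LinearMap.toMatrix_pow, hT1, LinearMap.toMatrix_one]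
  · rw [LinearMap.det_toMatrix bas, hdet]
  · have h1 : LinearMap.toMatrix bas bas T' - 1 = LinearMap.toMatrix bas bas (T' - 1) := by
      rw [map_sub, LinearMap.toMatrix_one]
    rw [h1, Matrix.rank_eq_finrank_range_toLin _ bas bas, Matrix.toLin_toMatrix, hrange]

/-- a prime dividing the index of a subgroup of `SL_n(q)`, other than the characteristic, has order at most `n`. -/
theorem order_le_of_dvd_relIndex {n : ℕ} (hrp : r ≠ p) (H : Subgroup (GL (Fin n) F))
    (h : r ∣ H.relIndex (Cfsg.Geo.specialLinear (Fin n) F)) :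
    orderOf ((Fintype.card F : ℕ) : ZMod r) ≤ n := by
  have hr : r.Prime := Fact.out
  have h1 : r ∣ Nat.card (GL (Fin n) F) :=
    (h.trans (Subgroup.relIndex_dvd_card _ _)).trans (Subgroup.card_subgroup_dvd_card _)
  rw [Matrix.card_GL_field] at h1
  obtain ⟨j, -, hj⟩ := (Prime.dvd_finset_prod_iff hr.prime _).mp h1
  have hjn : (j : ℕ) < n := j.2
  have h2 : Fintype.card F ^ n - Fintype.card F ^ (j : ℕ) =
      Fintype.card F ^ (j : ℕ) * (Fintype.card F ^ (n - (j : ℕ)) - 1) := by
    rw [Nat.mul_sub, mul_one, ← pow_add]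
    congr 2
    omega
  rw [h2] at hj
  have h3 : ¬ r ∣ Fintype.card F ^ (j : ℕ) := by
    intro hd
    have h4 := hr.dvd_of_dvd_pow hd
    apply card_natCast_ne_zero (F := F) hrp
    rw [ZMod.natCast_eq_zero_iff]
    exact h4
  have h5 := (hr.dvd_mul.mp hj).resolve_left h3
  have h6 := orderOf_dvd_of_dvd_pow_sub_one (F := F) h5
  have h7 := Nat.le_of_dvd (by omega) h6
  omega

/-- **elements of order `r` moving the smallest possible space**, `r` odd not dividing `q - 1`. -/
theorem not_forall_of_order {n a b : ℕ} (ha : 2 ≤ a) (hlt : a < b) (hrp : r ≠ p)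
    (hi1 : orderOf ((Fintype.card F : ℕ) : ZMod r) ≠ 1) (hin : orderOf ((Fintype.card F : ℕ) : ZMod r) ≤ n)
    (e : Fin n ≃ Fin a × Fin b) (P : GL (Fin n) F)
    (hall : ∀ x ∈ Cfsg.Geo.specialLinear (Fin n) F,
      (∃ z : F, ((x ^ r : GL (Fin n) F) : Matrix (Fin n) (Fin n) F) = z • (1 : Matrix (Fin n) (Fin n) F)) →
      (∀ z : F, (x : Matrix (Fin n) (Fin n) F) ≠ z • (1 : Matrix (Fin n) (Fin n) F)) →
      ∃ g ∈ Cfsg.Geo.specialLinear (Fin n) F, g⁻¹ * x * g ∈ Cfsg.Geo.tensorProductSubgroup a b e P) : False := by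
  have hr : r.Prime := Fact.out
  have hipos := orderOf_q_pos (F := F) hrp
  obtain ⟨M, hMr, hMdet, hMrank⟩ := exists_model_single (F := F) hrp n hi1 hin
  let x : GL (Fin n) F := Matrix.GeneralLinearGroup.mkOfDetNeZero M (by rw [hMdet]; exact one_ne_zero)
  have hxval : (x : Matrix (Fin n) (Fin n) F) = M := rfl
  have hxr : x ^ r = 1 := by
    apply Units.ext
    rw [Units.val_pow_eq_pow_val, hxval, hMr]
    rfl
  obtain ⟨g, -, hg⟩ := hall x (by rw [mem_specialLinear_iff, hxval, hMdet])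
    ⟨1, by rw [hxr, one_smul]; rfl⟩
    (by
      intro z hz
      rw [hxval] at hz
      have hz1 : z ^ r = 1 := by
        have h1 : (z • (1 : Matrix (Fin n) (Fin n) F)) ^ r = 1 := by rw [← hz, hMr]
        rw [_root_.smul_pow, one_pow] at h1
        have hn0 : 0 < n := by omega
        have h2 := congrFun (congrFun h1 ⟨0, hn0⟩) ⟨0, hn0⟩
        rw [Matrix.smul_apply, Matrix.one_apply_eq, smul_eq_mul, mul_one] at h2
        exact h2
      have hz2 := eq_one_of_pow_eq_one (F := F) hr hi1 hz1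
      rw [hz2, one_smul] at hz
      rw [hz, sub_self, Matrix.rank_zero] at hMrank
      omega)
  exact not_conj_mem_of_order ha hlt hrp hi1 e P x g hxr (by rw [hxval]; exact hMrank) hg

/-- products of updated constant functions. -/
theorem prod_update_two {n : ℕ} {k₀ k₁ : Fin n} (hk : k₀ ≠ k₁) (u v : F) :
    ∏ k, Function.update (Function.update (fun _ : Fin n => (1 : F)) k₁ v) k₀ u k = u * v := by
  classical
  rw [Finset.prod_update_of_mem (Finset.mem_univ k₀), Finset.prod_update_of_mem]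
  · simp
  · simp [hk.symm]

/-- **elements of order `r` dividing `q - 1`**, `r` odd. -/
theorem not_forall_of_dvd {n a b : ℕ} (hab : n = a * b) (ha : 2 ≤ a) (hlt : a < b) (hr2 : r ≠ 2)
    (hrq : r ∣ Fintype.card F - 1) (e : Fin n ≃ Fin a × Fin b) (P : GL (Fin n) F)
    (hall : ∀ x ∈ Cfsg.Geo.specialLinear (Fin n) F,
      (∃ z : F, ((x ^ r : GL (Fin n) F) : Matrix (Fin n) (Fin n) F) = z • (1 : Matrix (Fin n) (Fin n) F)) →
      (∀ z : F, (x : Matrix (Fin n) (Fin n) F) ≠ z • (1 : Matrix (Fin n) (Fin n) F)) →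
      ∃ g ∈ Cfsg.Geo.specialLinear (Fin n) F, g⁻¹ * x * g ∈ Cfsg.Geo.tensorProductSubgroup a b e P) : False := by
  classical
  have hr : r.Prime := Fact.out
  have hn6 : 6 ≤ n := by
    rw [hab]
    nlinarith
  obtain ⟨ω', hω'⟩ := exists_prime_orderOf_dvd_card (G := Fˣ) r (by rw [Fintype.card_units]; exact hrq)
  obtain ⟨ω, hωdef⟩ : ∃ ω : F, ω = (ω' : F) := ⟨_, rfl⟩
  have hω0 : ω ≠ 0 := by rw [hωdef]; exact Units.ne_zero ω'
  have hωr : ω ^ r = 1 := by
    rw [hωdef, ← Units.val_pow_eq_pow_val, ← hω', pow_orderOf_eq_one]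
    rfl
  have hω1 : ω ≠ 1 := by
    intro h
    have h1 : ω' = 1 := Units.ext (by rw [← hωdef, h]; rfl)
    rw [h1, orderOf_one] at hω'
    exact hr.one_lt.ne hω'
  have hω2 : ω⁻¹ ≠ ω := by
    intro h
    have h1 : ω ^ 2 = 1 := by
      rw [pow_two]
      nth_rewrite 1 [← h]
      exact inv_mul_cancel₀ hω0
    have h2 : orderOf ω' ∣ 2 := by
      apply orderOf_dvd_of_pow_eq_one
      apply Units.ext
      rw [Units.val_pow_eq_pow_val, ← hωdef, h1]
      rfl
    rw [hω'] at h2
    have h3 := (Nat.prime_dvd_prime_iff_eq hr Nat.prime_two).mp h2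
    exact hr2 h3
  have hωinv1 : ω⁻¹ ≠ 1 := by
    intro h
    apply hω1
    rw [← inv_inv ω, h, inv_one]
  let k₀ : Fin n := ⟨0, by omega⟩
  let k₁ : Fin n := ⟨1, by omega⟩
  let k₂ : Fin n := ⟨2, by omega⟩
  have h01 : k₀ ≠ k₁ := by intro h; have := congrArg Fin.val h; simp [k₀, k₁] at this
  have h02 : k₀ ≠ k₂ := by intro h; have := congrArg Fin.val h; simp [k₀, k₂] at this
  have h12 : k₁ ≠ k₂ := by intro h; have := congrArg Fin.val h; simp [k₁, k₂] at this
  let d : Fin n → F := Function.update (Function.update (fun _ : Fin n => (1 : F)) k₁ ω⁻¹) k₀ ω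
  have hd0 : d k₀ = ω := Function.update_self _ _ _
  have hd1 : d k₁ = ω⁻¹ := by
    show Function.update (Function.update (fun _ : Fin n => (1 : F)) k₁ ω⁻¹) k₀ ω k₁ = ω⁻¹
    rw [Function.update_of_ne h01.symm, Function.update_self]
  have hdo : ∀ k, k ≠ k₀ → k ≠ k₁ → d k = 1 := by
    intro k hk0 hk1
    show Function.update (Function.update (fun _ : Fin n => (1 : F)) k₁ ω⁻¹) k₀ ω k = 1
    rw [Function.update_of_ne hk0, Function.update_of_ne hk1]
  have hdcases : ∀ k, (k = k₀ ∧ d k = ω) ∨ (k = k₁ ∧ d k = ω⁻¹) ∨ (k ≠ k₀ ∧ k ≠ k₁ ∧ d k = 1) := by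
    intro k
    by_cases hk0 : k = k₀
    · left; exact ⟨hk0, by rw [hk0]; exact hd0⟩
    by_cases hk1 : k = k₁
    · right; left; exact ⟨hk1, by rw [hk1]; exact hd1⟩
    · right; right; exact ⟨hk0, hk1, hdo k hk0 hk1⟩
  apply not_forall_of_diag e P (r := r) d ?_ ?_ (z := 1) ?_ (k := k₀) (k' := k₂) ?_ (c := 1) (c' := ω)
    {k₀, k₁} (Finset.univ.erase k₀) ?_ ?_ ?_ ?_ hall
  · intro k
    rcases hdcases k with ⟨-, h⟩ | ⟨-, h⟩ | ⟨-, -, h⟩ <;> rw [h]
    · exact hω0
    · exact inv_ne_zero hω0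
    · exact one_ne_zero
  · show ∏ k, Function.update (Function.update (fun _ : Fin n => (1 : F)) k₁ ω⁻¹) k₀ ω k = 1
    rw [prod_update_two h01, mul_inv_cancel₀ hω0]
  · intro k
    rcases hdcases k with ⟨-, h⟩ | ⟨-, h⟩ | ⟨-, -, h⟩ <;> rw [h]
    · exact hωr
    · rw [inv_pow, hωr, inv_one]
    · exact one_pow r
  · rw [hd0, hdo k₂ h02.symm h12.symm]
    exact hω1
  · intro k
    rw [Finset.mem_insert, Finset.mem_singleton]
    rcases hdcases k with ⟨hk, h⟩ | ⟨hk, h⟩ | ⟨hk0, hk1, h⟩ <;> rw [h]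
    · exact ⟨fun _ => Or.inl hk, fun _ => hω1⟩
    · exact ⟨fun _ => Or.inr hk, fun _ => hωinv1⟩
    · constructor
      · intro h'; exact absurd rfl h'
      · rintro (h' | h')
        · exact absurd h' hk0
        · exact absurd h' hk1
  · intro k
    rw [Finset.mem_erase]
    rcases hdcases k with ⟨hk, h⟩ | ⟨hk, h⟩ | ⟨hk0, hk1, h⟩ <;> rw [h]
    · constructor
      · intro h'; exact absurd rfl h'
      · rintro ⟨h', -⟩; exact absurd hk h'
    · exact ⟨fun _ => ⟨by rw [hk]; exact h01.symm, Finset.mem_univ _⟩, fun _ => hω2⟩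
    · exact ⟨fun _ => ⟨hk0, Finset.mem_univ _⟩, fun _ => hω1.symm⟩
  · rw [Finset.card_pair h01]
    omega
  · rw [Finset.card_erase_of_mem (Finset.mem_univ _), Finset.card_univ, Fintype.card_fin]
    intro h
    have h1 : a ∣ n := ⟨b, hab⟩
    have h2 : a ∣ n - (n - 1) := Nat.dvd_sub h1 h
    have h3 : n - (n - 1) = 1 := by omega
    rw [h3] at h2
    have := Nat.le_of_dvd one_pos h2
    omega

end Cfsg.Agent.Helper7.Tn
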