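import Mathlib
import Cfsg.Agent.Helper7.TnD

set_option autoImplicit false
set_option linter.unusedSectionVars false
set_option linter.unusedVariables false

/-!
# The case `r = 2` and the necessary conditions
-/

namespace Cfsg.Agent.Helper7.Tn

open Matrix Module Cfsg.Agent.Helper7.POrd
open scoped Kronecker

variable {F : Type*} [Field F] [Fintype F]

/-- `-1` is an `n`-th power when the `2`-part of `q - 1` exceeds that of `n`. -/
theorem exists_pow_eq_neg_one (h2 : (2 : F) ≠ 0) {n : ℕ} (hn : n ≠ 0)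
    (h : padicValNat 2 n < padicValNat 2 (Fintype.card F - 1)) : ∃ s : F, s ^ n = -1 := by
  obtain ⟨γ, hγo, -⟩ := exists_gen (F := F)
  have hq1 : Fintype.card F - 1 ≠ 0 := by
    have := Fintype.one_lt_card (α := F)
    omega
  obtain ⟨ν, hν⟩ : ∃ ν, ν = padicValNat 2 n := ⟨_, rfl⟩
  rw [← hν] at h
  have hdvd : 2 ^ (ν + 1) ∣ Fintype.card F - 1 := (padicValNat_dvd_iff_le hq1).mpr h
  obtain ⟨M, hM⟩ := hdvd
  have hM0 : M ≠ 0 := by
    rintro rfl
    rw [mul_zero] at hM
    exact hq1 hM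
  obtain ⟨y, hy⟩ : ∃ y : Fˣ, y = γ ^ (M * 2 ^ ν) := ⟨_, rfl⟩
  have hy2 : y ^ 2 = 1 := by
    rw [hy, ← pow_mul, ← orderOf_dvd_iff_pow_eq_one, hγo, hM]
    exact ⟨1, by rw [pow_succ]; ring⟩
  have hy1 : y ≠ 1 := by
    intro h1
    rw [hy, ← orderOf_dvd_iff_pow_eq_one, hγo, hM] at h1
    have h3 := Nat.le_of_dvd (Nat.mul_pos (Nat.pos_of_ne_zero hM0) (by positivity)) h1
    have h4 : M * 2 ^ ν < 2 ^ (ν + 1) * M := by
      rw [pow_succ]
      have : 0 < M * 2 ^ ν := Nat.mul_pos (Nat.pos_of_ne_zero hM0) (by positivity)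
      nlinarith
    omega
  have hyneg : (y : F) = -1 := by
    have h3 : ((y : F) - 1) * ((y : F) + 1) = 0 := by
      have h4 : (y : F) ^ 2 = 1 := by
        rw [← Units.val_pow_eq_pow_val, hy2]
        rfl
      linear_combination h4
    rcases mul_eq_zero.mp h3 with h5 | h5
    · exfalso
      apply hy1
      apply Units.ext
      rw [sub_eq_zero] at h5
      rw [h5]
      rfl
    · exact eq_neg_of_add_eq_zero_left h5
  have hdn : 2 ^ ν ∣ n := by
    rw [hν]
    exact pow_padicValNat_dvd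
  obtain ⟨n', hn'⟩ := hdn
  have hn'odd : Odd n' := by
    rw [← Nat.not_even_iff_odd]
    rintro ⟨t, ht⟩
    have h5 : 2 ^ (padicValNat 2 n + 1) ∣ n := by
      rw [← hν, hn', ht, pow_succ]
      exact ⟨t, by ring⟩
    exact pow_succ_padicValNat_not_dvd hn h5
  refine ⟨((γ ^ M : Fˣ) : F), ?_⟩
  rw [hn', pow_mul, ← Units.val_pow_eq_pow_val, ← pow_mul, ← hy, hyneg, hn'odd.neg_one_pow]

/-- `-1` is not an `n`-th power when the `2`-part of `q - 1` is at most that of `n`. -/
theorem pow_ne_neg_one (h2 : (2 : F) ≠ 0) {n : ℕ} (hn : n ≠ 0)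
    (h : padicValNat 2 (Fintype.card F - 1) ≤ padicValNat 2 n) (s : F) : s ^ n ≠ -1 := by
  intro hs
  have hq1 : Fintype.card F - 1 ≠ 0 := by
    have := Fintype.one_lt_card (α := F)
    omega
  have hs0 : s ≠ 0 := by
    rintro rfl
    rw [zero_pow hn] at hs
    have : (1 : F) = 0 := by linear_combination hs
    exact one_ne_zero this
  obtain ⟨μ, hμ⟩ : ∃ μ, μ = padicValNat 2 (Fintype.card F - 1) := ⟨_, rfl⟩
  rw [← hμ] at h
  have hd1 : 2 ^ μ ∣ Fintype.card F - 1 := by
    rw [hμ]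
    exact pow_padicValNat_dvd
  obtain ⟨m', hm'⟩ := hd1
  have hm'odd : Odd m' := by
    rw [← Nat.not_even_iff_odd]
    rintro ⟨t, ht⟩
    have h5 : 2 ^ (padicValNat 2 (Fintype.card F - 1) + 1) ∣ Fintype.card F - 1 := by
      rw [← hμ, hm', ht, pow_succ]
      exact ⟨t, by ring⟩
    exact pow_succ_padicValNat_not_dvd hq1 h5
  have hd2 : 2 ^ μ ∣ n := (padicValNat_dvd_iff_le hn).mpr h
  obtain ⟨n₁, hn₁⟩ := hd2
  have h3 : s ^ (n * m') = 1 := by
    have h4 : n * m' = (Fintype.card F - 1) * n₁ := by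
      rw [hn₁, hm']
      ring
    rw [h4, pow_mul, FiniteField.pow_card_sub_one_eq_one s hs0, one_pow]
  rw [pow_mul, hs, hm'odd.neg_one_pow] at h3
  apply h2
  linear_combination -h3

/-- **involutions, `a ≥ 3`.** -/
theorem not_forall_two_of_three_le (h2 : (2 : F) ≠ 0) {n a b : ℕ} (hab : n = a * b) (ha : 3 ≤ a) (hlt : a < b)
    (e : Fin n ≃ Fin a × Fin b) (P : GL (Fin n) F)
    (hall : ∀ x ∈ Cfsg.Geo.specialLinear (Fin n) F,
      (∃ z : F, ((x ^ 2 : GL (Fin n) F) : Matrix (Fin n) (Fin n) F) = z • (1 : Matrix (Fin n) (Fin n) F)) →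
      (∀ z : F, (x : Matrix (Fin n) (Fin n) F) ≠ z • (1 : Matrix (Fin n) (Fin n) F)) →
      ∃ g ∈ Cfsg.Geo.specialLinear (Fin n) F, g⁻¹ * x * g ∈ Cfsg.Geo.tensorProductSubgroup a b e P) : False := by
  classical
  have hn6 : 6 ≤ n := by
    rw [hab]
    nlinarith
  have hneg : (-1 : F) ≠ 1 := by
    intro h
    apply h2
    linear_combination -h
  let k₀ : Fin n := ⟨0, by omega⟩
  let k₁ : Fin n := ⟨1, by omega⟩
  let k₂ : Fin n := ⟨2, by omega⟩
  have h01 : k₀ ≠ k₁ := by intro h; have := congrArg Fin.val h; simp [k₀, k₁] at this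
  have h02 : k₀ ≠ k₂ := by intro h; have := congrArg Fin.val h; simp [k₀, k₂] at this
  have h12 : k₁ ≠ k₂ := by intro h; have := congrArg Fin.val h; simp [k₁, k₂] at this
  let d : Fin n → F := Function.update (Function.update (fun _ : Fin n => (1 : F)) k₁ (-1)) k₀ (-1)
  have hd0 : d k₀ = -1 := Function.update_self _ _ _
  have hd1 : d k₁ = -1 := by
    show Function.update (Function.update (fun _ : Fin n => (1 : F)) k₁ (-1)) k₀ (-1) k₁ = -1
    rw [Function.update_of_ne h01.symm, Function.update_self]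
  have hdo : ∀ k, k ≠ k₀ → k ≠ k₁ → d k = 1 := by
    intro k hk0 hk1
    show Function.update (Function.update (fun _ : Fin n => (1 : F)) k₁ (-1)) k₀ (-1) k = 1
    rw [Function.update_of_ne hk0, Function.update_of_ne hk1]
  have hdcases : ∀ k, ((k = k₀ ∨ k = k₁) ∧ d k = -1) ∨ (k ≠ k₀ ∧ k ≠ k₁ ∧ d k = 1) := by
    intro k
    by_cases hk0 : k = k₀
    · left; exact ⟨Or.inl hk0, by rw [hk0]; exact hd0⟩
    by_cases hk1 : k = k₁
    · left; exact ⟨Or.inr hk1, by rw [hk1]; exact hd1⟩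
    · right; exact ⟨hk0, hk1, hdo k hk0 hk1⟩
  have hS : ∀ k, d k ≠ 1 ↔ k ∈ ({k₀, k₁} : Finset (Fin n)) := by
    intro k
    rw [Finset.mem_insert, Finset.mem_singleton]
    rcases hdcases k with ⟨hk, h⟩ | ⟨hk0, hk1, h⟩ <;> rw [h]
    · exact ⟨fun _ => hk, fun _ => hneg⟩
    · constructor
      · intro h'; exact absurd rfl h'
      · rintro (h' | h')
        · exact absurd h' hk0
        · exact absurd h' hk1
  apply not_forall_of_diag e P (r := 2) d ?_ ?_ (z := 1) ?_ (k := k₀) (k' := k₂) ?_ (c := 1) (c' := 1)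
    {k₀, k₁} {k₀, k₁} hS hS ?_ ?_ hall
  · intro k
    rcases hdcases k with ⟨-, h⟩ | ⟨-, -, h⟩ <;> rw [h]
    · exact neg_ne_zero.mpr one_ne_zero
    · exact one_ne_zero
  · show ∏ k, Function.update (Function.update (fun _ : Fin n => (1 : F)) k₁ (-1)) k₀ (-1) k = 1
    rw [prod_update_two h01]
    ring
  · intro k
    rcases hdcases k with ⟨-, h⟩ | ⟨-, -, h⟩ <;> rw [h]
    · ring
    · ring
  · rw [hd0, hdo k₂ h02.symm h12.symm]
    exact hneg
  · rw [Finset.card_pair h01]
    omega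
  · rw [Finset.card_pair h01]
    intro h
    have := Nat.le_of_dvd (by norm_num) h
    omega

/-- **involutions modulo scalars, `a = 2`.** -/
theorem not_forall_two_of_val (h2 : (2 : F) ≠ 0) {n b : ℕ} (hab : n = 2 * b) (hlt : 2 < b)
    (hval : padicValNat 2 n < padicValNat 2 (Fintype.card F - 1))
    (e : Fin n ≃ Fin 2 × Fin b) (P : GL (Fin n) F)
    (hall : ∀ x ∈ Cfsg.Geo.specialLinear (Fin n) F,
      (∃ z : F, ((x ^ 2 : GL (Fin n) F) : Matrix (Fin n) (Fin n) F) = z • (1 : Matrix (Fin n) (Fin n) F)) →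
      (∀ z : F, (x : Matrix (Fin n) (Fin n) F) ≠ z • (1 : Matrix (Fin n) (Fin n) F)) →
      ∃ g ∈ Cfsg.Geo.specialLinear (Fin n) F, g⁻¹ * x * g ∈ Cfsg.Geo.tensorProductSubgroup 2 b e P) : False := by
  classical
  have hn6 : 6 ≤ n := by omega
  obtain ⟨s, hs⟩ := exists_pow_eq_neg_one h2 (by omega : n ≠ 0) hval
  have hs0 : s ≠ 0 := by
    rintro rfl
    rw [zero_pow (by omega)] at hs
    have : (1 : F) = 0 := by linear_combination hs
    exact one_ne_zero this
  have hsneg : -s ≠ s := by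
    intro h
    have h3 : (2 : F) * s = 0 := by linear_combination -h
    rcases mul_eq_zero.mp h3 with h4 | h4
    · exact h2 h4
    · exact hs0 h4
  let k₀ : Fin n := ⟨0, by omega⟩
  let k₁ : Fin n := ⟨1, by omega⟩
  have h01 : k₀ ≠ k₁ := by intro h; have := congrArg Fin.val h; simp [k₀, k₁] at this
  let d : Fin n → F := Function.update (fun _ : Fin n => s) k₀ (-s)
  have hd0 : d k₀ = -s := Function.update_self _ _ _
  have hdo : ∀ k, k ≠ k₀ → d k = s := by
    intro k hk0
    show Function.update (fun _ : Fin n => s) k₀ (-s) k = s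
    rw [Function.update_of_ne hk0]
  have hS : ∀ k, d k ≠ s ↔ k ∈ ({k₀} : Finset (Fin n)) := by
    intro k
    rw [Finset.mem_singleton]
    by_cases hk : k = k₀
    · rw [hk, hd0]
      exact ⟨fun _ => rfl, fun _ => hsneg⟩
    · rw [hdo k hk]
      exact ⟨fun h' => absurd rfl h', fun h' => absurd h' hk⟩
  apply not_forall_of_diag e P (r := 2) d ?_ ?_ (z := s ^ 2) ?_ (k := k₀) (k' := k₁) ?_ (c := s) (c' := s)
    {k₀} {k₀} hS hS ?_ ?_ hall
  · intro k
    by_cases hk : k = k₀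
    · rw [hk, hd0]; exact neg_ne_zero.mpr hs0
    · rw [hdo k hk]; exact hs0
  · show ∏ k, Function.update (fun _ : Fin n => s) k₀ (-s) k = 1
    rw [Finset.prod_update_of_mem (Finset.mem_univ k₀), Finset.prod_const, Finset.card_sdiff_of_subset
      (Finset.subset_univ _), Finset.card_univ, Fintype.card_fin, Finset.card_singleton]
    have h3 : s ^ n = s ^ (n - 1) * s := by
      rw [← pow_succ]
      congr 1
      omega
    rw [h3] at hs
    linear_combination -hs
  · intro k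
    by_cases hk : k = k₀
    · rw [hk, hd0]; ring
    · rw [hdo k hk]
  · rw [hd0, hdo k₁ h01.symm]
    exact hsneg
  · rw [Finset.card_singleton]
    omega
  · rw [Finset.card_singleton]
    intro h
    have := Nat.le_of_dvd one_pos h
    omega

/-- **the necessary conditions.** -/
theorem cond_of_forall (p : ℕ) [Fact p.Prime] [CharP F p] {r : ℕ} [Fact r.Prime] {n a b : ℕ} (hab : n = a * b) (ha : 2 ≤ a) (hlt : a < b)
    (e : Fin n ≃ Fin a × Fin b) (P : GL (Fin n) F)
    (hΩ : r ∣ (Cfsg.Geo.tensorProductSubgroup a b e P).relIndex (Cfsg.Geo.specialLinear (Fin n) F))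
    (hall : ∀ x ∈ Cfsg.Geo.specialLinear (Fin n) F,
      (∃ z : F, ((x ^ r : GL (Fin n) F) : Matrix (Fin n) (Fin n) F) = z • (1 : Matrix (Fin n) (Fin n) F)) →
      (∀ z : F, (x : Matrix (Fin n) (Fin n) F) ≠ z • (1 : Matrix (Fin n) (Fin n) F)) →
      ∃ g ∈ Cfsg.Geo.specialLinear (Fin n) F, g⁻¹ * x * g ∈ Cfsg.Geo.tensorProductSubgroup a b e P) :
    r = 2 ∧ a = 2 ∧ Odd (Fintype.card F) ∧
      padicValNat 2 (Fintype.card F - 1) ≤ padicValNat 2 n := by
  have hr : r.Prime := Fact.out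
  have hp : p.Prime := Fact.out
  have hn6 : 6 ≤ n := by
    rw [hab]
    nlinarith
  by_cases hrp : r = p
  · exfalso
    subst hrp
    exact not_forall_of_char (by omega) ha (by omega) e P hall
  by_cases hr2 : r = 2
  · subst hr2
    have h2 : (2 : F) ≠ 0 := by
      intro h
      have h1 : ((2 : ℕ) : F) = 0 := by rw [Nat.cast_ofNat]; exact h
      rw [CharP.cast_eq_zero_iff F p 2] at h1
      exact hrp ((Nat.prime_dvd_prime_iff_eq hp Nat.prime_two).mp h1).symm
    have hodd : Odd (Fintype.card F) := by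
      rw [Nat.odd_iff]
      apply FiniteField.odd_card_of_char_ne_two
      rw [ringChar.eq F p]
      exact fun h => hrp h.symm
    have ha2 : a = 2 := by
      by_contra hne
      exact not_forall_two_of_three_le h2 hab (by omega) hlt e P hall
    subst ha2
    refine ⟨rfl, rfl, hodd, ?_⟩
    by_contra hcon
    push Not at hcon
    exact not_forall_two_of_val h2 hab hlt hcon e P hall
  · exfalso
    by_cases hi1 : orderOf ((Fintype.card F : ℕ) : ZMod r) = 1
    · have hrq : r ∣ Fintype.card F - 1 := (orderOf_eq_one_iff_dvd (r := r) Fintype.card_pos).mp hi1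
      exact not_forall_of_dvd hab ha hlt hr2 hrq e P hall
    · have hin := order_le_of_dvd_relIndex (F := F) hrp _ hΩ
      exact not_forall_of_order ha hlt hrp hi1 hin e P hall

end Cfsg.Agent.Helper7.Tn
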