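import Mathlib
import Cfsg.Agent.Helper7.TnE

set_option autoImplicit false
set_option linter.unusedSectionVars false
set_option linter.unusedVariables false

/-!
# From an adapted basis to a conjugate in the stabilizer of a tensor decomposition
-/

namespace Cfsg.Agent.Helper7.Tn

open Matrix Module
open scoped Kronecker

variable {F : Type*} [Field F]

/-- **assembly**: a basis on which `x` acts by a Kronecker product, whose centralizer has all determinants, gives a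
conjugate of `x` in the stabilizer of the tensor decomposition, by an element of determinant one. -/
theorem exists_conj_of_basis {n b : ℕ} (e : Fin n ≃ Fin 2 × Fin b) (P x : GL (Fin n) F)
    (A : GL (Fin 2) F) (B : GL (Fin b) F) (w : Basis (Fin 2 × Fin b) F (Fin n → F))
    (hw : ∀ k, (x : Matrix (Fin n) (Fin n) F) *ᵥ w k =
      ∑ k', ((A : Matrix (Fin 2) (Fin 2) F) ⊗ₖ (B : Matrix (Fin b) (Fin b) F)) k' k • w k')
    (hD : ∀ δ : F, δ ≠ 0 → ∃ D : Matrix (Fin 2 × Fin b) (Fin 2 × Fin b) F, D.det = δ ∧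
      D * ((A : Matrix (Fin 2) (Fin 2) F) ⊗ₖ (B : Matrix (Fin b) (Fin b) F)) =
        ((A : Matrix (Fin 2) (Fin 2) F) ⊗ₖ (B : Matrix (Fin b) (Fin b) F)) * D) :
    ∃ g ∈ Cfsg.Geo.specialLinear (Fin n) F, g⁻¹ * x * g ∈ Cfsg.Geo.tensorProductSubgroup 2 b e P := by
  classical
  obtain ⟨M, hMdef⟩ : ∃ M : Matrix (Fin 2 × Fin b) (Fin 2 × Fin b) F,
      M = (A : Matrix (Fin 2) (Fin 2) F) ⊗ₖ (B : Matrix (Fin b) (Fin b) F) := ⟨_, rfl⟩
  rw [← hMdef] at hD
  have hMdet : M.det ≠ 0 := by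
    rw [hMdef, Matrix.det_kronecker]
    apply mul_ne_zero
    · exact pow_ne_zero _ (Matrix.GeneralLinearGroup.det_ne_zero A)
    · exact pow_ne_zero _ (Matrix.GeneralLinearGroup.det_ne_zero B)
  obtain ⟨h₀, hh₀⟩ : ∃ h₀ : Matrix (Fin n) (Fin n) F, h₀ = Matrix.of fun i k => w (e k) i := ⟨_, rfl⟩
  have hh₀det : h₀.det ≠ 0 := by
    have h1 : h₀ = (Pi.basisFun F (Fin n)).toMatrix (w.reindex e.symm) := by
      ext i k
      rw [hh₀, Module.Basis.toMatrix_apply, Matrix.of_apply, Module.Basis.reindex_apply, Equiv.symm_symm,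
        Pi.basisFun_repr]
    rw [h1, ← Module.Basis.det_apply]
    exact (Module.Basis.isUnit_det _ _).ne_zero
  have hrel₀ : (x : Matrix (Fin n) (Fin n) F) * h₀ = h₀ * M.submatrix e e := by
    ext i k
    rw [Matrix.mul_apply, Matrix.mul_apply]
    have h1 : ∑ l, (x : Matrix (Fin n) (Fin n) F) i l * h₀ l k =
        ((x : Matrix (Fin n) (Fin n) F) *ᵥ w (e k)) i := by
      rw [Matrix.mulVec, dotProduct]
      apply Finset.sum_congr rfl
      intro l _
      rw [hh₀, Matrix.of_apply]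
    rw [h1, hw, ← hMdef, Finset.sum_apply, ← Equiv.sum_comp e]
    apply Finset.sum_congr rfl
    intro l _
    rw [Pi.smul_apply, smul_eq_mul, hh₀, Matrix.of_apply, Matrix.submatrix_apply, mul_comm]
  have hPdet : (P : Matrix (Fin n) (Fin n) F).det ≠ 0 := Matrix.GeneralLinearGroup.det_ne_zero P
  obtain ⟨D, hDdet, hDcomm⟩ := hD ((P : Matrix (Fin n) (Fin n) F).det / h₀.det) (div_ne_zero hPdet hh₀det)
  obtain ⟨h, hh⟩ : ∃ h : Matrix (Fin n) (Fin n) F, h = h₀ * D.submatrix e e := ⟨_, rfl⟩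
  have hhdet : h.det = (P : Matrix (Fin n) (Fin n) F).det := by
    rw [hh, Matrix.det_mul, Matrix.det_submatrix_equiv_self, hDdet]
    field_simp
  have hrel : (x : Matrix (Fin n) (Fin n) F) * h = h * M.submatrix e e := by
    rw [hh, ← Matrix.mul_assoc, hrel₀, Matrix.mul_assoc, Matrix.mul_assoc, Matrix.submatrix_mul_equiv,
      Matrix.submatrix_mul_equiv, hDcomm]
  let hGL : GL (Fin n) F := Matrix.GeneralLinearGroup.mkOfDetNeZero h (by rw [hhdet]; exact hPdet)
  let yGL : GL (Fin 2 × Fin b) F := Matrix.GeneralLinearGroup.mkOfDetNeZero M hMdet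
  have hhGL : (hGL : Matrix (Fin n) (Fin n) F) = h := rfl
  have hyGL : (yGL : Matrix (Fin 2 × Fin b) (Fin 2 × Fin b) F) = M := rfl
  have hR : ((Cfsg.Geo.glReindex e.symm yGL : GL (Fin n) F) : Matrix (Fin n) (Fin n) F) = M.submatrix e e := by
    unfold Cfsg.Geo.glReindex
    rw [Units.coe_mapEquiv]
    show Matrix.reindexAlgEquiv F F e.symm _ = _
    rw [Matrix.coe_reindexAlgEquiv, Matrix.reindex_apply, Equiv.symm_symm, hyGL]
  have hrelGL : x * hGL = hGL * Cfsg.Geo.glReindex e.symm yGL := by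
    apply Units.ext
    rw [Units.val_mul, Units.val_mul, hhGL, hR, hrel]
  refine ⟨hGL * P⁻¹, ?_, ?_⟩
  · rw [mem_specialLinear_iff, Units.val_mul, Matrix.det_mul, hhGL, hhdet, ← Matrix.det_mul, ← Units.val_mul,
      mul_inv_cancel]
    simp
  · have h1 : (hGL * P⁻¹)⁻¹ * x * (hGL * P⁻¹) = P * Cfsg.Geo.glReindex e.symm yGL * P⁻¹ := by
      calc (hGL * P⁻¹)⁻¹ * x * (hGL * P⁻¹) = P * hGL⁻¹ * (x * hGL) * P⁻¹ := by group
        _ = P * hGL⁻¹ * (hGL * Cfsg.Geo.glReindex e.symm yGL) * P⁻¹ := by rw [hrelGL]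
        _ = _ := by group
    rw [h1]
    unfold Cfsg.Geo.tensorProductSubgroup
    refine Subgroup.mem_map.mpr ⟨Cfsg.Geo.glReindex e.symm yGL, Subgroup.mem_map.mpr ⟨yGL, ?_, rfl⟩, rfl⟩
    exact ⟨A, B, by rw [hyGL, hMdef]⟩

end Cfsg.Agent.Helper7.Tn
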