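import Mathlib
import Cfsg.Agent.Helper7.TnF

set_option autoImplicit false
set_option linter.unusedSectionVars false
set_option linter.unusedVariables false

/-!
# The split case: `x ^ 2 = s ^ 2`
-/

namespace Cfsg.Agent.Helper7.Tn

open Matrix Module Cfsg.Agent.Helper7.POrd
open scoped Kronecker

variable {F : Type*} [Field F]

/-- **the adapted basis in the split case.** -/
theorem exists_basis_split {n b : ℕ} (hnb : n = 2 * b) (h2 : (2 : F) ≠ 0) (x : Matrix (Fin n) (Fin n) F)
    (hxdet : x.det = 1) {s : F} (hs : s ≠ 0) (hx2 : x * x = (s * s) • (1 : Matrix (Fin n) (Fin n) F))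
    (hpar : ∀ t : F, t ^ n ≠ -1) :
    ∃ (β : Fin b → F) (w : Basis (Fin 2 × Fin b) F (Fin n → F)), (∀ j, β j ≠ 0) ∧
      ∀ k, x *ᵥ w k = β k.2 • w k := by
  classical
  obtain ⟨X, hXdef⟩ : ∃ X : Module.End F (Fin n → F), X = Matrix.toLin' x := ⟨_, rfl⟩
  have hXX : ∀ v, X (X v) = (s * s) • v := by
    intro v
    rw [hXdef, Matrix.toLin'_apply, Matrix.toLin'_apply, Matrix.mulVec_mulVec, hx2, Matrix.smul_mulVec,
      Matrix.one_mulVec]
  obtain ⟨T, hTdef⟩ : ∃ T : Module.End F (Fin n → F), T = s⁻¹ • X := ⟨_, rfl⟩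
  have hT2 : T ^ 2 = 1 := by
    apply LinearMap.ext
    intro v
    rw [pow_two, Module.End.mul_apply, hTdef, LinearMap.smul_apply, LinearMap.smul_apply, map_smul, hXX,
      smul_smul, smul_smul, Module.End.one_apply]
    have : s⁻¹ * s⁻¹ * (s * s) = 1 := by field_simp
    rw [this, one_smul]
  have h2' : ((2 : ℕ) : F) ≠ 0 := by rw [Nat.cast_ofNat]; exact h2
  have hcompl := isCompl_fix_mov h2' hT2
  have hplus : ∀ v ∈ fixS T, X v = s • v := by
    intro v hv
    rw [mem_fixS, hTdef, LinearMap.smul_apply] at hv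
    calc X v = s • (s⁻¹ • X v) := by rw [smul_smul, mul_inv_cancel₀ hs, one_smul]
      _ = s • v := by rw [hv]
  have hminus : ∀ v ∈ movS 2 T, X v = (-s) • v := by
    intro v hv
    rw [mem_movS] at hv
    unfold Phi at hv
    rw [Finset.sum_range_succ, Finset.sum_range_one, pow_zero, pow_one, LinearMap.add_apply,
      Module.End.one_apply, hTdef, LinearMap.smul_apply] at hv
    have h1 : s⁻¹ • X v = -v := eq_neg_of_add_eq_zero_right hv
    calc X v = s • (s⁻¹ • X v) := by rw [smul_smul, mul_inv_cancel₀ hs, one_smul]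
      _ = (-s) • v := by rw [h1, smul_neg, neg_smul]
  obtain ⟨u, hu⟩ : ∃ u, finrank F ↥(fixS T) = u := ⟨_, rfl⟩
  obtain ⟨v, hv⟩ : ∃ v, finrank F ↥(movS 2 T) = v := ⟨_, rfl⟩
  have huv : u + v = n := by
    have := finrank_fix_add_mov h2' hT2
    rw [hu, hv, Module.finrank_fin_fun] at this
    exact this
  let bp : Basis (Fin u) F ↥(fixS T) := Module.finBasisOfFinrankEq F _ hu
  let bm : Basis (Fin v) F ↥(movS 2 T) := Module.finBasisOfFinrankEq F _ hv
  let w' : Basis (Fin u ⊕ Fin v) F (Fin n → F) :=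
    (bp.prod bm).map (Submodule.prodEquivOfIsCompl _ _ hcompl)
  obtain ⟨lam, hlam⟩ : ∃ lam : Fin u ⊕ Fin v → F, lam = Sum.elim (fun _ => s) (fun _ => -s) := ⟨_, rfl⟩
  have hw' : ∀ t, X (w' t) = lam t • w' t := by
    intro t
    rcases t with t | t
    · have h1 : w' (Sum.inl t) = ((bp t : ↥(fixS T)) : Fin n → F) := by
        show Submodule.prodEquivOfIsCompl _ _ hcompl ((bp.prod bm) (Sum.inl t)) = _
        rw [Submodule.coe_prodEquivOfIsCompl', Module.Basis.prod_apply_inl_fst,
          Module.Basis.prod_apply_inl_snd, Submodule.coe_zero, add_zero]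
      rw [h1, hlam, Sum.elim_inl]
      exact hplus _ (bp t).2
    · have h1 : w' (Sum.inr t) = ((bm t : ↥(movS 2 T)) : Fin n → F) := by
        show Submodule.prodEquivOfIsCompl _ _ hcompl ((bp.prod bm) (Sum.inr t)) = _
        rw [Submodule.coe_prodEquivOfIsCompl', Module.Basis.prod_apply_inr_fst,
          Module.Basis.prod_apply_inr_snd, Submodule.coe_zero, zero_add]
      rw [h1, hlam, Sum.elim_inr]
      exact hminus _ (bm t).2
  -- the determinant
  have hmat : LinearMap.toMatrix w' w' X = Matrix.diagonal lam := by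
    ext i j
    rw [LinearMap.toMatrix_apply, hw', map_smul, Module.Basis.repr_self, Finsupp.smul_apply,
      Finsupp.single_apply, Matrix.diagonal_apply, smul_eq_mul]
    by_cases hij : i = j
    · rw [if_pos hij.symm, if_pos hij, mul_one, hij]
    · rw [if_neg (fun h => hij h.symm), if_neg hij, mul_zero]
  have hdetX : s ^ u * (-s) ^ v = 1 := by
    have h1 : LinearMap.det X = 1 := by rw [hXdef, LinearMap.det_toLin', hxdet]
    rw [← LinearMap.det_toMatrix w', hmat, Matrix.det_diagonal, Fintype.prod_sum_type, hlam] at h1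
    simp only [Sum.elim_inl, Sum.elim_inr, Finset.prod_const, Finset.card_univ, Fintype.card_fin] at h1
    exact h1
  have hveven : Even v := by
    rw [← Nat.not_odd_iff_even]
    intro hvodd
    apply hpar s
    have h1 : (-s) ^ v = -(s ^ v) := hvodd.neg_pow s
    rw [h1, mul_neg, ← pow_add, huv] at hdetX
    linear_combination -hdetX
  have hueven : Even u := by
    have hn : Even n := ⟨b, by omega⟩
    rw [← huv] at hn
    exact (Nat.even_add.mp hn).mpr hveven
  obtain ⟨u', hu'⟩ := hueven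
  obtain ⟨v', hv'⟩ := hveven
  have hb : b = u' + v' := by omega
  let τ : Fin b ≃ Fin u' ⊕ Fin v' := (finCongr hb).trans finSumFinEquiv.symm
  let ρ₁ : Fin 2 × Fin u' ≃ Fin u := finProdFinEquiv.trans (finCongr (by omega))
  let ρ₂ : Fin 2 × Fin v' ≃ Fin v := finProdFinEquiv.trans (finCongr (by omega))
  let σ : Fin 2 × Fin b ≃ Fin u ⊕ Fin v :=
    (Equiv.prodCongr (Equiv.refl (Fin 2)) τ).trans
      ((Equiv.prodSumDistrib (Fin 2) (Fin u') (Fin v')).trans (Equiv.sumCongr ρ₁ ρ₂))
  obtain ⟨β, hβ⟩ : ∃ β : Fin b → F, β = fun j => Sum.elim (fun _ => s) (fun _ => -s) (τ j) := ⟨_, rfl⟩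
  have hσ : ∀ k : Fin 2 × Fin b, lam (σ k) = β k.2 := by
    rintro ⟨ε, j⟩
    rw [hβ]
    show lam (Equiv.sumCongr ρ₁ ρ₂ (Equiv.prodSumDistrib (Fin 2) (Fin u') (Fin v') (ε, τ j))) =
      Sum.elim (fun _ => s) (fun _ => -s) (τ j)
    rcases hτ : τ j with t | t
    · rw [Equiv.prodSumDistrib_apply_left, Equiv.sumCongr_apply, Sum.map_inl, hlam, Sum.elim_inl, Sum.elim_inl]
    · rw [Equiv.prodSumDistrib_apply_right, Equiv.sumCongr_apply, Sum.map_inr, hlam, Sum.elim_inr, Sum.elim_inr]
  refine ⟨β, w'.reindex σ.symm, ?_, ?_⟩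
  · intro j
    rw [hβ]
    show Sum.elim (fun _ => s) (fun _ => -s) (τ j) ≠ 0
    rcases τ j with t | t
    · exact hs
    · exact neg_ne_zero.mpr hs
  · intro k
    rw [Module.Basis.reindex_apply, Equiv.symm_symm, ← hσ k]
    have := hw' (σ k)
    rw [hXdef, Matrix.toLin'_apply] at this
    exact this

end Cfsg.Agent.Helper7.Tn
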