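import Mathlib
import Cfsg.Agent.Helper7.TnG

set_option autoImplicit false
set_option linter.unusedSectionVars false
set_option linter.unusedVariables false

/-!
# The non-split case: `x ^ 2 = z` with `z` a non-square
-/

namespace Cfsg.Agent.Helper7.Tn

open Matrix Module Polynomial
open scoped Kronecker

variable {F : Type*} [Field F]

/-- **the adapted basis in the non-split case**, abstract version. -/
theorem exists_basis_nonsplit_aux {V : Type*} [AddCommGroup V] [Module F V] [FiniteDimensional F V]
    (T : Module.End F V) {z : F} (hz : ¬ IsSquare z) (hT : ∀ v, T (T v) = z • v) :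
    ∃ (m : ℕ) (w : Basis (Fin 2 × Fin m) F V),
      ∀ j, T (w (0, j)) = w (1, j) ∧ T (w (1, j)) = z • w (0, j) := by
  classical
  let f : F[X] := X ^ 2 - C z
  have hfdeg : f.natDegree = 2 := natDegree_X_pow_sub_C
  have hirr : Irreducible f := by
    apply irreducible_of_degree_le_three_of_not_isRoot
    · rw [hfdeg]
      simp
    · intro a ha
      apply hz
      refine ⟨a, ?_⟩
      have h1 : a ^ 2 - z = 0 := by
        have := ha
        simp only [f, IsRoot.def, eval_sub, eval_pow, eval_X, eval_C] at this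
        exact this
      linear_combination -h1
  haveI : Fact (Irreducible f) := ⟨hirr⟩
  have hev : Polynomial.aeval T f = 0 := by
    simp only [f, map_sub, map_pow, aeval_X, aeval_C]
    rw [sub_eq_zero]
    apply LinearMap.ext
    intro v
    rw [pow_two, Module.End.mul_apply, hT]
    rfl
  have hI : ∀ a ∈ Ideal.span ({f} : Set F[X]), Polynomial.aeval T a = 0 := by
    intro a ha
    obtain ⟨c, rfl⟩ := Ideal.mem_span_singleton.mp ha
    rw [map_mul, hev, zero_mul]
  let φ : AdjoinRoot f →ₐ[F] Module.End F V :=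
    Ideal.Quotient.liftₐ (Ideal.span ({f} : Set F[X])) (Polynomial.aeval T) hI
  have hφroot : φ (AdjoinRoot.root f) = T := by
    show Ideal.Quotient.liftₐ (Ideal.span ({f} : Set F[X])) (Polynomial.aeval T) hI
      (Ideal.Quotient.mk _ X) = T
    rw [Ideal.Quotient.liftₐ_apply]
    exact (Ideal.Quotient.lift_mk _ _ _).trans (aeval_X T)
  letI : Module (AdjoinRoot f) V := Module.compHom V (φ : AdjoinRoot f →+* Module.End F V)
  have hsmul : ∀ (k : AdjoinRoot f) (v : V), k • v = φ k v := fun k v => rfl
  haveI : IsScalarTower F (AdjoinRoot f) V := ⟨fun c k v => by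
    rw [hsmul, hsmul, map_smul, LinearMap.smul_apply]⟩
  haveI : Module.Finite (AdjoinRoot f) V := Module.Finite.of_restrictScalars_finite F (AdjoinRoot f) V
  let bK := Module.finBasis (AdjoinRoot f) V
  let pb := AdjoinRoot.powerBasis hirr.ne_zero
  have hdim : pb.dim = 2 := by
    show f.natDegree = 2
    exact hfdeg
  let bF : Basis (Fin pb.dim × Fin (finrank (AdjoinRoot f) V)) F V := pb.basis.smulTower bK
  let ρ : Fin pb.dim × Fin (finrank (AdjoinRoot f) V) ≃ Fin 2 × Fin (finrank (AdjoinRoot f) V) :=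
    Equiv.prodCongr (finCongr hdim) (Equiv.refl _)
  refine ⟨finrank (AdjoinRoot f) V, bF.reindex ρ, ?_⟩
  have hw : ∀ (ε : Fin 2) (j : Fin (finrank (AdjoinRoot f) V)),
      (bF.reindex ρ) (ε, j) = ((φ (AdjoinRoot.root f)) ^ (ε : ℕ)) (bK j) := by
    intro ε j
    rw [Module.Basis.reindex_apply]
    show bF ((finCongr hdim).symm ε, j) = _
    rw [Module.Basis.smulTower_apply, PowerBasis.coe_basis, hsmul, map_pow]
    rfl
  intro j
  rw [hw 0 j, hw 1 j, hφroot]
  simp only [Fin.val_zero, pow_zero, Fin.val_one, pow_one, Module.End.one_apply]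
  exact ⟨trivial, hT _⟩

/-- **the adapted basis in the non-split case.** -/
theorem exists_basis_nonsplit {n b : ℕ} (hnb : n = 2 * b) (x : Matrix (Fin n) (Fin n) F) {z : F}
    (hz : ¬ IsSquare z) (hx2 : x * x = z • (1 : Matrix (Fin n) (Fin n) F)) :
    ∃ w : Basis (Fin 2 × Fin b) F (Fin n → F),
      ∀ j, x *ᵥ w (0, j) = w (1, j) ∧ x *ᵥ w (1, j) = z • w (0, j) := by
  classical
  have hT : ∀ v, (Matrix.toLin' x) ((Matrix.toLin' x) v) = z • v := by
    intro v
    rw [Matrix.toLin'_apply, Matrix.toLin'_apply, Matrix.mulVec_mulVec, hx2, Matrix.smul_mulVec,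
      Matrix.one_mulVec]
  obtain ⟨m, w, hw⟩ := exists_basis_nonsplit_aux (Matrix.toLin' x) hz hT
  have hm : m = b := by
    have h1 := Module.finrank_eq_card_basis w
    rw [Module.finrank_fin_fun, Fintype.card_prod, Fintype.card_fin, Fintype.card_fin] at h1
    omega
  subst hm
  refine ⟨w, ?_⟩
  intro j
  have := hw j
  rw [Matrix.toLin'_apply, Matrix.toLin'_apply] at this
  exact this

end Cfsg.Agent.Helper7.Tn
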