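import Mathlib
import Cfsg.Agent.Helper7.TnH

set_option autoImplicit false
set_option linter.unusedSectionVars false
set_option linter.unusedVariables false

/-!
# Sufficiency: every element with scalar square has a conjugate in the tensor stabilizer
-/

namespace Cfsg.Agent.Helper7.Tn

open Matrix Module
open scoped Kronecker

section Gen

variable {F : Type*} [Field F]

/-- split case assembly. -/
theorem exists_conj_of_split {n b : ℕ} (hb : 0 < b) (e : Fin n ≃ Fin 2 × Fin b) (P x : GL (Fin n) F)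
    (β : Fin b → F) (hβ : ∀ j, β j ≠ 0) (w : Basis (Fin 2 × Fin b) F (Fin n → F))
    (hw : ∀ k, (x : Matrix (Fin n) (Fin n) F) *ᵥ w k = β k.2 • w k) :
    ∃ g ∈ Cfsg.Geo.specialLinear (Fin n) F, g⁻¹ * x * g ∈ Cfsg.Geo.tensorProductSubgroup 2 b e P := by
  classical
  have hM : ((1 : GL (Fin 2) F) : Matrix (Fin 2) (Fin 2) F) ⊗ₖ
      ((diagGL β hβ : GL (Fin b) F) : Matrix (Fin b) (Fin b) F)
      = Matrix.diagonal (fun k : Fin 2 × Fin b => β k.2) := by
    rw [diagGL_val, Units.val_one, ← Matrix.diagonal_one, Matrix.diagonal_kronecker_diagonal]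
    congr 1
    ext k
    rw [one_mul]
  apply exists_conj_of_basis e P x 1 (diagGL β hβ) w
  · intro k
    rw [hM, hw]
    rw [Finset.sum_eq_single k]
    · rw [Matrix.diagonal_apply_eq]
    · intro k' _ hne
      rw [Matrix.diagonal_apply_ne _ hne, zero_smul]
    · intro h
      exact absurd (Finset.mem_univ k) h
  · intro δ hδ
    rw [hM]
    refine ⟨Matrix.diagonal (Function.update (fun _ => (1 : F)) ((0 : Fin 2), (⟨0, hb⟩ : Fin b)) δ), ?_, ?_⟩
    · rw [Matrix.det_diagonal, Finset.prod_update_of_mem (Finset.mem_univ _)]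
      simp
    · rw [Matrix.diagonal_mul_diagonal, Matrix.diagonal_mul_diagonal]
      congr 1
      ext k
      exact mul_comm _ _

/-- non-split case assembly. -/
theorem exists_conj_of_nonsplit {n b : ℕ} (hb : 0 < b) (e : Fin n ≃ Fin 2 × Fin b) (P x : GL (Fin n) F)
    {z : F} (hz0 : z ≠ 0) (hnorm : ∀ δ : F, δ ≠ 0 → ∃ c₀ c₁ : F, c₀ ^ 2 - z * c₁ ^ 2 = δ)
    (w : Basis (Fin 2 × Fin b) F (Fin n → F))
    (hw : ∀ j, (x : Matrix (Fin n) (Fin n) F) *ᵥ w (0, j) = w (1, j) ∧
      (x : Matrix (Fin n) (Fin n) F) *ᵥ w (1, j) = z • w (0, j)) :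
    ∃ g ∈ Cfsg.Geo.specialLinear (Fin n) F, g⁻¹ * x * g ∈ Cfsg.Geo.tensorProductSubgroup 2 b e P := by
  classical
  obtain ⟨A₀, hA₀⟩ : ∃ A₀ : Matrix (Fin 2) (Fin 2) F, A₀ = !![0, z; 1, 0] := ⟨_, rfl⟩
  have hA₀det : A₀.det ≠ 0 := by
    rw [hA₀, Matrix.det_fin_two_of]
    simpa using hz0
  let A : GL (Fin 2) F := Matrix.GeneralLinearGroup.mkOfDetNeZero A₀ hA₀det
  have hAval : (A : Matrix (Fin 2) (Fin 2) F) = A₀ := rfl
  have hM : (A : Matrix (Fin 2) (Fin 2) F) ⊗ₖ ((1 : GL (Fin b) F) : Matrix (Fin b) (Fin b) F)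
      = Matrix.blockDiagonal (fun _ : Fin b => A₀) := by
    rw [hAval, Units.val_one, Matrix.kronecker_one]
  apply exists_conj_of_basis e P x A 1 w
  · rintro ⟨ε, j⟩
    rw [hM, Fintype.sum_prod_type, Fin.sum_univ_two]
    have h0 : ∀ (i' ε' : Fin 2), ∑ j', (Matrix.blockDiagonal (fun _ : Fin b => A₀)) (i', j') (ε', j) • w (i', j')
        = A₀ i' ε' • w (i', j) := by
      intro i' ε'
      rw [Finset.sum_eq_single j]
      · rw [Matrix.blockDiagonal_apply_eq]
      · intro j' _ hne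
        rw [Matrix.blockDiagonal_apply_ne _ _ _ hne, zero_smul]
      · intro h
        exact absurd (Finset.mem_univ j) h
    rw [h0, h0]
    fin_cases ε
    · show (x : Matrix (Fin n) (Fin n) F) *ᵥ w (0, j) = _
      rw [(hw j).1, hA₀]
      simp
    · show (x : Matrix (Fin n) (Fin n) F) *ᵥ w (1, j) = _
      rw [(hw j).2, hA₀]
      simp
  · intro δ hδ
    rw [hM]
    obtain ⟨c₀, c₁, hc⟩ := hnorm δ hδ
    obtain ⟨C, hC⟩ : ∃ C : Matrix (Fin 2) (Fin 2) F, C = !![c₀, c₁ * z; c₁, c₀] := ⟨_, rfl⟩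
    have hCdet : C.det = δ := by
      rw [hC, Matrix.det_fin_two_of, ← hc]
      ring
    have hCcomm : C * A₀ = A₀ * C := by
      rw [hC, hA₀]
      ext i j
      fin_cases i <;> fin_cases j <;> simp [Matrix.mul_apply, Fin.sum_univ_two] <;> ring
    refine ⟨Matrix.blockDiagonal (fun j : Fin b => if j = (⟨0, hb⟩ : Fin b) then C else 1), ?_, ?_⟩
    · rw [Matrix.det_blockDiagonal]
      rw [Finset.prod_eq_single (⟨0, hb⟩ : Fin b)]
      · rw [if_pos rfl, hCdet]
      · intro j _ hne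
        rw [if_neg hne, Matrix.det_one]
      · intro h
        exact absurd (Finset.mem_univ _) h
    · rw [← Matrix.blockDiagonal_mul, ← Matrix.blockDiagonal_mul]
      congr 1
      ext1 j
      by_cases hj : j = (⟨0, hb⟩ : Fin b)
      · rw [if_pos hj, hCcomm]
      · rw [if_neg hj, one_mul, mul_one]

end Gen

section Fin

variable {F : Type*} [Field F] [Fintype F]

/-- in a finite field of odd order every element is a value of the norm form `c₀² - z c₁²`. -/
theorem exists_norm_eq (hodd : Odd (Fintype.card F)) {z : F} (hz0 : z ≠ 0) (δ : F) :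
    ∃ c₀ c₁ : F, c₀ ^ 2 - z * c₁ ^ 2 = δ := by
  classical
  have hf : (Polynomial.X ^ 2 - Polynomial.C δ : Polynomial F).degree = 2 := by
    rw [Polynomial.degree_X_pow_sub_C (by norm_num)]
    rfl
  have hg : (Polynomial.C (-z) * Polynomial.X ^ 2 : Polynomial F).degree = 2 := by
    rw [Polynomial.degree_C_mul_X_pow 2 (neg_ne_zero.mpr hz0)]
    rfl
  obtain ⟨a, c, hac⟩ := FiniteField.exists_root_sum_quadratic hf hg (Nat.odd_iff.mp hodd)
  refine ⟨a, c, ?_⟩
  simp only [Polynomial.eval_sub, Polynomial.eval_pow, Polynomial.eval_X, Polynomial.eval_C,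
    Polynomial.eval_mul] at hac
  linear_combination hac

/-- **sufficiency.** -/
theorem forall_of_cond {n b : ℕ} (hnb : n = 2 * b) (hlt : 2 < b) (hodd : Odd (Fintype.card F))
    (hval : padicValNat 2 (Fintype.card F - 1) ≤ padicValNat 2 n)
    (e : Fin n ≃ Fin 2 × Fin b) (P : GL (Fin n) F) (x : GL (Fin n) F)
    (hx : x ∈ Cfsg.Geo.specialLinear (Fin n) F)
    (hx2 : ∃ z : F, ((x ^ 2 : GL (Fin n) F) : Matrix (Fin n) (Fin n) F) = z • (1 : Matrix (Fin n) (Fin n) F)) :
    ∃ g ∈ Cfsg.Geo.specialLinear (Fin n) F, g⁻¹ * x * g ∈ Cfsg.Geo.tensorProductSubgroup 2 b e P := by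
  classical
  have h2F : (2 : F) ≠ 0 := by
    intro h20
    have hch : ringChar F = 2 := by
      apply CharP.ringChar_of_prime_eq_zero Nat.prime_two
      exact_mod_cast h20
    have := (FiniteField.even_card_iff_char_two (F := F)).mp hch
    rw [Nat.odd_iff] at hodd
    omega
  have hb : 0 < b := by omega
  have hn : n ≠ 0 := by omega
  have hxdet : (x : Matrix (Fin n) (Fin n) F).det = 1 := (mem_specialLinear_iff x).mp hx
  obtain ⟨z, hz⟩ := hx2
  have hxx : (x : Matrix (Fin n) (Fin n) F) * (x : Matrix (Fin n) (Fin n) F) = z • 1 := by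
    rw [← hz, Units.val_pow_eq_pow_val, pow_two]
  have hz0 : z ≠ 0 := by
    intro h0
    haveI : Nonempty (Fin n) := ⟨⟨0, by omega⟩⟩
    have h1 := congrArg Matrix.det hxx
    rw [Matrix.det_mul, hxdet, h0, zero_smul, Matrix.det_zero, one_mul] at h1
    exact one_ne_zero h1
  by_cases hsq : IsSquare z
  · obtain ⟨s, rfl⟩ := hsq
    have hs : s ≠ 0 := by
      intro h
      apply hz0
      rw [h, mul_zero]
    obtain ⟨β, w, hβ, hw⟩ := exists_basis_split hnb h2F (x : Matrix (Fin n) (Fin n) F) hxdet hs hxx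
      (pow_ne_neg_one h2F hn hval)
    exact exists_conj_of_split hb e P x β hβ w hw
  · obtain ⟨w, hw⟩ := exists_basis_nonsplit hnb (x : Matrix (Fin n) (Fin n) F) hsq hxx
    exact exists_conj_of_nonsplit hb e P x hz0 (fun δ _ => exists_norm_eq hodd hz0 δ) w hw

end Fin

end Cfsg.Agent.Helper7.Tn
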