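import Mathlib
import Cfsg.Agent.Helper7.TnSpH
import Cfsg.Agent.Helper7.SympPerfect
import Cfsg.Agent.S0270

set_option autoImplicit false
set_option linter.unusedSectionVars false
set_option linter.unusedVariables false

/-!
# The forward direction for `Sp ⊗ O` inside the symplectic group
-/

namespace Cfsg.Agent.Helper7.TnSp

open Matrix Module Polynomial Cfsg.Agent.Helper7.Tn Cfsg.Agent.Helper7.POrd Cfsg.Agent.Helper7.SpOrd
  Cfsg.Agent.Helper7.OrTS Cfsg.Agent.Helper7.Symp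
open scoped Kronecker

section gen

variable {F : Type*} [Field F] {d : ℕ}

/-- symplectic matrices as invertible matrices. -/
noncomputable def ofSymp (d : ℕ) (F : Type*) [Field F] :
    Matrix.symplecticGroup (Fin d) F →* GL (Fin d ⊕ Fin d) F :=
  (Cfsg.spGL d F).subtype.comp (Cfsg.Agent.S0270.toSpGLHom d F)

theorem ofSymp_val (x : Matrix.symplecticGroup (Fin d) F) :
    ((ofSymp d F x : GL (Fin d ⊕ Fin d) F) : Matrix (Fin d ⊕ Fin d) (Fin d ⊕ Fin d) F) =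
      (x : Matrix (Fin d ⊕ Fin d) (Fin d ⊕ Fin d) F) := rfl

theorem ofSymp_mem (x : Matrix.symplecticGroup (Fin d) F) : ofSymp d F x ∈ Cfsg.spGL d F :=
  (Cfsg.Agent.S0270.toSpGLHom d F x).2

theorem T_pow (w : Fin d ⊕ Fin d → F) (c : F) (n : ℕ) : (T w c) ^ n = T w (n • c) := by
  induction n with
  | zero => rw [pow_zero, zero_smul, T_zero_right]
  | succ n ih => rw [pow_succ, ih, T_mul, succ_nsmul]

/-- **transvections** are not conjugate into the stabilizer of a tensor decomposition. -/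
theorem not_forall_of_char {p : ℕ} [Fact p.Prime] [CharP F p] {a b : ℕ} (hd : 1 ≤ d) (ha : 2 ≤ a) (hb : 2 ≤ b)
    (e : (Fin d ⊕ Fin d) ≃ Fin a × Fin b) (P : GL (Fin d ⊕ Fin d) F)
    (hall : ∀ x ∈ Cfsg.spGL d F, (∃ z : F, ((x ^ p : GL (Fin d ⊕ Fin d) F) :
        Matrix (Fin d ⊕ Fin d) (Fin d ⊕ Fin d) F) = z • (1 : Matrix (Fin d ⊕ Fin d) (Fin d ⊕ Fin d) F)) →
      (∀ z : F, (x : Matrix (Fin d ⊕ Fin d) (Fin d ⊕ Fin d) F) ≠ z • (1 : Matrix (Fin d ⊕ Fin d) (Fin d ⊕ Fin d) F)) →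
      ∃ g ∈ Cfsg.spGL d F, g⁻¹ * x * g ∈ Cfsg.Geo.tensorProductSubgroup a b e P) : False := by
  obtain ⟨w, hw⟩ : ∃ w : Fin d ⊕ Fin d → F, w = Pi.single (Sum.inl ⟨0, hd⟩) 1 := ⟨_, rfl⟩
  have hw0 : w ≠ 0 := by
    intro h
    have := congrFun h (Sum.inl ⟨0, hd⟩)
    rw [hw] at this
    simp at this
  obtain ⟨y, hy⟩ := exists_sympForm_ne_zero hw0
  have hy' : sympForm d F y w ≠ 0 := by
    rw [sympForm_swap]
    exact neg_ne_zero.mpr hy
  obtain ⟨x, hx⟩ : ∃ x : GL (Fin d ⊕ Fin d) F, x = ofSymp d F (T w 1) := ⟨_, rfl⟩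
  have hxval : (x : Matrix (Fin d ⊕ Fin d) (Fin d ⊕ Fin d) F) = Cfsg.sympTransvection d w 1 := by
    rw [hx, ofSymp_val]
    rfl
  have hxp : x ^ p = 1 := by
    rw [hx, ← map_pow, T_pow, nsmul_eq_mul, mul_one, CharP.cast_eq_zero, T_zero_right, map_one]
  have hxy : (x : Matrix (Fin d ⊕ Fin d) (Fin d ⊕ Fin d) F) *ᵥ y ≠ y := by
    rw [hxval, sympTransvection_mulVec, one_mul]
    intro h
    have h1 : sympForm d F y w • w = 0 := by
      have := sub_eq_zero.mpr h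
      rwa [add_sub_cancel_left] at this
    rcases smul_eq_zero.mp h1 with h2 | h2
    · exact hy' h2
    · exact hw0 h2
  have hxw : (x : Matrix (Fin d ⊕ Fin d) (Fin d ⊕ Fin d) F) *ᵥ w = w := by
    rw [hxval, sympTransvection_mulVec, sympForm_self, mul_zero, zero_smul, add_zero]
  have hns : ∀ z : F, (x : Matrix (Fin d ⊕ Fin d) (Fin d ⊕ Fin d) F) ≠ z • 1 := by
    intro z hz
    have h1 : z • w = w := by
      rw [hz, Matrix.smul_mulVec, Matrix.one_mulVec] at hxw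
      exact hxw
    have hz1 : z = 1 := by
      have h2 : (z - 1) • w = 0 := by rw [sub_smul, one_smul, h1, sub_self]
      rcases smul_eq_zero.mp h2 with h3 | h3
      · exact sub_eq_zero.mp h3
      · exact absurd h3 hw0
    apply hxy
    rw [hz, hz1, one_smul, Matrix.one_mulVec]
  have hrk1 : ((x : Matrix (Fin d ⊕ Fin d) (Fin d ⊕ Fin d) F) - (1 : F) • 1).rank ≤ 1 := by
    have : (x : Matrix (Fin d ⊕ Fin d) (Fin d ⊕ Fin d) F) - (1 : F) • 1 =
        Matrix.vecMulVec w (J (Fin d) F *ᵥ w) := by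
      rw [hxval, one_smul]
      unfold Cfsg.sympTransvection
      rw [one_smul, add_sub_cancel_left]
    rw [this]
    exact Matrix.rank_vecMulVec_le _ _
  have hrk0 : ((x : Matrix (Fin d ⊕ Fin d) (Fin d ⊕ Fin d) F) - (1 : F) • 1).rank ≠ 0 := by
    intro h0
    have := eq_zero_of_rank_eq_zero _ h0
    rw [one_smul] at this
    exact hns 1 (by rw [one_smul]; exact sub_eq_zero.mp this)
  have hrk : ((x : Matrix (Fin d ⊕ Fin d) (Fin d ⊕ Fin d) F) - (1 : F) • 1).rank = 1 := by omega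
  obtain ⟨g, -, hg⟩ := hall x (by rw [hx]; exact ofSymp_mem _) ⟨1, by rw [hxp, one_smul]; rfl⟩ hns
  refine not_conj_mem_of_rank e P x g (c := 1) (c' := 1) (by omega) ?_ hg
  rw [hrk]
  intro h
  have := Nat.le_of_dvd one_pos h
  omega

end gen

variable {F : Type*} [Field F] [Fintype F] {p : ℕ} [Fact p.Prime] [CharP F p] {r : ℕ} [Fact r.Prime] {d : ℕ}

/-- **elements moving a minimal block** are not conjugate into the stabilizer of a tensor decomposition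
`Sp ⊗ O`. -/
theorem not_conj_mem_of_block (hr2 : r ≠ 2) (hrp : r ≠ p) (h2 : (2 : F) ≠ 0)
    (hi1 : orderOf ((Fintype.card F : ℕ) : ZMod r) ≠ 1) {a b : ℕ} (ha : 2 ≤ a) (hb : 3 ≤ b)
    {f₁ : (Fin a → F) → (Fin a → F) → F} {f₂ : (Fin b → F) → (Fin b → F) → F}
    (hf₁ : Cfsg.Geo.IsSymplecticForm f₁) (hf₂ : Cfsg.Geo.IsSymmetricForm f₂)
    (e : (Fin d ⊕ Fin d) ≃ Fin a × Fin b) (P : GL (Fin d ⊕ Fin d) F)
    (hS : Cfsg.Geo.IsTensorFormStructure id (Cfsg.sympForm d F) f₁ f₂ e P)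
    (x g : GL (Fin d ⊕ Fin d) F) (hx : x ∈ Cfsg.spGL d F) (hg : g ∈ Cfsg.spGL d F) (hxr : x ^ r = 1)
    (hrank : ((x : Matrix (Fin d ⊕ Fin d) (Fin d ⊕ Fin d) F) - (1 : F) • 1).rank =
      cOf (orderOf ((Fintype.card F : ℕ) : ZMod r))) :
    g⁻¹ * x * g ∉ Cfsg.Geo.tensorProductSubgroup a b e P := by
  intro h
  have : NeZero a := ⟨by omega⟩
  have : NeZero b := ⟨by omega⟩
  obtain ⟨A, B, hint⟩ := kron_data_of_conj_mem e P x g h
  obtain ⟨ν, hν, hsA, hsB⟩ := factors_similar hf₁.bilinear hf₂.bilinear hf₁.nondegenerate hf₂.nondegenerate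
    e P x g hS hg hx (A : Matrix (Fin a) (Fin a) F) (B : Matrix (Fin b) (Fin b) F) hint
  have hpow := pow_eq_of_intertwine (coord e (g * P)) (x : Matrix (Fin d ⊕ Fin d) (Fin d ⊕ Fin d) F) _ hint r
    (z := 1) (by rw [← Units.val_pow_eq_pow_val, hxr, one_smul]; rfl)
  rw [one_smul] at hpow
  have hrk := rank_sub_eq_of_intertwine (coord e (g * P)) (x : Matrix (Fin d ⊕ Fin d) (Fin d ⊕ Fin d) F) _ hint 1
  rw [hrank] at hrk
  exact no_kron_sim hr2 hrp h2 hi1 ha hb hf₁ hf₂ _ _ hν hsA hsB hpow hrk.symm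

end Cfsg.Agent.Helper7.TnSp
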