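import Mathlib
import Cfsg.Agent.Helper7.TnSpI
import Cfsg.Agent.Helper7.QF2B

set_option autoImplicit false
set_option linter.unusedSectionVars false
set_option linter.unusedVariables false

/-!
# The forward direction for `Sp ⊗ O` inside the symplectic group: conclusion
-/

namespace Cfsg.Agent.Helper7.TnSp

open Matrix Module Polynomial Cfsg.Agent.Helper7.Tn Cfsg.Agent.Helper7.POrd Cfsg.Agent.Helper7.SpOrd
  Cfsg.Agent.Helper7.OrTS Cfsg.Agent.Helper7.Symp
open scoped Kronecker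

variable {F : Type*} [Field F] [Fintype F] {d : ℕ}

/-- the torus element is not conjugate into the stabilizer. -/
theorem not_forall_of_torus {r : ℕ} {a b : ℕ} (hd : 2 ≤ d) (hab : 2 * d = a * b) (hae : Even a) (ha : 2 ≤ a)
    (hb : 3 ≤ b) (e : (Fin d ⊕ Fin d) ≃ Fin a × Fin b) (P : GL (Fin d ⊕ Fin d) F)
    {lam : F} (hl : lam ≠ 0) (hl1 : lam ≠ 1) (hlr : lam ^ r = 1) (hcase : (lam * lam ≠ 1) ∨ 4 ≤ a)
    (hall : ∀ x ∈ Cfsg.spGL d F, (∃ z : F, ((x ^ r : GL (Fin d ⊕ Fin d) F) :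
        Matrix (Fin d ⊕ Fin d) (Fin d ⊕ Fin d) F) = z • (1 : Matrix (Fin d ⊕ Fin d) (Fin d ⊕ Fin d) F)) →
      (∀ z : F, (x : Matrix (Fin d ⊕ Fin d) (Fin d ⊕ Fin d) F) ≠ z • (1 : Matrix (Fin d ⊕ Fin d) (Fin d ⊕ Fin d) F)) →
      ∃ g ∈ Cfsg.spGL d F, g⁻¹ * x * g ∈ Cfsg.Geo.tensorProductSubgroup a b e P) : False := by
  have hd1 : 1 ≤ d := by omega
  obtain ⟨g, -, hg⟩ := hall (torusGL hd1 hl) (torusGL_mem hd1 hl) ⟨1, torusGL_pow hd1 hl hlr⟩
    (torusGL_not_scalar hd hl hl1)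
  have h1 := torusGL_rank_sub_one hd1 hl hl1
  rcases hcase with h2 | h4
  · refine not_conj_mem_of_rank e P _ g (c := 1) (c' := lam) (by omega) ?_ hg
    rw [torusGL_rank_sub_self hd1 hl hl1 h2]
    intro h
    obtain ⟨k, hk⟩ := hae
    have h3 : 2 ∣ 2 * d - 1 := Dvd.dvd.trans ⟨k, by omega⟩ h
    omega
  · refine not_conj_mem_of_rank e P _ g (c := 1) (c' := 1) (by omega) ?_ hg
    rw [h1]
    intro h
    have := Nat.le_of_dvd (by omega) h
    omega

theorem card_spGL_eq : Nat.card (Cfsg.spGL d F) = Nat.card (Matrix.symplecticGroup (Fin d) F) := by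
  rw [Cfsg.Agent.Helper7.QF2.card_spGL, Cfsg.Agent.Helper8.SpOrder.card_symp]

/-- **necessity.** -/
theorem cond_of_forall (p : ℕ) [Fact p.Prime] [CharP F p] {r : ℕ} [Fact r.Prime] (hodd : Odd (Fintype.card F))
    {a b : ℕ} (hd : 2 ≤ d) (hab : 2 * d = a * b) (hae : Even a) (ha : 2 ≤ a) (hb : 3 ≤ b)
    (e : (Fin d ⊕ Fin d) ≃ Fin a × Fin b) (P : GL (Fin d ⊕ Fin d) F)
    {f₁ : (Fin a → F) → (Fin a → F) → F} {f₂ : (Fin b → F) → (Fin b → F) → F}
    (hf₁ : Cfsg.Geo.IsSymplecticForm f₁) (hf₂ : Cfsg.Geo.IsSymmetricForm f₂)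
    (hS : Cfsg.Geo.IsTensorFormStructure id (Cfsg.sympForm d F) f₁ f₂ e P)
    (hΩ : r ∣ (Cfsg.Geo.tensorProductSubgroup a b e P).relIndex (Cfsg.spGL d F))
    (hall : ∀ x ∈ Cfsg.spGL d F, (∃ z : F, ((x ^ r : GL (Fin d ⊕ Fin d) F) :
        Matrix (Fin d ⊕ Fin d) (Fin d ⊕ Fin d) F) = z • (1 : Matrix (Fin d ⊕ Fin d) (Fin d ⊕ Fin d) F)) →
      (∀ z : F, (x : Matrix (Fin d ⊕ Fin d) (Fin d ⊕ Fin d) F) ≠ z • (1 : Matrix (Fin d ⊕ Fin d) (Fin d ⊕ Fin d) F)) →
      ∃ g ∈ Cfsg.spGL d F, g⁻¹ * x * g ∈ Cfsg.Geo.tensorProductSubgroup a b e P) :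
    r = 2 ∧ a = 2 := by
  classical
  have hr : r.Prime := Fact.out
  have hp : p.Prime := Fact.out
  have h2F : (2 : F) ≠ 0 := by
    intro h20
    have hch : ringChar F = 2 := by
      apply CharP.ringChar_of_prime_eq_zero Nat.prime_two
      exact_mod_cast h20
    have := (FiniteField.even_card_iff_char_two (F := F)).mp hch
    rw [Nat.odd_iff] at hodd
    omega
  by_cases hrp : r = p
  · exfalso
    subst hrp
    exact not_forall_of_char (by omega) ha (by omega) e P hall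
  by_cases hr2 : r = 2
  · subst hr2
    refine ⟨rfl, ?_⟩
    by_contra hne
    have ha4 : 4 ≤ a := by
      obtain ⟨k, hk⟩ := hae
      omega
    have hm1 : (-1 : F) ≠ 1 := by
      intro h
      apply h2F
      linear_combination -h
    exact not_forall_of_torus hd hab hae ha hb e P (lam := -1) (neg_ne_zero.mpr one_ne_zero) hm1 (by ring)
      (Or.inr ha4) hall
  · exfalso
    by_cases hi1 : orderOf ((Fintype.card F : ℕ) : ZMod r) = 1
    · have hrq : r ∣ Fintype.card F - 1 := (orderOf_eq_one_iff_dvd (r := r) Fintype.card_pos).mp hi1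
      obtain ⟨ω', hω'⟩ := exists_prime_orderOf_dvd_card (G := Fˣ) r (by rw [Fintype.card_units]; exact hrq)
      obtain ⟨ω, hωdef⟩ : ∃ ω : F, ω = (ω' : F) := ⟨_, rfl⟩
      have hω0 : ω ≠ 0 := by rw [hωdef]; exact Units.ne_zero ω'
      have hωr : ω ^ r = 1 := by
        rw [hωdef, ← Units.val_pow_eq_pow_val, ← hω', pow_orderOf_eq_one]
        rfl
      have hω1 : ω ≠ 1 := by
        intro h
        have h1 : ω' = 1 := Units.ext (by rw [← hωdef, h]; rfl)
        rw [h1, orderOf_one] at hω'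
        exact hr.one_lt.ne hω'
      have hω2 : ω * ω ≠ 1 := by
        intro h
        have h2 : orderOf ω' ∣ 2 := by
          apply orderOf_dvd_of_pow_eq_one
          apply Units.ext
          rw [Units.val_pow_eq_pow_val, ← hωdef, pow_two, h]
          rfl
        rw [hω'] at h2
        exact hr2 ((Nat.prime_dvd_prime_iff_eq hr Nat.prime_two).mp h2)
      exact not_forall_of_torus hd hab hae ha hb e P hω0 hω1 hωr (Or.inl hω2) hall
    · have h1 : r ∣ Nat.card (Matrix.symplecticGroup (Fin d) F) := by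
        rw [← card_spGL_eq]
        exact hΩ.trans (Subgroup.relIndex_dvd_card _ _)
      have hcle := cOf_le_of_dvd_card_symp (F := F) hrp h1
      obtain ⟨x₀, hx₀r, hx₀1, hx₀fix⟩ := exists_elt_blocks (F := F) hr2 hrp d 1 (by rw [mul_one]; exact hcle)
      have hx₀ne : x₀ ≠ 1 := hx₀1 le_rfl
      obtain ⟨x, hx⟩ : ∃ x : GL (Fin d ⊕ Fin d) F, x = ofSymp d F x₀ := ⟨_, rfl⟩
      have hxr : x ^ r = 1 := by rw [hx, ← map_pow, hx₀r, map_one]
      have hxmem : x ∈ Cfsg.spGL d F := by rw [hx]; exact ofSymp_mem _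
      have hrank : ((x : Matrix (Fin d ⊕ Fin d) (Fin d ⊕ Fin d) F) - (1 : F) • 1).rank =
          cOf (orderOf ((Fintype.card F : ℕ) : ZMod r)) := by
        have h3 := rank_sub_one_add_fix (x : Matrix (Fin d ⊕ Fin d) (Fin d ⊕ Fin d) F)
        rw [hx, ofSymp_val, hx₀fix, Fintype.card_sum, Fintype.card_fin, mul_one] at h3
        rw [one_smul, hx, ofSymp_val]
        omega
      obtain ⟨g, hg, hgx⟩ := hall x hxmem ⟨1, by rw [hxr, one_smul]; rfl⟩
        (by rw [hx, ofSymp_val]; exact not_scalar_of_pow hr2 (by omega) hx₀r hx₀ne)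
      exact not_conj_mem_of_block hr2 hrp h2F hi1 ha hb hf₁ hf₂ e P hS x g hxmem hg hxr hrank hgx

end Cfsg.Agent.Helper7.TnSp
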