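import Mathlib
import Cfsg.Agent.Helper7.ChevTwInvC
import Cfsg.Agent.Helper7.E6ClsA
import Cfsg.Agent.Helper7.ChevTwE6

set_option autoImplicit false
set_option linter.unusedSectionVars false
set_option linter.unusedVariables false
set_option maxHeartbeats 1000000
set_option maxRecDepth 1000000

/-!
Type `E₆` with the graph automorphism: the special involutions of the Weyl group commuting with the permutation of the
roots (generated tables).
-/

namespace Cfsg.Agent.Helper7.Chev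

open Cfsg Cfsg.Lie Matrix

/-- The permutation of the fundamental roots of `E₆`. -/
abbrev e6Rho : ℕ → ℕ := fun i => [5, 1, 4, 3, 2, 0].getD i 0

/-- The test for the image of the next fundamental root: the first root of a class goes to a negative root or to a
root of the class, the other one to the image under the permutation of the roots. -/
def e6twAl (t : List ℕ) (r : ℕ) : Bool :=
  match t.length with
  | 0 => decide (r < 36) || decide (r = 56) || decide (r = 36)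
  | 1 => decide (r < 36) || decide (r = 46)
  | 2 => decide (r < 36) || decide (r = 42) || decide (r = 37)
  | 3 => decide (r < 36) || decide (r = 39)
  | 4 => decide (r = tabN t18s_E6 (t.getD 2 0))
  | 5 => decide (r = tabN t18s_E6 (t.getD 0 0))
  | _ => false

/-- The tuples of images of the fundamental roots passing the tests, each with a word mapping it back to the
fundamental roots, or to their negatives (flagged). -/
def e6twTup : List (List ℕ × List ℕ × Bool) :=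
  [([4, 46, 42, 39, 37, 16], [1, 2, 3, 1, 2, 3, 4, 3, 1, 2, 3, 4], true),
   ([12, 18, 37, 39, 42, 26], [2, 3, 2, 4, 3, 2], true),
   ([14, 25, 42, 27, 37, 33], [2, 4], true),
   ([14, 46, 42, 20, 37, 33], [1, 2, 4], true),
   ([15, 24, 28, 39, 31, 35], [3], true),
   ([15, 25, 29, 32, 34, 35], [], true),
   ([15, 46, 29, 24, 34, 35], [1], true),
   ([16, 46, 37, 39, 42, 4], [5, 0, 4, 2, 3, 1, 4, 2, 3, 5, 0, 4, 2, 3, 1, 5, 0, 4, 2, 3, 4, 2, 5, 0], false),
   ([26, 18, 42, 39, 37, 12], [1, 3, 5, 0, 4, 2, 3, 1, 5, 0, 4, 2, 3, 1, 5, 0, 4, 2, 3, 1, 5, 0, 4, 2, 3, 1, 4, 2, 5, 0], false),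
   ([33, 25, 37, 27, 42, 14], [1, 3, 1, 5, 0, 4, 2, 3, 1, 5, 0, 4, 2, 3, 1, 5, 0, 4, 2, 3, 1, 5, 0, 4, 2, 3, 1, 5, 0, 4, 2, 3, 5, 0], false),
   ([33, 46, 37, 20, 42, 14], [3, 1, 5, 0, 4, 2, 3, 1, 5, 0, 4, 2, 3, 1, 5, 0, 4, 2, 3, 1, 5, 0, 4, 2, 3, 1, 5, 0, 4, 2, 3, 5, 0], false),
   ([35, 24, 31, 39, 28, 15], [1, 3, 5, 0, 4, 2, 3, 1, 5, 0, 4, 2, 3, 1, 5, 0, 4, 2, 3, 1, 5, 0, 4, 2, 3, 1, 5, 0, 4, 2, 3, 5, 0, 4, 2], false),
   ([35, 25, 34, 32, 29, 15], [1, 3, 1, 5, 0, 4, 2, 3, 1, 5, 0, 4, 2, 3, 1, 5, 0, 4, 2, 3, 1, 5, 0, 4, 2, 3, 1, 5, 0, 4, 2, 3, 5, 0, 4, 2], false),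
   ([35, 46, 34, 24, 29, 15], [3, 1, 5, 0, 4, 2, 3, 1, 5, 0, 4, 2, 3, 1, 5, 0, 4, 2, 3, 1, 5, 0, 4, 2, 3, 1, 5, 0, 4, 2, 3, 5, 0, 4, 2], false),
   ([36, 1, 37, 39, 42, 56], [0, 2, 0, 3, 2, 0, 4, 3, 2, 0, 5, 4, 3, 2, 0], true),
   ([36, 24, 30, 39, 13, 56], [1, 3, 4, 2, 3, 1, 5, 0, 4, 2, 3, 1, 5, 0, 4, 2, 3, 1, 5, 0, 4, 2, 3, 1, 5, 0, 4, 2, 3, 5, 0, 4, 2], false),
   ([36, 25, 33, 32, 14, 56], [1, 3, 1, 4, 2, 3, 1, 5, 0, 4, 2, 3, 1, 5, 0, 4, 2, 3, 1, 5, 0, 4, 2, 3, 1, 5, 0, 4, 2, 3, 5, 0, 4, 2], false),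
   ([36, 46, 33, 24, 14, 56], [3, 1, 4, 2, 3, 1, 5, 0, 4, 2, 3, 1, 5, 0, 4, 2, 3, 1, 5, 0, 4, 2, 3, 1, 5, 0, 4, 2, 3, 5, 0, 4, 2], false),
   ([36, 46, 37, 39, 42, 56], [0, 1, 2, 0, 3, 1, 2, 0, 3, 2, 4, 3, 1, 2, 0, 3, 2, 4, 3, 1, 5, 4, 3, 1, 2, 0, 3, 2, 4, 3, 1, 5, 4, 3, 2, 0], true),
   ([56, 1, 42, 39, 37, 36], [1, 3, 4, 2, 3, 1, 5, 0, 4, 2, 3, 1, 4, 2, 3, 5, 0, 4, 2, 3, 1], false),
   ([56, 24, 13, 39, 30, 36], [0, 3, 5], true),
   ([56, 25, 14, 32, 33, 36], [0, 5], true),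
   ([56, 46, 14, 24, 33, 36], [0, 1, 5], true),
   ([56, 46, 42, 39, 37, 36], [], false)]

theorem e6tw_search : fastE6.tupSearchG e6twAl 6 = e6twTup.map Prod.fst := by decide +kernel

theorem e6tw_tup_ok : ∀ e ∈ e6twTup, (∀ i ∈ e.2.1, i < 6) ∧
    ∀ i < 6, fastE6.reflWord e.2.1 (e.1.getD i 0) = if e.2.2 then 71 - e6Simple i else e6Simple i := by
  decide +kernel

/-- The special involutions, as words in the classes. -/
def e6twSpecC : List (List (ℕ × ℕ)) :=
  [[],
   [(1, 1), (3, 1), (2, 2), (0, 2), (3, 1), (2, 2), (1, 1), (3, 1), (2, 2), (0, 2), (1, 1), (3, 1), (2, 2), (3, 1), (1, 1)],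
   [(0, 2), (2, 2), (3, 1), (2, 2), (0, 2), (1, 1), (3, 1), (2, 2), (0, 2), (3, 1), (2, 2), (1, 1), (3, 1), (2, 2), (0, 2)],
   [(0, 2), (2, 2), (1, 1), (3, 1), (2, 2), (0, 2), (1, 1), (3, 1), (2, 2), (0, 2), (1, 1), (3, 1), (2, 2), (0, 2), (1, 1), (3, 1), (2, 2), (0, 2), (3, 1), (1, 1)],
   [(2, 2), (0, 2), (3, 1), (2, 2), (0, 2), (1, 1), (3, 1), (2, 2), (0, 2), (1, 1), (3, 1), (2, 2), (0, 2), (1, 1), (3, 1), (2, 2), (0, 2), (1, 1), (3, 1), (2, 2), (3, 1), (1, 1)],
   [(0, 2), (3, 1), (2, 2), (0, 2), (1, 1), (3, 1), (2, 2), (0, 2), (1, 1), (3, 1), (2, 2), (0, 2), (1, 1), (3, 1), (2, 2), (0, 2), (1, 1), (3, 1), (2, 2), (0, 2), (1, 1), (3, 1)],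
   [(2, 2), (0, 2), (3, 1), (2, 2), (0, 2), (1, 1), (3, 1), (2, 2), (0, 2), (1, 1), (3, 1), (2, 2), (0, 2), (1, 1), (3, 1), (2, 2), (0, 2), (1, 1), (3, 1), (2, 2), (1, 1), (3, 1)],
   [(0, 2), (3, 1), (2, 2), (0, 2), (1, 1), (3, 1), (2, 2), (0, 2), (1, 1), (3, 1), (2, 2), (0, 2), (1, 1), (3, 1), (2, 2), (0, 2), (1, 1), (3, 1), (2, 2), (0, 2), (1, 1), (3, 1), (1, 1)],
   [(2, 2), (0, 2), (3, 1), (2, 2), (0, 2), (1, 1), (3, 1), (2, 2), (0, 2), (1, 1), (3, 1), (2, 2), (0, 2), (1, 1), (3, 1), (2, 2), (0, 2), (1, 1), (3, 1), (2, 2), (1, 1), (3, 1), (1, 1)],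
   [(2, 2), (0, 2), (3, 1), (2, 2), (0, 2), (1, 1), (3, 1), (2, 2), (0, 2), (1, 1), (3, 1), (2, 2), (0, 2), (1, 1), (3, 1), (2, 2), (0, 2), (1, 1), (3, 1), (2, 2), (0, 2), (3, 1), (1, 1)],
   [(2, 2), (0, 2), (3, 1), (2, 2), (0, 2), (1, 1), (3, 1), (2, 2), (0, 2), (1, 1), (3, 1), (2, 2), (0, 2), (1, 1), (3, 1), (2, 2), (0, 2), (1, 1), (3, 1), (2, 2), (0, 2), (1, 1), (3, 1)],
   [(2, 2), (0, 2), (3, 1), (2, 2), (0, 2), (1, 1), (3, 1), (2, 2), (0, 2), (1, 1), (3, 1), (2, 2), (0, 2), (1, 1), (3, 1), (2, 2), (0, 2), (1, 1), (3, 1), (2, 2), (0, 2), (1, 1), (3, 1), (1, 1)]]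

/-- The special involutions. -/
def e6twSpec : List (List ℕ) := e6twSpecC.map fun L => L.flatMap (clsWord e6Rho)

theorem e6tw_spec_tab : ∀ e ∈ e6twTup, e.2.2 = false → e.2.1.reverse ∈ e6twSpec := by decide +kernel

theorem e6tw_specC_mem : ∀ L ∈ e6twSpecC, ∀ c ∈ L, c ∈ clsE6 := by decide

/-- The special involutions of the Weyl group of type `E₆` commuting with the permutation of the roots. -/
theorem e6tw_special_class {w : List ℕ} (hw : ∀ i ∈ w, i < chevE6.rank) (hinv : SameAct chevE6 w.reverse w)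
    (hσ : ∀ s < chevE6.nroots, (tabOf chevE6).reflWord w (tabN t18s_E6 s) =
      tabN t18s_E6 ((tabOf chevE6).reflWord w s))
    (hspec : ∀ c ∈ clsE6, (tabOf chevE6).reflWord w (clsRoot chevE6 e6Rho c.1 0) < chevE6.nroots / 2 ∨
      ∃ k < c.2, (tabOf chevE6).reflWord w (clsRoot chevE6 e6Rho c.1 0) = clsRoot chevE6 e6Rho c.1 k) :
    ∃ v ∈ e6twSpec, SameAct chevE6 w v := by
  have hG := good3_E6.toGood2
  have hG1 := good3_E6.toGood1
  have hal : ∀ k < chevE6.rank,
      e6twAl ((List.range k).map fun i => (tabOf chevE6).reflWord w (chevE6.simple i))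
        ((tabOf chevE6).reflWord w (chevE6.simple k)) = true := by
    intro k hk
    have hk6 : k < 6 := hk
    have h0 := hspec (0, 2) (by decide)
    have h1 := hspec (1, 1) (by decide)
    have h2 := hspec (2, 2) (by decide)
    have h3 := hspec (3, 1) (by decide)
    have hn : chevE6.nroots / 2 = 36 := by decide
    have c00 : clsRoot chevE6 e6Rho 0 0 = 56 := by decide
    have c01 : clsRoot chevE6 e6Rho 0 1 = 36 := by decide
    have c10 : clsRoot chevE6 e6Rho 1 0 = 46 := by decide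
    have c20 : clsRoot chevE6 e6Rho 2 0 = 42 := by decide
    have c21 : clsRoot chevE6 e6Rho 2 1 = 37 := by decide
    have c30 : clsRoot chevE6 e6Rho 3 0 = 39 := by decide
    have s0 : chevE6.simple 0 = 56 := by decide
    have s1 : chevE6.simple 1 = 46 := by decide
    have s2 : chevE6.simple 2 = 42 := by decide
    have s3 : chevE6.simple 3 = 39 := by decide
    have s4 : chevE6.simple 4 = 37 := by decide
    have s5 : chevE6.simple 5 = 36 := by decide
    simp only [hn, c00, c10, c20, c30] at h0 h1 h2 h3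
    interval_cases k
    · simp only [List.range_zero, List.map_nil, e6twAl, List.length_nil, s0, Bool.or_eq_true,
        decide_eq_true_eq]
      rcases h0 with h | ⟨j, hj, h⟩
      · exact Or.inl (Or.inl h)
      · interval_cases j
        · rw [c00] at h; exact Or.inl (Or.inr h)
        · rw [c01] at h; exact Or.inr h
    · simp only [e6twAl, List.length_map, List.length_range, s1, Bool.or_eq_true, decide_eq_true_eq]
      rcases h1 with h | ⟨j, hj, h⟩
      · exact Or.inl h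
      · interval_cases j
        rw [c10] at h; exact Or.inr h
    · simp only [e6twAl, List.length_map, List.length_range, s2, Bool.or_eq_true, decide_eq_true_eq]
      rcases h2 with h | ⟨j, hj, h⟩
      · exact Or.inl (Or.inl h)
      · interval_cases j
        · rw [c20] at h; exact Or.inl (Or.inr h)
        · rw [c21] at h; exact Or.inr h
    · simp only [e6twAl, List.length_map, List.length_range, s3, Bool.or_eq_true, decide_eq_true_eq]
      rcases h3 with h | ⟨j, hj, h⟩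
      · exact Or.inl h
      · interval_cases j
        rw [c30] at h; exact Or.inr h
    · simp only [e6twAl, List.length_map, List.length_range, s4, decide_eq_true_eq]
      have e : ((List.range 4).map fun i => (tabOf chevE6).reflWord w (chevE6.simple i)).getD 2 0 =
          (tabOf chevE6).reflWord w 42 := by
        rw [← s2]; rfl
      rw [e]
      have := hσ 42 (by decide)
      have e37 : tabN t18s_E6 42 = 37 := by decide
      rw [e37] at this
      exact this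
    · simp only [e6twAl, List.length_map, List.length_range, s5, decide_eq_true_eq]
      have e : ((List.range 5).map fun i => (tabOf chevE6).reflWord w (chevE6.simple i)).getD 0 0 =
          (tabOf chevE6).reflWord w 56 := by
        rw [← s0]; rfl
      rw [e]
      have := hσ 56 (by decide)
      have e36 : tabN t18s_E6 56 = 36 := by decide
      rw [e36] at this
      exact this
  have hmem := tuple_mem_searchG hG e6twAl hw hinv hal 6 le_rfl
  rw [tab_E6, e6tw_search, List.mem_map] at hmem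
  obtain ⟨e, he, heq⟩ := hmem
  obtain ⟨hX, hXact⟩ := e6tw_tup_ok e he
  have hX' : ∀ i ∈ e.2.1, i < chevE6.rank := hX
  have hget : ∀ i < 6, e.1.getD i 0 = fastE6.reflWord w (chevE6.simple i) := by
    intro i hi
    rw [heq, List.getD_eq_getElem _ _ (by simp [hi])]
    simp
  by_cases hspur : e.2.2 = true
  · exfalso
    have hu : ∀ i ∈ e.2.1 ++ w, i < chevE6.rank := by
      intro i hi
      rcases List.mem_append.mp hi with h | h
      · exact hX' i h
      · exact hw i h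
    apply e6_no_neg_one hu
    intro i hi
    have := hXact i hi
    rw [if_pos hspur, hget i hi] at this
    rw [reflWord_append, tab_E6, this, e6Simple_eq i hi, e6_neg_val]
    have : ∀ j < 6, e6Simple j < 72 := by decide
    exact this i hi
  · have hspur' : e.2.2 = false := by simpa using hspur
    refine ⟨e.2.1.reverse, e6tw_spec_tab e he hspur', ?_⟩
    apply sameAct_of_tuple hG T0_E6 T6_E6 T8_E6 hw hX'
    intro i hi
    have hi' : i < 6 := hi
    have := hXact i hi'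
    rw [if_neg hspur, hget i hi'] at this
    rw [tab_E6, this, e6Simple_eq i hi']

end Cfsg.Agent.Helper7.Chev
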