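import Mathlib
import Cfsg.Agent.Helper7.ChevTwInvF
import Cfsg.Agent.Helper7.TwE6ClsA
import Cfsg.Agent.Helper7.E6ClsE
import Cfsg.Agent.Helper7.ChevTwHE6

set_option autoImplicit false
set_option linter.unusedSectionVars false
set_option linter.unusedVariables false
set_option maxHeartbeats 1000000
set_option maxRecDepth 1000000

/-!
The twisted group of type `E₆` in characteristic two: every involution is conjugate to one of the three products of
root elements `x_{71}(1)`, `x_{68}(1) x_{66}(1)`, `x_{55}(1) x_{65}(1) x_{67}(1)` (generated tables).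
-/

namespace Cfsg.Agent.Helper7.Chev

open Cfsg Cfsg.Lie Matrix DoubleCoset
open scoped Pointwise

section tables

/-- The heights of the positive roots of `E₆`. -/
def e6Ht : ℕ → ℕ := fun r => [0, 0, 0, 0, 0, 0, 0, 0, 0, 0, 0, 0, 0, 0, 0, 0, 0, 0, 0, 0, 0, 0, 0, 0, 0, 0, 0, 0, 0, 0, 0, 0, 0, 0, 0, 0, 1, 1, 2, 1, 2, 3, 1, 2, 3, 4, 1, 2, 3, 4, 3, 4, 5, 5, 6, 7, 1, 2, 3, 4, 5, 4, 5, 6, 6, 7, 8, 7, 8, 9, 10, 11].getD r 0

theorem e6tw_spec_ok_fast : ∀ v ∈ e6twSpec, fastE6.SpecTw e6Rho clsE6 e6Ht v := by decide +kernel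

theorem e6tw_spec_ok : ∀ v ∈ e6twSpec, (tabOf chevE6).SpecTw e6Rho clsE6 e6Ht v :=
  tab_E6 ▸ e6tw_spec_ok_fast

/-- For each special involution, orthogonal roots permuted by the twist whose reflections multiply to it, each given
as the image of a fundamental root under a word. -/
def e6twData : List (List (List ℕ × ℕ)) :=
  [[],
   [([1, 3, 4, 5, 2, 3, 4, 1, 3, 2], 0)],
   [([4, 5, 3, 4, 1, 3, 2], 0), ([5, 2, 3, 4, 1, 3, 2], 0)],
   [([5, 4, 3, 2], 0), ([1, 3, 4, 5, 2, 3, 4, 1, 3, 2], 0)],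
   [([5, 4, 3], 2), ([4, 3, 2], 0), ([1, 3, 4, 5, 2, 3, 4, 1, 3, 2], 0)],
   [([3, 4, 2, 3], 1), ([4, 5, 3, 4, 1, 3, 2], 0), ([5, 2, 3, 4, 1, 3, 2], 0)],
   [([5, 3, 4, 2, 3], 1), ([3, 4, 1, 3, 2], 0), ([4, 5, 2, 3, 4, 1, 3, 2], 0)],
   [([4], 3), ([3], 2), ([5, 4, 3, 2], 0), ([1, 3, 4, 5, 2, 3, 4, 1, 3, 2], 0)],
   [([], 3), ([5, 4, 3], 2), ([4, 3, 2], 0), ([1, 3, 4, 5, 2, 3, 4, 1, 3, 2], 0)],
   [([4, 3], 2), ([5, 4, 3, 2], 0), ([1, 3, 4, 5, 2, 3, 4, 1, 3, 2], 0)],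
   [([3, 4, 2, 3], 1), ([5, 3, 4, 1, 3, 2], 0), ([4, 5, 2, 3, 4, 1, 3, 2], 0)],
   [([], 3), ([4, 3], 2), ([5, 4, 3, 2], 0), ([1, 3, 4, 5, 2, 3, 4, 1, 3, 2], 0)]]

/-- The roots of the products. -/
def e6twRoots : List (List ℕ) :=
  [[], [71], [66, 68], [60, 71], [45, 59, 71], [53, 66, 68], [54, 64, 69], [40, 43, 60, 71], [39, 45, 59, 71], [44, 60, 71], [53, 65, 69], [39, 44, 60, 71]]

theorem e6tw_data_ok_fast : ∀ k < 12, fastE6.DataOK (e6twSpec.getD k []) (e6twData.getD k []) ∧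
    (e6twData.getD k []).map fastE6.dP = e6twRoots.getD k [] ∧
    fastE6.norm 100 (((e6twData.getD k []).map fastE6.dP).map (tabN t18s_E6)) =
      fastE6.norm 100 ((e6twData.getD k []).map fastE6.dP) ∧
    fastE6.norm 100 (((e6twData.getD k []).map fastE6.dQ).map (tabN t18s_E6)) =
      fastE6.norm 100 ((e6twData.getD k []).map fastE6.dQ) ∧
    (∀ r ∈ (e6twData.getD k []).map fastE6.dP, r < 72) ∧
    (∀ r ∈ (e6twData.getD k []).map fastE6.dQ, r < 72) := by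
  decide +kernel

theorem e6tw_data_ok : ∀ k < 12, (tabOf chevE6).DataOK (e6twSpec.getD k []) (e6twData.getD k []) ∧
    (e6twData.getD k []).map (tabOf chevE6).dP = e6twRoots.getD k [] ∧
    (tabOf chevE6).norm 100 (((e6twData.getD k []).map (tabOf chevE6).dP).map (tabN t18s_E6)) =
      (tabOf chevE6).norm 100 ((e6twData.getD k []).map (tabOf chevE6).dP) ∧
    (tabOf chevE6).norm 100 (((e6twData.getD k []).map (tabOf chevE6).dQ).map (tabN t18s_E6)) =
      (tabOf chevE6).norm 100 ((e6twData.getD k []).map (tabOf chevE6).dQ) ∧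
    (∀ r ∈ (e6twData.getD k []).map (tabOf chevE6).dP, r < 72) ∧
    (∀ r ∈ (e6twData.getD k []).map (tabOf chevE6).dQ, r < 72) := tab_E6 ▸ e6tw_data_ok_fast

/-- The paths of conjugations from the products to the representatives. -/
def e6twPaths : List (List ((List ℕ ⊕ List (ℕ × ℕ)) × List ℕ)) :=
  [[],
   [],
   [],
   [(Sum.inr [(1, 1)], [63, 70]),
     (Sum.inr [(3, 1)], [65, 69]),
     (Sum.inl [37, 42], [65, 66, 68]),
     (Sum.inr [(2, 2)], [66, 68, 69]),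
     (Sum.inr [(3, 1)], [66, 68, 70]),
     (Sum.inr [(1, 1)], [66, 68, 71])],
   [(Sum.inr [(1, 1)], [52, 62, 70]),
     (Sum.inr [(3, 1)], [54, 64, 69]),
     (Sum.inr [(2, 2)], [55, 65, 67])],
   [(Sum.inr [(0, 2)], [55, 65, 67])],
   [(Sum.inr [(2, 2)], [55, 65, 67])],
   [(Sum.inr [(0, 2)], [41, 44, 58, 71]),
     (Sum.inr [(1, 1)], [49, 51, 61, 70]),
     (Sum.inr [(3, 1)], [49, 53, 61, 69]),
     (Sum.inr [(2, 2)], [52, 53, 62, 65]),
     (Sum.inl [36, 56], [52, 53, 54, 62, 64, 71]),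
     (Sum.inr [(0, 2)], [52, 54, 62, 64, 65, 71]),
     (Sum.inl [39], [52, 62, 65, 71]),
     (Sum.inr [(3, 1)], [54, 63, 64, 71]),
     (Sum.inr [(2, 2)], [55, 63, 67, 71]),
     (Sum.inr [(3, 1)], [55, 65, 67, 71]),
     (Sum.inl [51], [55, 65, 67])],
   [(Sum.inr [(1, 1)], [47, 52, 62, 70]),
     (Sum.inl [39], [47, 52, 54, 62, 64, 70]),
     (Sum.inr [(3, 1)], [46, 52, 54, 62, 64, 69]),
     (Sum.inr [(2, 2)], [46, 49, 55, 61, 65, 67]),
     (Sum.inr [(0, 2)], [46, 48, 50, 53, 66, 68, 71]),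
     (Sum.inr [(3, 1)], [47, 48, 50, 51, 66, 68, 71]),
     (Sum.inl [37, 42], [47, 66, 68, 71]),
     (Sum.inr [(2, 2)], [51, 66, 68, 71]),
     (Sum.inr [(0, 2)], [55, 63, 67, 71]),
     (Sum.inr [(3, 1)], [55, 65, 67, 71]),
     (Sum.inl [51], [55, 65, 67])],
   [(Sum.inr [(1, 1)], [51, 63, 70]),
     (Sum.inr [(3, 1)], [53, 65, 69]),
     (Sum.inl [37, 42], [53, 65, 66, 68]),
     (Sum.inr [(2, 2)], [53, 66, 68, 69]),
     (Sum.inr [(0, 2)], [55, 65, 67, 69]),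
     (Sum.inl [37, 42], [55, 65, 66, 67, 68]),
     (Sum.inl [36, 56], [55, 65, 67])],
   [(Sum.inl [37, 42], [53, 65, 66, 68]),
     (Sum.inr [(2, 2)], [53, 66, 68, 69]),
     (Sum.inr [(0, 2)], [55, 65, 67, 69]),
     (Sum.inl [37, 42], [55, 65, 66, 67, 68]),
     (Sum.inl [36, 56], [55, 65, 67])],
   [(Sum.inl [37, 42], [39, 40, 43, 60, 71]),
     (Sum.inr [(2, 2)], [40, 43, 44, 60, 71]),
     (Sum.inr [(0, 2)], [41, 44, 58, 60, 71]),
     (Sum.inr [(1, 1)], [49, 51, 61, 63, 70]),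
     (Sum.inr [(3, 1)], [49, 53, 61, 65, 69]),
     (Sum.inr [(2, 2)], [52, 53, 62, 65, 69]),
     (Sum.inl [37, 42], [52, 53, 62, 65, 66, 68]),
     (Sum.inl [36, 56], [52, 53, 54, 62, 64, 66, 68, 71]),
     (Sum.inr [(0, 2)], [52, 54, 55, 62, 64, 65, 67, 71]),
     (Sum.inl [39], [52, 55, 62, 65, 67, 71]),
     (Sum.inr [(3, 1)], [54, 55, 63, 64, 67, 71]),
     (Sum.inl [37, 42], [54, 63, 64, 71]),
     (Sum.inr [(2, 2)], [55, 63, 67, 71]),
     (Sum.inr [(3, 1)], [55, 65, 67, 71]),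
     (Sum.inl [51], [55, 65, 67])]]

theorem e6tw_paths_fast : ∀ k < 12, 0 < k →
    fastE6.PathTw e6Rho (tabN t18s_E6) clsE6 100 (e6twRoots.getD k []) (e6twPaths.getD k []) ∧
    Tab.pathEndTw (e6twRoots.getD k []) (e6twPaths.getD k []) ∈
      [[71], [66, 68], [66, 68, 71], [55, 65, 67]] := by
  decide +kernel

theorem e6tw_paths : ∀ k < 12, 0 < k →
    (tabOf chevE6).PathTw e6Rho (tabN t18s_E6) clsE6 100 (e6twRoots.getD k []) (e6twPaths.getD k []) ∧
    Tab.pathEndTw (e6twRoots.getD k []) (e6twPaths.getD k []) ∈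
      [[71], [66, 68], [66, 68, 71], [55, 65, 67]] := tab_E6 ▸ e6tw_paths_fast

theorem e6tw_bridge_fast : fastE6.commOK 48 50 = true ∧ fastE6.commOK 48 66 = true ∧
    fastE6.commOK 50 68 = true ∧ fastE6.commOK 71 48 = true ∧ fastE6.commOK 71 50 = true ∧
    fastE6.commOK 71 68 = true ∧
    (fastE6.commTerms 68 48).map (fun c => (c.1, c.2.1 % 2, c.2.2)) = [(71, 1, 1, 1)] ∧
    (fastE6.commTerms 66 50).map (fun c => (c.1, c.2.1 % 2, c.2.2)) = [(71, 1, 1, 1)] ∧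
    fastE6.norm 100 [66, 68] = fastE6.norm 100 [68, 66] := by
  decide +kernel

theorem e6tw_bridge : (tabOf chevE6).commOK 48 50 = true ∧ (tabOf chevE6).commOK 48 66 = true ∧
    (tabOf chevE6).commOK 50 68 = true ∧ (tabOf chevE6).commOK 71 48 = true ∧
    (tabOf chevE6).commOK 71 50 = true ∧ (tabOf chevE6).commOK 71 68 = true ∧
    ((tabOf chevE6).commTerms 68 48).map (fun c => (c.1, c.2.1 % 2, c.2.2)) = [(71, 1, 1, 1)] ∧
    ((tabOf chevE6).commTerms 66 50).map (fun c => (c.1, c.2.1 % 2, c.2.2)) = [(71, 1, 1, 1)] ∧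
    (tabOf chevE6).norm 100 [66, 68] = (tabOf chevE6).norm 100 [68, 66] := tab_E6 ▸ e6tw_bridge_fast

end tables

variable {K : Type*} [Field K] [CharP K 2] (f : K ≃+* K)

/-- Every involution fixed by the twisting automorphism is conjugate, under the fixed points, to one of eleven
products of commuting root elements. -/
theorem e6tw_inv_conj_data [Fintype K] {t : GL chevE6.Idx K} (ht : t ∈ twG T18_E6 f) (ht2 : t * t = 1)
    (ht1 : t ≠ 1) :
    ∃ k < 12, 0 < k ∧ TConj T18_E6 f t (uw1 ctxE6 K (e6twRoots.getD k [])) := by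
  obtain ⟨g, hg, v, hv, h, hh, e⟩ := inv_conj_N_tw (K := K) ctxE6 T18_E6 T19_E6 f rhoperm_E6 e6twSpec
    e6tw_spec_ok (fun w hw hinv hσ hspec => e6tw_special_class hw hinv hσ hspec) ht ht2
  obtain ⟨k, hk, ek⟩ := List.getElem_of_mem hv
  have hk12 : k < 12 := hk
  have ev : v = e6twSpec.getD k [] := by
    rw [← ek, List.getD_eq_getElem _ _ hk]
  have hfix : h * nWordGL ctxE6.g3.toGood2 v ∈ twG T18_E6 f := by
    rw [← e]
    exact mul_mem (mul_mem hg ht) (inv_mem hg)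
  have hinv : (h * nWordGL ctxE6.g3.toGood2 v) * (h * nWordGL ctxE6.g3.toGood2 v) = 1 := by
    rw [← e]
    calc g * t * g⁻¹ * (g * t * g⁻¹) = g * (t * t) * g⁻¹ := by group
      _ = 1 := by rw [ht2]; group
  obtain ⟨hdata, hroots, hP, hQ, hPlt, hQlt⟩ := e6tw_data_ok k hk12
  by_cases h0 : k = 0
  · -- the trivial element of the Weyl group: impossible
    exfalso
    subst h0
    have ev' : v = [] := by rw [ev]; rfl
    rw [ev', nWordGL_nil, mul_one] at e hinv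
    obtain ⟨N, hN, hhN⟩ := torus_odd ctxE6 hh
    obtain ⟨a, rfl⟩ := hN
    have h1 : h = 1 := by
      have : h ^ (2 * a + 1) = h := by
        rw [pow_succ, pow_mul, pow_two, hinv, one_pow, one_mul]
      rw [← this, hhN]
    rw [h1] at e
    apply ht1
    calc t = g⁻¹ * (g * t * g⁻¹) * g := by group
      _ = 1 := by rw [e]; group
  · have hvr : ∀ i ∈ v, i < chevE6.rank := (e6tw_spec_ok v hv).1.1
    rw [← ev] at hdata
    have hc := inv_N_conj_tw ctxE6 T18_E6 f (e6twData.getD k []) hdata hvr 100 hP hQ hPlt hQlt hh hfix hinv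
    rw [hroots] at hc
    refine ⟨k, hk12, by omega, ?_⟩
    exact (show TConj T18_E6 f t (h * nWordGL ctxE6.g3.toGood2 v) from ⟨g, hg, e⟩).trans T18_E6 f hc

/-- Every involution fixed by the twisting automorphism is conjugate, under the fixed points, to one of the three
representatives. -/
theorem e6tw_inv_conj_rep [Fintype K] (hff : ∀ u : K, f (f u) = u) (hu : ∃ u : K, u + f u = 1)
    {t : GL chevE6.Idx K} (ht : t ∈ twG T18_E6 f) (ht2 : t * t = 1) (ht1 : t ≠ 1) :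
    TConj T18_E6 f t (uw1 ctxE6 K [71]) ∨ TConj T18_E6 f t (uw1 ctxE6 K [68, 66]) ∨
      TConj T18_E6 f t (uw1 ctxE6 K [55, 65, 67]) := by
  obtain ⟨k, hk, hk0, hc⟩ := e6tw_inv_conj_data f ht ht2 ht1
  obtain ⟨hpath, hend⟩ := e6tw_paths k hk hk0
  have hc2 := hc.trans T18_E6 f (tconj_of_pathTw ctxE6 T18_E6 T19_E6 f _ _ hpath)
  obtain ⟨b1, b2, b3, b4, b5, b6, b7, b8, b9⟩ := e6tw_bridge
  have e2 : uw1 ctxE6 K [66, 68] = uw1 ctxE6 K [68, 66] := uw1_eq_of_norm ctxE6 100 b9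
  simp only [List.mem_cons, List.not_mem_nil, or_false] at hend
  rcases hend with h | h | h | h
  · rw [h] at hc2; exact Or.inl hc2
  · rw [h, e2] at hc2; exact Or.inr (Or.inl hc2)
  · rw [h] at hc2
    obtain ⟨u, hu⟩ := hu
    have hbr : TConj T18_E6 f (uw1 ctxE6 K [66, 68]) (uw1 ctxE6 K [66, 68, 71]) :=
      trace_conj ctxE6 T18_E6 f (a := 48) (a' := 50) (r := 66) (r' := 68) (t := 71)
        (by decide) (by decide) (by decide) (by decide) (by decide) (by decide)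
        b1 b2 b3 b4 b5 b6 (by decide) (by decide) b7 b8 (hff u) hu
    have := hc2.trans T18_E6 f (hbr.symm T18_E6 f)
    rw [e2] at this
    exact Or.inr (Or.inl this)
  · rw [h] at hc2; exact Or.inr (Or.inr hc2)

end Cfsg.Agent.Helper7.Chev
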