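import Mathlib
import Cfsg.Agent.Helper7.TwE6ClsB
import Cfsg.Agent.Helper7.ChevTwFix3
import Cfsg.Agent.Helper7.ChevInvN
import Cfsg.Agent.Helper7.ChevTwH3
import Cfsg.Agent.Helper7.ChevT17
import Cfsg.Agent.Helper7.ChevTwU5

set_option autoImplicit false
set_option linter.unusedSectionVars false
set_option linter.unusedVariables false
set_option maxHeartbeats 1000000

/-!
The twisted group `²E₆(q)`, `q` even: exactly three classes of involutions.
-/

namespace Cfsg.Agent.Helper7.Chev

open Cfsg Cfsg.Lie Matrix DoubleCoset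
open scoped Pointwise

/-- An element of trace one for an automorphism of order two of a finite field of characteristic two. -/
theorem exists_trace_one {K : Type*} [Field K] [Fintype K] [CharP K 2] {q : ℕ} (hq : 2 ≤ q)
    (hK : Fintype.card K = q ^ 2) (f : K ≃+* K) (hf : ∀ t, f t = t ^ q) (hff : ∀ t, f (f t) = t) :
    ∃ u : K, u + f u = 1 := by
  classical
  have h2 : (2 : K) = 0 := CharTwo.two_eq_zero
  have hex : ∃ u₀ : K, f u₀ ≠ u₀ := by
    by_contra hcon
    simp only [not_exists, not_not] at hcon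
    have hne : (Polynomial.X ^ q - Polynomial.X : Polynomial K) ≠ 0 :=
      FiniteField.X_pow_card_sub_X_ne_zero K (by omega)
    have hdeg : (Polynomial.X ^ q - Polynomial.X : Polynomial K).natDegree = q :=
      FiniteField.X_pow_card_sub_X_natDegree_eq K (by omega)
    have hsub : (Finset.univ : Finset K) ⊆ (Polynomial.X ^ q - Polynomial.X : Polynomial K).roots.toFinset := by
      intro x _
      rw [Multiset.mem_toFinset, Polynomial.mem_roots hne, Polynomial.IsRoot.def]
      simp only [Polynomial.eval_sub, Polynomial.eval_pow, Polynomial.eval_X]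
      rw [← hf x, hcon x, sub_self]
    have h1 : Fintype.card K ≤ q := by
      calc Fintype.card K = (Finset.univ : Finset K).card := rfl
        _ ≤ (Polynomial.X ^ q - Polynomial.X : Polynomial K).roots.toFinset.card := Finset.card_le_card hsub
        _ ≤ Multiset.card (Polynomial.X ^ q - Polynomial.X : Polynomial K).roots := Multiset.toFinset_card_le _
        _ ≤ (Polynomial.X ^ q - Polynomial.X : Polynomial K).natDegree := Polynomial.card_roots' _
        _ = q := hdeg
    rw [hK] at h1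
    nlinarith
  obtain ⟨u₀, hu₀⟩ := hex
  set c := u₀ + f u₀ with hc
  have hc0 : c ≠ 0 := by
    intro h
    apply hu₀
    have : f u₀ = -u₀ := by linear_combination h
    rw [this]
    linear_combination (-u₀) * h2
  have hfc : f c = c := by
    rw [hc, map_add, hff, add_comm]
  refine ⟨u₀ / c, ?_⟩
  rw [map_div₀, hfc, ← add_div, ← hc, div_self hc0]

section fixedpoints

variable {K : Type*} [Field K] (f : K ≃+* K)

theorem e6tw_rho_rho : ∀ i < chevE6.rank,
    (fun i => [5, 1, 4, 3, 2, 0].getD i 0) ((fun i => [5, 1, 4, 3, 2, 0].getD i 0) i) = i := by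
  decide

/-- The fixed points of `H` in type `E₆` have fixed parameters. -/
theorem e6tw_vanish (hf2 : ∀ t, (((f : K →+* K)) ^ 2) t = t) (c : Fin chevE6.rank → Kˣ)
    (hc : torusHom chevE6 K (sigC T18_E6 f c) = torusHom chevE6 K c) :
    ∃ c', sigC T18_E6 f c' = c' ∧ torusHom chevE6 K c' = torusHom chevE6 K c :=
  vanish_two T18_E6 f (sigC_sigC T18_E6 f e6tw_rho_rho hf2)
    (fun z hz => torusHom_ker_pow good1_E6 T17_E6 (n := 3) (by decide) hz) c hc

/-- The twisted group of type `E₆` lies in the Chevalley group. -/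
theorem e6tw_le_group : twGroup good2_E6 T3_E6 T4_E6 T19_E6 f ≤ chevE6.group K := by
  rw [twGroup_eq_genSubgroup]
  unfold ChevalleyDatum.genSubgroup
  rw [Subgroup.closure_le]
  rintro g ⟨w, _, hg⟩
  exact wordMat_mem_group good1_E6 _ hg

/-- The fixed points of the twisting automorphism in the Chevalley group of type `E₆` form the twisted group. -/
theorem e6tw_fix_eq (hf2 : ∀ t, (((f : K →+* K)) ^ 2) t = t) :
    twFix T18_E6 f ⊓ chevE6.group K = twGroup good2_E6 T3_E6 T4_E6 T19_E6 f := by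
  apply le_antisymm
  · exact twFix_inf_group_le' good2_E6 T0_E6 T3_E6 T4_E6 T5_E6 T6_E6 T7_E6 T8_E6 T9_E6 T18_E6 T19_E6
      T20_E6 f rhoperm_E6 clsperm_E6 (e6tw_vanish f hf2) w0clsE6_mem (prefixPos_of_tab PPcls_E6) W0cls_E6
  · exact le_inf (twGroup_le_twFix good2_E6 T3_E6 T4_E6 T18_E6 T19_E6 f) (e6tw_le_group f)

end fixedpoints

section reps

variable {K : Type*} [Field K] [CharP K 2] (f : K ≃+* K)

theorem e6tw_reps_fast : fastE6.norm 100 ([71].map (tabN t18s_E6)) = fastE6.norm 100 [71] ∧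
    fastE6.norm 100 ([68, 66].map (tabN t18s_E6)) = fastE6.norm 100 [68, 66] ∧
    fastE6.norm 100 ([55, 65, 67].map (tabN t18s_E6)) = fastE6.norm 100 [55, 65, 67] := by
  decide +kernel

theorem e6tw_reps : (tabOf chevE6).norm 100 ([71].map (tabN t18s_E6)) = (tabOf chevE6).norm 100 [71] ∧
    (tabOf chevE6).norm 100 ([68, 66].map (tabN t18s_E6)) = (tabOf chevE6).norm 100 [68, 66] ∧
    (tabOf chevE6).norm 100 ([55, 65, 67].map (tabN t18s_E6)) = (tabOf chevE6).norm 100 [55, 65, 67] :=
  tab_E6 ▸ e6tw_reps_fast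

theorem e6tw_rep1_mem : uw1 ctxE6 K [71] ∈ twG T18_E6 f :=
  uw1_mem_twG ctxE6 T18_E6 f (by decide) 100 e6tw_reps.1

theorem e6tw_rep2_mem : uw1 ctxE6 K [68, 66] ∈ twG T18_E6 f :=
  uw1_mem_twG ctxE6 T18_E6 f (by decide) 100 e6tw_reps.2.1

theorem e6tw_rep3_mem : uw1 ctxE6 K [55, 65, 67] ∈ twG T18_E6 f :=
  uw1_mem_twG ctxE6 T18_E6 f (by decide) 100 e6tw_reps.2.2

end reps

/-- The twisted group `²E₆(q)`, `q` even, has exactly three classes of involutions. -/
theorem twistedE6_involution_classes {K : Type*} [Field K] [Fintype K] [CharP K 2] (q : ℕ)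
    (hK : Fintype.card K = q ^ 2) :
    (ConjClasses.mk '' {g : ↥(Cfsg.Lie.twistedE6 K q) | orderOf g = 2}).ncard = 3 := by
  classical
  -- `q` is a power of two
  obtain ⟨n, _, hn⟩ := FiniteField.card K 2
  have hqdvd : q ∣ 2 ^ (n : ℕ) := by
    rw [← hn, hK]
    exact dvd_pow_self q (by norm_num)
  obtain ⟨m, _, hm⟩ := (Nat.dvd_prime_pow Nat.prime_two).mp hqdvd
  have hm0 : m ≠ 0 := by
    rintro rfl
    rw [pow_zero] at hm
    rw [hm, one_pow] at hK
    have := Fintype.one_lt_card (α := K)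
    omega
  have hq : IsPrimePow q := ⟨2, m, Nat.prime_two.prime, Nat.pos_of_ne_zero hm0, hm.symm⟩
  have hq2 : 2 ≤ q := by
    rw [hm]
    calc 2 = 2 ^ 1 := by norm_num
      _ ≤ 2 ^ m := Nat.pow_le_pow_right (by norm_num) (Nat.pos_of_ne_zero hm0)
  obtain ⟨f, hf, hf2, hG⟩ := twistedE6_eq hq hK
  have hff : ∀ u : K, f (f u) = u := by
    intro u
    have := hf2 u
    rwa [pow_two] at this
  have hGeq : Cfsg.Lie.twistedE6 K q = twG T18_E6 f := by
    rw [hG, ← e6tw_fix_eq f hf2]
    rfl
  have htr := exists_trace_one hq2 hK f hf hff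
  rw [hGeq]
  have hconj : ∀ a b : ↥(twG T18_E6 f), IsConj a b ↔
      TConj T18_E6 f (a : GL chevE6.Idx K) (b : GL chevE6.Idx K) := by
    intro a b
    rw [isConj_iff]
    constructor
    · rintro ⟨c, hc⟩
      refine ⟨c, c.2, ?_⟩
      have := congrArg Subtype.val hc
      simpa using this
    · rintro ⟨g, hg, e⟩
      refine ⟨⟨g, hg⟩, ?_⟩
      apply Subtype.ext
      simpa using e
  have := ncard_involution_classes (G := ↥(twG T18_E6 f))
    [⟨uw1 ctxE6 K [71], e6tw_rep1_mem f⟩, ⟨uw1 ctxE6 K [68, 66], e6tw_rep2_mem f⟩,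
      ⟨uw1 ctxE6 K [55, 65, 67], e6tw_rep3_mem f⟩] ?_ ?_ ?_
  · rw [this]; rfl
  · intro y hy
    simp only [List.mem_cons, List.not_mem_nil, or_false] at hy
    rw [← Subgroup.orderOf_coe]
    rcases hy with rfl | rfl | rfl
    · exact uw1_order_two e6_ideal.1 (by simp)
    · exact uw1_order_two e6_ideal.2.1 (by simp)
    · exact uw1_order_two e6_ideal.2.2 (by simp)
  · intro g hg
    have hg' : orderOf (g : GL chevE6.Idx K) = 2 := by rw [Subgroup.orderOf_coe]; exact hg
    have hgg : (g : GL chevE6.Idx K) * g = 1 := by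
      have h3 := pow_orderOf_eq_one (g : GL chevE6.Idx K)
      rw [hg', pow_two] at h3
      exact h3
    have hg1 : (g : GL chevE6.Idx K) ≠ 1 := by
      intro h
      rw [h, orderOf_one] at hg'
      omega
    rcases e6tw_inv_conj_rep f hff htr g.2 hgg hg1 with h | h | h
    · exact ⟨⟨uw1 ctxE6 K [71], e6tw_rep1_mem f⟩, by simp, (hconj _ _).mpr h⟩
    · exact ⟨⟨uw1 ctxE6 K [68, 66], e6tw_rep2_mem f⟩, by simp, (hconj _ _).mpr h⟩
    · exact ⟨⟨uw1 ctxE6 K [55, 65, 67], e6tw_rep3_mem f⟩, by simp, (hconj _ _).mpr h⟩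
  · simp only [List.pairwise_cons, List.mem_cons, List.not_mem_nil, or_false, forall_eq_or_imp, forall_eq,
      IsEmpty.forall_iff, implies_true, List.Pairwise.nil, and_true]
    refine ⟨⟨?_, ?_⟩, ?_⟩
    · intro hc
      exact e6_not_conj_21 (((hconj _ _).mp hc).gconj T18_E6 f).symm
    · intro hc
      exact e6_not_conj_31 (((hconj _ _).mp hc).gconj T18_E6 f).symm
    · intro hc
      exact e6_not_conj_32 (((hconj _ _).mp hc).gconj T18_E6 f).symm

end Cfsg.Agent.Helper7.Chev
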