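import Mathlib
import Cfsg.Agent.Helper7.TwOutC
import Cfsg.Agent.Helper7.ChevTwO5
import Cfsg.Agent.Helper7.ChevTwHD4
import Cfsg.Agent.Helper7.ChevTwWD4All
import Cfsg.Agent.Helper7.ChevAutT3
import Cfsg.Agent.Helper7.ChevAutT

set_option autoImplicit false
set_option linter.unusedSectionVars false
set_option linter.unusedVariables false
set_option linter.style.haveILetI false

/-!
The outer automorphism group of `³D₄(q)`, part A: the facts on the tables and on the orders.
-/

namespace Cfsg.Agent.Helper7.Chev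

open Cfsg Cfsg.Lie Matrix

set_option maxRecDepth 1000000 in
set_option maxHeartbeats 0 in
theorem hstarfast_D4 : ∀ c ∈ clsD4, ∀ j < c.2, ∃ k < c.2,
    fastD4.reflWord (w0clsD4.flatMap (clsWord (fun i => [2, 1, 3, 0].getD i 0)))
      (chevD4.neg (clsRoot chevD4 (fun i => [2, 1, 3, 0].getD i 0) c.1 j)) =
      clsRoot chevD4 (fun i => [2, 1, 3, 0].getD i 0) c.1 k := by decide +kernel

theorem hstar_D4 : ∀ c ∈ clsD4, ∀ j < c.2, ∃ k < c.2,
    (tabOf chevD4).reflWord (w0clsD4.flatMap (clsWord (fun i => [2, 1, 3, 0].getD i 0)))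
      (chevD4.neg (clsRoot chevD4 (fun i => [2, 1, 3, 0].getD i 0) c.1 j)) =
      clsRoot chevD4 (fun i => [2, 1, 3, 0].getD i 0) c.1 k := tab_D4 ▸ hstarfast_D4

set_option maxRecDepth 1000000 in
set_option maxHeartbeats 0 in
theorem linkedfast_D4 : ∀ k < 3, ∀ j < 1,
    fastD4.pairing (clsRoot chevD4 (fun i => [2, 1, 3, 0].getD i 0) 1 j)
      (clsRoot chevD4 (fun i => [2, 1, 3, 0].getD i 0) 0 k) = if j = k % 1 then -1 else 0 := by
  decide +kernel

theorem linked_D4 : Linked chevD4 (fun i => [2, 1, 3, 0].getD i 0) (1, 1) (0, 3) := by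
  unfold Linked
  rw [tab_D4]
  exact linkedfast_D4

end Cfsg.Agent.Helper7.Chev
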