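import Mathlib
import Cfsg.Agent.Helper7.TwOutD4a
import Cfsg.Agent.Helper7.FieldAutCard

set_option autoImplicit false
set_option linter.unusedSectionVars false
set_option linter.unusedVariables false
set_option linter.style.haveILetI false

/-!
The outer automorphism group of `³D₄(q)`, part B: the automorphisms stabilising `U¹` and `V¹`.
-/

namespace Cfsg.Agent.Helper7.Chev

open Cfsg Cfsg.Lie Matrix

section

variable {K : Type*} [Field K] [Fintype K] {q : ℕ}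

theorem mem_list_D4 : chevD4 ∈ [chevG2, chevB2, chevD4, chevF4, chevE6, chevE7, chevE8] := by simp

/-- An automorphism of `³D₄(q)` stabilising `U¹` and `V¹` is the product of a diagonal and a field
automorphism. -/
theorem twD4_surj (hq : IsPrimePow q) (hK : Fintype.card K = q ^ 3) (f : K ≃+* K)
    (hf : ∀ t, f t = t ^ q) (hf3 : ∀ t, (((f : K →+* K)) ^ 3) t = t)
    (hfτ : ∀ (τ : K ≃+* K) (t : K), τ (f t) = f (τ t)) :
    ∀ θ ∈ twStabUV good2_D4 T3_D4 T4_D4 T19_D4 f, ∃ (z : Fin chevD4.rank → Kˣ)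
      (hz : sigC T18_D4a f z = z) (τ : K ≃+* K),
      θ = twDF good2_D4 T3_D4 T4_D4 T18_D4a T19_D4 f mem_list_D4 T40_D4 hz (hfτ τ) := by
  classical
  intro θ hθ
  obtain ⟨hU, hV⟩ := hθ
  have hSC := simpleComm_of_mem chevD4 mem_list_D4
  have ha : ((1, 1) : ℕ × ℕ) ∈ clsD4 := by decide
  have hb : ((0, 3) : ℕ × ℕ) ∈ clsD4 := by decide
  have hcard1 : Nat.card {t : K // Adm f 1 t} = q := card_adm_one hq.two_le (by norm_num) hK hf
  have hcard3 : Nat.card {t : K // Adm f 3 t} = q ^ 3 := by rw [card_adm_full hf3, hK]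
  have hne : q ≠ q ^ 3 := by
    have h2 := hq.two_le
    have : q ^ 1 < q ^ 3 := Nat.pow_lt_pow_right (by omega) (by norm_num)
    rw [pow_one] at this
    exact this.ne
  have hstab : ∀ (c : ℕ × ℕ) (hc : c ∈ clsD4),
      SMapsOnto θ (twX good2_D4 T3_D4 T4_D4 T19_D4 f hc) (twX good2_D4 T3_D4 T4_D4 T19_D4 f hc) ∧
      SMapsOnto θ (twY good2_D4 T3_D4 T4_D4 T19_D4 f hc) (twY good2_D4 T3_D4 T4_D4 T19_D4 f hc) := by
    intro c hc
    obtain ⟨c', hc', hX, hY⟩ := exists_cls_map good2_D4 T0_D4 T3_D4 T4_D4 T5_D4 T6_D4 T7_D4 T8_D4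
      T9_D4 T18_D4a T19_D4 T20_D4 f w0clsD4_mem W0cls_D4 hstar_D4 hSC hU hV hc
    have hce := SMapsOnto.card_eq (twX_le_twGroup good2_D4 T0_D4 T3_D4 T4_D4 T19_D4 f hc)
      (twX_le_twGroup good2_D4 T0_D4 T3_D4 T4_D4 T19_D4 f hc') hX
    rw [card_twX good2_D4 T0_D4 T3_D4 T4_D4 T7_D4 T8_D4 T19_D4 T20_D4 f hc,
      card_twX good2_D4 T0_D4 T3_D4 T4_D4 T7_D4 T8_D4 T19_D4 T20_D4 f hc'] at hce
    have hcc : c' = c := by
      have h1 : c = (1, 1) ∨ c = (0, 3) := by simpa using hc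
      have h2 : c' = (1, 1) ∨ c' = (0, 3) := by simpa using hc'
      rcases h1 with rfl | rfl <;> rcases h2 with rfl | rfl
      · rfl
      · exfalso
        change Nat.card {t : K // Adm f 1 t} = Nat.card {t : K // Adm f 3 t} at hce
        rw [hcard1, hcard3] at hce
        exact hne hce
      · exfalso
        change Nat.card {t : K // Adm f 3 t} = Nat.card {t : K // Adm f 1 t} at hce
        rw [hcard1, hcard3] at hce
        exact hne hce.symm
      · rfl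
    subst hcc
    exact ⟨hX, hY⟩
  obtain ⟨hXa, hYa⟩ := hstab _ ha
  obtain ⟨hXb, hYb⟩ := hstab _ hb
  have hιa : ∀ s : ↥(admField f 1), Adm f ((1, 1) : ℕ × ℕ).2 ((admField f 1).subtype s) :=
    fun s => s.2
  have hιa' : ∀ t : K, Adm f ((1, 1) : ℕ × ℕ).2 t →
      ∃ s : ↥(admField f 1), (admField f 1).subtype s = t := fun t ht => ⟨⟨t, ht⟩, rfl⟩
  obtain ⟨αa, τa, hupa, hlowa, hdiaga⟩ := tw_rank_one good2_D4 T0_D4 T3_D4 T4_D4 T7_D4 T8_D4 T19_D4
    T20_D4 f ha (admField f 1).subtype hιa hιa' hXa hYa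
  have hιb : ∀ s : K, Adm f ((0, 3) : ℕ × ℕ).2 ((RingHom.id K) s) := fun s => hf3 s
  have hιb' : ∀ t : K, Adm f ((0, 3) : ℕ × ℕ).2 t → ∃ s : K, (RingHom.id K) s = t :=
    fun t _ => ⟨t, rfl⟩
  obtain ⟨αb, τb, hupb, hlowb, hdiagb⟩ := tw_rank_one good2_D4 T0_D4 T3_D4 T4_D4 T7_D4 T8_D4 T19_D4
    T20_D4 f hb (RingHom.id K) hιb hιb' hXb hYb
  have hlink := tw_link good2_D4 T0_D4 T3_D4 T4_D4 T7_D4 T8_D4 T19_D4 T20_D4 f ha hb linked_D4
    (admField f 1).subtype hιa (RingHom.id K) hιb (admField f 1).subtype (fun s => rfl) hdiaga hupb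
  have hαa_fix : uF f (Units.map ((admField f 1).subtype : ↥(admField f 1) →* K) αa) =
      Units.map ((admField f 1).subtype : ↥(admField f 1) →* K) αa := by
    apply Units.ext
    have := ((αa : ↥(admField f 1))).2
    rw [mem_admField, adm_one_iff] at this
    exact this
  obtain ⟨z, hzdef⟩ : ∃ z, z = (sigFixEquivD4 f hf3).symm
    (⟨Units.map ((admField f 1).subtype : ↥(admField f 1) →* K) αa, hαa_fix⟩, αb) := ⟨_, rfl⟩
  have hz : sigC T18_D4a f z.1 = z.1 := z.2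
  have hz1 : ((extu chevD4.rank z.1 ((1, 1) : ℕ × ℕ).1 : Kˣ) : K) =
      (admField f 1).subtype (αa : ↥(admField f 1)) := by
    rw [hzdef]
    rfl
  have hz0 : ((extu chevD4.rank z.1 ((0, 3) : ℕ × ℕ).1 : Kˣ) : K) = (RingHom.id K) (αb : K) := by
    rw [hzdef]
    rfl
  refine ⟨z.1, hz, τb, ?_⟩
  apply eq_twDF_of_clsParam good2_D4 T3_D4 T4_D4 T18_D4a T19_D4 f mem_list_D4 T40_D4 hz (hfτ τb)
  intro c hc
  have h1 : c = (1, 1) ∨ c = (0, 3) := by simpa using hc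
  rcases h1 with rfl | rfl
  · exact clsParam_of_rank_one good2_D4 T3_D4 T4_D4 T19_D4 f ha (admField f 1).subtype hιa hιa'
      hlink hz1 hupa hlowa
  · exact clsParam_of_rank_one good2_D4 T3_D4 T4_D4 T19_D4 f hb (RingHom.id K) hιb hιb'
      (fun s => rfl) hz0 hupb hlowb

end

end Cfsg.Agent.Helper7.Chev
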