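import Mathlib
import Cfsg.Agent.Helper7.TwOutD4b

set_option autoImplicit false
set_option linter.unusedSectionVars false
set_option linter.unusedVariables false
set_option linter.style.haveILetI false

/-!
The outer automorphism group of `³D₄(q)`, part C: the order.
-/

namespace Cfsg.Agent.Helper7.Chev

open Cfsg Cfsg.Lie Matrix

theorem not_dvd_sub_one_of_dvd {p n : ℕ} (hp : p.Prime) (h0 : 0 < n) (hn : p ∣ n) : ¬ p ∣ n - 1 := by
  intro h
  have h1 : n - 1 + 1 = n := by omega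
  have := (Nat.dvd_add_right h).mp (h1 ▸ hn)
  exact hp.one_lt.ne' (Nat.dvd_one.mp this)

theorem not_dvd_add_one_of_dvd {p n : ℕ} (hp : p.Prime) (hn : p ∣ n) : ¬ p ∣ n + 1 := by
  intro h
  have := (Nat.dvd_add_right hn).mp h
  exact hp.one_lt.ne' (Nat.dvd_one.mp this)

/-- `|Out ³D₄(q)| = 3 f` for `q = p ^ f`. -/
theorem card_out_twistedD4 {K : Type*} [Field K] [Fintype K] (p f : ℕ) [Fact p.Prime] [CharP K p]
    (hK : Fintype.card K = p ^ (3 * f)) (hf : 1 ≤ f) :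
    Nat.card (Cfsg.Out ↥(Cfsg.Lie.twistedD4 K (p ^ f))) = 3 * f := by
  classical
  have hp : p.Prime := Fact.out
  have hq : IsPrimePow (p ^ f) := hp.isPrimePow.pow (by omega)
  have hK' : Fintype.card K = (p ^ f) ^ 3 := by rw [hK, ← pow_mul, mul_comm]
  obtain ⟨fr, hfr, hf3, e⟩ := twistedD4_eq hq hK'
  have hcardG := twD4_card hq hK'
  have hcardU := twD4_card_U hq hK'
  rw [e] at hcardG hcardU ⊢
  have hpq : p ∣ p ^ f := dvd_pow_self p (by omega)
  have hSyl : ∃ P : Sylow p ↥(twGroup good2_D4 T3_D4 T4_D4 T19_D4 fr),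
      (P : Subgroup ↥(twGroup good2_D4 T3_D4 T4_D4 T19_D4 fr)) =
        (chevD4.posUnipotent K).subgroupOf (twGroup good2_D4 T3_D4 T4_D4 T19_D4 fr) := by
    apply exists_sylow_of_card_mul p _ (a := f * 12) (d := 1)
      (m := ((p ^ f) ^ 2 - 1) * ((p ^ f) ^ 6 - 1) * ((p ^ f) ^ 8 + (p ^ f) ^ 4 + 1))
    · rw [← Subgroup.inf_subgroupOf_right,
        Nat.card_congr (Subgroup.subgroupOfEquivOfLe inf_le_right).toEquiv, hcardU, pow_mul]
    · rw [one_mul, hcardG, pow_mul]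
      ring
    · intro h
      rcases (Nat.Prime.dvd_mul hp).mp h with h | h
      · rcases (Nat.Prime.dvd_mul hp).mp h with h | h
        · exact not_dvd_sub_one_of_dvd hp (pow_pos hq.pos _) (dvd_pow hpq (by norm_num)) h
        · exact not_dvd_sub_one_of_dvd hp (pow_pos hq.pos _) (dvd_pow hpq (by norm_num)) h
      · exact not_dvd_add_one_of_dvd hp
          (dvd_add (dvd_pow hpq (by norm_num)) (dvd_pow hpq (by norm_num))) h
  have hK4 : 4 ≤ Fintype.card K := by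
    rw [hK']
    have h2 := hq.two_le
    calc 4 ≤ 2 ^ 3 := by norm_num
      _ ≤ (p ^ f) ^ 3 := Nat.pow_le_pow_left h2 3
  obtain ⟨hsimple, hnc⟩ := twD4_simple hK4 fr hf3
  haveI := hsimple
  have hZ : ∀ y : ↥(twGroup good2_D4 T3_D4 T4_D4 T19_D4 fr), (∀ x, y * x = x * y) → y = 1 :=
    fun y hy => eq_one_of_central_of_simple hnc hy
  have hfτ : ∀ (τ : K ≃+* K) (t : K), τ (fr t) = fr (τ t) := by
    intro τ t
    rw [hfr, hfr, map_pow]
  have htop : ∃ c ∈ clsD4, ∀ t : K, Adm fr c.2 t := ⟨(0, 3), by decide, fun t => hf3 t⟩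
  have hρ : ∀ i < chevD4.rank, (fun i => [3, 1, 0, 2].getD i 0)
      ((fun i => [3, 1, 0, 2].getD i 0) ((fun i => [3, 1, 0, 2].getD i 0) i)) = i := by
    decide
  have hkerσ : ∀ z : Fin chevD4.rank → Kˣ, torusHom chevD4 K z = 1 →
      torusHom chevD4 K (sigC T18_D4a fr z) = 1 := by
    intro z hz
    rw [← twAut_torusHom good2_D4 T18_D4a fr rhoperm_D4, hz, map_one]
  have hv := vanish_three T18_D4a fr (sigC_sigC_sigC T18_D4a fr hρ hf3)
    (fun z hz => torusHom_ker_pow good1_D4 T17_D4 (n := 2) (by decide) hz) hkerσ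
  have hone : Nat.card {c : Fin chevD4.rank → Kˣ //
      sigC T18_D4a fr c = c ∧ torusHom chevD4 K c = 1} = 1 := by
    rw [Nat.card_eq_one_iff_unique]
    refine ⟨⟨?_⟩, ⟨⟨1, map_one _, map_one _⟩⟩⟩
    rintro ⟨a, ha1, ha2⟩ ⟨b, hb1, hb2⟩
    apply Subtype.ext
    change a = b
    rw [kerFix_D4 fr ha1 ha2, kerFix_D4 fr hb1 hb2]
  have key := card_out_tw good2_D4 T0_D4 T3_D4 T4_D4 T5_D4 T6_D4 T7_D4 T8_D4 T9_D4 T18_D4a T19_D4
    T20_D4 fr (twWList_of_cert good2_D4 T19_D4 twCert_D4) w0clsD4_mem W0cls_D4 mem_list_D4 T40_D4 p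
    hSyl hZ hfτ htop (twD4_surj hq hK' fr hfr hf3 hfτ) rhoperm_D4 clsperm_D4 hv
  rw [key, hone, one_mul, FieldAutCard.card_ringAut p (3 * f) hK]

end Cfsg.Agent.Helper7.Chev
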