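import Mathlib
import Cfsg.Agent.Helper7.TwOutE6a

set_option autoImplicit false
set_option linter.unusedSectionVars false
set_option linter.unusedVariables false
set_option linter.style.haveILetI false

/-!
The outer automorphism group of `²E₆(q)`, part B: the automorphisms stabilising `U¹` and `V¹`.
-/

namespace Cfsg.Agent.Helper7.Chev

open Cfsg Cfsg.Lie Matrix

section

variable {K : Type*} [Field K] [Fintype K] {q : ℕ}

/-- An automorphism of `²E₆(q)` stabilising `U¹` and `V¹` stabilises the subgroups `X_S¹` and `X_{-S}¹`. -/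
theorem twE6_stab (hq : IsPrimePow q) (hK : Fintype.card K = q ^ 2) (f : K ≃+* K)
    (hf : ∀ t, f t = t ^ q) (hf2 : ∀ t, (((f : K →+* K)) ^ 2) t = t)
    {θ : ↥(twGroup good2_E6 T3_E6 T4_E6 T19_E6 f) ≃* ↥(twGroup good2_E6 T3_E6 T4_E6 T19_E6 f)}
    (hU : SMapsOnto θ (chevE6.posUnipotent K) (chevE6.posUnipotent K))
    (hV : SMapsOnto θ (chevE6.negUnipotent K) (chevE6.negUnipotent K)) :
    ∀ (c : ℕ × ℕ) (hc : c ∈ clsE6),
      SMapsOnto θ (twX good2_E6 T3_E6 T4_E6 T19_E6 f hc) (twX good2_E6 T3_E6 T4_E6 T19_E6 f hc) ∧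
      SMapsOnto θ (twY good2_E6 T3_E6 T4_E6 T19_E6 f hc) (twY good2_E6 T3_E6 T4_E6 T19_E6 f hc) := by
  classical
  have hSC := simpleComm_of_mem chevE6 mem_list_E6
  have ha : ((1, 1) : ℕ × ℕ) ∈ clsE6 := by decide
  have hb : ((3, 1) : ℕ × ℕ) ∈ clsE6 := by decide
  have hD : ((0, 2) : ℕ × ℕ) ∈ clsE6 := by decide
  have hC : ((2, 2) : ℕ × ℕ) ∈ clsE6 := by decide
  have hcard1 : Nat.card {t : K // Adm f 1 t} = q := card_adm_one hq.two_le (by norm_num) hK hf
  have hcard2 : Nat.card {t : K // Adm f 2 t} = q ^ 2 := by rw [card_adm_full hf2, hK]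
  have hne : q ≠ q ^ 2 := by
    have h2 := hq.two_le
    have : q ^ 1 < q ^ 2 := Nat.pow_lt_pow_right (by omega) (by norm_num)
    rw [pow_one] at this
    exact this.ne
  have hXG := fun {c : ℕ × ℕ} (hc : c ∈ clsE6) =>
    twX_le_twGroup good2_E6 T0_E6 T3_E6 T4_E6 T19_E6 f hc
  have hsize : ∀ c ∈ clsE6, ∀ c' ∈ clsE6,
      Nat.card {t : K // Adm f c.2 t} = Nat.card {t : K // Adm f c'.2 t} → c'.2 = c.2 := by
    intro c hc c' hc' hce
    have h1 : c = (1, 1) ∨ c = (3, 1) ∨ c = (0, 2) ∨ c = (2, 2) := by simpa using hc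
    have h2 : c' = (1, 1) ∨ c' = (3, 1) ∨ c' = (0, 2) ∨ c' = (2, 2) := by simpa using hc'
    have hc2 : c.2 = 1 ∨ c.2 = 2 := by rcases h1 with rfl | rfl | rfl | rfl <;> simp
    have hc2' : c'.2 = 1 ∨ c'.2 = 2 := by rcases h2 with rfl | rfl | rfl | rfl <;> simp
    rcases hc2 with e1 | e1 <;> rcases hc2' with e2 | e2
    · rw [e1, e2]
    · exfalso
      rw [e1, e2, hcard1, hcard2] at hce
      exact hne hce
    · exfalso
      rw [e1, e2, hcard1, hcard2] at hce
      exact hne hce.symm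
    · rw [e1, e2]
  -- the image class
  have hmap : ∀ (θ' : ↥(twGroup good2_E6 T3_E6 T4_E6 T19_E6 f) ≃*
        ↥(twGroup good2_E6 T3_E6 T4_E6 T19_E6 f)),
      SMapsOnto θ' (chevE6.posUnipotent K) (chevE6.posUnipotent K) →
      SMapsOnto θ' (chevE6.negUnipotent K) (chevE6.negUnipotent K) →
      ∀ (c : ℕ × ℕ) (hc : c ∈ clsE6), ∃ (c' : ℕ × ℕ) (hc' : c' ∈ clsE6), c'.2 = c.2 ∧
        SMapsOnto θ' (twX good2_E6 T3_E6 T4_E6 T19_E6 f hc) (twX good2_E6 T3_E6 T4_E6 T19_E6 f hc') ∧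
        SMapsOnto θ' (twY good2_E6 T3_E6 T4_E6 T19_E6 f hc)
          (twY good2_E6 T3_E6 T4_E6 T19_E6 f hc') := by
    intro θ' hU' hV' c hc
    obtain ⟨c', hc', hX, hY⟩ := exists_cls_map good2_E6 T0_E6 T3_E6 T4_E6 T5_E6 T6_E6 T7_E6 T8_E6
      T9_E6 T18_E6 T19_E6 T20_E6 f w0clsE6_mem W0cls_E6 hstar_E6 hSC hU' hV' hc
    have hce := SMapsOnto.card_eq (hXG hc) (hXG hc') hX
    rw [card_twX good2_E6 T0_E6 T3_E6 T4_E6 T7_E6 T8_E6 T19_E6 T20_E6 f hc,
      card_twX good2_E6 T0_E6 T3_E6 T4_E6 T7_E6 T8_E6 T19_E6 T20_E6 f hc'] at hce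
    exact ⟨c', hc', hsize c hc c' hc' hce, hX, hY⟩
  -- the commutation
  have comm_aC := twX_commute_of_nil good2_E6 T3_E6 T4_E6 T19_E6 f ha hC nil_E6_aC
  have comm_aD := twX_commute_of_nil good2_E6 T3_E6 T4_E6 T19_E6 f ha hD nil_E6_aD
  have comm_bD := twX_commute_of_nil good2_E6 T3_E6 T4_E6 T19_E6 f hb hD nil_E6_bD
  have ncomm_bC := twX_not_commute_of_adj good2_E6 T0_E6 T3_E6 T4_E6 T5_E6 T7_E6 T8_E6 T18_E6 T19_E6
    T20_E6 f w0clsE6_mem W0cls_E6 hstar_E6 hSC hb hC (by decide) twAdj_E6_bC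
  have hθs : θ.symm.symm = θ := MulEquiv.symm_symm θ
  -- the images of the four classes
  obtain ⟨a', ha', ea, hXa, hYa⟩ := hmap θ hU hV _ ha
  obtain ⟨b', hb', eb, hXb, hYb⟩ := hmap θ hU hV _ hb
  obtain ⟨C', hC', eC, hXC, hYC⟩ := hmap θ hU hV _ hC
  obtain ⟨D', hD', eD, hXD, hYD⟩ := hmap θ hU hV _ hD
  have small : ∀ c ∈ clsE6, c.2 = 1 → c = (1, 1) ∨ c = (3, 1) := by
    intro c hc e
    have h1 : c = (1, 1) ∨ c = (3, 1) ∨ c = (0, 2) ∨ c = (2, 2) := by simpa using hc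
    rcases h1 with rfl | rfl | rfl | rfl
    · left; rfl
    · right; rfl
    · simp at e
    · simp at e
  have big : ∀ c ∈ clsE6, c.2 = 2 → c = (2, 2) ∨ c = (0, 2) := by
    intro c hc e
    have h1 : c = (1, 1) ∨ c = (3, 1) ∨ c = (0, 2) ∨ c = (2, 2) := by simpa using hc
    rcases h1 with rfl | rfl | rfl | rfl
    · simp at e
    · simp at e
    · right; rfl
    · left; rfl
  -- the class `a`
  have haa : a' = (1, 1) := by
    rcases small a' ha' ea with h | h
    · exact h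
    · exfalso
      subst h
      obtain ⟨c'', hc'', e'', hX'', -⟩ := hmap θ.symm hU.symm hV.symm _ hC
      have hX''' := hX''.symm
      rw [hθs] at hX'''
      apply ncomm_bC
      rcases big c'' hc'' e'' with h' | h'
      · subst h'
        exact SMapsOnto.commute (hXG hb) (hXG hC) hXa hX''' comm_aC
      · subst h'
        exact SMapsOnto.commute (hXG hb) (hXG hC) hXa hX''' comm_aD
  subst haa
  -- the class `b`
  have hbb : b' = (3, 1) := by
    rcases small b' hb' eb with h | h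
    · exfalso
      subst h
      apply ncomm_bC
      rcases big C' hC' eC with h' | h'
      · subst h'
        exact SMapsOnto.commute (hXG hb) (hXG hC) hXb.symm hXC.symm comm_aC
      · subst h'
        exact SMapsOnto.commute (hXG hb) (hXG hC) hXb.symm hXC.symm comm_aD
    · exact h
  subst hbb
  -- the class `C`
  have hCC : C' = (2, 2) := by
    rcases big C' hC' eC with h | h
    · exact h
    · exfalso
      subst h
      apply ncomm_bC
      exact SMapsOnto.commute (hXG hb) (hXG hC) hXb.symm hXC.symm comm_bD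
  subst hCC
  -- the class `D`
  have hDD : D' = (0, 2) := by
    rcases big D' hD' eD with h | h
    · exfalso
      subst h
      apply ncomm_bC
      exact SMapsOnto.commute (hXG hb) (hXG hC) hXb hXD comm_bD
    · exact h
  subst hDD
  intro c hc
  have h1 : c = (1, 1) ∨ c = (3, 1) ∨ c = (0, 2) ∨ c = (2, 2) := by simpa using hc
  rcases h1 with rfl | rfl | rfl | rfl
  · exact ⟨hXa, hYa⟩
  · exact ⟨hXb, hYb⟩
  · exact ⟨hXD, hYD⟩
  · exact ⟨hXC, hYC⟩

end

end Cfsg.Agent.Helper7.Chev
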