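import Mathlib
import Cfsg.Agent.Helper7.TwOutE6b
import Cfsg.Agent.Helper7.TwOutD4c

set_option autoImplicit false
set_option linter.unusedSectionVars false
set_option linter.unusedVariables false
set_option linter.style.haveILetI false

/-!
The outer automorphism group of `²E₆(q)`, part C: the parametrisation and the order.
-/

namespace Cfsg.Agent.Helper7.Chev

open Cfsg Cfsg.Lie Matrix

section

variable {K : Type*} [Field K] [Fintype K] {q : ℕ}

/-- An automorphism of `²E₆(q)` stabilising `U¹` and `V¹` is the product of a diagonal and a field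
automorphism. -/
theorem twE6_surj (hq : IsPrimePow q) (hK : Fintype.card K = q ^ 2) (f : K ≃+* K)
    (hf : ∀ t, f t = t ^ q) (hf2 : ∀ t, (((f : K →+* K)) ^ 2) t = t)
    (hfτ : ∀ (τ : K ≃+* K) (t : K), τ (f t) = f (τ t)) :
    ∀ θ ∈ twStabUV good2_E6 T3_E6 T4_E6 T19_E6 f, ∃ (z : Fin chevE6.rank → Kˣ)
      (hz : sigC T18_E6 f z = z) (τ : K ≃+* K),
      θ = twDF good2_E6 T3_E6 T4_E6 T18_E6 T19_E6 f mem_list_E6 T40_E6 hz (hfτ τ) := by
  classical
  intro θ hθ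
  obtain ⟨hU, hV⟩ := hθ
  have ha : ((1, 1) : ℕ × ℕ) ∈ clsE6 := by decide
  have hb : ((3, 1) : ℕ × ℕ) ∈ clsE6 := by decide
  have hD : ((0, 2) : ℕ × ℕ) ∈ clsE6 := by decide
  have hC : ((2, 2) : ℕ × ℕ) ∈ clsE6 := by decide
  have hstab := twE6_stab hq hK f hf hf2 hU hV
  obtain ⟨hXa, hYa⟩ := hstab _ ha
  obtain ⟨hXb, hYb⟩ := hstab _ hb
  obtain ⟨hXC, hYC⟩ := hstab _ hC
  obtain ⟨hXD, hYD⟩ := hstab _ hD
  -- the small classes
  have hιa : ∀ s : ↥(admField f 1), Adm f ((1, 1) : ℕ × ℕ).2 ((admField f 1).subtype s) :=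
    fun s => s.2
  have hιa' : ∀ t : K, Adm f ((1, 1) : ℕ × ℕ).2 t →
      ∃ s : ↥(admField f 1), (admField f 1).subtype s = t := fun t ht => ⟨⟨t, ht⟩, rfl⟩
  have hιb : ∀ s : ↥(admField f 1), Adm f ((3, 1) : ℕ × ℕ).2 ((admField f 1).subtype s) :=
    fun s => s.2
  have hιb' : ∀ t : K, Adm f ((3, 1) : ℕ × ℕ).2 t →
      ∃ s : ↥(admField f 1), (admField f 1).subtype s = t := fun t ht => ⟨⟨t, ht⟩, rfl⟩
  obtain ⟨αa, τa, hupa, hlowa, hdiaga⟩ := tw_rank_one good2_E6 T0_E6 T3_E6 T4_E6 T7_E6 T8_E6 T19_E6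
    T20_E6 f ha (admField f 1).subtype hιa hιa' hXa hYa
  obtain ⟨αb, τb, hupb, hlowb, hdiagb⟩ := tw_rank_one good2_E6 T0_E6 T3_E6 T4_E6 T7_E6 T8_E6 T19_E6
    T20_E6 f hb (admField f 1).subtype hιb hιb' hXb hYb
  -- the big classes
  have hιC : ∀ s : K, Adm f ((2, 2) : ℕ × ℕ).2 ((RingHom.id K) s) := fun s => hf2 s
  have hιC' : ∀ t : K, Adm f ((2, 2) : ℕ × ℕ).2 t → ∃ s : K, (RingHom.id K) s = t :=
    fun t _ => ⟨t, rfl⟩
  have hιD : ∀ s : K, Adm f ((0, 2) : ℕ × ℕ).2 ((RingHom.id K) s) := fun s => hf2 s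
  have hιD' : ∀ t : K, Adm f ((0, 2) : ℕ × ℕ).2 t → ∃ s : K, (RingHom.id K) s = t :=
    fun t _ => ⟨t, rfl⟩
  obtain ⟨αC, τC, hupC, hlowC, hdiagC⟩ := tw_rank_one good2_E6 T0_E6 T3_E6 T4_E6 T7_E6 T8_E6 T19_E6
    T20_E6 f hC (RingHom.id K) hιC hιC' hXC hYC
  obtain ⟨αD, τD, hupD, hlowD, hdiagD⟩ := tw_rank_one good2_E6 T0_E6 T3_E6 T4_E6 T7_E6 T8_E6 T19_E6
    T20_E6 f hD (RingHom.id K) hιD hιD' hXD hYD
  -- the links
  have hlink_ab := tw_link good2_E6 T0_E6 T3_E6 T4_E6 T7_E6 T8_E6 T19_E6 T20_E6 f ha hb linked_E6_ab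
    (admField f 1).subtype hιa (admField f 1).subtype hιb (RingHom.id ↥(admField f 1))
    (fun s => rfl) hdiaga hupb
  have hlink_bC := tw_link good2_E6 T0_E6 T3_E6 T4_E6 T7_E6 T8_E6 T19_E6 T20_E6 f hb hC linked_E6_bC
    (admField f 1).subtype hιb (RingHom.id K) hιC (admField f 1).subtype (fun s => rfl) hdiagb hupC
  have hlink_CD := tw_link good2_E6 T0_E6 T3_E6 T4_E6 T7_E6 T8_E6 T19_E6 T20_E6 f hC hD linked_E6_CD
    (RingHom.id K) hιC (RingHom.id K) hιD (RingHom.id K) (fun s => rfl) hdiagC hupD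
  have hτa : ∀ s : ↥(admField f 1), τC ((admField f 1).subtype s) = (admField f 1).subtype (τa s) := by
    intro s
    rw [hlink_bC s]
    congr 1
    exact hlink_ab s
  have hτD : ∀ s : K, τC ((RingHom.id K) s) = (RingHom.id K) (τD s) := fun s => (hlink_CD s).symm
  -- the parameters
  have hfix : ∀ α : (↥(admField f 1))ˣ,
      uF f (Units.map ((admField f 1).subtype : ↥(admField f 1) →* K) α) =
        Units.map ((admField f 1).subtype : ↥(admField f 1) →* K) α := by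
    intro α
    apply Units.ext
    have := ((α : ↥(admField f 1))).2
    rw [mem_admField, adm_one_iff] at this
    exact this
  obtain ⟨z, hzdef⟩ : ∃ z, z = (sigFixEquivE6 f hf2).symm
    (⟨Units.map ((admField f 1).subtype : ↥(admField f 1) →* K) αa, hfix αa⟩,
      ⟨Units.map ((admField f 1).subtype : ↥(admField f 1) →* K) αb, hfix αb⟩, αD, αC) := ⟨_, rfl⟩
  have hz : sigC T18_E6 f z.1 = z.1 := z.2
  have hz1 : ((extu chevE6.rank z.1 ((1, 1) : ℕ × ℕ).1 : Kˣ) : K) =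
      (admField f 1).subtype (αa : ↥(admField f 1)) := by
    rw [hzdef]
    rfl
  have hz3 : ((extu chevE6.rank z.1 ((3, 1) : ℕ × ℕ).1 : Kˣ) : K) =
      (admField f 1).subtype (αb : ↥(admField f 1)) := by
    rw [hzdef]
    rfl
  have hz0 : ((extu chevE6.rank z.1 ((0, 2) : ℕ × ℕ).1 : Kˣ) : K) = (RingHom.id K) (αD : K) := by
    rw [hzdef]
    rfl
  have hz2 : ((extu chevE6.rank z.1 ((2, 2) : ℕ × ℕ).1 : Kˣ) : K) = (RingHom.id K) (αC : K) := by
    rw [hzdef]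
    rfl
  refine ⟨z.1, hz, τC, ?_⟩
  apply eq_twDF_of_clsParam good2_E6 T3_E6 T4_E6 T18_E6 T19_E6 f mem_list_E6 T40_E6 hz (hfτ τC)
  intro c hc
  have h1 : c = (1, 1) ∨ c = (3, 1) ∨ c = (0, 2) ∨ c = (2, 2) := by simpa using hc
  rcases h1 with rfl | rfl | rfl | rfl
  · exact clsParam_of_rank_one good2_E6 T3_E6 T4_E6 T19_E6 f ha (admField f 1).subtype hιa hιa'
      hτa hz1 hupa hlowa
  · exact clsParam_of_rank_one good2_E6 T3_E6 T4_E6 T19_E6 f hb (admField f 1).subtype hιb hιb'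
      hlink_bC hz3 hupb hlowb
  · exact clsParam_of_rank_one good2_E6 T3_E6 T4_E6 T19_E6 f hD (RingHom.id K) hιD hιD'
      hτD hz0 hupD hlowD
  · exact clsParam_of_rank_one good2_E6 T3_E6 T4_E6 T19_E6 f hC (RingHom.id K) hιC hιC'
      (fun s => rfl) hz2 hupC hlowC

end

/-- `|Out ²E₆(q)| = 2 gcd(3, q + 1) f` for `q = p ^ f`. -/
theorem card_out_twistedE6 {K : Type*} [Field K] [Fintype K] (p f : ℕ) [Fact p.Prime] [CharP K p]
    (hK : Fintype.card K = p ^ (2 * f)) (hf : 1 ≤ f) :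
    Nat.card (Cfsg.Out ↥(Cfsg.Lie.twistedE6 K (p ^ f))) = 2 * Nat.gcd 3 (p ^ f + 1) * f := by
  classical
  have hp : p.Prime := Fact.out
  have hq : IsPrimePow (p ^ f) := hp.isPrimePow.pow (by omega)
  have hK' : Fintype.card K = (p ^ f) ^ 2 := by rw [hK, ← pow_mul, mul_comm]
  obtain ⟨fr, hfr, hf2, e⟩ := twistedE6_eq hq hK'
  have hcardG := twE6_card hq hK'
  have hcardU := twE6_card_U hq hK'
  rw [e] at hcardG hcardU ⊢
  have hpq : p ∣ p ^ f := dvd_pow_self p (by omega)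
  have hqpos : 0 < p ^ f := hq.pos
  have hSyl : ∃ P : Sylow p ↥(twGroup good2_E6 T3_E6 T4_E6 T19_E6 fr),
      (P : Subgroup ↥(twGroup good2_E6 T3_E6 T4_E6 T19_E6 fr)) =
        (chevE6.posUnipotent K).subgroupOf (twGroup good2_E6 T3_E6 T4_E6 T19_E6 fr) := by
    apply exists_sylow_of_card_mul p _ (a := f * 36) (d := Nat.gcd 3 (p ^ f + 1))
      (m := ((p ^ f) ^ 2 - 1) * ((p ^ f) ^ 5 + 1) * ((p ^ f) ^ 6 - 1) * ((p ^ f) ^ 8 - 1) *
        ((p ^ f) ^ 9 + 1) * ((p ^ f) ^ 12 - 1))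
    · rw [← Subgroup.inf_subgroupOf_right,
        Nat.card_congr (Subgroup.subgroupOfEquivOfLe inf_le_right).toEquiv, hcardU, pow_mul]
    · rw [hcardG, pow_mul]
      ring
    · intro h
      have hs : ∀ n : ℕ, 0 < n → ¬ p ∣ (p ^ f) ^ n - 1 := fun n hn =>
        not_dvd_sub_one_of_dvd hp (pow_pos hqpos _) (dvd_pow hpq hn.ne')
      have ha : ∀ n : ℕ, 0 < n → ¬ p ∣ (p ^ f) ^ n + 1 := fun n hn =>
        not_dvd_add_one_of_dvd hp (dvd_pow hpq hn.ne')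
      rcases (Nat.Prime.dvd_mul hp).mp h with h | h
      · rcases (Nat.Prime.dvd_mul hp).mp h with h | h
        · rcases (Nat.Prime.dvd_mul hp).mp h with h | h
          · rcases (Nat.Prime.dvd_mul hp).mp h with h | h
            · rcases (Nat.Prime.dvd_mul hp).mp h with h | h
              · exact hs 2 (by norm_num) h
              · exact ha 5 (by norm_num) h
            · exact hs 6 (by norm_num) h
          · exact hs 8 (by norm_num) h
        · exact ha 9 (by norm_num) h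
      · exact hs 12 (by norm_num) h
  have hK4 : 4 ≤ Fintype.card K := by
    rw [hK']
    have h2 := hq.two_le
    calc 4 = 2 ^ 2 := by norm_num
      _ ≤ (p ^ f) ^ 2 := Nat.pow_le_pow_left h2 2
  obtain ⟨hsimple, hnc⟩ := twE6_simple hK4 fr hf2
  haveI := hsimple
  have hZ : ∀ y : ↥(twGroup good2_E6 T3_E6 T4_E6 T19_E6 fr), (∀ x, y * x = x * y) → y = 1 :=
    fun y hy => eq_one_of_central_of_simple hnc hy
  have hfτ : ∀ (τ : K ≃+* K) (t : K), τ (fr t) = fr (τ t) := by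
    intro τ t
    rw [hfr, hfr, map_pow]
  have htop : ∃ c ∈ clsE6, ∀ t : K, Adm fr c.2 t := ⟨(0, 2), by decide, fun t => hf2 t⟩
  have hρ : ∀ i < chevE6.rank, (fun i => [5, 1, 4, 3, 2, 0].getD i 0)
      ((fun i => [5, 1, 4, 3, 2, 0].getD i 0) i) = i := by
    decide
  have hv := vanish_two T18_E6 fr (sigC_sigC T18_E6 fr hρ hf2)
    (fun z hz => torusHom_ker_pow good1_E6 T17_E6 (n := 3) (by decide) hz)
  have key := card_out_tw good2_E6 T0_E6 T3_E6 T4_E6 T5_E6 T6_E6 T7_E6 T8_E6 T9_E6 T18_E6 T19_E6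
    T20_E6 fr (twWList_of_cert good2_E6 T19_E6 twCert_E6) w0clsE6_mem W0cls_E6 mem_list_E6 T40_E6 p
    hSyl hZ hfτ htop (twE6_surj hq hK' fr hfr hf2 hfτ) rhoperm_E6 clsperm_E6 hv
  rw [key, Nat.card_congr (kerFixEquivE6 fr hfr), card_root_E6 hK',
    FieldAutCard.card_ringAut p (2 * f) hK]
  ring

end Cfsg.Agent.Helper7.Chev
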