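import Mathlib
import Cfsg.Agent.S0760

set_option autoImplicit false

/-!
A totally singular subspace of dimension `m - 1` in a quadratic space of dimension `2m` and Witt index `m`
lies in exactly two totally singular subspaces of dimension `m`.
-/

namespace Cfsg.Agent.Helper7.TwoExt

open QuadraticMap Module

variable {F V : Type*} [Field F] [AddCommGroup V] [Module F V] [FiniteDimensional F V]

theorem finrank_sup_span_singleton {U : Submodule F V} {w : V} (hw : w ∉ U) :
    finrank F ↥(U ⊔ Submodule.span F {w}) = finrank F U + 1 := by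
  have hw0 : w ≠ 0 := fun h => hw (h ▸ U.zero_mem)
  have hinf : U ⊓ Submodule.span F {w} = ⊥ := by
    rw [eq_bot_iff]
    rintro y ⟨hyU, hyw⟩
    obtain ⟨c, rfl⟩ := Submodule.mem_span_singleton.mp hyw
    rw [Submodule.mem_bot]
    by_cases hc : c = 0
    · rw [hc, zero_smul]
    · exfalso
      apply hw
      have := U.smul_mem c⁻¹ hyU
      rwa [smul_smul, inv_mul_cancel₀ hc, one_smul] at this
  have := Submodule.finrank_sup_add_finrank_inf_eq U (Submodule.span F {w})
  rw [hinf, finrank_bot, add_zero, finrank_span_singleton hw0] at this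
  exact this

omit [FiniteDimensional F V] in
theorem map_add_smul (Q : QuadraticForm F V) (x y : V) (b : F) :
    Q (x + b • y) = Q x + b * b * Q y + b * polar Q x y := by
  rw [QuadraticMap.map_add (⇑Q), QuadraticMap.map_smul, polar_smul_right, smul_eq_mul, smul_eq_mul]

omit [FiniteDimensional F V] in
/-- `U ⊔ ⟨w⟩` is totally singular when `w` is singular and orthogonal to the totally singular `U`. -/
theorem singular_sup (Q : QuadraticForm F V) {U : Submodule F V} (hU : ∀ u ∈ U, Q u = 0) {w : V}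
    (hw : Q w = 0) (hperp : ∀ u ∈ U, polar Q u w = 0) :
    ∀ z ∈ U ⊔ Submodule.span F {w}, Q z = 0 := by
  intro z hz
  obtain ⟨u, hu, y, hy, rfl⟩ := Submodule.mem_sup.mp hz
  obtain ⟨b, rfl⟩ := Submodule.mem_span_singleton.mp hy
  rw [map_add_smul, hU u hu, hw, hperp u hu]
  ring

theorem two_extensions (Q : QuadraticForm F V) (hQ : (QuadraticMap.polarBilin Q).Nondegenerate)
    {m : ℕ} (hV : finrank F V = 2 * m) (U : Submodule F V) (hUdim : finrank F U + 1 = m)
    (hU : ∀ u ∈ U, Q u = 0) (E : Submodule F V) (hEdim : finrank F E = m) (hE : ∀ e ∈ E, Q e = 0) :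
    ∃ W₀ W₁ : Submodule F V, W₀ ≠ W₁ ∧
      ∀ W : Submodule F V, (finrank F W = m ∧ (∀ w ∈ W, Q w = 0) ∧ U ≤ W) ↔ (W = W₀ ∨ W = W₁) := by
  set B : LinearMap.BilinForm F V := QuadraticMap.polarBilin Q with hBdef
  have hBapp : ∀ x y, B x y = polar Q x y := fun x y => polarBilin_apply_apply Q x y
  -- `U` is not maximal
  have hnotmax : ¬ ∀ W : Submodule F V, U ≤ W → (∀ w ∈ W, Q w = 0) → W = U := by
    intro hmax
    have := Cfsg.Agent.S0760.finrank_le_of_maximal Q hQ U E hU hE hmax
    omega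
  push Not at hnotmax
  obtain ⟨W', hUW', hW'ts, hW'ne⟩ := hnotmax
  obtain ⟨w₀, hw₀W', hw₀U⟩ : ∃ w₀ ∈ W', w₀ ∉ U := by
    by_contra hcon
    push Not at hcon
    exact hW'ne (le_antisymm hcon hUW')
  have hQw₀ : Q w₀ = 0 := hW'ts w₀ hw₀W'
  have hUw₀ : ∀ u ∈ U, polar Q u w₀ = 0 := fun u hu =>
    Cfsg.Agent.S0760.polar_eq_zero_of_singular Q hW'ts (hUW' hu) hw₀W'
  set W₀ := U ⊔ Submodule.span F {w₀} with hW₀
  have hW₀ts : ∀ z ∈ W₀, Q z = 0 := singular_sup Q hU hQw₀ hUw₀
  have hW₀dim : finrank F W₀ = m := by rw [hW₀, finrank_sup_span_singleton hw₀U, hUdim]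
  have hw₀W₀ : w₀ ∈ W₀ := Submodule.mem_sup_right (Submodule.mem_span_singleton_self w₀)
  -- the orthogonal of `U`
  have hUperp_dim : finrank F (B.orthogonal U) = m + 1 := by
    rw [LinearMap.BilinForm.finrank_orthogonal hQ U, hV]; omega
  have hmem_perp : ∀ x, x ∈ B.orthogonal U ↔ ∀ u ∈ U, polar Q u x = 0 := by
    intro x
    rw [LinearMap.BilinForm.mem_orthogonal_iff]
    constructor
    · intro h u hu
      rw [← hBapp]; exact h u hu
    · intro h u hu
      change B u x = 0
      rw [hBapp]; exact h u hu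
  have hts_le_perp : ∀ W : Submodule F V, (∀ w ∈ W, Q w = 0) → U ≤ W → W ≤ B.orthogonal U := by
    intro W hW hUW x hx
    rw [hmem_perp]
    intro u hu
    exact Cfsg.Agent.S0760.polar_eq_zero_of_singular Q hW (hUW hu) hx
  have hW₀perp : W₀ ≤ B.orthogonal U := hts_le_perp W₀ hW₀ts le_sup_left
  obtain ⟨x, hxperp, hxW₀⟩ : ∃ x ∈ B.orthogonal U, x ∉ W₀ := by
    by_contra hcon
    push Not at hcon
    have := Submodule.finrank_mono (show B.orthogonal U ≤ W₀ from hcon)
    omega
  have hUx : ∀ u ∈ U, polar Q u x = 0 := (hmem_perp x).mp hxperp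
  -- `w₀` and `x` are not orthogonal
  have hc : polar Q w₀ x ≠ 0 := by
    intro h0
    apply hxW₀
    have hle : W₀ ≤ B.orthogonal W₀ := by
      intro y hy
      rw [LinearMap.BilinForm.mem_orthogonal_iff]
      intro n hn
      change B n y = 0
      rw [hBapp]
      exact Cfsg.Agent.S0760.polar_eq_zero_of_singular Q hW₀ts hn hy
    have hdim : finrank F (B.orthogonal W₀) = m := by
      rw [LinearMap.BilinForm.finrank_orthogonal hQ W₀, hV, hW₀dim]; omega
    have heq : W₀ = B.orthogonal W₀ :=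
      Submodule.eq_of_le_of_finrank_eq hle (by rw [hdim, hW₀dim])
    rw [heq, LinearMap.BilinForm.mem_orthogonal_iff]
    intro n hn
    change B n x = 0
    rw [hBapp]
    obtain ⟨u, hu, y, hy, rfl⟩ := Submodule.mem_sup.mp hn
    obtain ⟨b, rfl⟩ := Submodule.mem_span_singleton.mp hy
    rw [polar_add_left, polar_smul_left, hUx u hu, h0, smul_zero, add_zero]
  set c := polar Q w₀ x with hcdef
  set w₁ := x + (-(Q x / c)) • w₀ with hw₁
  have hQw₁ : Q w₁ = 0 := by
    rw [hw₁, map_add_smul, hQw₀, polar_comm, ← hcdef]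
    field_simp
    ring
  have hUw₁ : ∀ u ∈ U, polar Q u w₁ = 0 := by
    intro u hu
    rw [hw₁, polar_add_right, polar_smul_right, hUx u hu, hUw₀ u hu, smul_zero, add_zero]
  have hw₁W₀ : w₁ ∉ W₀ := by
    intro h
    apply hxW₀
    have : x = w₁ - (-(Q x / c)) • w₀ := by rw [hw₁]; abel
    rw [this]
    exact W₀.sub_mem h (W₀.smul_mem _ hw₀W₀)
  have hw₁U : w₁ ∉ U := fun h => hw₁W₀ (Submodule.mem_sup_left h)
  set W₁ := U ⊔ Submodule.span F {w₁} with hW₁
  have hW₁ts : ∀ z ∈ W₁, Q z = 0 := singular_sup Q hU hQw₁ hUw₁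
  have hW₁dim : finrank F W₁ = m := by rw [hW₁, finrank_sup_span_singleton hw₁U, hUdim]
  have hw₁W₁ : w₁ ∈ W₁ := Submodule.mem_sup_right (Submodule.mem_span_singleton_self w₁)
  -- the orthogonal of `U` is `W₀ ⊔ ⟨x⟩`
  have hperp_eq : W₀ ⊔ Submodule.span F {x} = B.orthogonal U := by
    apply Submodule.eq_of_le_of_finrank_eq
    · exact sup_le hW₀perp ((Submodule.span_singleton_le_iff_mem x _).mpr hxperp)
    · rw [finrank_sup_span_singleton hxW₀, hW₀dim, hUperp_dim]
  refine ⟨W₀, W₁, ?_, ?_⟩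
  · intro h
    apply hw₁W₀
    rw [h]; exact hw₁W₁
  intro W
  constructor
  · rintro ⟨hWdim, hWts, hUW⟩
    have hWperp := hts_le_perp W hWts hUW
    obtain ⟨w, hwW, hwU⟩ : ∃ w ∈ W, w ∉ U := by
      by_contra hcon
      push Not at hcon
      have := Submodule.finrank_mono (show W ≤ U from hcon)
      omega
    have hw_perp : w ∈ W₀ ⊔ Submodule.span F {x} := by rw [hperp_eq]; exact hWperp hwW
    obtain ⟨y, hy, z, hz, hyz⟩ := Submodule.mem_sup.mp hw_perp
    obtain ⟨b, rfl⟩ := Submodule.mem_span_singleton.mp hz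
    obtain ⟨u, hu, y', hy', rfl⟩ := Submodule.mem_sup.mp hy
    obtain ⟨a, rfl⟩ := Submodule.mem_span_singleton.mp hy'
    -- `w = u + a w₀ + b x`
    have hQw : Q w = 0 := hWts w hwW
    have hQ1 : Q (a • w₀ + b • x) = b * (b * Q x + a * c) := by
      rw [map_add_smul, QuadraticMap.map_smul, hQw₀, polar_smul_left, ← hcdef]
      simp only [smul_eq_mul]
      ring
    have hQ2 : Q w = Q (a • w₀ + b • x) := by
      rw [← hyz, add_assoc, QuadraticMap.map_add (⇑Q), hU u hu, polar_add_right, polar_smul_right,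
        polar_smul_right, hUw₀ u hu, hUx u hu]
      simp
    rw [hQ2, hQ1] at hQw
    rcases mul_eq_zero.mp hQw with hb | hb
    · -- `b = 0`
      left
      rw [hb, zero_smul, add_zero] at hyz
      have ha : a ≠ 0 := by
        intro ha
        rw [ha, zero_smul, add_zero] at hyz
        exact hwU (hyz ▸ hu)
      have hw₀W : w₀ ∈ W := by
        have : w₀ = a⁻¹ • (w - u) := by
          rw [← hyz, add_sub_cancel_left, smul_smul, inv_mul_cancel₀ ha, one_smul]
        rw [this]
        exact W.smul_mem _ (W.sub_mem hwW (hUW hu))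
      symm
      apply Submodule.eq_of_le_of_finrank_eq
      · exact sup_le hUW ((Submodule.span_singleton_le_iff_mem w₀ _).mpr hw₀W)
      · rw [hW₀dim, hWdim]
    · -- `b ≠ 0`
      right
      by_cases hb0 : b = 0
      · exfalso
        rw [hb0, zero_mul, zero_add] at hb
        have ha : a = 0 := (mul_eq_zero.mp hb).resolve_right hc
        rw [hb0, ha, zero_smul, zero_smul, add_zero, add_zero] at hyz
        exact hwU (hyz ▸ hu)
      have ha : a = -(b * Q x / c) := by
        field_simp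
        linear_combination hb
      have hw₁W : w₁ ∈ W := by
        have : w₁ = b⁻¹ • (w - u) := by
          rw [← hyz, hw₁, ha]
          rw [add_assoc, add_sub_cancel_left, smul_add, smul_smul, smul_smul, inv_mul_cancel₀ hb0,
            one_smul, add_comm]
          congr 2
          field_simp
        rw [this]
        exact W.smul_mem _ (W.sub_mem hwW (hUW hu))
      symm
      apply Submodule.eq_of_le_of_finrank_eq
      · exact sup_le hUW ((Submodule.span_singleton_le_iff_mem w₁ _).mpr hw₁W)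
      · rw [hW₁dim, hWdim]
  · rintro (rfl | rfl)
    · exact ⟨hW₀dim, hW₀ts, le_sup_left⟩
    · exact ⟨hW₁dim, hW₁ts, le_sup_left⟩

end Cfsg.Agent.Helper7.TwoExt
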