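import Mathlib
import Cfsg.Agent.Helper7.TwoTransSylow

set_option autoImplicit false

/-!
In the situation of `TwoTransSylow.Setup` with `G` simple, the point stabiliser `N_G(U)` is a maximal
subgroup and the only maximal subgroup containing `U`.
-/

namespace Cfsg.Agent.Helper7.TwoTransSylow

open MulAction

variable {G Ω : Type*} [Group G] [MulAction G Ω] {ω₀ : Ω} {U : Subgroup G}

/-- Conjugating the set-up. -/
theorem Setup.conjugate (hS : Setup G Ω ω₀ U) (g : G) (U' : Subgroup G)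
    (hU' : ∀ x, x ∈ U' ↔ g⁻¹ * x * g ∈ U) : Setup G Ω (g • ω₀) U' := by
  refine ⟨hS.two, ?_, ?_, ?_, ?_, ?_⟩
  · intro x hx
    have := hS.le ((hU' x).1 hx)
    rw [mem_stabilizer_iff] at this ⊢
    rw [← mul_smul]
    have e : x * g = g * (g⁻¹ * x * g) := by group
    rw [e, mul_smul, this]
  · intro n hn x hx
    rw [hU']
    have hn' : g⁻¹ * n * g ∈ stabilizer G ω₀ := by
      rw [mem_stabilizer_iff] at hn ⊢
      rw [mul_smul, mul_smul, hn, inv_smul_smul]
    have := hS.conj _ hn' _ ((hU' x).1 hx)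
    have e : g⁻¹ * (n * x * n⁻¹) * g = g⁻¹ * n * g * (g⁻¹ * x * g) * (g⁻¹ * n * g)⁻¹ := by group
    rw [e]
    exact this
  · intro x y hx hy
    have hx' : g⁻¹ • x ≠ ω₀ := by
      intro e
      apply hx
      rw [← e, smul_inv_smul]
    have hy' : g⁻¹ • y ≠ ω₀ := by
      intro e
      apply hy
      rw [← e, smul_inv_smul]
    obtain ⟨s, hs, huniq⟩ := hS.reg _ _ hx' hy'
    refine ⟨⟨g * s * g⁻¹, ?_⟩, ?_, ?_⟩
    · rw [hU']
      have e : g⁻¹ * (g * (s : G) * g⁻¹) * g = s := by group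
      rw [e]
      exact s.2
    · show (g * (s : G) * g⁻¹) • x = y
      rw [mul_smul, mul_smul, hs, smul_inv_smul]
    · rintro ⟨t, ht⟩ hts
      have hts' : t • x = y := hts
      have h1 : (g⁻¹ * t * g) • g⁻¹ • x = g⁻¹ • y := by
        rw [← mul_smul, ← hts', ← mul_smul]
        congr 1
        group
      have := huniq ⟨g⁻¹ * t * g, (hU' t).1 ht⟩ h1
      apply Subtype.ext
      show t = g * (s : G) * g⁻¹
      rw [← this]
      show t = g * (g⁻¹ * t * g) * g⁻¹
      group
  · obtain ⟨x, hx⟩ := hS.ne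
    refine ⟨g • x, ?_⟩
    intro e
    exact hx (smul_left_cancel g e)
  · obtain ⟨u, hu, hu1⟩ := hS.nontriv
    refine ⟨g * u * g⁻¹, ?_, ?_⟩
    · rw [hU']
      have e : g⁻¹ * (g * u * g⁻¹) * g = u := by group
      rw [e]
      exact hu
    · intro e
      apply hu1
      have : u = g⁻¹ * (g * u * g⁻¹) * g := by group
      rw [this, e]
      group

theorem Setup.stabilizer_ne_top (hS : Setup G Ω ω₀ U) : stabilizer G ω₀ ≠ ⊤ := by
  intro e
  obtain ⟨x, hx⟩ := hS.ne
  have : IsPretransitive G Ω := isPretransitive_of_is_two_pretransitive (h2 := hS.two)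
  obtain ⟨g, hg⟩ := exists_smul_eq G ω₀ x
  have hmem : g ∈ stabilizer G ω₀ := by rw [e]; exact Subgroup.mem_top g
  rw [mem_stabilizer_iff] at hmem
  exact hx (hg.symm.trans hmem)

theorem Setup.maximal [IsSimpleGroup G] (hS : Setup G Ω ω₀ U) :
    IsCoatom (Subgroup.normalizer (U : Set G)) ∧
      ∀ M : Subgroup G, IsCoatom M → U ≤ M → M = Subgroup.normalizer (U : Set G) := by
  have hprim : IsPreprimitive G Ω := isPreprimitive_of_is_two_pretransitive hS.two
  have hnt : Nontrivial Ω := by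
    obtain ⟨x, hx⟩ := hS.ne
    exact ⟨⟨x, ω₀, hx⟩⟩
  have hco : IsCoatom (stabilizer G ω₀) := IsPreprimitive.isCoatom_stabilizer_of_isPreprimitive (G := G) ω₀
  rw [hS.normalizer_eq]
  refine ⟨hco, ?_⟩
  intro M hM hUM
  by_contra hne
  -- `M` is not contained in the stabiliser
  have hnle : ¬ M ≤ stabilizer G ω₀ := by
    intro hle
    rcases eq_or_lt_of_le hle with e | hlt
    · exact hne e
    · exact hS.stabilizer_ne_top (hM.2 _ hlt)
  obtain ⟨g, hgM, hg⟩ := SetLike.not_le_iff_exists.1 hnle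
  rw [mem_stabilizer_iff] at hg
  -- `M` is transitive
  have htr : ∀ x : Ω, ∃ k ∈ M, k • ω₀ = x := by
    intro x
    by_cases hx : x = ω₀
    · exact ⟨1, M.one_mem, by rw [one_smul, hx]⟩
    · obtain ⟨s, hs, -⟩ := hS.reg (g • ω₀) x hg hx
      refine ⟨s * g, M.mul_mem (hUM s.2) hgM, ?_⟩
      rw [mul_smul]
      exact hs
  -- `M` contains all the conjugates of `U`
  have hconj : ∀ y : G, ∀ u ∈ U, y * u * y⁻¹ ∈ M := by
    intro y u hu
    obtain ⟨k, hkM, hk⟩ := htr (y • ω₀)
    have hn : k⁻¹ * y ∈ stabilizer G ω₀ := by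
      rw [mem_stabilizer_iff, mul_smul, ← hk, inv_smul_smul]
    have h1 := hS.conj _ hn u hu
    have e : y * u * y⁻¹ = k * ((k⁻¹ * y) * u * (k⁻¹ * y)⁻¹) * k⁻¹ := by group
    rw [e]
    exact M.mul_mem (M.mul_mem hkM (hUM h1)) (M.inv_mem hkM)
  have hle : Subgroup.normalClosure (U : Set G) ≤ M := by
    unfold Subgroup.normalClosure
    rw [Subgroup.closure_le]
    intro a ha
    rw [Group.mem_conjugatesOfSet_iff] at ha
    obtain ⟨u, hu, hc⟩ := ha
    obtain ⟨c, hc⟩ := isConj_iff.1 hc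
    rw [← hc]
    exact hconj c u hu
  have hN : Subgroup.normalClosure (U : Set G) = ⊤ := by
    rcases (Subgroup.normalClosure_normal (s := (U : Set G))).eq_bot_or_eq_top with e | e
    · exfalso
      obtain ⟨u, hu, hu1⟩ := hS.nontriv
      have : u ∈ Subgroup.normalClosure (U : Set G) := Subgroup.subset_normalClosure hu
      rw [e, Subgroup.mem_bot] at this
      exact hu1 this
    · exact e
  rw [hN, top_le_iff] at hle
  exact hM.1 hle

end Cfsg.Agent.Helper7.TwoTransSylow
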