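import Mathlib
import Cfsg.Agent.Helper8.SL4Klein

set_option autoImplicit false

/-!
The Klein correspondence and duality: the exchange of the two halves of the six coordinates
intertwines the action of `g` with that of the inverse transpose.
-/

namespace Cfsg.Agent.Helper7.U4Klein

open Matrix Cfsg Cfsg.Agent.Helper8.SL4Klein Cfsg.Agent.Helper8.StdForms

variable {E : Type*} [Field E]

/-- exchange of the two halves of the coordinates. -/
def swp (v : I6 → E) : I6 → E := fun i => v (Sum.swap i)

theorem swp_apply (v : I6 → E) (i : I6) : swp v i = v (Sum.swap i) := rfl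

theorem swp_swp (v : I6 → E) : swp (swp v) = v := by
  funext i
  simp [swp]

/-- the dot product. -/
def dotp (u w : I6 → E) : E := ∑ i, u i * w i

theorem dotp_single (w : I6 → E) (i : I6) : dotp (Pi.single i 1) w = w i := by
  unfold dotp
  rw [Finset.sum_eq_single i]
  · simp
  · intro j _ hj
    simp [Pi.single_apply, hj]
  · intro h
    exact absurd (Finset.mem_univ i) h

theorem eq_of_dotp {w w' : I6 → E} (h : ∀ u, dotp u w = dotp u w') : w = w' := by
  funext i
  rw [← dotp_single w i, ← dotp_single w' i, h]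

theorem quadFormPlus_add (u v : I6 → E) :
    Cfsg.quadFormPlus 3 E (u + v) = Cfsg.quadFormPlus 3 E u + Cfsg.quadFormPlus 3 E v
      + dotp u (swp v) := by
  unfold Cfsg.quadFormPlus dotp swp
  rw [Fintype.sum_sum_type]
  simp only [Fin.sum_univ_three, Pi.add_apply, Sum.swap_inl, Sum.swap_inr]
  ring

/-- the polar form is invariant. -/
theorem dotp_L_swp_L (g : SpecialLinearGroup (Fin 4) E) (u v : I6 → E) :
    dotp (L g u) (swp (L g v)) = dotp u (swp v) := by
  have h := quadFormPlus_L g (u + v)
  rw [map_add, quadFormPlus_add, quadFormPlus_add, quadFormPlus_L, quadFormPlus_L] at h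
  exact add_left_cancel h

set_option maxHeartbeats 4000000 in
/-- the action of the transpose is the transpose of the action. -/
theorem dotp_L (g : SpecialLinearGroup (Fin 4) E) (u w : I6 → E) :
    dotp (L g u) w = dotp u (L (SpecialLinearGroup.transpose g) w) := by
  unfold dotp
  rw [Fintype.sum_sum_type, Fintype.sum_sum_type]
  simp only [Fin.sum_univ_three, Cfsg.Agent.Helper8.SL4Klein.L_apply, act, fromMat, toMat_apply,
    Matrix.mul_apply, Fin.sum_univ_four, Matrix.transpose_apply, SpecialLinearGroup.coe_transpose,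
    LinearMap.coe_mk, AddHom.coe_mk]
  simp
  ring

/-- the exchange intertwines `g` with its inverse transpose. -/
theorem swp_L (g : SpecialLinearGroup (Fin 4) E) (v : I6 → E) :
    swp (L g v) = L (SpecialLinearGroup.transpose g)⁻¹ (swp v) := by
  have h : L (SpecialLinearGroup.transpose g) (swp (L g v)) = swp v :=
    eq_of_dotp (fun u => by rw [← dotp_L, dotp_L_swp_L])
  rw [← h, ← Cfsg.Agent.Helper8.SL4Klein.L_mul, inv_mul_cancel, Cfsg.Agent.Helper8.SL4Klein.L_one]

theorem toMat_comp (σ : E →+* E) (v : I6 → E) : toMat (σ ∘ v) = (toMat v).map σ := by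
  ext i j
  fin_cases i <;> fin_cases j <;> simp [toMat_apply]

theorem fromMat_map (σ : E →+* E) (N : Matrix (Fin 4) (Fin 4) E) :
    fromMat (N.map σ) = σ ∘ fromMat N := by
  funext i
  rcases i with i | i <;> fin_cases i <;> simp [fromMat]

/-- the action is compatible with ring endomorphisms. -/
theorem L_map (σ : E →+* E) (g : SpecialLinearGroup (Fin 4) E) (v : I6 → E) :
    L (SpecialLinearGroup.map σ g) (σ ∘ v) = σ ∘ L g v := by
  rw [Cfsg.Agent.Helper8.SL4Klein.L_apply, Cfsg.Agent.Helper8.SL4Klein.L_apply, toMat_comp,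
    ← fromMat_map]
  congr 1
  unfold act
  rw [Matrix.map_mul, Matrix.map_mul, Matrix.transpose_map]
  rfl

theorem hermForm_single {q : ℕ} (hq : q ≠ 0) (i j : Fin 4) :
    Cfsg.hermForm 4 E q (Pi.single i 1) (Pi.single j 1) = if i = j then 1 else 0 := by
  unfold Cfsg.hermForm
  rw [Finset.sum_eq_single i]
  · by_cases hij : i = j
    · subst hij
      simp
    · simp [hij, zero_pow hq]
  · intro k _ hk
    simp [Pi.single_apply, hk]
  · intro h
    exact absurd (Finset.mem_univ i) h

/-- a unitary matrix: the conjugate is the inverse transpose. -/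
theorem transpose_inv_of_mem_SU {q : ℕ} (σ : E →+* E) (hσ : ∀ z, σ z = z ^ q)
    (g : SpecialLinearGroup (Fin 4) E) (hg : g ∈ Cfsg.SU 4 E q) :
    (SpecialLinearGroup.transpose g)⁻¹ = SpecialLinearGroup.map σ g := by
  have hq : q ≠ 0 := by
    intro h0
    have := hσ 0
    rw [h0, pow_zero, map_zero] at this
    exact zero_ne_one this
  symm
  apply eq_inv_of_mul_eq_one_right
  apply Subtype.ext
  show g.1ᵀ * g.1.map σ = 1
  ext i j
  have h := hg (Pi.single i 1) (Pi.single j 1)
  have h1 : ∀ k : Fin 4, (Cfsg.slToMat 4 E g *ᵥ Pi.single k 1) = fun l => g.1 l k := by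
    intro k
    funext l
    show (g.1 *ᵥ Pi.single k 1) l = _
    rw [Matrix.mulVec_single_one]
    rfl
  rw [h1, h1, hermForm_single hq] at h
  unfold Cfsg.hermForm at h
  rw [Matrix.mul_apply, Matrix.one_apply, ← h]
  simp only [Matrix.transpose_apply, Matrix.map_apply, hσ]

/-- the fixed space of the semilinear involution is stable under unitary matrices. -/
theorem swp_L_of_mem_SU {q : ℕ} (σ : E →+* E) (hσ : ∀ z, σ z = z ^ q)
    (g : SpecialLinearGroup (Fin 4) E) (hg : g ∈ Cfsg.SU 4 E q) (v : I6 → E)
    (hv : swp v = σ ∘ v) : swp (L g v) = σ ∘ L g v := by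
  rw [swp_L, transpose_inv_of_mem_SU σ hσ g hg, hv, L_map]

end Cfsg.Agent.Helper7.U4Klein
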