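import Mathlib
import Cfsg.Agent.Helper7.U4KleinA
import Cfsg.Agent.Helper7.NormOne

set_option autoImplicit false
set_option linter.unusedSectionVars false

/-!
The rational structure of the Klein correspondence for unitary matrices: over the quadratic
extension `E = F[ω]`, the vectors `(z, z̄)` form an `F`-space on which the Klein quadric restricts
to the sum of three norm forms, which is a form of minus type.
-/

namespace Cfsg.Agent.Helper7.U4Klein

open Matrix Cfsg Cfsg.Agent.Helper8.SL4Klein Cfsg.Agent.Helper8.StdForms QuadraticAlgebra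

variable {F : Type*} [Field F] {a b : F}

/-- the quadratic extension. -/
abbrev EE (F : Type*) [Field F] (a b : F) := QuadraticAlgebra F (-b) a

/-- the index type of the minus form. -/
abbrev I2 := (Fin 2 ⊕ Fin 2) ⊕ Fin 2

/-- auxiliary coordinate. -/
def zp (x : I2 → F) : EE F a b :=
  ⟨(2 * b * (x (.inl (.inr 0)) - x (.inl (.inl 0)) - a * x (.inl (.inl 1)))
        - a * (x (.inl (.inr 1)) - b * x (.inl (.inl 1)))) * (4 * b - a ^ 2)⁻¹,
      (2 * (x (.inl (.inr 1)) - b * x (.inl (.inl 1)))
        - a * (x (.inl (.inr 0)) - x (.inl (.inl 0)) - a * x (.inl (.inl 1)))) * (4 * b - a ^ 2)⁻¹⟩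

/-- auxiliary coordinate. -/
def dd (x : I2 → F) : EE F a b := ⟨x (.inl (.inl 0)), x (.inl (.inl 1))⟩

/-- auxiliary coordinate. -/
def z2 (x : I2 → F) : EE F a b := ⟨x (.inr 0), x (.inr 1)⟩

theorem zp_add (x y : I2 → F) : zp (a := a) (b := b) (x + y) = zp x + zp y := by
  ext <;> simp [zp] <;> ring

theorem zp_smul (r : F) (x : I2 → F) : zp (a := a) (b := b) (r • x) = r • zp x := by
  ext <;> simp [zp] <;> ring

theorem dd_add (x y : I2 → F) : dd (a := a) (b := b) (x + y) = dd x + dd y := by
  ext <;> simp [dd]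

theorem dd_smul (r : F) (x : I2 → F) : dd (a := a) (b := b) (r • x) = r • dd x := by
  ext <;> simp [dd]

theorem z2_add (x y : I2 → F) : z2 (a := a) (b := b) (x + y) = z2 x + z2 y := by
  ext <;> simp [z2]

theorem z2_smul (r : F) (x : I2 → F) : z2 (a := a) (b := b) (r • x) = r • z2 x := by
  ext <;> simp [z2]

/-- the isometry from the standard minus form. -/
def T (c : EE F a b) : (I2 → F) →ₗ[F] (Fin 3 → EE F a b) where
  toFun x := ![zp x + dd x, c * zp x, z2 x]
  map_add' x y := by
    funext i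
    fin_cases i
    · simp [zp_add, dd_add]; abel
    · simp [zp_add, mul_add]
    · simp [z2_add]
  map_smul' r x := by
    funext i
    fin_cases i
    · simp [zp_smul, dd_smul]
    · simp [zp_smul]
    · simp [z2_smul]

theorem T_apply (c : EE F a b) (x : I2 → F) : T c x = ![zp x + dd x, c * zp x, z2 x] := rfl

theorem zp_eq1 (hD : 4 * b - a ^ 2 ≠ 0) (x : I2 → F) :
    2 * (zp (a := a) (b := b) x).re + a * (zp (a := a) (b := b) x).im
      = x (.inl (.inr 0)) - x (.inl (.inl 0)) - a * x (.inl (.inl 1)) := by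
  have hDi := mul_inv_cancel₀ hD
  simp only [zp]
  generalize (4 * b - a ^ 2)⁻¹ = Di at hDi ⊢
  linear_combination (x (.inl (.inr 0)) - x (.inl (.inl 0)) - a * x (.inl (.inl 1))) * hDi

theorem zp_eq2 (hD : 4 * b - a ^ 2 ≠ 0) (x : I2 → F) :
    a * (zp (a := a) (b := b) x).re + 2 * b * (zp (a := a) (b := b) x).im
      = x (.inl (.inr 1)) - b * x (.inl (.inl 1)) := by
  have hDi := mul_inv_cancel₀ hD
  simp only [zp]
  generalize (4 * b - a ^ 2)⁻¹ = Di at hDi ⊢
  linear_combination (x (.inl (.inr 1)) - b * x (.inl (.inl 1))) * hDi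

theorem sum_norm_aux (c : EE F a b) (hc : QuadraticAlgebra.norm c = -1) (hD : 4 * b - a ^ 2 ≠ 0)
    (x : I2 → F) :
    QuadraticAlgebra.norm (zp (a := a) (b := b) x + dd x)
      + QuadraticAlgebra.norm (c * zp (a := a) (b := b) x)
      + QuadraticAlgebra.norm (z2 (a := a) (b := b) x)
      = Cfsg.quadFormMinus 2 F a b x := by
  have h1 := zp_eq1 hD x
  have h2 := zp_eq2 hD x
  rw [map_mul, hc]
  generalize zp (a := a) (b := b) x = p at h1 h2 ⊢
  unfold Cfsg.quadFormMinus dd z2
  simp only [QuadraticAlgebra.norm_def, Fin.sum_univ_two, re_add, im_add]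
  linear_combination x (.inl (.inl 0)) * h1 + x (.inl (.inl 1)) * h2

/-- the map `T` is an isometry onto the sum of three norm forms. -/
theorem sum_norm_T (c : EE F a b) (hc : QuadraticAlgebra.norm c = -1) (hD : 4 * b - a ^ 2 ≠ 0)
    (x : I2 → F) :
    ∑ i, QuadraticAlgebra.norm (T c x i) = Cfsg.quadFormMinus 2 F a b x := by
  rw [T_apply, Fin.sum_univ_three, ← sum_norm_aux c hc hD x]
  rfl

theorem T_injective (c : EE F a b) (hc : QuadraticAlgebra.norm c = -1) (hD : 4 * b - a ^ 2 ≠ 0)
    [Hab : Fact (∀ r : F, r ^ 2 ≠ -b + a * r)] :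
    Function.Injective (T c) := by
  rw [injective_iff_map_eq_zero]
  intro x hx
  have hc0 : c ≠ 0 := by
    intro h
    rw [h, QuadraticAlgebra.norm_zero] at hc
    exact one_ne_zero (neg_eq_zero.mp hc.symm)
  rw [T_apply] at hx
  have e0 : zp (a := a) (b := b) x + dd x = 0 := congrFun hx 0
  have e1 : c * zp (a := a) (b := b) x = 0 := congrFun hx 1
  have e2 : z2 (a := a) (b := b) x = 0 := congrFun hx 2
  have hp : zp (a := a) (b := b) x = 0 := by
    rcases mul_eq_zero.mp e1 with h | h
    · exact absurd h hc0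
    · exact h
  rw [hp, zero_add] at e0
  have h1 := zp_eq1 hD x
  have h2 := zp_eq2 hD x
  rw [hp] at h1 h2
  have d0 : x (.inl (.inl 0)) = 0 := congrArg QuadraticAlgebra.re e0
  have d1 : x (.inl (.inl 1)) = 0 := congrArg QuadraticAlgebra.im e0
  have r0 : x (.inr 0) = 0 := congrArg QuadraticAlgebra.re e2
  have r1 : x (.inr 1) = 0 := congrArg QuadraticAlgebra.im e2
  simp only [re_zero, im_zero, mul_zero, add_zero, d0, d1, sub_zero] at h1 h2
  funext i
  rcases i with (i | i) | i <;> fin_cases i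
  · exact d0
  · exact d1
  · exact h1.symm
  · exact h2.symm
  · exact r0
  · exact r1

end Cfsg.Agent.Helper7.U4Klein
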