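import Mathlib
import Cfsg.Agent.Helper7.U4KleinB

set_option autoImplicit false
set_option linter.unusedSectionVars false
set_option linter.style.haveILetI false
set_option linter.unnecessarySeqFocus false

/-!
The rational structure of the Klein correspondence for unitary matrices, continued: the norm is
onto, the rational vectors `(z, z̄)`, and the rational action of the unitary group.
-/

namespace Cfsg.Agent.Helper7.U4Klein

open Matrix Cfsg Cfsg.Agent.Helper8.SL4Klein Cfsg.Agent.Helper8.StdForms QuadraticAlgebra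
open Cfsg.Agent.Helper7.NormOne

variable {F : Type*} [Field F] {a b : F} [Hab : Fact (∀ r : F, r ^ 2 ≠ -b + a * r)]

/-- the discriminant does not vanish. -/
theorem disc_ne_zero [Finite F] : 4 * b - a ^ 2 ≠ 0 := by
  intro h
  by_cases h2 : (2 : F) = 0
  · have h4 : (4 : F) = 0 := by
      have : (4 : F) = 2 * 2 := by norm_num
      rw [this, h2, mul_zero]
    rw [h4, zero_mul, zero_sub, neg_eq_zero] at h
    have ha : a = 0 := pow_eq_zero_iff (two_ne_zero) |>.mp h
    have : CharP F 2 := CharTwo.of_one_ne_zero_of_two_eq_zero one_ne_zero h2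
    haveI := Fintype.ofFinite F
    obtain ⟨r, hr⟩ := FiniteField.isSquare_of_char_two (ringChar.eq F 2) (-b)
    exact Hab.out r (by rw [ha, zero_mul, add_zero, hr, pow_two])
  · apply Hab.out (a / 2)
    field_simp
    linear_combination h

/-- the norm is onto. -/
theorem exists_norm_eq [Fintype F] (t : F) (ht : t ≠ 0) :
    ∃ c : EE F a b, QuadraticAlgebra.norm c = t := by
  classical
  obtain ⟨φ, hφ⟩ : ∃ φ : (EE F a b)ˣ →* Fˣ, φ = Units.map (QuadraticAlgebra.norm (R := F)) :=
    ⟨_, rfl⟩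
  have hker : φ.ker = normOne F (-b) a := by
    ext u
    rw [MonoidHom.mem_ker, mem_normOne_iff, hφ, Units.ext_iff]
    rfl
  have h1 : Nat.card φ.range * Nat.card φ.ker = Nat.card (EE F a b)ˣ := by
    rw [← Nat.card_congr (QuotientGroup.quotientKerEquivRange φ).toEquiv]
    exact (Subgroup.card_eq_card_quotient_mul_card_subgroup φ.ker).symm
  rw [hker, card_normOne, Nat.card_eq_fintype_card (α := (EE F a b)ˣ), Fintype.card_units,
    card_quadAlg] at h1
  have hq : 1 ≤ Fintype.card F := Fintype.card_pos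
  have h2 : Fintype.card F ^ 2 - 1 = (Fintype.card F - 1) * (Fintype.card F + 1) := by
    obtain ⟨k, hk⟩ : ∃ k, Fintype.card F = k + 1 := ⟨Fintype.card F - 1, by omega⟩
    rw [hk]
    simp only [Nat.add_sub_cancel]
    ring_nf
    omega
  rw [h2] at h1
  have h3 : Nat.card φ.range = Fintype.card F - 1 :=
    Nat.eq_of_mul_eq_mul_right (Nat.succ_pos _) h1
  have h4 : φ.range = ⊤ := by
    apply Subgroup.eq_top_of_card_eq
    rw [h3, Nat.card_eq_fintype_card, Fintype.card_units]
  have h5 : Units.mk0 t ht ∈ φ.range := by rw [h4]; exact Subgroup.mem_top _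
  obtain ⟨u, hu⟩ := h5
  refine ⟨u, ?_⟩
  have := congrArg Units.val hu
  rw [hφ] at this
  exact this


theorem finrank_I2 : Module.finrank F (I2 → F) = 6 := by
  rw [Module.finrank_fintype_fun_eq_card]
  rfl

theorem finrank_W : Module.finrank F (Fin 3 → EE F a b) = 6 := by
  rw [Module.finrank_pi_fintype]
  simp [QuadraticAlgebra.finrank_eq_two]

/-- the isometry as an equivalence. -/
noncomputable def Te (c : EE F a b) (hc : QuadraticAlgebra.norm c = -1) (hD : 4 * b - a ^ 2 ≠ 0) :
    (I2 → F) ≃ₗ[F] (Fin 3 → EE F a b) :=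
  LinearMap.linearEquivOfInjective (T c) (T_injective c hc hD) (by rw [finrank_I2, finrank_W])

theorem Te_apply (c : EE F a b) (hc : QuadraticAlgebra.norm c = -1) (hD : 4 * b - a ^ 2 ≠ 0)
    (x : I2 → F) : Te c hc hD x = T c x := rfl


/-- the rational vectors `(z, z̄)`. -/
def VZ : (Fin 3 → EE F a b) →ₗ[F] (I6 → EE F a b) where
  toFun z := Sum.elim z (fun i => star (z i))
  map_add' x y := by
    funext i
    rcases i with i | i <;> simp
  map_smul' r x := by
    funext i
    rcases i with i | i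
    · simp
    · ext <;> simp <;> ring

theorem VZ_inl (z : Fin 3 → EE F a b) (i : Fin 3) : VZ z (Sum.inl i) = z i := rfl

theorem VZ_inr (z : Fin 3 → EE F a b) (i : Fin 3) : VZ z (Sum.inr i) = star (z i) := rfl

theorem swp_VZ (z : Fin 3 → EE F a b) : swp (VZ z) = ⇑(starRingEnd (EE F a b)) ∘ VZ z := by
  funext i
  rcases i with i | i
  · rfl
  · show z i = star (star (z i))
    rw [star_star]

theorem eq_VZ_of_swp {w : I6 → EE F a b} (h : swp w = ⇑(starRingEnd (EE F a b)) ∘ w) :
    w = VZ (fun i => w (Sum.inl i)) := by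
  funext i
  rcases i with i | i
  · rfl
  · have := congrFun h (Sum.inl i)
    exact this

theorem VZ_injective : Function.Injective (VZ (F := F) (a := a) (b := b)) := by
  intro z z' h
  funext i
  exact congrFun h (Sum.inl i)

theorem quadFormPlus_VZ (z : Fin 3 → EE F a b) :
    Cfsg.quadFormPlus 3 (EE F a b) (VZ z)
      = algebraMap F (EE F a b) (∑ i, QuadraticAlgebra.norm (z i)) := by
  unfold Cfsg.quadFormPlus
  rw [map_sum]
  apply Finset.sum_congr rfl
  intro i _
  rw [algebraMap_norm_eq_mul_star]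
  rfl

/-- the rational action. -/
def A (g : SpecialLinearGroup (Fin 4) (EE F a b)) : (Fin 3 → EE F a b) →ₗ[F] (Fin 3 → EE F a b) :=
  (LinearMap.funLeft F (EE F a b) Sum.inl) ∘ₗ ((L g).restrictScalars F) ∘ₗ VZ

theorem A_apply (g : SpecialLinearGroup (Fin 4) (EE F a b)) (z : Fin 3 → EE F a b) (i : Fin 3) :
    A g z i = L g (VZ z) (Sum.inl i) := rfl

theorem delta_ne_zero (hD : 4 * b - a ^ 2 ≠ 0) : (ω : EE F a b) - star ω ≠ 0 := by
  intro h
  have h1 := congrArg QuadraticAlgebra.re h
  have h2 := congrArg QuadraticAlgebra.im h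
  simp at h1 h2
  apply hD
  have h4 : (4 : F) = 0 := by linear_combination (2 : F) * h2
  rw [h1, h4]
  ring

/-- the rational vectors span. -/
theorem exists_VZ_decomp (hD : 4 * b - a ^ 2 ≠ 0) (v : I6 → EE F a b) :
    ∃ z z' : Fin 3 → EE F a b, v = VZ z + (ω : EE F a b) • VZ z' := by
  have hδ := delta_ne_zero (a := a) (b := b) hD
  obtain ⟨δ, hδdef⟩ : ∃ δ, δ = (ω : EE F a b) - star ω := ⟨_, rfl⟩
  rw [← hδdef] at hδ
  have hsδ : star δ = -δ := by rw [hδdef, star_sub, star_star]; ring
  refine ⟨fun i => v (Sum.inl i) - ω * ((v (Sum.inl i) - star (v (Sum.inr i))) / δ),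
    fun i => (v (Sum.inl i) - star (v (Sum.inr i))) / δ, ?_⟩
  funext i
  rcases i with i | i
  · simp only [Pi.add_apply, Pi.smul_apply, VZ_inl, smul_eq_mul]
    ring
  · simp only [Pi.add_apply, Pi.smul_apply, VZ_inr, smul_eq_mul, star_sub, star_mul, star_div₀,
      star_star, hsδ]
    have : star (ω : EE F a b) = ω - δ := by rw [hδdef]; ring
    rw [this]
    field_simp
    ring


variable {q : ℕ} (hq : ∀ z : EE F a b, star z = z ^ q)
include hq

theorem VZ_A {g : SpecialLinearGroup (Fin 4) (EE F a b)} (hg : g ∈ Cfsg.SU 4 (EE F a b) q)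
    (z : Fin 3 → EE F a b) : VZ (A g z) = L g (VZ z) :=
  (eq_VZ_of_swp (swp_L_of_mem_SU (starRingEnd (EE F a b)) hq g hg (VZ z) (swp_VZ z))).symm

theorem A_mul {g h : SpecialLinearGroup (Fin 4) (EE F a b)} (hh : h ∈ Cfsg.SU 4 (EE F a b) q)
    (z : Fin 3 → EE F a b) : A (g * h) z = A g (A h z) := by
  funext i
  rw [A_apply, A_apply, Cfsg.Agent.Helper8.SL4Klein.L_mul, VZ_A hq hh]

omit hq in
theorem A_one (z : Fin 3 → EE F a b) : A (1 : SpecialLinearGroup (Fin 4) (EE F a b)) z = z := by
  funext i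
  rw [A_apply, Cfsg.Agent.Helper8.SL4Klein.L_one]
  rfl

theorem sum_norm_A {g : SpecialLinearGroup (Fin 4) (EE F a b)} (hg : g ∈ Cfsg.SU 4 (EE F a b) q)
    (z : Fin 3 → EE F a b) :
    ∑ i, QuadraticAlgebra.norm (A g z i) = ∑ i, QuadraticAlgebra.norm (z i) := by
  apply (algebraMap F (EE F a b)).injective
  rw [← quadFormPlus_VZ, ← quadFormPlus_VZ, VZ_A hq hg, quadFormPlus_L]


end Cfsg.Agent.Helper7.U4Klein
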