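import Mathlib
import Cfsg.Agent.Helper7.U4KleinC

set_option autoImplicit false
set_option linter.unusedSectionVars false
set_option linter.style.haveILetI false
set_option linter.unnecessarySeqFocus false

/-!
The homomorphism from the unitary group `SU₄(E)` to the orthogonal group of the standard
six-dimensional form of minus type over `F`, and its kernel.
-/

namespace Cfsg.Agent.Helper7.U4Klein

open Matrix Cfsg Cfsg.Agent.Helper8.SL4Klein Cfsg.Agent.Helper8.StdForms QuadraticAlgebra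
open Cfsg.Agent.Helper7.NormOne Cfsg.Agent.Helper8.OrthOrder Cfsg.Agent.Helper8.ReflMatrix

variable {F : Type*} [Field F] {a b : F} [Hab : Fact (∀ r : F, r ^ 2 ≠ -b + a * r)]
variable (c : EE F a b) (hc : QuadraticAlgebra.norm c = -1) (hD : 4 * b - a ^ 2 ≠ 0)

/-- the action on the standard minus space. -/
noncomputable def Bm (g : SpecialLinearGroup (Fin 4) (EE F a b)) : (I2 → F) →ₗ[F] (I2 → F) :=
  (Te c hc hD).symm.toLinearMap ∘ₗ A g ∘ₗ (Te c hc hD).toLinearMap

theorem Bm_apply (g : SpecialLinearGroup (Fin 4) (EE F a b)) (x : I2 → F) :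
    Bm c hc hD g x = (Te c hc hD).symm (A g (Te c hc hD x)) := rfl

theorem Bm_one (x : I2 → F) : Bm c hc hD (1 : SpecialLinearGroup (Fin 4) (EE F a b)) x = x := by
  rw [Bm_apply, A_one, LinearEquiv.symm_apply_apply]

variable {q : ℕ} (hq : ∀ z : EE F a b, star z = z ^ q)
include hq

theorem Bm_mul {g h : SpecialLinearGroup (Fin 4) (EE F a b)} (hh : h ∈ Cfsg.SU 4 (EE F a b) q)
    (x : I2 → F) : Bm c hc hD (g * h) x = Bm c hc hD g (Bm c hc hD h x) := by
  rw [Bm_apply, Bm_apply, Bm_apply, LinearEquiv.apply_symm_apply, A_mul hq hh]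

theorem minusForm_Bm {g : SpecialLinearGroup (Fin 4) (EE F a b)} (hg : g ∈ Cfsg.SU 4 (EE F a b) q)
    (x : I2 → F) : minusForm F 2 a b (Bm c hc hD g x) = minusForm F 2 a b x := by
  rw [minusForm_apply, minusForm_apply, ← sum_norm_T c hc hD, ← sum_norm_T c hc hD x,
    ← Te_apply c hc hD, ← Te_apply c hc hD, Bm_apply, LinearEquiv.apply_symm_apply,
    sum_norm_A hq hg]

/-- the action as a linear equivalence. -/
noncomputable def Bequiv (g : Cfsg.SU 4 (EE F a b) q) : (I2 → F) ≃ₗ[F] (I2 → F) :=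
  LinearEquiv.ofLinear (Bm c hc hD g.1) (Bm c hc hD (g⁻¹).1)
    (LinearMap.ext fun x => by
      rw [LinearMap.comp_apply, ← Bm_mul c hc hD hq (g⁻¹).2]
      have : g.1 * (g⁻¹).1 = 1 := by
        rw [← Subgroup.coe_mul, mul_inv_cancel]; rfl
      rw [this, Bm_one]
      rfl)
    (LinearMap.ext fun x => by
      rw [LinearMap.comp_apply, ← Bm_mul c hc hD hq g.2]
      have : (g⁻¹).1 * g.1 = 1 := by
        rw [← Subgroup.coe_mul, inv_mul_cancel]; rfl
      rw [this, Bm_one]
      rfl)

theorem Bequiv_apply (g : Cfsg.SU 4 (EE F a b) q) (x : I2 → F) :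
    Bequiv c hc hD hq g x = Bm c hc hD g.1 x := rfl

/-- the homomorphism to the isometries of the standard minus form. -/
noncomputable def rhoIsomU : Cfsg.SU 4 (EE F a b) q →* ↥(Isom (minusForm F 2 a b)) where
  toFun g := ⟨Bequiv c hc hD hq g, fun x => by
    rw [Bequiv_apply, minusForm_Bm c hc hD hq g.2]⟩
  map_one' := by
    apply Subtype.ext
    apply LinearEquiv.ext
    intro x
    exact Bm_one c hc hD x
  map_mul' g h := by
    apply Subtype.ext
    apply LinearEquiv.ext
    intro x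
    exact Bm_mul c hc hD hq h.2 x

theorem rhoIsomU_apply (g : Cfsg.SU 4 (EE F a b) q) (x : I2 → F) :
    (rhoIsomU c hc hD hq g).1 x = Bm c hc hD g.1 x := rfl

/-- the homomorphism to the matrix isometry group. -/
noncomputable def rhoU :
    Cfsg.SU 4 (EE F a b) q →* ↥(Cfsg.isometryGroup F ⇑(minusForm F 2 a b)) :=
  (isomEquiv (minusForm F 2 a b)).symm.toMonoidHom.comp (rhoIsomU c hc hD hq)

theorem isomEquiv_rhoU (g : Cfsg.SU 4 (EE F a b) q) :
    isomEquiv (minusForm F 2 a b) (rhoU c hc hD hq g) = rhoIsomU c hc hD hq g := by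
  unfold rhoU
  rw [MonoidHom.comp_apply]
  exact MulEquiv.apply_symm_apply _ _

/-- the kernel consists of scalars of square one. -/
theorem rhoU_eq_one (g : Cfsg.SU 4 (EE F a b) q) (h : rhoU c hc hD hq g = 1) :
    ∃ r : EE F a b, r ^ 2 = 1 ∧ Matrix.scalar (Fin 4) r = g.1.1 := by
  have h1 := isomEquiv_rhoU c hc hD hq g
  rw [h, map_one] at h1
  have hB : ∀ x, Bm c hc hD g.1 x = x := by
    intro x
    rw [← rhoIsomU_apply c hc hD hq, ← h1]
    rfl
  have hA : ∀ z, A g.1 z = z := by
    intro z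
    obtain ⟨x, rfl⟩ := (Te c hc hD).surjective z
    have := hB x
    rw [Bm_apply] at this
    have h2 := congrArg (Te c hc hD) this
    rwa [LinearEquiv.apply_symm_apply] at h2
  have hL : ∀ v, L g.1 v = v := by
    intro v
    obtain ⟨z, z', rfl⟩ := exists_VZ_decomp hD v
    rw [map_add, map_smul, ← VZ_A hq g.2, ← VZ_A hq g.2, hA, hA]
  have hρ : Cfsg.Agent.Helper8.SL4Klein.rho g.1 = 1 := by
    rw [rho_eq_one_iff]
    intro N hN
    have := hL (fromMat N)
    have h3 := congrArg toMat this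
    rwa [toMat_L, toMat_fromMat hN] at h3
  exact (rho_eq_one_iff' g.1).mp hρ

end Cfsg.Agent.Helper7.U4Klein
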