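import Mathlib
import Cfsg.Agent.Helper7.UBlkE
import Cfsg.Agent.Helper7.POrdL

set_option autoImplicit false
set_option linter.unusedSectionVars false
set_option linter.unusedVariables false

/-!
# Unitary isometries of prime order: block elements
-/

namespace Cfsg.Agent.Helper7.UBlk

open Matrix Module Polynomial Cfsg Cfsg.Agent.Helper7.Herm Cfsg.Agent.Helper7.SUNd Cfsg.Agent.Helper8.HermTwo
  Cfsg.Agent.Helper8.AutSU Cfsg.Agent.Helper7.POrd Cfsg.Agent.Helper7.SpOrd Cfsg.Agent.Helper7.UCnt

variable {F : Type*} [Field F] [Fintype F] {q N : ℕ} [hF : Fact (Fintype.card F = q ^ 2)]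
variable {r : ℕ} [Fact r.Prime] {p : ℕ} [Fact p.Prime] [CharP F p]

omit [Fintype F] hF in
theorem toLin'_mg_pow (g : GU N F q) (n : ℕ) :
    (Matrix.toLin' (mg g) : Module.End F (Fin N → F)) ^ n = Matrix.toLin' (mg (g ^ n)) := by
  rw [← Matrix.toLin'_pow]
  rfl

omit [Fintype F] hF in
theorem toLin'_mg_iso (g : GU N F q) (u v : Fin N → F) :
    hermForm N F q (Matrix.toLin' (mg g) u) (Matrix.toLin' (mg g) v) = hermForm N F q u v := by
  rw [Matrix.toLin'_apply, Matrix.toLin'_apply, herm_mg]

/-- an element of order `r` of the unitary group of dimension the block size. -/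
theorem exists_block_gu (hrp : r ≠ p) :
    ∃ g : GU (cU F q r) F q, g ^ r = 1 ∧
      fixS (Matrix.toLin' (mg g) : Module.End F (Fin (cU F q r) → F)) = ⊥ := by
  have hrpr : r.Prime := Fact.out
  have hcpos := cU_pos (F := F) (q := q) hrp
  have hdvd : r ∣ Nat.card (GU (cU F q r) F q) := by
    rw [Cfsg.Agent.Helper8.GUOrder.card_GU hF.out]
    apply Dvd.dvd.mul_left
    have hmem : cU F q r - 1 ∈ Finset.range (cU F q r) := by
      rw [Finset.mem_range]; omega
    refine Dvd.dvd.trans ?_ (Finset.dvd_prod_of_mem _ hmem)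
    rw [dvd_fU_iff (F := F) hrp]
    have : cU F q r - 1 + 1 = cU F q r := by omega
    rw [this]
  obtain ⟨g, hg⟩ := exists_prime_orderOf_dvd_card' r hdvd
  have hgr : g ^ r = 1 := by
    have := pow_orderOf_eq_one g
    rwa [hg] at this
  refine ⟨g, hgr, ?_⟩
  set T : Module.End F (Fin (cU F q r) → F) := Matrix.toLin' (mg g) with hT
  have hTr : T ^ r = 1 := by
    rw [hT, toLin'_mg_pow, hgr]
    show Matrix.toLin' (1 : Matrix _ _ F) = 1
    rw [Matrix.toLin'_one]
    rfl
  have hiso : ∀ u v, hermForm _ F q (T u) (T v) = hermForm _ F q u v := toLin'_mg_iso g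
  have hrF : (r : F) ≠ 0 := natCast_ne_zero_of_ne hrp
  have hmovnd : NDeg q (movS r T) := by
    have := und_inf_mov hiso hrF hTr (Module.End.invtSubmodule.top_mem T) (ndeg_top (q := q))
    rwa [top_inf_eq] at this
  have h3 : movS r T ⊓ fixS T = ⊥ := by
    rw [inf_comm]
    exact (disjoint_fix_mov hrF T).eq_bot
  obtain ⟨t, ht⟩ := cU_dvd_finrank hrp hiso hTr _ _ rfl (movS_invt r T) hmovnd h3
  have hsum := finrank_fix_add_mov hrF hTr
  rw [finrank_fin_fun] at hsum
  have ht0 : t ≠ 0 := by
    rintro rfl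
    rw [mul_zero] at ht
    have hfix : fixS T = ⊤ := by
      apply Submodule.eq_top_of_finrank_eq
      rw [finrank_fin_fun]
      omega
    have hT1 : T = 1 := by
      apply LinearMap.ext
      intro v
      have : v ∈ fixS T := by rw [hfix]; trivial
      exact mem_fixS.mp this
    have hg1 : g = 1 := by
      apply Subtype.ext
      apply Units.ext
      apply Matrix.toLin'.injective
      show T = Matrix.toLin' (1 : Matrix _ _ F)
      rw [hT1, Matrix.toLin'_one]
      rfl
    rw [hg1, orderOf_one] at hg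
    exact hrpr.one_lt.ne hg
  have ht1 : 1 ≤ t := Nat.one_le_iff_ne_zero.mpr ht0
  have hle : cU F q r * 1 ≤ cU F q r * t := Nat.mul_le_mul_left _ ht1
  have hfix0 : finrank F ↥(fixS T) = 0 := by omega
  exact Submodule.finrank_eq_zero.mp hfix0

omit [Fintype F] hF in
theorem bdM_mul {k m : ℕ} (A A' : Matrix (Fin k) (Fin k) F) (B B' : Matrix (Fin m) (Fin m) F) :
    bdM A B * bdM A' B' = bdM (A * A') (B * B') := by
  apply Matrix.toLin'.injective
  apply LinearMap.ext
  intro v
  rw [Matrix.toLin'_apply, Matrix.toLin'_apply, ← apv_p v, ← Matrix.mulVec_mulVec, bdM_mulVec, bdM_mulVec,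
    bdM_mulVec, Matrix.mulVec_mulVec, Matrix.mulVec_mulVec]

omit [Fintype F] hF in
theorem bdM_one {k m : ℕ} : bdM (1 : Matrix (Fin k) (Fin k) F) (1 : Matrix (Fin m) (Fin m) F) = 1 := by
  apply Matrix.toLin'.injective
  apply LinearMap.ext
  intro v
  rw [Matrix.toLin'_apply, Matrix.toLin'_apply, ← apv_p v, bdM_mulVec, Matrix.one_mulVec, Matrix.one_mulVec,
    Matrix.one_mulVec]

theorem bdG_mul {k m : ℕ} (A A' : GU k F q) (B B' : GU m F q) :
    bdG A B * bdG A' B' = bdG (A * A') (B * B') := by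
  apply Subtype.ext
  apply Units.ext
  show bdM (mg A) (mg B) * bdM (mg A') (mg B') = bdM (mg (A * A')) (mg (B * B'))
  rw [bdM_mul]
  rfl

theorem bdG_one {k m : ℕ} : bdG (1 : GU k F q) (1 : GU m F q) = 1 := by
  apply Subtype.ext
  apply Units.ext
  show bdM (mg (1 : GU k F q)) (mg (1 : GU m F q)) = 1
  exact bdM_one

theorem bdG_pow {k m : ℕ} (A : GU k F q) (B : GU m F q) (n : ℕ) :
    bdG A B ^ n = bdG (A ^ n) (B ^ n) := by
  induction n with
  | zero => rw [pow_zero, pow_zero, pow_zero, bdG_one]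
  | succ n ih => rw [pow_succ, pow_succ, pow_succ, ih, bdG_mul]

omit [Fintype F] hF in
/-- the fixed space of a block diagonal matrix whose first block has no fixed vectors. -/
theorem finrank_fixS_bdM {k m : ℕ} (A : Matrix (Fin k) (Fin k) F) (B : Matrix (Fin m) (Fin m) F)
    (hA : fixS (Matrix.toLin' A : Module.End F (Fin k → F)) = ⊥) :
    finrank F ↥(fixS (Matrix.toLin' (bdM A B) : Module.End F (Fin (k + m) → F))) =
      finrank F ↥(fixS (Matrix.toLin' B : Module.End F (Fin m → F))) := by
  have hinj : Function.Injective (apvR k m F) := by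
    intro y y' h
    rw [apvR_apply, apvR_apply] at h
    exact (apv_inj h).2
  have hmap : fixS (Matrix.toLin' (bdM A B) : Module.End F (Fin (k + m) → F)) =
      (fixS (Matrix.toLin' B : Module.End F (Fin m → F))).map (apvR k m F) := by
    ext v
    rw [mem_fixS, Submodule.mem_map, Matrix.toLin'_apply]
    constructor
    · intro h
      rw [← apv_p v, bdM_mulVec] at h
      obtain ⟨h1, h2⟩ := apv_inj h
      have hx : p1 v ∈ fixS (Matrix.toLin' A : Module.End F (Fin k → F)) := by
        rw [mem_fixS, Matrix.toLin'_apply]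
        exact h1
      rw [hA, Submodule.mem_bot] at hx
      refine ⟨p2 v, ?_, ?_⟩
      · rw [mem_fixS, Matrix.toLin'_apply]
        exact h2
      · rw [apvR_apply, ← hx, apv_p]
    · rintro ⟨y, hy, rfl⟩
      rw [mem_fixS, Matrix.toLin'_apply] at hy
      rw [apvR_apply, bdM_mulVec, hy, Matrix.mulVec_zero]
  rw [hmap]
  exact LinearEquiv.finrank_eq (Submodule.equivMapOfInjective _ hinj _).symm

/-- **block elements**: elements of order dividing `r` with a prescribed number of blocks. -/
theorem exists_blocks_gu (hrp : r ≠ p) : ∀ (t a N : ℕ), N = cU F q r * t + a →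
    ∃ y : GU N F q, y ^ r = 1 ∧
      finrank F ↥(fixS (Matrix.toLin' (mg y) : Module.End F (Fin N → F))) = a := by
  intro t
  induction t with
  | zero =>
    intro a N hN
    rw [mul_zero, zero_add] at hN
    subst hN
    refine ⟨1, one_pow _, ?_⟩
    have : fixS (Matrix.toLin' (mg (1 : GU N F q)) : Module.End F (Fin N → F)) = ⊤ := by
      rw [eq_top_iff]
      intro v _
      rw [mem_fixS, Matrix.toLin'_apply, mg_one_mulVec]
    rw [this, finrank_top, finrank_fin_fun]
  | succ t ih =>
    intro a N hN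
    obtain ⟨g₀, hg₀, hfix₀⟩ := exists_block_gu (F := F) (q := q) hrp
    obtain ⟨y', hy', hfix'⟩ := ih a (cU F q r * t + a) rfl
    have hN' : N = cU F q r + (cU F q r * t + a) := by rw [hN]; ring
    subst hN'
    refine ⟨bdG g₀ y', ?_, ?_⟩
    · rw [bdG_pow, hg₀, hy', bdG_one]
    · rw [mg_bdG, finrank_fixS_bdM _ _ hfix₀, hfix']

end Cfsg.Agent.Helper7.UBlk
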