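import Mathlib
import Cfsg.Agent.Helper7.UBlkF

set_option autoImplicit false
set_option linter.unusedSectionVars false
set_option linter.unusedVariables false

/-!
# Unitary isometries of prime order: the criterion when `r` does not divide `q + 1`
-/

namespace Cfsg.Agent.Helper7.UBlk

open Matrix Module Polynomial Cfsg Cfsg.Agent.Helper7.Herm Cfsg.Agent.Helper7.SUNd Cfsg.Agent.Helper8.HermTwo
  Cfsg.Agent.Helper8.AutSU Cfsg.Agent.Helper7.POrd Cfsg.Agent.Helper7.SpOrd Cfsg.Agent.Helper7.UCnt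

variable {F : Type*} [Field F] [Fintype F] {q N : ℕ} [hF : Fact (Fintype.card F = q ^ 2)]
variable {r : ℕ} [Fact r.Prime] {p : ℕ} [Fact p.Prime] [CharP F p]
variable {T : Module.End F (Fin N → F)}

/-- an isometry of order `r` fixes a nondegenerate `m`-space when `m mod c ≤ N mod c`. -/
theorem exists_nd_invt_of_mod (hrp : r ≠ p) (hT : ∀ u v, hermForm N F q (T u) (T v) = hermForm N F q u v)
    (hTr : T ^ r = 1) {m : ℕ} (hmN : m ≤ N) (hmod : m % cU F q r ≤ N % cU F q r) :
    ∃ W : Submodule F (Fin N → F), W ∈ Module.End.invtSubmodule T ∧ NDeg q W ∧ finrank F ↥W = m := by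
  have hrF : (r : F) ≠ 0 := natCast_ne_zero_of_ne hrp
  have hcpos := cU_pos (F := F) (q := q) hrp
  have hmovnd : NDeg q (movS r T) := by
    have := und_inf_mov hT hrF hTr (Module.End.invtSubmodule.top_mem T) (ndeg_top (q := q))
    rwa [top_inf_eq] at this
  have h3 : movS r T ⊓ fixS T = ⊥ := by
    rw [inf_comm]
    exact (disjoint_fix_mov hrF T).eq_bot
  obtain ⟨t₀, ht₀⟩ := cU_dvd_finrank hrp hT hTr _ _ rfl (movS_invt r T) hmovnd h3
  have hsum := finrank_fix_add_mov hrF hTr (T := T)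
  rw [finrank_fin_fun] at hsum
  have hm := Nat.div_add_mod m (cU F q r)
  have hN := Nat.div_add_mod N (cU F q r)
  by_cases hle : t₀ ≤ m / cU F q r
  · have h1 : cU F q r * t₀ ≤ cU F q r * (m / cU F q r) := Nat.mul_le_mul_left _ hle
    obtain ⟨W, hW, hWnd, hWd⟩ := exists_invt_of_ushape hrp hT hTr (j := t₀) (a := m - cU F q r * t₀)
      (by rw [ht₀]) (by omega)
    exact ⟨W, hW, hWnd, by rw [hWd]; omega⟩
  · push Not at hle
    have h1 : cU F q r * (m / cU F q r) ≤ cU F q r * t₀ := Nat.mul_le_mul_left _ hle.le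
    have h2 : N % cU F q r ≤ N - cU F q r * t₀ := by
      have h4 : N = cU F q r * t₀ + (N - cU F q r * t₀) := by omega
      have h5 : N % cU F q r = (N - cU F q r * t₀) % cU F q r := by
        conv_lhs => rw [h4, Nat.mul_add_mod]
      rw [h5]
      exact Nat.mod_le _ _
    obtain ⟨W, hW, hWnd, hWd⟩ := exists_invt_of_ushape hrp hT hTr (j := m / cU F q r)
      (a := m % cU F q r) (by rw [ht₀]; exact h1) (by omega)
    exact ⟨W, hW, hWnd, by rw [hWd]; omega⟩

/-- a nondegenerate invariant subspace of an isometry with the smallest fixed space. -/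
theorem mod_le_of_nd_invt (hrp : r ≠ p) (hT : ∀ u v, hermForm N F q (T u) (T v) = hermForm N F q u v)
    (hTr : T ^ r = 1) (hfix : finrank F ↥(fixS T) = N % cU F q r) {W : Submodule F (Fin N → F)}
    (hW : W ∈ Module.End.invtSubmodule T) (hWnd : NDeg q W) :
    finrank F ↥W % cU F q r ≤ N % cU F q r := by
  obtain ⟨j, a, h1, h2, h3⟩ := ushape_of_invt hrp hT hTr hW hWnd
  rw [h1, Nat.mul_add_mod, ← hfix]
  exact (Nat.mod_le _ _).trans h3

end Cfsg.Agent.Helper7.UBlk
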