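import Mathlib
import Cfsg.Agent.Helper7.UBlkG

set_option autoImplicit false
set_option linter.unusedSectionVars false
set_option linter.unusedVariables false

/-!
# Unitary isometries of prime order: the group-level criterion when `r` does not divide `q + 1`
-/

namespace Cfsg.Agent.Helper7.UBlk

open Matrix Module Polynomial Cfsg Cfsg.Agent.Helper7.Herm Cfsg.Agent.Helper7.SUNd Cfsg.Agent.Helper8.HermTwo
  Cfsg.Agent.Helper8.AutSU Cfsg.Agent.Helper7.POrd Cfsg.Agent.Helper7.SpOrd Cfsg.Agent.Helper7.UCnt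
  Cfsg.Agent.Helper8.SURoot

variable {F : Type*} [Field F] [Fintype F] {q N : ℕ} [hF : Fact (Fintype.card F = q ^ 2)]
variable {r : ℕ} [Fact r.Prime] {p : ℕ} [Fact p.Prime] [CharP F p]

omit hF in
theorem herm_smul_smul (z : F) (u v : Fin N → F) :
    hermForm N F q (z • u) (z • v) = z ^ (q + 1) * hermForm N F q u v := by
  rw [hermForm_smul_left, hermForm_smul_right]
  ring

/-- a scalar isometry has norm one. -/
theorem norm_of_scalar_iso (hN : 0 < N) {z : F}
    (h : ∀ u v : Fin N → F, hermForm N F q (z • u) (z • v) = hermForm N F q u v) : z ^ (q + 1) = 1 := by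
  have := h (Pi.single ⟨0, hN⟩ 1) (Pi.single ⟨0, hN⟩ 1)
  rw [herm_smul_smul, h_single_single, mul_one] at this
  exact this

omit [Fintype F] hF in
/-- roots of norm-one elements, when `r` is prime to `q + 1`. -/
theorem exists_root_norm_one (hq1 : ¬ r ∣ q + 1) (hq : 1 ≤ q) {z : F} (hz : z ^ (q + 1) = 1) :
    ∃ l : F, l ^ r = z ∧ l ^ (q + 1) = 1 := by
  have hrpr : r.Prime := Fact.out
  have hcop : Nat.Coprime r (q + 1) := (Nat.Prime.coprime_iff_not_dvd hrpr).mpr hq1
  obtain ⟨s, -, hs⟩ := Nat.exists_mul_mod_eq_one_of_coprime hcop (by omega)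
  refine ⟨z ^ s, ?_, ?_⟩
  · have h1 := Nat.div_add_mod (r * s) (q + 1)
    rw [hs] at h1
    rw [← pow_mul, mul_comm, ← h1, pow_add, pow_mul, hz, one_pow, one_mul, pow_one]
  · rw [← pow_mul, mul_comm, pow_mul, hz, one_pow]

omit [Fintype F] hF in
theorem eq_one_of_pow_of_norm (hq1 : ¬ r ∣ q + 1) {z : F} (hzr : z ^ r = 1) (hz : z ^ (q + 1) = 1) :
    z = 1 := by
  have hrpr : r.Prime := Fact.out
  have hcop : Nat.Coprime r (q + 1) := (Nat.Prime.coprime_iff_not_dvd hrpr).mpr hq1
  exact (pow_eq_one_iff_of_coprime hcop).mp ⟨hzr, hz⟩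

/-- **the criterion when `r` does not divide `q + 1`.** -/
theorem main_ne_two (hrp : r ≠ p) (hq1 : ¬ r ∣ q + 1) {n m : ℕ} (hmn : m ≤ n) :
    (∀ x : Matrix.SpecialLinearGroup (Fin n) F, x ∈ Cfsg.SU n F q →
      (∃ z : F, ((x ^ r : Matrix.SpecialLinearGroup (Fin n) F) : Matrix (Fin n) (Fin n) F) =
        z • (1 : Matrix (Fin n) (Fin n) F)) →
      (∀ z : F, (x : Matrix (Fin n) (Fin n) F) ≠ z • (1 : Matrix (Fin n) (Fin n) F)) →
      ∃ W : Submodule F (Fin n → F), Module.finrank F ↥W = m ∧ NDeg q W ∧
        W.map (Matrix.toLin' (x : Matrix (Fin n) (Fin n) F)) ≤ W) ↔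
    m % cU F q r ≤ n % cU F q r := by
  have hrpr : r.Prime := Fact.out
  have hcpos := cU_pos (F := F) (q := q) hrp
  have hq2 := Cfsg.Agent.Helper8.GUOrder.two_le_q hF.out
  constructor
  · intro H
    by_cases hc : n < cU F q r
    · rw [Nat.mod_eq_of_lt hc, Nat.mod_eq_of_lt (lt_of_le_of_lt hmn hc)]
      exact hmn
    · push Not at hc
      obtain ⟨y, hyr, hyfix⟩ := exists_blocks_gu (F := F) (q := q) hrp (n / cU F q r) (n % cU F q r) n
        (Nat.div_add_mod n (cU F q r)).symm
      have hn0 : 0 < n := lt_of_lt_of_le hcpos hc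
      have hpowm : (mg y) ^ r = 1 := by
        have : mg (y ^ r) = (mg y) ^ r := by
          show (((y : GL (Fin n) F) ^ r : GL (Fin n) F) : Matrix (Fin n) (Fin n) F) = _
          rw [Units.val_pow_eq_pow_val]
        rw [← this, hyr]
        rfl
      have hdet : (mg y).det = 1 := by
        apply eq_one_of_pow_of_norm (r := r) hq1
        · rw [← Matrix.det_pow, hpowm, Matrix.det_one]
        · have h1 := Cfsg.Agent.Helper8.GUOrder.detGU_range_le (n := n) (K := F) (q := q) hF.out
            ⟨y, rfl⟩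
          rw [MonoidHom.mem_ker, powMonoidHom_apply] at h1
          have h2 := congrArg Units.val h1
          rw [Units.val_pow_eq_pow_val, Units.val_one] at h2
          exact h2
      obtain ⟨W, hWd, hWnd, hWinv⟩ := H (mkS (mg y) hdet (herm_mg y)).1 (mkS (mg y) hdet (herm_mg y)).2
        ⟨1, by
          rw [Matrix.SpecialLinearGroup.coe_pow, one_smul]
          exact hpowm⟩
        (by
          intro z hz
          have hz' : mg y = z • (1 : Matrix (Fin n) (Fin n) F) := hz
          have hz1 : z ^ (q + 1) = 1 := by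
            apply norm_of_scalar_iso (q := q) hn0
            intro u v
            have := herm_mg y u v
            rw [hz', Matrix.smul_mulVec, Matrix.smul_mulVec, Matrix.one_mulVec, Matrix.one_mulVec] at this
            exact this
          have hz2 : z ^ r = 1 := by
            have h3 := hpowm
            rw [hz', _root_.smul_pow, one_pow] at h3
            have h4 := congrFun (congrFun h3 ⟨0, hn0⟩) ⟨0, hn0⟩
            rw [Matrix.smul_apply, Matrix.one_apply_eq, smul_eq_mul, mul_one] at h4
            exact h4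
          have hz3 := eq_one_of_pow_of_norm (r := r) hq1 hz2 hz1
          rw [hz3, one_smul] at hz'
          have hfix : fixS (Matrix.toLin' (mg y) : Module.End F (Fin n → F)) = ⊤ := by
            rw [eq_top_iff]
            intro v _
            rw [mem_fixS, Matrix.toLin'_apply, hz', Matrix.one_mulVec]
          rw [hfix, finrank_top, finrank_fin_fun] at hyfix
          have := Nat.mod_lt n hcpos
          omega)
      have hTr : (Matrix.toLin' (mg y) : Module.End F (Fin n → F)) ^ r = 1 := by
        rw [toLin'_pow_apply, hpowm, Matrix.toLin'_one]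
        rfl
      have := mod_le_of_nd_invt hrp (toLin'_mg_iso y) hTr hyfix
        ((map_le_iff_mem_invt _ _).mp hWinv) hWnd
      rw [hWd] at this
      exact this
  · intro hmod x hx ⟨z, hz⟩ hns
    rcases Nat.eq_zero_or_pos n with hn0 | hn0
    · exfalso
      subst hn0
      exact hns 0 (by ext i; exact i.elim0)
    have hxiso : ∀ u v, hermForm n F q ((x : Matrix (Fin n) (Fin n) F) *ᵥ u)
        ((x : Matrix (Fin n) (Fin n) F) *ᵥ v) = hermForm n F q u v := hx
    have hxr : (x : Matrix (Fin n) (Fin n) F) ^ r = z • 1 := by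
      rw [← Matrix.SpecialLinearGroup.coe_pow]
      exact hz
    have hz1 : z ^ (q + 1) = 1 := by
      apply norm_of_scalar_iso (q := q) hn0
      intro u v
      have h1 : ∀ w : Fin n → F, z • w = ((x ^ r : Matrix.SpecialLinearGroup (Fin n) F) :
          Matrix (Fin n) (Fin n) F) *ᵥ w := by
        intro w
        rw [hz, Matrix.smul_mulVec, Matrix.one_mulVec]
      rw [h1, h1]
      exact (Subgroup.pow_mem _ hx r) u v
    obtain ⟨l, hlr, hl1⟩ := exists_root_norm_one (r := r) hq1 (by omega) hz1
    have hl0 : l ≠ 0 := by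
      rintro rfl
      rw [zero_pow (by omega)] at hl1
      exact zero_ne_one hl1
    set T : Module.End F (Fin n → F) := Matrix.toLin' (l⁻¹ • (x : Matrix (Fin n) (Fin n) F)) with hT
    have hTapp : ∀ v, T v = l⁻¹ • ((x : Matrix (Fin n) (Fin n) F) *ᵥ v) := by
      intro v
      rw [hT, Matrix.toLin'_apply, Matrix.smul_mulVec]
    have hTiso : ∀ u v, hermForm n F q (T u) (T v) = hermForm n F q u v := by
      intro u v
      rw [hTapp, hTapp, herm_smul_smul, hxiso, inv_pow, hl1, inv_one, one_mul]
    have hTr : T ^ r = 1 := by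
      rw [hT, toLin'_pow_apply, _root_.smul_pow, hxr, inv_pow, hlr, smul_smul, inv_mul_cancel₀, one_smul,
        Matrix.toLin'_one]
      · rfl
      · rintro rfl
        rw [zero_pow (by omega)] at hz1
        exact zero_ne_one hz1
    obtain ⟨W, hW, hWnd, hWd⟩ := exists_nd_invt_of_mod hrp hTiso hTr hmn hmod
    refine ⟨W, hWd, hWnd, ?_⟩
    rw [Submodule.map_le_iff_le_comap]
    intro w hw
    rw [Submodule.mem_comap, Matrix.toLin'_apply]
    have h1 : (x : Matrix (Fin n) (Fin n) F) *ᵥ w = l • T w := by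
      rw [hTapp, smul_smul, mul_inv_cancel₀ hl0, one_smul]
    rw [h1]
    exact W.smul_mem _ (invt_apply hW hw)

end Cfsg.Agent.Helper7.UBlk
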