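import Mathlib
import Cfsg.Agent.Helper7.UBlkH
import Cfsg.Agent.Helper7.POrdF

set_option autoImplicit false
set_option linter.unusedSectionVars false
set_option linter.unusedVariables false

/-!
# Unitary isometries whose `r`-th power is a scalar which is not an `r`-th power
-/

namespace Cfsg.Agent.Helper7.UBlk

open Matrix Module Polynomial Cfsg Cfsg.Agent.Helper7.Herm Cfsg.Agent.Helper7.SUNd Cfsg.Agent.Helper8.HermTwo
  Cfsg.Agent.Helper8.AutSU Cfsg.Agent.Helper7.POrd Cfsg.Agent.Helper7.SpOrd Cfsg.Agent.Helper7.UCnt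
  Cfsg.Agent.Helper8.SURoot

variable {F : Type*} [Field F] [Fintype F] {q N : ℕ} [hF : Fact (Fintype.card F = q ^ 2)]
variable {r : ℕ} [Fact r.Prime]
variable {T : Module.End F (Fin N → F)}

/-- the adjoint of an isometry whose `r`-th power is the scalar `z`. -/
theorem uadj_gen (hT : ∀ u v, hermForm N F q (T u) (T v) = hermForm N F q u v) {z : F} (hz : z ≠ 0)
    (hTr : T ^ r = algebraMap F _ z) (u v : Fin N → F) :
    hermForm N F q (T u) v = hermForm N F q u (z⁻¹ • (T ^ (r - 1)) v) := by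
  have hr : 0 < r := (Fact.out : r.Prime).pos
  have h1 : T (z⁻¹ • (T ^ (r - 1)) v) = v := by
    rw [map_smul, ← Module.End.mul_apply, ← pow_succ', Nat.sub_add_cancel hr, hTr,
      Module.algebraMap_end_apply, smul_smul, inv_mul_cancel₀ hz, one_smul]
  conv_lhs => rw [← h1]
  rw [hT]

theorem uperp_invt_gen (hT : ∀ u v, hermForm N F q (T u) (T v) = hermForm N F q u v) {z : F} (hz : z ≠ 0)
    (hTr : T ^ r = algebraMap F _ z) {E W : Submodule F (Fin N → F)} (hE : E ∈ Module.End.invtSubmodule T)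
    (hW : W ∈ Module.End.invtSubmodule T) : perpIn q E W ∈ Module.End.invtSubmodule T := by
  rw [Module.End.mem_invtSubmodule]
  intro v hv
  rw [Submodule.mem_comap]
  refine ⟨invt_apply hE hv.1, fun w hw => ?_⟩
  rw [uadj_gen hT hz hTr]
  exact hv.2 _ (W.smul_mem _ (invt_pow_apply hW hw _))

/-- **a nondegenerate invariant block of dimension `r`.** -/
theorem exists_nd_block_np (hT : ∀ u v, hermForm N F q (T u) (T v) = hermForm N F q u v) {z : F}
    (hc : ∀ b : F, b ^ r ≠ z) (hTr : T ^ r = algebraMap F _ z) {W : Submodule F (Fin N → F)}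
    (hW : W ∈ Module.End.invtSubmodule T) (hND : NDeg q W) (hne : W ≠ ⊥) :
    ∃ M : Submodule F (Fin N → F), M ≤ W ∧ M ∈ Module.End.invtSubmodule T ∧ NDeg q M ∧
      finrank F ↥M = r := by
  have hr : r.Prime := Fact.out
  have hz : z ≠ 0 := by
    rintro rfl
    exact hc 0 (zero_pow hr.pos.ne')
  have hirr : Irreducible (X ^ r - C z : F[X]) := X_pow_sub_C_irreducible_of_prime hr hc
  have hdeg : (X ^ r - C z : F[X]).natDegree = r := natDegree_X_pow_sub_C
  have hgT : aeval T (X ^ r - C z : F[X]) = 0 := by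
    rw [map_sub, map_pow, aeval_X, aeval_C, hTr, sub_self]
  obtain ⟨v, hvW, hv⟩ := exists_aniso hND hne
  have hv0 : v ≠ 0 := by
    rintro rfl
    exact hv (h_zero_right _)
  have hMinv : cyc T v r ∈ Module.End.invtSubmodule T := by
    have := cyc_invt T v (X ^ r - C z : F[X]) hirr.ne_zero (by rw [hgT]; rfl)
    rwa [hdeg] at this
  have hMd : finrank F ↥(cyc T v r) = r := by
    have := finrank_cyc_eq hirr hgT hv0
    rwa [hdeg] at this
  have hvM : v ∈ cyc T v r := by
    have := pow_mem_cyc T v (d := r) (t := 0) hr.pos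
    rwa [pow_zero] at this
  refine ⟨cyc T v r, cyc_le hW hvW r, hMinv, ?_, hMd⟩
  rw [ndeg_iff_inf_perp]
  have hradinv : perpIn q (cyc T v r) (cyc T v r) ∈ Module.End.invtSubmodule T :=
    uperp_invt_gen hT hz hTr hMinv hMinv
  obtain ⟨k, hk⟩ := natDegree_dvd_finrank hirr hgT hradinv
  rw [hdeg] at hk
  have hle : finrank F ↥(perpIn q (cyc T v r) (cyc T v r)) ≤ finrank F ↥(cyc T v r) :=
    Submodule.finrank_mono (fun x hx => hx.1)
  rw [hMd, hk] at hle
  have hk01 : k = 0 ∨ k = 1 := by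
    have : r * k ≤ r * 1 := by rw [mul_one]; exact hle
    have := Nat.le_of_mul_le_mul_left this hr.pos
    omega
  rcases hk01 with rfl | rfl
  · rw [mul_zero] at hk
    exact Submodule.finrank_eq_zero.mp hk
  · exfalso
    rw [mul_one] at hk
    have heq : perpIn q (cyc T v r) (cyc T v r) = cyc T v r :=
      Submodule.eq_of_le_of_finrank_eq (fun x hx => hx.1) (by rw [hk, hMd])
    have : v ∈ perpIn q (cyc T v r) (cyc T v r) := by rw [heq]; exact hvM
    exact hv (this.2 v hvM)

/-- **nondegenerate invariant subspaces of every dimension `r t`.** -/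
theorem exists_nd_mul_np (hT : ∀ u v, hermForm N F q (T u) (T v) = hermForm N F q u v) {z : F}
    (hc : ∀ b : F, b ^ r ≠ z) (hTr : T ^ r = algebraMap F _ z) :
    ∀ (s : ℕ) (W : Submodule F (Fin N → F)), W ∈ Module.End.invtSubmodule T → NDeg q W →
      r * s ≤ finrank F ↥W →
      ∃ U : Submodule F (Fin N → F), U ≤ W ∧ U ∈ Module.End.invtSubmodule T ∧ NDeg q U ∧
        finrank F ↥U = r * s := by
  have hr : r.Prime := Fact.out
  have hz : z ≠ 0 := by
    rintro rfl
    exact hc 0 (zero_pow hr.pos.ne')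
  intro s
  induction s with
  | zero =>
    intro W hW hND _
    exact ⟨⊥, bot_le, Module.End.invtSubmodule.bot_mem T, ndeg_bot, by simp⟩
  | succ s ih =>
    intro W hW hND hle
    have hne : W ≠ ⊥ := by
      intro h
      rw [h, finrank_bot] at hle
      have : 0 < r * (s + 1) := Nat.mul_pos hr.pos (by omega)
      omega
    obtain ⟨U, hUW, hU, hUnd, hUd⟩ := exists_nd_block_np hT hc hTr hW hND hne
    have h1 := uperp_invt_gen hT hz hTr hW hU
    have h2 := ndeg_perpIn hND hUnd hUW
    have h3 := finrank_perpIn hUnd hUW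
    have hle' : r * s ≤ finrank F ↥(perpIn q W U) := by
      rw [mul_add, mul_one] at hle
      omega
    obtain ⟨U', hU'le, hU', hU'nd, hU'd⟩ := ih _ h1 h2 hle'
    have hU'perp : ∀ u ∈ U, ∀ v ∈ U', hermForm N F q u v = 0 :=
      fun u hu v hv => h_eq_zero_of_swap ((hU'le hv).2 u hu)
    refine ⟨U ⊔ U', sup_le hUW (hU'le.trans (fun x hx => hx.1)), sup_invt hU hU', ndeg_sup hUnd hU'nd hU'perp, ?_⟩
    rw [finrank_sup_perp hUnd hU'perp, hUd, hU'd]
    ring

end Cfsg.Agent.Helper7.UBlk
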