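import Mathlib
import Cfsg.Agent.Helper7.UBlkI

set_option autoImplicit false
set_option linter.unusedSectionVars false
set_option linter.unusedVariables false

/-!
# Monomial unitary matrices whose `r`-th power is a prescribed scalar of norm one
-/

namespace Cfsg.Agent.Helper7.UBlk

open Matrix Module Polynomial Cfsg Cfsg.Agent.Helper7.Herm Cfsg.Agent.Helper7.SUNd Cfsg.Agent.Helper8.HermTwo
  Cfsg.Agent.Helper8.AutSU Cfsg.Agent.Helper7.POrd Cfsg.Agent.Helper7.SpOrd Cfsg.Agent.Helper7.UCnt
  Cfsg.Agent.Helper8.SURoot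

variable {F : Type*} [Field F] [Fintype F] {q N : ℕ} [hF : Fact (Fintype.card F = q ^ 2)]

/-- the weight: `z` at `0`, `1` elsewhere. -/
def dW (s : ℕ) (z : F) : Fin (s + 1) → F := fun i => if i = 0 then z else 1

/-- the monomial matrix of the cyclic shift with weight `z` at `0`. -/
def cmpM (s : ℕ) (z : F) : Matrix (Fin (s + 1)) (Fin (s + 1)) F :=
  Matrix.of fun i j => if i = j + 1 then dW s z i else 0

omit [Fintype F] hF in
theorem cmpM_mulVec (s : ℕ) (z : F) (v : Fin (s + 1) → F) (i : Fin (s + 1)) :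
    (cmpM s z *ᵥ v) i = dW s z i * v (i - 1) := by
  rw [Matrix.mulVec, dotProduct, Finset.sum_eq_single (i - 1)]
  · simp [cmpM]
  · intro j _ hj
    have : i ≠ j + 1 := by
      intro h
      apply hj
      rw [h, add_sub_cancel_right]
    simp [cmpM, this]
  · intro h
    exact absurd (Finset.mem_univ _) h

omit [Fintype F] hF in
theorem cmpM_single (s : ℕ) (z : F) (j : Fin (s + 1)) :
    cmpM s z *ᵥ Pi.single j 1 = dW s z (j + 1) • Pi.single (j + 1) (1 : F) := by
  ext i
  rw [cmpM_mulVec, Pi.smul_apply, smul_eq_mul]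
  by_cases h : i = j + 1
  · subst h
    rw [add_sub_cancel_right, Pi.single_eq_same, Pi.single_eq_same]
  · have h' : i - 1 ≠ j := by
      intro h2
      apply h
      rw [← h2, sub_add_cancel]
    rw [Pi.single_eq_of_ne h', Pi.single_eq_of_ne h, mul_zero, mul_zero]

omit [Fintype F] hF in
theorem dW_norm (s : ℕ) {z : F} (hz : z ^ (q + 1) = 1) (i : Fin (s + 1)) : dW s z i ^ (q + 1) = 1 := by
  unfold dW
  split_ifs
  · exact hz
  · exact one_pow _

omit [Fintype F] hF in
/-- the monomial matrix preserves the hermitian form. -/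
theorem cmpM_iso (s : ℕ) {z : F} (hz : z ^ (q + 1) = 1) (u v : Fin (s + 1) → F) :
    hermForm (s + 1) F q (cmpM s z *ᵥ u) (cmpM s z *ᵥ v) = hermForm (s + 1) F q u v := by
  unfold hermForm
  rw [← Equiv.sum_comp (Equiv.subRight (1 : Fin (s + 1))) (fun j => u j * v j ^ q)]
  refine Finset.sum_congr rfl fun i _ => ?_
  rw [cmpM_mulVec, cmpM_mulVec, Equiv.subRight_apply, mul_pow]
  have h := dW_norm (q := q) s hz i
  rw [pow_succ'] at h
  calc dW s z i * u (i - 1) * (dW s z i ^ q * v (i - 1) ^ q)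
      = (dW s z i * dW s z i ^ q) * (u (i - 1) * v (i - 1) ^ q) := by ring
    _ = _ := by rw [h, one_mul]

open Fin.NatCast Fin.CommRing in
omit [Fintype F] hF in
theorem cmpM_pow_single (s : ℕ) (z : F) (j : Fin (s + 1)) (k : ℕ) :
    (cmpM s z ^ k) *ᵥ Pi.single j 1 =
      (∏ l ∈ Finset.range k, dW s z (j + ((l + 1 : ℕ) : Fin (s + 1)))) •
        Pi.single (j + (k : Fin (s + 1))) (1 : F) := by
  induction k with
  | zero =>
    rw [pow_zero, Matrix.one_mulVec, Finset.prod_range_zero, one_smul, Nat.cast_zero, add_zero]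
  | succ k ih =>
    rw [pow_succ', ← Matrix.mulVec_mulVec, ih, Matrix.mulVec_smul, cmpM_single, Finset.prod_range_succ,
      smul_smul, Nat.cast_succ, add_assoc]

omit [Fintype F] hF in
theorem prod_dW (s : ℕ) (z : F) : ∏ i : Fin (s + 1), dW s z i = z := by
  unfold dW
  rw [Finset.prod_ite_eq' Finset.univ (0 : Fin (s + 1)) (fun _ => z)]
  simp

open Fin.NatCast Fin.CommRing in
omit [Fintype F] hF in
/-- the `(s+1)`-st power of the monomial matrix is the scalar `z`. -/
theorem cmpM_pow (s : ℕ) (z : F) : cmpM s z ^ (s + 1) = z • (1 : Matrix (Fin (s + 1)) (Fin (s + 1)) F) := by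
  have key : ∀ j : Fin (s + 1), (cmpM s z ^ (s + 1)) *ᵥ Pi.single j 1 = z • Pi.single j (1 : F) := by
    intro j
    rw [cmpM_pow_single, Fin.natCast_self, add_zero]
    congr 1
    rw [← Fin.prod_univ_eq_prod_range (fun l => dW s z (j + ((l + 1 : ℕ) : Fin (s + 1)))) (s + 1)]
    refine Eq.trans ?_ (prod_dW s z)
    refine Fintype.prod_equiv ((Equiv.addRight (1 : Fin (s + 1))).trans (Equiv.addLeft j)) _ _ ?_
    intro i
    simp
  ext i j
  have := congrFun (key j) i
  rw [Matrix.mulVec_single_one] at this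
  rw [Matrix.smul_apply, Matrix.one_apply]
  rw [Pi.smul_apply, Pi.single_apply] at this
  exact this

end Cfsg.Agent.Helper7.UBlk
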