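import Mathlib
import Cfsg.Agent.Helper7.UBlkJ
import Cfsg.Agent.Helper7.POrdK

set_option autoImplicit false
set_option linter.unusedSectionVars false
set_option linter.unusedVariables false

/-!
# Unitary isometries of prime order: the criterion when `r` divides `q + 1`
-/

namespace Cfsg.Agent.Helper7.UBlk

open Matrix Module Polynomial Cfsg Cfsg.Agent.Helper7.Herm Cfsg.Agent.Helper7.SUNd Cfsg.Agent.Helper8.HermTwo
  Cfsg.Agent.Helper8.AutSU Cfsg.Agent.Helper7.POrd Cfsg.Agent.Helper7.SpOrd Cfsg.Agent.Helper7.UCnt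
  Cfsg.Agent.Helper8.SURoot

variable {F : Type*} [Field F] [Fintype F] {q N : ℕ} [hF : Fact (Fintype.card F = q ^ 2)]
variable {r : ℕ} [Fact r.Prime] {p : ℕ} [Fact p.Prime] [CharP F p]

/-- the monomial block, as an element of the unitary group. -/
noncomputable def cmpG (s : ℕ) {z : F} (hz : z ^ (q + 1) = 1) : GU (s + 1) F q :=
  mkGU (cmpM s z) (cmpM_iso s hz)

omit [Fintype F] hF in
theorem bdM_pow {k m : ℕ} (A : Matrix (Fin k) (Fin k) F) (B : Matrix (Fin m) (Fin m) F) (n : ℕ) :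
    bdM A B ^ n = bdM (A ^ n) (B ^ n) := by
  induction n with
  | zero => rw [pow_zero, pow_zero, pow_zero, bdM_one]
  | succ n ih => rw [pow_succ, pow_succ, pow_succ, ih, bdM_mul]

omit [Fintype F] hF in
theorem bdM_smul_one {k m : ℕ} (z : F) :
    bdM (z • (1 : Matrix (Fin k) (Fin k) F)) (z • (1 : Matrix (Fin m) (Fin m) F)) = z • 1 := by
  apply Matrix.toLin'.injective
  apply LinearMap.ext
  intro v
  rw [Matrix.toLin'_apply, Matrix.toLin'_apply, ← apv_p v, bdM_mulVec, Matrix.smul_mulVec, Matrix.smul_mulVec,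
    Matrix.smul_mulVec, Matrix.one_mulVec, Matrix.one_mulVec, Matrix.one_mulVec, apv_smul]

/-- unitary matrices whose `(s+1)`-st power is the scalar `z` of norm one. -/
theorem exists_np_gu (s : ℕ) {z : F} (hz : z ^ (q + 1) = 1) : ∀ (t N : ℕ), N = (s + 1) * t →
    ∃ y : GU N F q, (mg y) ^ (s + 1) = z • (1 : Matrix (Fin N) (Fin N) F) := by
  intro t
  induction t with
  | zero =>
    intro N hN
    rw [mul_zero] at hN
    subst hN
    exact ⟨1, Subsingleton.elim _ _⟩
  | succ t ih =>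
    intro N hN
    obtain ⟨y', hy'⟩ := ih ((s + 1) * t) rfl
    have hN' : N = (s + 1) + (s + 1) * t := by rw [hN]; ring
    subst hN'
    refine ⟨bdG (cmpG s hz) y', ?_⟩
    rw [mg_bdG, bdM_pow, hy']
    have : mg (cmpG (q := q) s hz) = cmpM s z := rfl
    rw [this, cmpM_pow, bdM_smul_one]

theorem padicValNat_sq_sub_one (hr2 : r ≠ 2) (hq1 : r ∣ q + 1) :
    padicValNat r (Fintype.card F - 1) = padicValNat r (q + 1) := by
  have hrpr : r.Prime := Fact.out
  have hq2 := Cfsg.Agent.Helper8.GUOrder.two_le_q hF.out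
  have h1 : Fintype.card F - 1 = (q - 1) * (q + 1) := by
    rw [hF.out]
    exact Cfsg.Agent.Helper8.GUOrder.qsq_sub_one hF.out
  have h2 : ¬ r ∣ q - 1 := by
    intro h
    have h3 : r ∣ (q + 1) - (q - 1) := Nat.dvd_sub hq1 h
    have h4 : (q + 1) - (q - 1) = 2 := by omega
    rw [h4] at h3
    exact hr2 ((Nat.prime_dvd_prime_iff_eq hrpr Nat.prime_two).mp h3)
  rw [h1, padicValNat.mul (by omega) (by omega), padicValNat.eq_zero_of_not_dvd h2, zero_add]

theorem not_dvd_q_sub_one {q r : ℕ} [Fact r.Prime] (hq2 : 2 ≤ q) (hr2 : r ≠ 2) (hq1 : r ∣ q + 1) :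
    ¬ r ∣ q - 1 := by
  have hrpr : r.Prime := Fact.out
  intro h
  have h3 : r ∣ (q + 1) - (q - 1) := Nat.dvd_sub hq1 h
  have h4 : (q + 1) - (q - 1) = 2 := by omega
  rw [h4] at h3
  exact hr2 ((Nat.prime_dvd_prime_iff_eq hrpr Nat.prime_two).mp h3)

theorem cU_eq_one (hrp : r ≠ p) (hq1 : r ∣ q + 1) : cU F q r = 1 := by
  rw [cU_eq_orderOf_neg (F := F) hrp, orderOf_eq_one_iff]
  have : ((q + 1 : ℕ) : ZMod r) = 0 := (ZMod.natCast_eq_zero_iff _ _).mpr hq1
  push_cast at this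
  linear_combination (-1 : ZMod r) * this

end Cfsg.Agent.Helper7.UBlk
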