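import Mathlib
import Cfsg.Agent.Helper7.UBlkK

set_option autoImplicit false
set_option linter.unusedSectionVars false
set_option linter.unusedVariables false

/-!
# Unitary isometries of prime order: the group-level criterion when `r` divides `q + 1`
-/

namespace Cfsg.Agent.Helper7.UBlk

open Matrix Module Polynomial Cfsg Cfsg.Agent.Helper7.Herm Cfsg.Agent.Helper7.SUNd Cfsg.Agent.Helper8.HermTwo
  Cfsg.Agent.Helper8.AutSU Cfsg.Agent.Helper7.POrd Cfsg.Agent.Helper7.SpOrd Cfsg.Agent.Helper7.UCnt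
  Cfsg.Agent.Helper8.SURoot

variable {F : Type*} [Field F] [Fintype F] {q N : ℕ} [hF : Fact (Fintype.card F = q ^ 2)]
variable {r : ℕ} [Fact r.Prime] {p : ℕ} [Fact p.Prime] [CharP F p]

/-- an element whose `r`-th power is the `r`-th power of a scalar of norm one. -/
theorem exists_nd_of_root (hrp : r ≠ p) {n m : ℕ} (hmn : m ≤ n) (hmod : m % cU F q r ≤ n % cU F q r)
    (x : Matrix.SpecialLinearGroup (Fin n) F) (hx : x ∈ Cfsg.SU n F q) {z l : F}
    (hz : ((x ^ r : Matrix.SpecialLinearGroup (Fin n) F) : Matrix (Fin n) (Fin n) F) =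
      z • (1 : Matrix (Fin n) (Fin n) F)) (hlr : l ^ r = z) (hl1 : l ^ (q + 1) = 1) :
    ∃ W : Submodule F (Fin n → F), Module.finrank F ↥W = m ∧ NDeg q W ∧
      W.map (Matrix.toLin' (x : Matrix (Fin n) (Fin n) F)) ≤ W := by
  have hrpr : r.Prime := Fact.out
  have hxiso : ∀ u v, hermForm n F q ((x : Matrix (Fin n) (Fin n) F) *ᵥ u)
      ((x : Matrix (Fin n) (Fin n) F) *ᵥ v) = hermForm n F q u v := hx
  have hxr : (x : Matrix (Fin n) (Fin n) F) ^ r = z • 1 := by
    rw [← Matrix.SpecialLinearGroup.coe_pow]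
    exact hz
  have hl0 : l ≠ 0 := by
    rintro rfl
    rw [zero_pow (by omega)] at hl1
    exact zero_ne_one hl1
  set T : Module.End F (Fin n → F) := Matrix.toLin' (l⁻¹ • (x : Matrix (Fin n) (Fin n) F)) with hT
  have hTapp : ∀ v, T v = l⁻¹ • ((x : Matrix (Fin n) (Fin n) F) *ᵥ v) := by
    intro v
    rw [hT, Matrix.toLin'_apply, Matrix.smul_mulVec]
  have hTiso : ∀ u v, hermForm n F q (T u) (T v) = hermForm n F q u v := by
    intro u v
    rw [hTapp, hTapp, herm_smul_smul, hxiso, inv_pow, hl1, inv_one, one_mul]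
  have hTr : T ^ r = 1 := by
    rw [hT, toLin'_pow_apply, _root_.smul_pow, hxr, inv_pow, hlr, smul_smul, inv_mul_cancel₀, one_smul,
      Matrix.toLin'_one]
    · rfl
    · rw [← hlr]
      exact pow_ne_zero _ hl0
  obtain ⟨W, hW, hWnd, hWd⟩ := exists_nd_invt_of_mod hrp hTiso hTr hmn hmod
  refine ⟨W, hWd, hWnd, ?_⟩
  rw [Submodule.map_le_iff_le_comap]
  intro w hw
  rw [Submodule.mem_comap, Matrix.toLin'_apply]
  have h1 : (x : Matrix (Fin n) (Fin n) F) *ᵥ w = l • T w := by
    rw [hTapp, smul_smul, mul_inv_cancel₀ hl0, one_smul]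
  rw [h1]
  exact W.smul_mem _ (invt_apply hW hw)

/-- **the criterion when `r` divides `q + 1`.** -/
theorem main_two (hrp : r ≠ p) (hr2 : r ≠ 2) (hq1 : r ∣ q + 1) {n m : ℕ} (hm : 1 ≤ m) (hmn : m ≤ n) :
    (∀ x : Matrix.SpecialLinearGroup (Fin n) F, x ∈ Cfsg.SU n F q →
      (∃ z : F, ((x ^ r : Matrix.SpecialLinearGroup (Fin n) F) : Matrix (Fin n) (Fin n) F) =
        z • (1 : Matrix (Fin n) (Fin n) F)) →
      (∀ z : F, (x : Matrix (Fin n) (Fin n) F) ≠ z • (1 : Matrix (Fin n) (Fin n) F)) →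
      ∃ W : Submodule F (Fin n → F), Module.finrank F ↥W = m ∧ NDeg q W ∧
        W.map (Matrix.toLin' (x : Matrix (Fin n) (Fin n) F)) ≤ W) ↔
    (r ∣ m ∨ padicValNat r n ≤ padicValNat r (q + 1)) := by
  have hrpr : r.Prime := Fact.out
  have hq2 := Cfsg.Agent.Helper8.GUOrder.two_le_q hF.out
  have hn0 : 0 < n := by omega
  have hval := padicValNat_sq_sub_one (F := F) hr2 hq1
  have hndvd := not_dvd_q_sub_one hq2 hr2 hq1
  have hrcard : r ∣ Fintype.card F - 1 := by
    rw [hF.out, Cfsg.Agent.Helper8.GUOrder.qsq_sub_one hF.out]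
    exact Dvd.dvd.mul_left hq1 _
  have hneg : ((-1 : F)) ^ (r + 1) = 1 := neg_one_pow_succ_of_odd hrpr hr2
  constructor
  · intro H
    by_contra hcon
    push Not at hcon
    obtain ⟨hrm, hlt⟩ := hcon
    obtain ⟨c, hc, hcpow⟩ := exists_nonpower (F := F) hrcard
    rw [hval] at hcpow
    have hc1 : c ^ (q + 1) = 1 := by
      obtain ⟨w, hw⟩ := pow_padicValNat_dvd (p := r) (n := q + 1)
      rw [hw, pow_mul, hcpow, one_pow]
    have hdvd : r ^ (padicValNat r (q + 1) + 1) ∣ n :=
      (padicValNat_dvd_iff_le (by omega)).mpr hlt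
    obtain ⟨u, hu⟩ := hdvd
    have hnr : n = r * (r ^ padicValNat r (q + 1) * u) := by
      rw [hu, pow_succ]; ring
    obtain ⟨s, hs⟩ : ∃ s, r = s + 1 := ⟨r - 1, by have := hrpr.pos; omega⟩
    obtain ⟨y, hy⟩ := exists_np_gu (q := q) s hc1 (r ^ padicValNat r (q + 1) * u) n (by rw [← hs]; exact hnr)
    rw [← hs] at hy
    have hirr : Irreducible (X ^ r - C c : F[X]) := X_pow_sub_C_irreducible_of_prime hrpr hc
    have hTr : (Matrix.toLin' (mg y) : Module.End F (Fin n → F)) ^ r = algebraMap F _ c := by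
      rw [toLin'_pow_apply, hy, toLin'_smul_one]
    have hdet : (mg y).det = 1 := by
      have h1 := det_of_pow_eq hrpr.pos hirr _ hTr
      rw [LinearMap.det_toLin', finrank_fin_fun, hneg, one_mul] at h1
      rw [h1]
      have : n / r = r ^ padicValNat r (q + 1) * u := by
        rw [hnr, Nat.mul_div_cancel_left _ hrpr.pos]
      rw [this, pow_mul, hcpow, one_pow]
    obtain ⟨W, hWd, hWnd, hWinv⟩ := H (mkS (mg y) hdet (herm_mg y)).1 (mkS (mg y) hdet (herm_mg y)).2
      ⟨c, by
        rw [Matrix.SpecialLinearGroup.coe_pow]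
        exact hy⟩
      (by
        intro w hw
        have hw' : mg y = w • (1 : Matrix (Fin n) (Fin n) F) := hw
        have h3 := hy
        rw [hw', _root_.smul_pow, one_pow] at h3
        have h4 := congrFun (congrFun h3 ⟨0, hn0⟩) ⟨0, hn0⟩
        rw [Matrix.smul_apply, Matrix.smul_apply, Matrix.one_apply_eq, smul_eq_mul, mul_one, smul_eq_mul,
          mul_one] at h4
        exact hc w h4)
    have hgT : aeval (Matrix.toLin' (mg y) : Module.End F (Fin n → F)) (X ^ r - C c : F[X]) = 0 := by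
      rw [map_sub, map_pow, aeval_X, aeval_C, hTr, sub_self]
    have h5 := natDegree_dvd_finrank hirr hgT ((map_le_iff_mem_invt _ _).mp hWinv)
    rw [natDegree_X_pow_sub_C, hWd] at h5
    exact hrm h5
  · intro hcond x hx ⟨z, hz⟩ hns
    have hxiso : ∀ u v, hermForm n F q ((x : Matrix (Fin n) (Fin n) F) *ᵥ u)
        ((x : Matrix (Fin n) (Fin n) F) *ᵥ v) = hermForm n F q u v := hx
    have hz1 : z ^ (q + 1) = 1 := by
      apply norm_of_scalar_iso (q := q) hn0
      intro u v
      have h1 : ∀ w : Fin n → F, z • w = ((x ^ r : Matrix.SpecialLinearGroup (Fin n) F) :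
          Matrix (Fin n) (Fin n) F) *ᵥ w := by
        intro w
        rw [hz, Matrix.smul_mulVec, Matrix.one_mulVec]
      rw [h1, h1]
      exact (Subgroup.pow_mem _ hx r) u v
    by_cases hpow : ∃ l : F, l ^ r = z
    · obtain ⟨l, hl⟩ := hpow
      have hl0 : l ≠ 0 := by
        rintro rfl
        rw [zero_pow hrpr.pos.ne'] at hl
        rw [← hl, zero_pow (by omega)] at hz1
        exact zero_ne_one hz1
      have hl1 : l ^ (q + 1) = 1 := by
        have hcop : Nat.Coprime r (q - 1) := (Nat.Prime.coprime_iff_not_dvd hrpr).mpr hndvd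
        apply (pow_eq_one_iff_of_coprime hcop).mp
        constructor
        · rw [← pow_mul, mul_comm, pow_mul, hl, hz1]
        · rw [← pow_mul, mul_comm, ← Cfsg.Agent.Helper8.GUOrder.qsq_sub_one hF.out, ← hF.out]
          exact FiniteField.pow_card_sub_one_eq_one l hl0
      have hcU := cU_eq_one (F := F) (q := q) hrp hq1
      exact exists_nd_of_root hrp hmn (by rw [hcU, Nat.mod_one, Nat.mod_one]) x hx hz hl hl1
    · push Not at hpow
      have hTr := toLin'_pow_eq x hz
      have hTiso : ∀ u v, hermForm n F q (Matrix.toLin' (x : Matrix (Fin n) (Fin n) F) u)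
          (Matrix.toLin' (x : Matrix (Fin n) (Fin n) F) v) = hermForm n F q u v := by
        intro u v
        rw [Matrix.toLin'_apply, Matrix.toLin'_apply, hxiso]
      have hirr : Irreducible (X ^ r - C z : F[X]) := X_pow_sub_C_irreducible_of_prime hrpr hpow
      rcases hcond with ⟨t, rfl⟩ | hv
      · obtain ⟨U, -, hU, hUnd, hUd⟩ := exists_nd_mul_np hTiso hpow hTr t ⊤
          (Module.End.invtSubmodule.top_mem _) (ndeg_top (q := q)) (by rw [finrank_top, finrank_fin_fun]; exact hmn)
        exact ⟨U, hUd, hUnd, (map_le_iff_mem_invt _ _).mpr hU⟩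
      · exfalso
        have hdet := det_of_pow_eq hrpr.pos hirr _ hTr
        rw [LinearMap.det_toLin', finrank_fin_fun, x.2] at hdet
        have hgT : aeval (Matrix.toLin' (x : Matrix (Fin n) (Fin n) F) : Module.End F (Fin n → F))
            (X ^ r - C z : F[X]) = 0 := by
          rw [map_sub, map_pow, aeval_X, aeval_C, hTr, sub_self]
        have hrn := natDegree_dvd_finrank hirr hgT (Module.End.invtSubmodule.top_mem _)
        rw [natDegree_X_pow_sub_C, finrank_top, finrank_fin_fun] at hrn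
        exact nonpower_contra (by omega) hrn hpow hdet.symm (by rw [hval]; exact hv)
          (fun h => absurd h hr2)

end Cfsg.Agent.Helper7.UBlk
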