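import Mathlib
import Cfsg.Agent.Helper7.UBlkL
import Cfsg.Agent.Helper8.UTID

set_option autoImplicit false
set_option linter.unusedSectionVars false
set_option linter.unusedVariables false

/-!
# Totally isotropic invariant subspaces of unitary isometries whose `r`-th power is a scalar
which is not an `r`-th power
-/

namespace Cfsg.Agent.Helper7.UBlk

open Matrix Module Polynomial Cfsg Cfsg.Agent.Helper7.Herm Cfsg.Agent.Helper7.SUNd Cfsg.Agent.Helper8.HermTwo
  Cfsg.Agent.Helper8.AutSU Cfsg.Agent.Helper7.POrd Cfsg.Agent.Helper7.SpOrd Cfsg.Agent.Helper7.UCnt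
  Cfsg.Agent.Helper8.SURoot Cfsg.Agent.Helper8.UTI

variable {F : Type*} [Field F] [Fintype F] {q N : ℕ} [hF : Fact (Fintype.card F = q ^ 2)]
variable {r : ℕ} [Fact r.Prime]
variable {T : Module.End F (Fin N → F)}

/-- **totally isotropic invariant subspaces of every dimension `r t`.** -/
theorem exists_ti_mul_np (hr2 : r ≠ 2) (hT : ∀ u v, hermForm N F q (T u) (T v) = hermForm N F q u v)
    {z : F} (hz1 : z ^ (q + 1) = 1) (hc : ∀ b : F, b ^ r ≠ z) (hTr : T ^ r = algebraMap F _ z)
    (t : ℕ) (ht : 2 * (r * t) ≤ N) :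
    ∃ L : Submodule F (Fin N → F), L ∈ Module.End.invtSubmodule T ∧ TIso q L ∧ finrank F ↥L = r * t := by
  have hr : r.Prime := Fact.out
  have hirr : Irreducible (X ^ r - C z : F[X]) := X_pow_sub_C_irreducible_of_prime hr hc
  have hdeg : (X ^ r - C z : F[X]).natDegree = r := natDegree_X_pow_sub_C
  have hmonic : (X ^ r - C z : F[X]).Monic := monic_X_pow_sub_C z hr.pos.ne'
  have hgT : aeval T (X ^ r - C z : F[X]) = 0 := by
    rw [map_sub, map_pow, aeval_X, aeval_C, hTr, sub_self]
  have hodd : 2 * ((r - 1) / 2) + 1 = r := by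
    rcases hr.eq_two_or_odd with h | h
    · exact absurd h hr2
    · omega
  have hfix : fixS T = ⊥ := by
    rw [eq_bot_iff]
    intro v hv
    rw [Submodule.mem_bot]
    by_contra hv0
    have hinv : Submodule.span F {v} ∈ Module.End.invtSubmodule T := by
      rw [Module.End.mem_invtSubmodule, Submodule.span_le]
      intro x hx
      rw [Set.mem_singleton_iff] at hx
      rw [hx]
      show T v ∈ Submodule.span F {v}
      rw [mem_fixS.mp hv]
      exact Submodule.mem_span_singleton_self v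
    have := natDegree_dvd_finrank hirr hgT hinv
    rw [hdeg, finrank_span_singleton hv0, Nat.dvd_one] at this
    exact hr.one_lt.ne' this
  have hn' : 0 < r * (q + 1) := Nat.mul_pos hr.pos (by omega)
  have hTn' : T ^ (r * (q + 1)) = 1 := by
    rw [pow_mul, hTr, ← map_pow, hz1, map_one]
  have hss : T.IsSemisimple :=
    Module.End.isSemisimple_of_squarefree_aeval_eq_zero hirr.squarefree hgT
  have step : ∀ M' : Submodule F (Fin N → F), M' ∈ Module.End.invtSubmodule T → NDeg q M' →
      M' ⊓ fixS T = ⊥ → r < finrank F ↥M' →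
      ∃ H L : Submodule F (Fin N → F), H ≤ M' ∧ H ∈ Module.End.invtSubmodule T ∧ NDeg q H ∧
        finrank F ↥H = 2 * r ∧ L ≤ H ∧ L ∈ Module.End.invtSubmodule T ∧ TIso q L ∧
        finrank F ↥L = r := by
    intro M' hM' hnd _ hbig
    obtain ⟨L, hLM, hL, hLti, hLd⟩ := exists_ti_irred hT hirr hmonic (e := (r - 1) / 2)
      (by rw [hdeg, hodd]) hM' (fun u _ => by rw [hgT]; rfl) (by rw [hodd]; exact hbig)
    rw [hdeg] at hLd
    obtain ⟨H, hLH, hHM, hH, hHnd, hHd⟩ := exists_hyp hT hn' hTn' hss hM' hnd hL hLM hLti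
    exact ⟨H, L, hHM, hH, hHnd, by rw [hHd, hLd], hLH, hL, hLti, hLd⟩
  obtain ⟨L, -, hL, hLti, hLd⟩ := exists_ti_ladder hT hn' hTn' (D := r) (τ := r) step t ⊤
    (Module.End.invtSubmodule.top_mem T) (ndeg_top (q := q)) (by rw [hfix, inf_bot_eq])
    (by
      rw [finrank_top, finrank_fin_fun]
      have : 2 * r * t = 2 * (r * t) := by ring
      have := hr.pos
      omega)
  exact ⟨L, hL, hLti, hLd⟩

end Cfsg.Agent.Helper7.UBlk
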