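import Mathlib
import Cfsg.Agent.Helper7.UTnpA

set_option autoImplicit false
set_option linter.unusedSectionVars false
set_option linter.unusedVariables false

/-!
# Elements of `SU_n(q)` of odd prime order modulo scalars: reduction lemmas
-/

namespace Cfsg.Agent.Helper7.UBlk

open Matrix Module Polynomial Cfsg Cfsg.Agent.Helper7.Herm Cfsg.Agent.Helper7.SUNd Cfsg.Agent.Helper8.HermTwo
  Cfsg.Agent.Helper8.AutSU Cfsg.Agent.Helper7.POrd Cfsg.Agent.Helper7.SpOrd Cfsg.Agent.Helper7.UCnt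
  Cfsg.Agent.Helper8.SURoot Cfsg.Agent.Helper8.UTI

variable {F : Type*} [Field F] [Fintype F] {q N : ℕ} [hF : Fact (Fintype.card F = q ^ 2)]
variable {r : ℕ} [Fact r.Prime] {p : ℕ} [Fact p.Prime] [CharP F p]

/-- the scalar `x ^ r` of an element of `SU` has norm one. -/
theorem norm_of_pow_scalar {n : ℕ} (hn0 : 0 < n) (x : Matrix.SpecialLinearGroup (Fin n) F)
    (hx : x ∈ Cfsg.SU n F q) {k : ℕ} {z : F}
    (hz : ((x ^ k : Matrix.SpecialLinearGroup (Fin n) F) : Matrix (Fin n) (Fin n) F) =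
      z • (1 : Matrix (Fin n) (Fin n) F)) : z ^ (q + 1) = 1 := by
  apply norm_of_scalar_iso (q := q) hn0
  intro u v
  have h1 : ∀ w : Fin n → F, z • w = ((x ^ k : Matrix.SpecialLinearGroup (Fin n) F) :
      Matrix (Fin n) (Fin n) F) *ᵥ w := by
    intro w
    rw [hz, Matrix.smul_mulVec, Matrix.one_mulVec]
  rw [h1, h1]
  exact (Subgroup.pow_mem _ hx k) u v

/-- when `r` divides `q + 1`, an `r`-th root of a scalar of norm one has norm one. -/
theorem root_norm_one_of_pow (hr2 : r ≠ 2) (hq1 : r ∣ q + 1) {z l : F} (hz1 : z ^ (q + 1) = 1)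
    (hl : l ^ r = z) : l ^ (q + 1) = 1 := by
  have hrpr : r.Prime := Fact.out
  have hq2 := Cfsg.Agent.Helper8.GUOrder.two_le_q hF.out
  have hndvd := not_dvd_q_sub_one hq2 hr2 hq1
  have hl0 : l ≠ 0 := by
    rintro rfl
    rw [zero_pow hrpr.pos.ne'] at hl
    rw [← hl, zero_pow (by omega)] at hz1
    exact zero_ne_one hz1
  have hcop : Nat.Coprime r (q - 1) := (Nat.Prime.coprime_iff_not_dvd hrpr).mpr hndvd
  apply (pow_eq_one_iff_of_coprime hcop).mp
  constructor
  · rw [← pow_mul, mul_comm, pow_mul, hl, hz1]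
  · rw [← pow_mul, mul_comm, ← Cfsg.Agent.Helper8.GUOrder.qsq_sub_one hF.out, ← hF.out]
    exact FiniteField.pow_card_sub_one_eq_one l hl0

/-- an element of `SU` whose `r`-th power is a scalar which is not an `r`-th power only exists when the
`r`-part of `n` exceeds that of `q + 1`. -/
theorem np_contra (hr2 : r ≠ 2) (hq1 : r ∣ q + 1) {n : ℕ} (hn0 : 0 < n)
    (x : Matrix.SpecialLinearGroup (Fin n) F) {z : F}
    (hz : ((x ^ r : Matrix.SpecialLinearGroup (Fin n) F) : Matrix (Fin n) (Fin n) F) =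
      z • (1 : Matrix (Fin n) (Fin n) F)) (hpow : ∀ l : F, l ^ r ≠ z)
    (hv : padicValNat r n ≤ padicValNat r (q + 1)) : False := by
  have hrpr : r.Prime := Fact.out
  have hval := padicValNat_sq_sub_one (F := F) hr2 hq1
  have hTr := toLin'_pow_eq x hz
  have hirr : Irreducible (X ^ r - C z : F[X]) := X_pow_sub_C_irreducible_of_prime hrpr hpow
  have hdet := det_of_pow_eq hrpr.pos hirr _ hTr
  rw [LinearMap.det_toLin', finrank_fin_fun, x.2] at hdet
  have hgT : aeval (Matrix.toLin' (x : Matrix (Fin n) (Fin n) F) : Module.End F (Fin n → F))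
      (X ^ r - C z : F[X]) = 0 := by
    rw [map_sub, map_pow, aeval_X, aeval_C, hTr, sub_self]
  have hrn := natDegree_dvd_finrank hirr hgT (Module.End.invtSubmodule.top_mem _)
  rw [natDegree_X_pow_sub_C, finrank_top, finrank_fin_fun] at hrn
  exact nonpower_contra (by omega) hrn hpow hdet.symm (by rw [hval]; exact hv)
    (fun h => absurd h hr2)

/-- an element of `SU` all of whose invariant subspaces have dimension divisible by `r`. -/
theorem exists_np_su (hr2 : r ≠ 2) (hq1 : r ∣ q + 1) {n : ℕ} (hn0 : 0 < n)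
    (hlt : padicValNat r (q + 1) < padicValNat r n) :
    ∃ x : Matrix.SpecialLinearGroup (Fin n) F, x ∈ Cfsg.SU n F q ∧
      (∃ z : F, ((x ^ r : Matrix.SpecialLinearGroup (Fin n) F) : Matrix (Fin n) (Fin n) F) =
        z • (1 : Matrix (Fin n) (Fin n) F)) ∧
      (∀ z : F, (x : Matrix (Fin n) (Fin n) F) ≠ z • (1 : Matrix (Fin n) (Fin n) F)) ∧
      ∀ W : Submodule F (Fin n → F), W.map (Matrix.toLin' (x : Matrix (Fin n) (Fin n) F)) ≤ W →
        r ∣ finrank F ↥W := by
  have hrpr : r.Prime := Fact.out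
  have hq2 := Cfsg.Agent.Helper8.GUOrder.two_le_q hF.out
  have hval := padicValNat_sq_sub_one (F := F) hr2 hq1
  have hrcard : r ∣ Fintype.card F - 1 := by
    rw [hF.out, Cfsg.Agent.Helper8.GUOrder.qsq_sub_one hF.out]
    exact Dvd.dvd.mul_left hq1 _
  have hneg : ((-1 : F)) ^ (r + 1) = 1 := neg_one_pow_succ_of_odd hrpr hr2
  obtain ⟨c, hc, hcpow⟩ := exists_nonpower (F := F) hrcard
  rw [hval] at hcpow
  have hc1 : c ^ (q + 1) = 1 := by
    obtain ⟨w, hw⟩ := pow_padicValNat_dvd (p := r) (n := q + 1)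
    rw [hw, pow_mul, hcpow, one_pow]
  have hdvd : r ^ (padicValNat r (q + 1) + 1) ∣ n :=
    (padicValNat_dvd_iff_le (by omega)).mpr hlt
  obtain ⟨u, hu⟩ := hdvd
  have hnr : n = r * (r ^ padicValNat r (q + 1) * u) := by
    rw [hu, pow_succ]; ring
  obtain ⟨s, hs⟩ : ∃ s, r = s + 1 := ⟨r - 1, by have := hrpr.pos; omega⟩
  obtain ⟨y, hy⟩ := exists_np_gu (q := q) s hc1 (r ^ padicValNat r (q + 1) * u) n (by rw [← hs]; exact hnr)
  rw [← hs] at hy
  have hirr : Irreducible (X ^ r - C c : F[X]) := X_pow_sub_C_irreducible_of_prime hrpr hc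
  have hTr : (Matrix.toLin' (mg y) : Module.End F (Fin n → F)) ^ r = algebraMap F _ c := by
    rw [toLin'_pow_apply, hy, toLin'_smul_one]
  have hdet : (mg y).det = 1 := by
    have h1 := det_of_pow_eq hrpr.pos hirr _ hTr
    rw [LinearMap.det_toLin', finrank_fin_fun, hneg, one_mul] at h1
    rw [h1]
    have : n / r = r ^ padicValNat r (q + 1) * u := by
      rw [hnr, Nat.mul_div_cancel_left _ hrpr.pos]
    rw [this, pow_mul, hcpow, one_pow]
  refine ⟨(mkS (mg y) hdet (herm_mg y)).1, (mkS (mg y) hdet (herm_mg y)).2, ⟨c, ?_⟩, ?_, ?_⟩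
  · rw [Matrix.SpecialLinearGroup.coe_pow]
    exact hy
  · intro w hw
    have hw' : mg y = w • (1 : Matrix (Fin n) (Fin n) F) := hw
    have h3 := hy
    rw [hw', _root_.smul_pow, one_pow] at h3
    have h4 := congrFun (congrFun h3 ⟨0, hn0⟩) ⟨0, hn0⟩
    rw [Matrix.smul_apply, Matrix.smul_apply, Matrix.one_apply_eq, smul_eq_mul, mul_one, smul_eq_mul,
      mul_one] at h4
    exact hc w h4
  · intro W hWinv
    have hgT : aeval (Matrix.toLin' (mg y) : Module.End F (Fin n → F)) (X ^ r - C c : F[X]) = 0 := by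
      rw [map_sub, map_pow, aeval_X, aeval_C, hTr, sub_self]
    have h5 := natDegree_dvd_finrank hirr hgT ((map_le_iff_mem_invt _ _).mp hWinv)
    rw [natDegree_X_pow_sub_C] at h5
    exact h5

end Cfsg.Agent.Helper7.UBlk
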