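import Mathlib
import Cfsg.Agent.Helper7.UTnpB

set_option autoImplicit false
set_option linter.unusedSectionVars false
set_option linter.unusedVariables false

/-!
# Elements of `SU_n(q)` of odd prime order modulo scalars and totally isotropic subspaces
-/

namespace Cfsg.Agent.Helper7.UBlk

open Matrix Module Polynomial Cfsg Cfsg.Agent.Helper7.Herm Cfsg.Agent.Helper7.SUNd Cfsg.Agent.Helper8.HermTwo
  Cfsg.Agent.Helper8.AutSU Cfsg.Agent.Helper7.POrd Cfsg.Agent.Helper7.SpOrd Cfsg.Agent.Helper7.UCnt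
  Cfsg.Agent.Helper8.SURoot Cfsg.Agent.Helper8.UTI

variable {F : Type*} [Field F] [Fintype F] {q N : ℕ} [hF : Fact (Fintype.card F = q ^ 2)]
variable {r : ℕ} [Fact r.Prime] {p : ℕ} [Fact p.Prime] [CharP F p]

/-- the sufficiency of the conditions, for all elements of order `r` modulo scalars. -/
theorem ti_odd_suff (hrp : r ≠ p) (hr2 : r ≠ 2) {n m : ℕ} (hm : 1 ≤ m) (hmn : 2 * m ≤ n)
    (h1 : 2 * (m % orderOf ((Fintype.card F : ℕ) : ZMod r)) ≤ n % cU F q r)
    (h2 : ¬ SD F q r ∨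
      (r - 1) / orderOf ((Fintype.card F : ℕ) : ZMod r) +
        2 * (m / orderOf ((Fintype.card F : ℕ) : ZMod r)) ≤
        n / orderOf ((Fintype.card F : ℕ) : ZMod r))
    (h3 : r ∣ q + 1 → (r ∣ m ∨ padicValNat r n ≤ padicValNat r (q + 1)))
    (x : Matrix.SpecialLinearGroup (Fin n) F) (hx : x ∈ Cfsg.SU n F q) {z : F}
    (hz : ((x ^ r : Matrix.SpecialLinearGroup (Fin n) F) : Matrix (Fin n) (Fin n) F) =
      z • (1 : Matrix (Fin n) (Fin n) F)) :
    ∃ W : Submodule F (Fin n → F), Module.finrank F ↥W = m ∧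
      (∀ u ∈ W, ∀ v ∈ W, Cfsg.hermForm n F q u v = 0) ∧
      W.map (Matrix.toLin' (x : Matrix (Fin n) (Fin n) F)) ≤ W := by
  have hrpr : r.Prime := Fact.out
  have hq2 := Cfsg.Agent.Helper8.GUOrder.two_le_q hF.out
  have hn0 : 0 < n := by omega
  have hxiso : ∀ u v, hermForm n F q ((x : Matrix (Fin n) (Fin n) F) *ᵥ u)
      ((x : Matrix (Fin n) (Fin n) F) *ᵥ v) = hermForm n F q u v := hx
  have hxr : (x : Matrix (Fin n) (Fin n) F) ^ r = z • 1 := by
    rw [← Matrix.SpecialLinearGroup.coe_pow]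
    exact hz
  have hz1 := norm_of_pow_scalar hn0 x hx hz
  -- the case of a root of norm one
  have caseA : ∀ l : F, l ^ r = z → l ^ (q + 1) = 1 →
      ∃ W : Submodule F (Fin n → F), Module.finrank F ↥W = m ∧
        (∀ u ∈ W, ∀ v ∈ W, Cfsg.hermForm n F q u v = 0) ∧
        W.map (Matrix.toLin' (x : Matrix (Fin n) (Fin n) F)) ≤ W := by
    intro l hlr hl1
    have hl0 : l ≠ 0 := by
      rintro rfl
      rw [zero_pow (by omega)] at hl1
      exact zero_ne_one hl1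
    have hXU : ∀ u v, hermForm n F q ((l⁻¹ • (x : Matrix (Fin n) (Fin n) F)) *ᵥ u)
        ((l⁻¹ • (x : Matrix (Fin n) (Fin n) F)) *ᵥ v) = hermForm n F q u v := by
      intro u v
      rw [Matrix.smul_mulVec, Matrix.smul_mulVec, herm_smul_smul, hxiso, inv_pow, hl1, inv_one, one_mul]
    have hX : (l⁻¹ • (x : Matrix (Fin n) (Fin n) F)) ^ r = 1 := by
      rw [_root_.smul_pow, hxr, inv_pow, hlr, smul_smul, inv_mul_cancel₀, one_smul]
      rw [← hlr]
      exact pow_ne_zero _ hl0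
    obtain ⟨W, hWd, hWti, hWinv⟩ := exists_ti_invt_odd hrp hmn h1 h2 _ hXU hX
    refine ⟨W, hWd, hWti, ?_⟩
    rw [Submodule.map_le_iff_le_comap] at hWinv ⊢
    intro w hw
    have h4 := hWinv hw
    rw [Submodule.mem_comap, Matrix.toLin'_apply, Matrix.smul_mulVec] at h4
    rw [Submodule.mem_comap, Matrix.toLin'_apply]
    have h5 : (x : Matrix (Fin n) (Fin n) F) *ᵥ w = l • (l⁻¹ • ((x : Matrix (Fin n) (Fin n) F) *ᵥ w)) := by
      rw [smul_smul, mul_inv_cancel₀ hl0, one_smul]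
    rw [h5]
    exact W.smul_mem _ h4
  by_cases hq1 : r ∣ q + 1
  · by_cases hpow : ∃ l : F, l ^ r = z
    · obtain ⟨l, hl⟩ := hpow
      exact caseA l hl (root_norm_one_of_pow hr2 hq1 hz1 hl)
    · push Not at hpow
      rcases h3 hq1 with ⟨t, rfl⟩ | hv
      · have hTr := toLin'_pow_eq x hz
        have hTiso : ∀ u v, hermForm n F q (Matrix.toLin' (x : Matrix (Fin n) (Fin n) F) u)
            (Matrix.toLin' (x : Matrix (Fin n) (Fin n) F) v) = hermForm n F q u v := by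
          intro u v
          rw [Matrix.toLin'_apply, Matrix.toLin'_apply, hxiso]
        obtain ⟨L, hL, hLti, hLd⟩ := exists_ti_mul_np hr2 hTiso hz1 hpow hTr t hmn
        exact ⟨L, hLd, hLti, (map_le_iff_mem_invt _ _).mpr hL⟩
      · exact absurd (np_contra hr2 hq1 hn0 x hz hpow hv) id
  · obtain ⟨l, hlr, hl1⟩ := exists_root_norm_one (r := r) hq1 (by omega) hz1
    exact caseA l hlr hl1

/-- **the criterion for totally isotropic `m`-spaces, `r` odd, `r ≠ p`**, given the derangement direction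
for elements of order `r`. -/
theorem ti_odd_main (hrp : r ≠ p) (hr2 : r ≠ 2) {n m : ℕ} (hn : 3 ≤ n) (hm : 1 ≤ m) (hmn : 2 * m ≤ n)
    (hder : (∀ x : Matrix.SpecialLinearGroup (Fin n) F, x ∈ Cfsg.SU n F q →
      (∃ z : F, ((x ^ r : Matrix.SpecialLinearGroup (Fin n) F) : Matrix (Fin n) (Fin n) F) =
        z • (1 : Matrix (Fin n) (Fin n) F)) →
      (∀ z : F, (x : Matrix (Fin n) (Fin n) F) ≠ z • (1 : Matrix (Fin n) (Fin n) F)) →
      ∃ W : Submodule F (Fin n → F), Module.finrank F ↥W = m ∧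
        (∀ u ∈ W, ∀ v ∈ W, Cfsg.hermForm n F q u v = 0) ∧
        W.map (Matrix.toLin' (x : Matrix (Fin n) (Fin n) F)) ≤ W) →
      2 * (m % orderOf ((Fintype.card F : ℕ) : ZMod r)) ≤ n % cU F q r ∧
      (¬ SD F q r ∨
        (r - 1) / orderOf ((Fintype.card F : ℕ) : ZMod r) +
          2 * (m / orderOf ((Fintype.card F : ℕ) : ZMod r)) ≤
          n / orderOf ((Fintype.card F : ℕ) : ZMod r))) :
    (∀ x : Matrix.SpecialLinearGroup (Fin n) F, x ∈ Cfsg.SU n F q →
      (∃ z : F, ((x ^ r : Matrix.SpecialLinearGroup (Fin n) F) : Matrix (Fin n) (Fin n) F) =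
        z • (1 : Matrix (Fin n) (Fin n) F)) →
      (∀ z : F, (x : Matrix (Fin n) (Fin n) F) ≠ z • (1 : Matrix (Fin n) (Fin n) F)) →
      ∃ W : Submodule F (Fin n → F), Module.finrank F ↥W = m ∧
        (∀ u ∈ W, ∀ v ∈ W, Cfsg.hermForm n F q u v = 0) ∧
        W.map (Matrix.toLin' (x : Matrix (Fin n) (Fin n) F)) ≤ W) ↔
    (2 * (m % orderOf ((Fintype.card F : ℕ) : ZMod r)) ≤ n % cU F q r ∧
      (¬ SD F q r ∨
        (r - 1) / orderOf ((Fintype.card F : ℕ) : ZMod r) +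
          2 * (m / orderOf ((Fintype.card F : ℕ) : ZMod r)) ≤
          n / orderOf ((Fintype.card F : ℕ) : ZMod r)) ∧
      (r ∣ q + 1 → (r ∣ m ∨ padicValNat r n ≤ padicValNat r (q + 1)))) := by
  constructor
  · intro H
    obtain ⟨h1, h2⟩ := hder H
    refine ⟨h1, h2, fun hq1 => ?_⟩
    by_contra hcon
    push Not at hcon
    obtain ⟨hrm, hlt⟩ := hcon
    obtain ⟨x, hx, hz, hns, hdvd⟩ := exists_np_su (F := F) hr2 hq1 (by omega : 0 < n) hlt
    obtain ⟨W, hWd, -, hWinv⟩ := H x hx hz hns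
    have := hdvd W hWinv
    rw [hWd] at this
    exact hrm this
  · rintro ⟨h1, h2, h3⟩ x hx ⟨z, hz⟩ _
    exact ti_odd_suff hrp hr2 hm hmn h1 h2 h3 x hx hz

end Cfsg.Agent.Helper7.UBlk
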