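import Mathlib
import Cfsg.Agent.Helper7.UTnpC

set_option autoImplicit false
set_option linter.unusedSectionVars false
set_option linter.unusedVariables false

/-!
# The parameters `i`, `b`, `c` of the statements in terms of the block data
-/

namespace Cfsg.Agent.Helper7.UBlk

open Matrix Module Polynomial Cfsg Cfsg.Agent.Helper7.POrd

variable {F : Type*} [Field F] [Fintype F] {q N : ℕ} [hF : Fact (Fintype.card F = q ^ 2)]
variable {r : ℕ} [Fact r.Prime] {p : ℕ} [Fact p.Prime] [CharP F p]

theorem one_ne_neg_one_zmod (hr2 : r ≠ 2) : (1 : ZMod r) ≠ -1 := by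
  have hrpr : r.Prime := Fact.out
  intro h
  have h2 : ((2 : ℕ) : ZMod r) = 0 := by
    push_cast
    linear_combination h
  rw [ZMod.natCast_eq_zero_iff] at h2
  exact hr2 ((Nat.prime_dvd_prime_iff_eq hrpr Nat.prime_two).mp h2)

/-- `i = 2` means that `r` divides `q + 1`. -/
theorem orderOf_eq_two_iff (hr2 : r ≠ 2) {q i : ℕ} (hi : i = orderOf (q : ZMod r)) : i = 2 ↔ r ∣ q + 1 := by
  rw [← ZMod.natCast_eq_zero_iff, Nat.cast_add, Nat.cast_one, hi]
  constructor
  · intro h
    have h1 : (q : ZMod r) ^ 2 = 1 := by rw [← h]; exact pow_orderOf_eq_one _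
    have h2 : (q : ZMod r) * (q : ZMod r) = 1 := by rw [← sq]; exact h1
    rcases mul_self_eq_one_iff.mp h2 with h3 | h3
    · exfalso
      rw [h3, orderOf_one] at h
      omega
    · rw [h3]; ring
  · intro h
    have h3 : (q : ZMod r) = -1 := by linear_combination h
    rw [h3, orderOf_neg_one, if_neg]
    rw [ZMod.ringChar_zmod_n]
    exact hr2

/-- the order of `q ^ 2` modulo `r`. -/
theorem orderOf_card_eq (hrp : r ≠ p) {i : ℕ} (hi : i = orderOf (q : ZMod r)) :
    orderOf ((Fintype.card F : ℕ) : ZMod r) = if Even i then i / 2 else i := by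
  have hb : orderOf ((Fintype.card F : ℕ) : ZMod r) = i / Nat.gcd i 2 := by
    rw [card_cast_eq_sq (F := F) (q := q), orderOf_pow' _ (by norm_num : (2 : ℕ) ≠ 0), ← hi]
  rcases Nat.even_or_odd i with he | ho
  · rw [if_pos he, hb]
    obtain ⟨u, hu⟩ := he
    have hg : Nat.gcd i 2 = 2 := by
      rw [hu]
      have : u + u = u * 2 := by ring
      rw [this]
      exact Nat.gcd_mul_left_left _ _
    rw [hg]
  · rw [if_neg (Nat.not_even_iff_odd.mpr ho), hb, ho.coprime_two_right, Nat.div_one]

/-- the self-dual case is `i ≡ 2 (mod 4)`. -/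
theorem sd_iff_mod_four (hrp : r ≠ p) (hr2 : r ≠ 2) {i : ℕ} (hi : i = orderOf (q : ZMod r)) :
    SD F q r ↔ i % 4 = 2 := by
  have hbpos := orderOf_q_pos (F := F) hrp
  have hbe := orderOf_card_eq (F := F) hrp hi
  have hne := one_ne_neg_one_zmod (r := r) hr2
  rw [sd_iff, hbe]
  rcases Nat.even_or_odd i with he | ho
  · rw [if_pos he]
    obtain ⟨u, hu⟩ := he
    have hu2 : i / 2 = u := by omega
    rw [hu2]
    have hupos : 0 < u := by
      rw [hbe, if_pos ⟨u, hu⟩, hu2] at hbpos
      exact hbpos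
    have hxu : (q : ZMod r) ^ u = -1 := by
      have h1 : (q : ZMod r) ^ u * (q : ZMod r) ^ u = 1 := by
        rw [← pow_add, ← hu, hi, pow_orderOf_eq_one]
      rcases mul_self_eq_one_iff.mp h1 with h | h
      · exfalso
        have := orderOf_dvd_of_pow_eq_one h
        rw [← hi] at this
        have := Nat.le_of_dvd hupos this
        omega
      · exact h
    constructor
    · rintro ⟨⟨w, hw⟩, -⟩
      omega
    · intro h4
      refine ⟨?_, hxu⟩
      rw [Nat.odd_iff]
      omega
  · rw [if_neg (Nat.not_even_iff_odd.mpr ho)]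
    constructor
    · rintro ⟨-, h⟩
      rw [hi, pow_orderOf_eq_one] at h
      exact absurd h hne
    · intro h4
      obtain ⟨w, hw⟩ := ho
      omega

end Cfsg.Agent.Helper7.UBlk
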