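import Mathlib
import Cfsg.Agent.Helper7.UTnpD
import Cfsg.Agent.Helper8.HermTwoJ
import Cfsg.Agent.Helper8.HermRegD

set_option autoImplicit false
set_option linter.unusedSectionVars false
set_option linter.unusedVariables false

/-!
# `PSU_n(q)` on totally isotropic `m`-spaces: assembly from the derangement direction and the count
-/

namespace Cfsg.Agent.Helper7.UBlk

open Matrix Module Polynomial Cfsg

/-- the odd case, from the derangement direction `hder` and the consequence `hcnt` of the count. -/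
theorem ti_odd_case {F : Type*} [Field F] [Fintype F] {p : ℕ} [Fact p.Prime] [CharP F p] {q : ℕ}
    (hq : Fintype.card F = q ^ 2) (n m : ℕ) (hn : 3 ≤ n) (hm : 1 ≤ m) (hmn : 2 * m ≤ n)
    (r : ℕ) [Fact r.Prime] (hrp : r ≠ p) (hr2 : r ≠ 2)
    (i b c : ℕ) (hi : i = orderOf (q : ZMod r)) (hb : b = if Even i then i / 2 else i)
    (hc : c = if i % 4 = 0 then i else if i % 4 = 2 then i / 2 else 2 * i)
    (hcnt : n % c < 2 * m)
    (hder : (∀ x : Matrix.SpecialLinearGroup (Fin n) F, x ∈ Cfsg.SU n F q →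
      (∃ z : F, ((x ^ r : Matrix.SpecialLinearGroup (Fin n) F) : Matrix (Fin n) (Fin n) F) =
        z • (1 : Matrix (Fin n) (Fin n) F)) →
      (∀ z : F, (x : Matrix (Fin n) (Fin n) F) ≠ z • (1 : Matrix (Fin n) (Fin n) F)) →
      ∃ W : Submodule F (Fin n → F), Module.finrank F ↥W = m ∧
        (∀ u ∈ W, ∀ v ∈ W, Cfsg.hermForm n F q u v = 0) ∧
        W.map (Matrix.toLin' (x : Matrix (Fin n) (Fin n) F)) ≤ W) →
      2 * (m % b) ≤ n % c ∧ (i % 4 ≠ 2 ∨ (r - 1) / b + 2 * (m / b) ≤ n / b)) :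
    (∀ x : Matrix.SpecialLinearGroup (Fin n) F, x ∈ Cfsg.SU n F q →
      (∃ z : F, ((x ^ r : Matrix.SpecialLinearGroup (Fin n) F) : Matrix (Fin n) (Fin n) F) = z • (1 : Matrix (Fin n) (Fin n) F)) →
      (∀ z : F, (x : Matrix (Fin n) (Fin n) F) ≠ z • (1 : Matrix (Fin n) (Fin n) F)) →
      ∃ W : Submodule F (Fin n → F), Module.finrank F ↥W = m ∧ (∀ u ∈ W, ∀ v ∈ W, Cfsg.hermForm n F q u v = 0) ∧
        W.map (Matrix.toLin' (x : Matrix (Fin n) (Fin n) F)) ≤ W) ↔
    (b ≤ m ∧ 2 * (m % b) ≤ n % c ∧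
       (i % 4 ≠ 2 ∨ (i % 4 = 2 ∧ (r - 1) / b + 2 * (m / b) ≤ n / b ∧
         (2 < i ∨ (i = 2 ∧ (r ∣ m ∨ padicValNat r n ≤ padicValNat r (q + 1))))))) := by
  haveI : Fact (Fintype.card F = q ^ 2) := ⟨hq⟩
  have hB : orderOf ((Fintype.card F : ℕ) : ZMod r) = b := by
    rw [hb]; exact orderOf_card_eq (F := F) hrp hi
  have hcU : cU F q r = c := by rw [hc]; exact cU_eq_of_orderOf (F := F) hrp hr2 hi
  have hsd : SD F q r ↔ i % 4 = 2 := sd_iff_mod_four (F := F) hrp hr2 hi
  have hi2 : i = 2 ↔ r ∣ q + 1 := orderOf_eq_two_iff hr2 hi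
  have hbpos : 0 < b := by rw [← hB]; exact Cfsg.Agent.Helper7.POrd.orderOf_q_pos (F := F) hrp
  refine Iff.trans (ti_odd_main (F := F) (q := q) (n := n) (m := m) hrp hr2 hn hm hmn ?_) ?_
  · intro H
    obtain ⟨h1, h2⟩ := hder H
    rw [hB, hcU, hsd]
    exact ⟨h1, h2⟩
  · rw [hB, hcU, hsd]
    constructor
    · rintro ⟨h1, h2, h3⟩
      refine ⟨?_, h1, ?_⟩
      · by_contra hcon
        push Not at hcon
        rw [Nat.mod_eq_of_lt hcon] at h1
        omega
      · by_cases h4 : i % 4 = 2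
        · right
          refine ⟨h4, ?_, ?_⟩
          · rcases h2 with h | h
            · exact absurd h4 h
            · exact h
          · by_cases h5 : i = 2
            · exact Or.inr ⟨h5, h3 (hi2.mp h5)⟩
            · left; omega
        · exact Or.inl h4
    · rintro ⟨-, h1, h2⟩
      refine ⟨h1, ?_, ?_⟩
      · rcases h2 with h | ⟨-, h, -⟩
        · exact Or.inl h
        · exact Or.inr h
      · intro hq1
        have h5 := hi2.mpr hq1
        rcases h2 with h | ⟨-, -, h | ⟨-, h⟩⟩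
        · omega
        · omega
        · exact h

end Cfsg.Agent.Helper7.UBlk
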