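import Mathlib
import Cfsg.Agent.Helper7.UTnpE

set_option autoImplicit false
set_option linter.unusedSectionVars false
set_option linter.unusedVariables false

/-!
# Diagonal unitary matrices and their totally isotropic invariant subspaces
-/

namespace Cfsg.Agent.Helper7.UBlk

open Matrix Module Polynomial Cfsg Cfsg.Agent.Helper7.Herm Cfsg.Agent.Helper7.SUNd Cfsg.Agent.Helper8.HermTwo
  Cfsg.Agent.Helper8.AutSU Cfsg.Agent.Helper7.POrd Cfsg.Agent.Helper8.SURoot

variable {F : Type*} [Field F] [Fintype F] {q N : ℕ} [hF : Fact (Fintype.card F = q ^ 2)]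

omit [Fintype F] hF in
/-- diagonal matrices with entries of norm one are unitary. -/
theorem diag_iso {d : Fin N → F} (hd : ∀ l, d l ^ (q + 1) = 1) (u v : Fin N → F) :
    hermForm N F q (Matrix.diagonal d *ᵥ u) (Matrix.diagonal d *ᵥ v) = hermForm N F q u v := by
  unfold hermForm
  refine Finset.sum_congr rfl fun l _ => ?_
  rw [Matrix.mulVec_diagonal, Matrix.mulVec_diagonal, mul_pow]
  have h := hd l
  rw [pow_succ'] at h
  calc d l * u l * (d l ^ q * v l ^ q) = (d l * d l ^ q) * (u l * v l ^ q) := by ring
    _ = _ := by rw [h, one_mul]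

/-- the coordinates of a totally isotropic invariant subspace at the simple eigenvalues vanish. -/
theorem coord_eq_zero_of_ti_invt {d : Fin N → F} {W : Submodule F (Fin N → F)}
    (hWinv : ∀ w ∈ W, Matrix.diagonal d *ᵥ w ∈ W) (hWti : TIso q W)
    {j : Fin N} (hj : ∀ k, k ≠ j → d k ≠ d j) {w : Fin N → F} (hw : w ∈ W) : w j = 0 := by
  classical
  have key : ∀ K : Finset (Fin N), (fun l => (∏ k ∈ K, (d l - d k)) * w l) ∈ W := by
    intro K
    induction K using Finset.induction_on with
    | empty =>
      have : (fun l => (∏ k ∈ (∅ : Finset (Fin N)), (d l - d k)) * w l) = w := by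
        funext l
        rw [Finset.prod_empty, one_mul]
      rw [this]
      exact hw
    | insert k K hk ih =>
      have : (fun l => (∏ k' ∈ insert k K, (d l - d k')) * w l) =
          Matrix.diagonal d *ᵥ (fun l => (∏ k' ∈ K, (d l - d k')) * w l) -
            d k • (fun l => (∏ k' ∈ K, (d l - d k')) * w l) := by
        funext l
        rw [Finset.prod_insert hk, Pi.sub_apply, Matrix.mulVec_diagonal, Pi.smul_apply, smul_eq_mul]
        ring
      rw [this]
      exact W.sub_mem (hWinv _ ih) (W.smul_mem _ ih)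
  have hv := key (Finset.univ.erase j)
  set v : Fin N → F := fun l => (∏ k ∈ Finset.univ.erase j, (d l - d k)) * w l with hvdef
  have hv0 : ∀ l, l ≠ j → v l = 0 := by
    intro l hl
    have : ∏ k ∈ Finset.univ.erase j, (d l - d k) = 0 :=
      Finset.prod_eq_zero (Finset.mem_erase.mpr ⟨hl, Finset.mem_univ l⟩) (sub_self _)
    show (∏ k ∈ Finset.univ.erase j, (d l - d k)) * w l = 0
    rw [this, zero_mul]
  have hc : ∏ k ∈ Finset.univ.erase j, (d j - d k) ≠ 0 := by
    rw [Finset.prod_ne_zero_iff]
    intro k hk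
    exact sub_ne_zero.mpr (hj k (Finset.mem_erase.mp hk).1).symm
  have h1 := hWti v hv v hv
  unfold hermForm at h1
  rw [Finset.sum_eq_single j (fun l _ hl => by rw [hv0 l hl, zero_mul])
    (fun h => absurd (Finset.mem_univ j) h), ← pow_succ'] at h1
  have h2 : v j = 0 := pow_eq_zero_iff (by omega) |>.mp h1
  rcases mul_eq_zero.mp h2 with h | h
  · exact absurd h hc
  · exact h

/-- a totally isotropic subspace whose first `s` coordinates vanish. -/
theorem finrank_le_of_coord_zero {W : Submodule F (Fin N → F)} (hWti : TIso q W) {s : ℕ} (hs : s ≤ N)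
    (hW0 : ∀ w ∈ W, ∀ l : Fin N, (l : ℕ) < s → w l = 0) : 2 * finrank F ↥W + s ≤ N := by
  set b : Fin s → (Fin N → F) := fun j => Pi.single (Fin.castLE hs j) 1 with hb
  have hcast : ∀ j : Fin s, ((Fin.castLE hs j : Fin N) : ℕ) < s := fun j => j.2
  have honb : ∀ i j, hermForm N F q (b i) (b j) = if i = j then 1 else 0 := by
    intro i j
    by_cases hij : i = j
    · rw [hij, if_pos rfl]
      exact h_single_single _
    · rw [if_neg hij]
      exact h_single_ne (fun h => hij (Fin.castLE_injective hs h))
  have hEd := finrank_span_onb honb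
  have hWb : ∀ w ∈ W, ∀ j, hermForm N F q w (b j) = 0 := by
    intro w hw j
    rw [h_single_right]
    exact hW0 w hw _ (hcast j)
  have hdisj : W ⊓ Submodule.span F (Set.range b) = ⊥ := by
    rw [eq_bot_iff]
    rintro v ⟨hvW, hvE⟩
    rw [Submodule.mem_bot]
    obtain ⟨c, rfl⟩ := (Submodule.mem_span_range_iff_exists_fun F).mp hvE
    have hc : c = 0 := by
      funext j
      rw [← herm_lincomb_onb honb c j]
      exact hWb _ hvW j
    rw [hc]
    simp
  have hle : W ≤ hperp q (W ⊔ Submodule.span F (Set.range b)) := by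
    intro w hw
    rw [mem_hperp]
    intro u hu
    obtain ⟨w', hw', e, he, rfl⟩ := Submodule.mem_sup.mp hu
    obtain ⟨c, rfl⟩ := (Submodule.mem_span_range_iff_exists_fun F).mp he
    rw [h_add_right, hWti w hw w' hw', zero_add, herm_lincomb_right]
    exact Finset.sum_eq_zero fun j _ => by rw [hWb w hw j, mul_zero]
  have h1 := finrank_hperp (q := q) (W ⊔ Submodule.span F (Set.range b))
  have h2 := Submodule.finrank_sup_add_finrank_inf_eq W (Submodule.span F (Set.range b))
  rw [hdisj, finrank_bot, add_zero, hEd] at h2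
  have h3 := Submodule.finrank_mono hle
  omega

end Cfsg.Agent.Helper7.UBlk
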