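import Mathlib
import Cfsg.Agent.Helper7.UTnpF

set_option autoImplicit false
set_option linter.unusedSectionVars false
set_option linter.unusedVariables false

/-!
# The diagonal derangement of `SU_n(q)` when `r` divides `q + 1`
-/

namespace Cfsg.Agent.Helper7.UBlk

open Matrix Module Polynomial Cfsg Cfsg.Agent.Helper7.Herm Cfsg.Agent.Helper7.SUNd Cfsg.Agent.Helper8.HermTwo
  Cfsg.Agent.Helper8.AutSU Cfsg.Agent.Helper7.POrd Cfsg.Agent.Helper8.SURoot

variable {F : Type*} [Field F] [Fintype F] {q N : ℕ} [hF : Fact (Fintype.card F = q ^ 2)]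
variable {r : ℕ} [Fact r.Prime]

/-- a primitive `r`-th root of unity, of norm one. -/
theorem exists_prim_root (hq1 : r ∣ q + 1) :
    ∃ ζ : F, ζ ^ r = 1 ∧ ζ ^ (q + 1) = 1 ∧ ζ ≠ 0 ∧
      ∀ a b : ℕ, a < r → b < r → ζ ^ a = ζ ^ b → a = b := by
  have hrpr : r.Prime := Fact.out
  have hdvd : r ∣ Nat.card Fˣ := by
    rw [Cfsg.Agent.Helper8.GUOrder.card_units_K hF.out, Cfsg.Agent.Helper8.GUOrder.qsq_sub_one hF.out]
    exact Dvd.dvd.mul_left hq1 _
  obtain ⟨ζ, hζ⟩ := exists_prime_orderOf_dvd_card' r hdvd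
  have h1 : (ζ : F) ^ r = 1 := by
    rw [← Units.val_pow_eq_pow_val, ← hζ, pow_orderOf_eq_one, Units.val_one]
  refine ⟨(ζ : F), h1, ?_, ζ.ne_zero, ?_⟩
  · obtain ⟨w, hw⟩ := hq1
    rw [hw, pow_mul, h1, one_pow]
  · intro a b ha hb hab
    have h2 : ζ ^ a = ζ ^ b := by
      apply Units.ext
      rw [Units.val_pow_eq_pow_val, Units.val_pow_eq_pow_val]
      exact hab
    exact pow_injOn_Iio_orderOf (by rw [Set.mem_Iio, hζ]; exact ha) (by rw [Set.mem_Iio, hζ]; exact hb) h2

theorem sum_exp (s t : ℕ) : 2 * ∑ l ∈ Finset.range s, (t + l) = s * (2 * t + s - 1) := by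
  rw [Finset.sum_add_distrib, Finset.sum_const, Finset.card_range, smul_eq_mul, mul_add, mul_comm 2 (∑ l ∈ Finset.range s, l),
    Finset.sum_range_id_mul_two]
  rcases s with _ | s
  · simp
  · have : 2 * t + (s + 1) - 1 = 2 * t + s := by omega
    rw [this, Nat.add_sub_cancel]
    ring

/-- **the diagonal derangement.** -/
theorem exists_diag_der (hr2 : r ≠ 2) (hq1 : r ∣ q + 1) {n m : ℕ} (hn : 3 ≤ n) (hm : 1 ≤ m)
    (hlt : n < r - 1 + 2 * m) :
    ∃ x : Matrix.SpecialLinearGroup (Fin n) F, x ∈ Cfsg.SU n F q ∧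
      (∃ z : F, ((x ^ r : Matrix.SpecialLinearGroup (Fin n) F) : Matrix (Fin n) (Fin n) F) =
        z • (1 : Matrix (Fin n) (Fin n) F)) ∧
      (∀ z : F, (x : Matrix (Fin n) (Fin n) F) ≠ z • (1 : Matrix (Fin n) (Fin n) F)) ∧
      ∀ W : Submodule F (Fin n → F), (∀ u ∈ W, ∀ v ∈ W, Cfsg.hermForm n F q u v = 0) →
        W.map (Matrix.toLin' (x : Matrix (Fin n) (Fin n) F)) ≤ W → finrank F ↥W < m := by
  have hrpr : r.Prime := Fact.out
  have hr3 : 3 ≤ r := by
    have := hrpr.two_le
    omega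
  have hodd : Odd r := hrpr.eq_two_or_odd'.resolve_left hr2
  obtain ⟨ζ, hζr, hζq, hζ0, hζinj⟩ := exists_prim_root (F := F) hq1
  -- the parameters
  obtain ⟨s, hs⟩ : ∃ s, s = min n (r - 1) := ⟨_, rfl⟩
  have hsn : s ≤ n := by rw [hs]; exact min_le_left _ _
  have hsr : s ≤ r - 1 := by rw [hs]; exact min_le_right _ _
  have hs2 : 2 ≤ s := by rw [hs]; exact le_min (by omega) (by omega)
  obtain ⟨t, ht⟩ : ∃ t, r ∣ s * (2 * t + s - 1) ∧ (s = r - 1 → t = 1) := by
    obtain ⟨k, hk⟩ := hodd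
    rcases Nat.even_or_odd s with ⟨u, hu⟩ | ⟨u, hu⟩
    · refine ⟨k + 1 - u, ?_, fun h => by omega⟩
      have : 2 * (k + 1 - u) + s - 1 = r := by omega
      rw [this]
      exact Dvd.intro_left _ rfl
    · refine ⟨2 * k + 1 - u, ?_, fun h => by omega⟩
      have : 2 * (2 * k + 1 - u) + s - 1 = 2 * r := by omega
      rw [this]
      exact Dvd.dvd.mul_left (Dvd.intro_left _ rfl) _
  obtain ⟨htdvd, ht1⟩ := ht
  set e : ℕ → ℕ := fun l => if l < s then t + l else 0 with he
  set d : Fin n → F := fun l => ζ ^ e (l : ℕ) with hd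
  have hd1 : ∀ l, d l ^ (q + 1) = 1 := by
    intro l
    rw [hd]
    show (ζ ^ e (l : ℕ)) ^ (q + 1) = 1
    rw [← pow_mul, mul_comm, pow_mul, hζq, one_pow]
  have hdr : ∀ l, d l ^ r = 1 := by
    intro l
    show (ζ ^ e (l : ℕ)) ^ r = 1
    rw [← pow_mul, mul_comm, pow_mul, hζr, one_pow]
  -- the determinant
  have hsum : r ∣ ∑ l ∈ Finset.range n, e l := by
    have h1 : ∑ l ∈ Finset.range n, e l = ∑ l ∈ Finset.range s, (t + l) := by
      rw [← Finset.sum_range_add_sum_Ico e hsn]
      have h2 : ∑ l ∈ Finset.Ico s n, e l = 0 := by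
        apply Finset.sum_eq_zero
        intro l hl
        rw [Finset.mem_Ico] at hl
        rw [he]
        show (if l < s then t + l else 0) = 0
        rw [if_neg (by omega)]
      rw [h2, add_zero]
      apply Finset.sum_congr rfl
      intro l hl
      rw [Finset.mem_range] at hl
      show (if l < s then t + l else 0) = t + l
      rw [if_pos hl]
    rw [h1]
    have h3 : r ∣ 2 * ∑ l ∈ Finset.range s, (t + l) := by rw [sum_exp]; exact htdvd
    have hcop : Nat.Coprime r 2 := (Nat.coprime_primes hrpr Nat.prime_two).mpr hr2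
    exact hcop.dvd_of_dvd_mul_left h3
  have hdet : (Matrix.diagonal d).det = 1 := by
    rw [Matrix.det_diagonal, hd]
    show ∏ l : Fin n, ζ ^ e (l : ℕ) = 1
    rw [Fin.prod_univ_eq_prod_range (fun l => ζ ^ e l) n, Finset.prod_pow_eq_pow_sum]
    obtain ⟨w, hw⟩ := hsum
    rw [hw, pow_mul, hζr, one_pow]
  -- the eigenvalues at the first `s` coordinates are simple
  have hsimple : ∀ j : Fin n, (j : ℕ) < s → ∀ k, k ≠ j → d k ≠ d j := by
    intro j hj k hkj hdk
    have hdk' : ζ ^ e (k : ℕ) = ζ ^ e (j : ℕ) := hdk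
    have hej : e (j : ℕ) = t + j := by
      show (if (j : ℕ) < s then t + j else 0) = t + j
      rw [if_pos hj]
    by_cases hk : (k : ℕ) < s
    · have hek : e (k : ℕ) = t + k := by
        show (if (k : ℕ) < s then t + k else 0) = t + k
        rw [if_pos hk]
      rw [hej, hek, pow_add, pow_add] at hdk'
      have h4 := mul_left_cancel₀ (pow_ne_zero t hζ0) hdk'
      have h5 := hζinj _ _ (by omega) (by omega) h4
      exact hkj (Fin.ext h5)
    · have hek : e (k : ℕ) = 0 := by
        show (if (k : ℕ) < s then t + k else 0) = 0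
        rw [if_neg hk]
      have hsr' : s = r - 1 := by
        rcases le_total n (r - 1) with h | h
        · rw [min_eq_left h] at hs
          have := k.2
          omega
        · rw [min_eq_right h] at hs
          exact hs
      rw [hej, hek, ht1 hsr'] at hdk'
      have h5 := hζinj _ _ (by omega) (by omega) hdk'
      omega
  refine ⟨(mkS (Matrix.diagonal d) hdet (diag_iso hd1)).1, (mkS (Matrix.diagonal d) hdet (diag_iso hd1)).2,
    ⟨1, ?_⟩, ?_, ?_⟩
  · rw [Matrix.SpecialLinearGroup.coe_pow, one_smul]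
    show (Matrix.diagonal d) ^ r = 1
    rw [Matrix.diagonal_pow]
    have : d ^ r = 1 := by
      funext l
      exact hdr l
    rw [this]
    exact Matrix.diagonal_one
  · intro z hz
    have hz' : Matrix.diagonal d = z • (1 : Matrix (Fin n) (Fin n) F) := hz
    have h0 := congrFun (congrFun hz' ⟨0, by omega⟩) ⟨0, by omega⟩
    have h1 := congrFun (congrFun hz' ⟨1, by omega⟩) ⟨1, by omega⟩
    rw [Matrix.diagonal_apply_eq, Matrix.smul_apply, Matrix.one_apply_eq, smul_eq_mul, mul_one] at h0 h1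
    exact hsimple ⟨0, by omega⟩ (by show 0 < s; omega) ⟨1, by omega⟩ (by
      intro h
      have := congrArg Fin.val h
      simp at this) (by rw [h0, h1])
  · intro W hWti hWinv
    have hWinv' : ∀ w ∈ W, Matrix.diagonal d *ᵥ w ∈ W := by
      intro w hw
      have := hWinv (Submodule.mem_map_of_mem hw)
      rwa [Matrix.toLin'_apply] at this
    have hcoord : ∀ w ∈ W, ∀ l : Fin n, (l : ℕ) < s → w l = 0 := by
      intro w hw l hl
      exact coord_eq_zero_of_ti_invt hWinv' hWti (hsimple l hl) hw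
    have hbound := finrank_le_of_coord_zero hWti hsn hcoord
    rcases le_total n (r - 1) with h | h
    · rw [min_eq_left h] at hs
      omega
    · rw [min_eq_right h] at hs
      omega

end Cfsg.Agent.Helper7.UBlk
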