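import Mathlib
import Cfsg.Agent.Helper7.UTyJ
import Cfsg.Agent.Helper8.UTyC
import Cfsg.Agent.Helper3.UTyD

set_option autoImplicit false
set_option linter.unusedSectionVars false
set_option linter.unusedVariables false

/-!
Subgroups of type `GU_d(q).2` of `Sp_{2d}(q)`, `q` odd: all elements of prime order `r` fix a point iff `r = 2`.
-/

namespace Cfsg.Agent.Helper7.UTy

open Matrix Module Cfsg.Agent.Helper7.Symp Cfsg.Agent.Helper7.SpOrd Cfsg.Agent.Helper8.SpStab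
  Cfsg.Agent.Helper7.POrd Cfsg.Agent.Helper7.SpTI

variable {F : Type*} [Field F] [Fintype F] {r : ℕ} [Fact r.Prime] {d : ℕ}

local notation "MM" => Matrix (Fin d ⊕ Fin d) (Fin d ⊕ Fin d) F
local notation "VV" => (Fin d ⊕ Fin d → F)

theorem main (p : ℕ) [Fact p.Prime] [CharP F p] (hqodd : Odd (Fintype.card F)) (hd : 1 ≤ d)
    (K : Subalgebra F MM) (hK : Cfsg.Geo.IsFieldSubalgebra 2 K)
    (hKf : Cfsg.Geo.IsAdjointClosedFor (Cfsg.sympForm d F) K)
    (hKns : ¬ Cfsg.Geo.IsSelfAdjointFor (Cfsg.sympForm d F) K)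
    (hΩ : r ∣ (Cfsg.Geo.subalgebraNormalizer K).relIndex (Cfsg.spGL d F)) :
    (∀ x ∈ Cfsg.spGL d F,
      (∃ z : F, ((x ^ r : GL (Fin d ⊕ Fin d) F) : MM) = z • (1 : MM)) →
      (∀ z : F, (x : MM) ≠ z • (1 : MM)) →
      ∃ g ∈ Cfsg.spGL d F, g⁻¹ * x * g ∈ Cfsg.Geo.subalgebraNormalizer K) ↔ r = 2 := by
  obtain ⟨δm, z, hmem, hnsq, hsq, hskew, hns, hdec⟩ := exists_delta hqodd hd K hK hKf hKns
  have hKG : KGen K δm z := ⟨hmem, hnsq, hsq, hns, hdec⟩
  have hM : MUS d δm z := ⟨hnsq, hsq, hskew⟩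
  have hS := hM.us
  have hfin : finrank F VV = 2 * d := finrank_std d
  constructor
  · intro hall
    refine forward p hqodd hd hKG hM ?_ hΩ hall
    rw [Cfsg.Agent.Helper8.UTy.card_centralizer hqodd hS hfin,
      Cfsg.Agent.Helper8.UTy.card_frames hqodd d hS hfin]
    rfl
  · intro hr2 x hx hxr _
    subst hr2
    refine backward hqodd hd hKG ?_ x hx hxr
    intro X hiso hXX
    rcases hXX with h | h
    · obtain ⟨g, hg1, hg2⟩ := Cfsg.Agent.Helper3.UTy.exists_conj_comm_of_sq_one' hqodd hfin hS h hiso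
      exact ⟨g, hg1, Or.inl hg2⟩
    · exact Cfsg.Agent.Helper3.UTy.exists_conj_of_sq_neg_one' hqodd hfin hS h hiso

end Cfsg.Agent.Helper7.UTy
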