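import Mathlib
import Cfsg.Agent.Helper7.ChevCharPTab

set_option autoImplicit false

/-!
Table facts for the weakly closed subgroups of `U`: separation of two positive roots by a coroot, descent of a
positive root by a fundamental reflection, and the commutator terms of a fundamental root with the bottom of a string.
-/

namespace Cfsg.Agent.Helper7.Chev

open Cfsg Cfsg.Lie

/-- Strictly increasing lists of natural numbers. -/
def incrB : List ℕ → Bool
  | [] => true
  | [_] => true
  | a :: b :: l => decide (a < b) && incrB (b :: l)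

theorem incrB_pairwise : ∀ l : List ℕ, incrB l = true → l.Pairwise (· < ·)
  | [], _ => List.Pairwise.nil
  | [_], _ => List.pairwise_singleton _ _
  | a :: b :: l, h => by
    have h' : decide (a < b) = true ∧ incrB (b :: l) = true := by
      have : incrB (a :: b :: l) = (decide (a < b) && incrB (b :: l)) := rfl
      rw [this, Bool.and_eq_true] at h
      exact h
    have hab : a < b := of_decide_eq_true h'.1
    have ih := incrB_pairwise (b :: l) h'.2
    rw [List.pairwise_cons]
    refine ⟨fun c hc => ?_, ih⟩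
    rcases List.mem_cons.mp hc with rfl | hc'
    · exact hab
    · exact lt_trans hab ((List.pairwise_cons.mp ih).1 c hc')

namespace Tab

variable (T : Tab)

/-- Two positive roots `m < j` outside the exceptional list are separated by a coroot `r`: `⟨m, r^∨⟩ = 0` and
`0 < |⟨j, r^∨⟩| ≤ bmax`. -/
def T50 (bmax : ℤ) (exc : List (ℕ × ℕ)) : Prop :=
  AllLt T.n (fun m => T.n / 2 ≤ m → AllLt T.n (fun j => m < j →
    (m, j) ∈ exc ∨ (List.range T.n).any (fun r => decide (T.pairing r m = 0 ∧ T.pairing r j ≠ 0 ∧
      -bmax ≤ T.pairing r j ∧ T.pairing r j ≤ bmax)) = true))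

instance (bmax : ℤ) (exc : List (ℕ × ℕ)) : Decidable (T.T50 bmax exc) := by unfold T50; infer_instance

/-- If the fundamental reflection `w_i` lowers the positive root `k`, the commutator terms of `p_i` with the bottom of
the `p_i`-string through `k` are increasing and contain `k` with coefficient `±1`. -/
def T52 : Prop :=
  AllLt T.l (fun i => AllLt T.n (fun k => T.n / 2 ≤ k → k ≠ T.simple i → T.refl (T.simple i) k < k →
    T.n / 2 ≤ T.bot (T.simple i) k ∧ T.bot (T.simple i) k < T.n ∧ T.bot (T.simple i) k ≠ T.simple i ∧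
    incrB ((T.commTerms (T.simple i) (T.bot (T.simple i) k)).map (fun c => c.1)) = true ∧
    (T.commTerms (T.simple i) (T.bot (T.simple i) k)).any
      (fun c => decide (c.1 = k ∧ (c.2.1 = 1 ∨ c.2.1 = -1))) = true))

instance : Decidable T.T52 := by unfold T52; infer_instance

end Tab

set_option maxRecDepth 1000000 in
set_option maxHeartbeats 0 in
theorem T50fast_G2 : fastG2.T50 2 [(6, 10), (6, 11), (10, 11)] := by decide +kernel
theorem T50_G2 : (tabOf chevG2).T50 2 [(6, 10), (6, 11), (10, 11)] := tab_G2 ▸ T50fast_G2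
set_option maxRecDepth 1000000 in
set_option maxHeartbeats 0 in
theorem T50fast_B2 : fastB2.T50 2 [] := by decide +kernel
theorem T50_B2 : (tabOf chevB2).T50 2 [] := tab_B2 ▸ T50fast_B2
set_option maxRecDepth 1000000 in
set_option maxHeartbeats 0 in
theorem T50fast_D4 : fastD4.T50 2 [] := by decide +kernel
theorem T50_D4 : (tabOf chevD4).T50 2 [] := tab_D4 ▸ T50fast_D4
set_option maxRecDepth 1000000 in
set_option maxHeartbeats 0 in
theorem T50fast_F4 : fastF4.T50 2 [] := by decide +kernel
theorem T50_F4 : (tabOf chevF4).T50 2 [] := tab_F4 ▸ T50fast_F4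
set_option maxRecDepth 1000000 in
set_option maxHeartbeats 0 in
theorem T50fast_E6 : fastE6.T50 1 [] := by decide +kernel
theorem T50_E6 : (tabOf chevE6).T50 1 [] := tab_E6 ▸ T50fast_E6
set_option maxRecDepth 1000000 in
set_option maxHeartbeats 0 in
theorem T50fast_E7 : fastE7.T50 1 [] := by decide +kernel
theorem T50_E7 : (tabOf chevE7).T50 1 [] := tab_E7 ▸ T50fast_E7
set_option maxRecDepth 1000000 in
set_option maxHeartbeats 0 in
theorem T50fast_E8 : fastE8.T50 1 [] := by decide +kernel
theorem T50_E8 : (tabOf chevE8).T50 1 [] := tab_E8 ▸ T50fast_E8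

set_option maxRecDepth 1000000 in
set_option maxHeartbeats 0 in
theorem T52fast_G2 : fastG2.T52 := by decide +kernel
theorem T52_G2 : (tabOf chevG2).T52 := tab_G2 ▸ T52fast_G2
set_option maxRecDepth 1000000 in
set_option maxHeartbeats 0 in
theorem T52fast_B2 : fastB2.T52 := by decide +kernel
theorem T52_B2 : (tabOf chevB2).T52 := tab_B2 ▸ T52fast_B2
set_option maxRecDepth 1000000 in
set_option maxHeartbeats 0 in
theorem T52fast_D4 : fastD4.T52 := by decide +kernel
theorem T52_D4 : (tabOf chevD4).T52 := tab_D4 ▸ T52fast_D4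
set_option maxRecDepth 1000000 in
set_option maxHeartbeats 0 in
theorem T52fast_F4 : fastF4.T52 := by decide +kernel
theorem T52_F4 : (tabOf chevF4).T52 := tab_F4 ▸ T52fast_F4
set_option maxRecDepth 1000000 in
set_option maxHeartbeats 0 in
theorem T52fast_E6 : fastE6.T52 := by decide +kernel
theorem T52_E6 : (tabOf chevE6).T52 := tab_E6 ▸ T52fast_E6
set_option maxRecDepth 1000000 in
set_option maxHeartbeats 0 in
theorem T52fast_E7 : fastE7.T52 := by decide +kernel
theorem T52_E7 : (tabOf chevE7).T52 := tab_E7 ▸ T52fast_E7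
set_option maxRecDepth 1000000 in
set_option maxHeartbeats 0 in
theorem T52fast_E8 : fastE8.T52 := by decide +kernel
theorem T52_E8 : (tabOf chevE8).T52 := tab_E8 ▸ T52fast_E8

theorem T52_of_mem (D : ChevalleyDatum)
    (hD : D ∈ [chevG2, chevB2, chevD4, chevF4, chevE6, chevE7, chevE8]) : (tabOf D).T52 :=
  chev_cases (p := fun D => (tabOf D).T52) D hD T52_G2 T52_B2 T52_D4 T52_F4 T52_E6 T52_E7 T52_E8

end Cfsg.Agent.Helper7.Chev
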