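import Mathlib
import Cfsg.Agent.Helper7.ChevCharPC
import Cfsg.Agent.Helper7.TwAutG
import Cfsg.Agent.Helper7.WClosTabA

set_option autoImplicit false
set_option linter.unusedSectionVars false
set_option linter.unusedVariables false

/-!
Subgroups of `U` normalised by `B`: such a subgroup is generated by the root subgroups it contains, provided
any two positive roots can be separated by an element of `H`.
-/

namespace Cfsg.Agent.Helper7.Chev

open Cfsg Cfsg.Lie Matrix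

/-- Every element of a finite field is a sum of two squares. -/
theorem wc_exists_sq_add_sq {K : Type*} [Field K] [Finite K] (x : K) : ∃ a b : K, a ^ 2 + b ^ 2 = x := by
  classical
  haveI := Fintype.ofFinite K
  rcases Nat.even_or_odd (Fintype.card K) with he | ho
  · have hchar : ringChar K = 2 := FiniteField.even_card_iff_char_two.mpr (Nat.even_iff.mp he)
    obtain ⟨s, hs⟩ := FiniteField.isSquare_of_char_two hchar x
    exact ⟨s, 0, by rw [hs]; ring⟩
  · have h := FiniteField.exists_root_sum_quadratic (R := K)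
      (f := Polynomial.X ^ 2) (g := Polynomial.X ^ 2 - Polynomial.C x)
      (Polynomial.degree_X_pow 2) (Polynomial.degree_X_pow_sub_C (by norm_num) x)
      (Nat.odd_iff.mp ho)
    obtain ⟨a, b, hab⟩ := h
    refine ⟨a, b, ?_⟩
    simp only [Polynomial.eval_pow, Polynomial.eval_X, Polynomial.eval_sub, Polynomial.eval_C] at hab
    linear_combination hab

theorem conj_inv_mem_of_mem_normalizer {G : Type*} [Group G] {H : Subgroup G} {n y : G}
    (hn : n ∈ Subgroup.normalizer (H : Set G)) (hy : y ∈ H) : n⁻¹ * y * n ∈ H := by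
  have := (Subgroup.mem_normalizer_iff.mp (inv_mem hn) y).mp hy
  rwa [inv_inv] at this

theorem conj_mem_of_mem_normalizer {G : Type*} [Group G] {H : Subgroup G} {n y : G}
    (hn : n ∈ Subgroup.normalizer (H : Set G)) (hy : y ∈ H) : n * y * n⁻¹ ∈ H :=
  (Subgroup.mem_normalizer_iff.mp hn y).mp hy

variable {D : ChevalleyDatum} {F : Type*} [Field F]

/-- The positive roots whose root subgroup lies in `X`. -/
def wcS (D : ChevalleyDatum) {F : Type*} [Field F] (X : Subgroup (GL D.Idx F)) : Set ℕ :=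
  {k | D.nroots / 2 ≤ k ∧ k < D.nroots ∧ D.rootSubgroup F k ≤ X}

/-- The subgroup generated by the root subgroups in `X` of the roots of index at least `m`. -/
def wcY (D : ChevalleyDatum) {F : Type*} [Field F] (X : Subgroup (GL D.Idx F)) (m : ℕ) :
    Subgroup (GL D.Idx F) :=
  Subgroup.closure {g | ∃ (k : ℕ) (t : F), m ≤ k ∧ k ∈ wcS D X ∧
    (g : Matrix D.Idx D.Idx F) = D.x F k t}

theorem wcY_le_self (X : Subgroup (GL D.Idx F)) (m : ℕ) : wcY D X m ≤ X := by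
  unfold wcY
  rw [Subgroup.closure_le]
  rintro g ⟨k, t, _, hk, hg⟩
  exact hk.2.2 (Subgroup.subset_closure ⟨t, hg⟩)

theorem wcY_le_Uge (X : Subgroup (GL D.Idx F)) (m : ℕ) : wcY D X m ≤ Uge D F m := by
  unfold wcY Uge
  apply Subgroup.closure_mono
  rintro g ⟨k, t, hmk, hk, hg⟩
  exact ⟨k, t, hmk, hk.2.1, hg⟩

theorem wcY_anti (X : Subgroup (GL D.Idx F)) {m m' : ℕ} (h : m ≤ m') : wcY D X m' ≤ wcY D X m := by
  unfold wcY
  apply Subgroup.closure_mono
  rintro g ⟨k, t, hmk, hk, hg⟩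
  exact ⟨k, t, le_trans h hmk, hk, hg⟩

theorem wcY_le_succ {X : Subgroup (GL D.Idx F)} {m : ℕ} (h : m ∉ wcS D X) :
    wcY D X m ≤ wcY D X (m + 1) := by
  unfold wcY
  apply Subgroup.closure_mono
  rintro g ⟨k, t, hmk, hk, hg⟩
  have : k ≠ m := by
    rintro rfl
    exact h hk
  exact ⟨k, t, by omega, hk, hg⟩

theorem xGL_mem_of_mem_wcS (hG1 : Good1 D) {X : Subgroup (GL D.Idx F)} {k : ℕ} (hk : k ∈ wcS D X)
    (t : F) : xGL hG1 hk.2.1 t ∈ X :=
  hk.2.2 (Subgroup.subset_closure ⟨t, xGL_coe hG1 hk.2.1 t⟩)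

theorem mem_wcS_of_forall (hG1 : Good1 D) {X : Subgroup (GL D.Idx F)} {k : ℕ}
    (hk1 : D.nroots / 2 ≤ k) (hk : k < D.nroots) (h : ∀ t : F, xGL hG1 hk t ∈ X) : k ∈ wcS D X := by
  refine ⟨hk1, hk, ?_⟩
  unfold ChevalleyDatum.rootSubgroup
  rw [Subgroup.closure_le]
  rintro g ⟨t, hg⟩
  rw [eq_xGL hG1 hk hg]
  exact h t

theorem xGL_mem_wcY (hG1 : Good1 D) {X : Subgroup (GL D.Idx F)} {k m : ℕ} (hk : k ∈ wcS D X)
    (hmk : m ≤ k) (t : F) : xGL hG1 hk.2.1 t ∈ wcY D X m :=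
  Subgroup.subset_closure ⟨k, t, hmk, hk, xGL_coe hG1 hk.2.1 t⟩

theorem xGL_mem_Uge (hG1 : Good1 D) {k m : ℕ} (hk : k < D.nroots) (hmk : m ≤ k) (t : F) :
    xGL hG1 hk t ∈ Uge D F m :=
  Subgroup.subset_closure ⟨k, t, hmk, hk, xGL_coe hG1 hk t⟩

theorem Uge_eq_bot_of_le {m : ℕ} (h : D.nroots ≤ m) : Uge D F m = ⊥ := by
  rw [eq_bot_iff, ← Uge_top (D := D) (F := F)]
  exact Uge_anti h

/-- The pair of positive roots `m`, `j` is separated by an element `h_r(c)` of `H`. -/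
def Sep (D : ChevalleyDatum) (F : Type*) [Field F] (m j : ℕ) : Prop :=
  ∃ r, r < D.nroots ∧ ∃ c : F, c ≠ 0 ∧ (tabOf D).pairing r m = 0 ∧ c ^ (tabOf D).pairing r j ≠ 1

section main

variable (hG : Good2 D) (hT : T0 D) (h3 : (tabOf D).T3) (h4 : (tabOf D).T4 60) (h7 : (tabOf D).T7)
  (h8 : (tabOf D).T8) (h26 : (tabOf D).T26) {X : Subgroup (GL D.Idx F)}
  (hB : D.borelSubgroup F ≤ Subgroup.normalizer (X : Set (GL D.Idx F)))

include hT in
theorem Uge_le_posUnipotent {m : ℕ} (hm : D.nroots / 2 ≤ m) : Uge D F m ≤ D.posUnipotent F := by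
  rw [posUnipotent_eq_Uge hT]
  exact Uge_anti hm

include hG hT h3 h4 h26 hB in
/-- The leading coefficients at `m` of the elements of `X ∩ U_{≥ m}` form all of `F` as soon as one is non-zero. -/
theorem wc_lead_all [Finite F] {m : ℕ} (hm1 : D.nroots / 2 ≤ m) (hm : m < D.nroots) {t₀ : F}
    (ht₀ : t₀ ≠ 0) {y₀ : GL D.Idx F} (hy₀ : y₀ ∈ Uge D F (m + 1))
    (hx : xGL hG.toGood1 hm t₀ * y₀ ∈ X) :
    ∀ t : F, ∃ y ∈ Uge D F (m + 1), xGL hG.toGood1 hm t * y ∈ X := by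
  have hG1 := hG.toGood1
  have hnorm : ∀ t : F, xGL hG1 hm t ∈ Subgroup.normalizer (Uge D F (m + 1) : Set (GL D.Idx F)) :=
    fun t => xGL_mem_normalizer_Uge_all hG hT h3 h4 h26 hm1 hm (by omega) t
  -- additivity
  have hadd : ∀ t t' : F, (∃ y ∈ Uge D F (m + 1), xGL hG1 hm t * y ∈ X) →
      (∃ y ∈ Uge D F (m + 1), xGL hG1 hm t' * y ∈ X) →
      ∃ y ∈ Uge D F (m + 1), xGL hG1 hm (t + t') * y ∈ X := by
    rintro t t' ⟨y, hy, hxy⟩ ⟨y', hy', hxy'⟩
    refine ⟨(xGL hG1 hm t')⁻¹ * y * xGL hG1 hm t' * y', ?_, ?_⟩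
    · exact mul_mem (conj_inv_mem_of_mem_normalizer (hnorm t') hy) hy'
    · have e : xGL hG1 hm (t + t') * ((xGL hG1 hm t')⁻¹ * y * xGL hG1 hm t' * y') =
          (xGL hG1 hm t * y) * (xGL hG1 hm t' * y') := by
        rw [← xGL_mul]; group
      rw [e]
      exact mul_mem hxy hxy'
  -- stability under squares
  have hsq : ∀ (c t : F), c ≠ 0 → (∃ y ∈ Uge D F (m + 1), xGL hG1 hm t * y ∈ X) →
      ∃ y ∈ Uge D F (m + 1), xGL hG1 hm (c ^ 2 * t) * y ∈ X := by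
    rintro c t hc ⟨y, hy, hxy⟩
    have hh : hGL hG1 hm c hc ∈ D.diagonalSubgroup F := hGL_mem_diagonal hG hm c hc
    have hhB : hGL hG1 hm c hc ∈ D.borelSubgroup F := (le_sup_right : _ ≤ D.borelSubgroup F) hh
    refine ⟨hGL hG1 hm c hc * y * (hGL hG1 hm c hc)⁻¹, ?_, ?_⟩
    · exact conj_mem_of_mem_normalizer (diagonalSubgroup_le_normalizer_Uge hG (m + 1) hh) hy
    · have e1 := hGL_conj_xGL hG hm hc hm t
      rw [hG1.pairing_self hm] at e1
      have e : xGL hG1 hm (c ^ 2 * t) * (hGL hG1 hm c hc * y * (hGL hG1 hm c hc)⁻¹) =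
          hGL hG1 hm c hc * (xGL hG1 hm t * y) * (hGL hG1 hm c hc)⁻¹ := by
        have : (c : F) ^ (2 : ℤ) = c ^ 2 := by norm_cast
        rw [← this, ← e1]; group
      rw [e]
      exact conj_mem_of_mem_normalizer (hB hhB) hxy
  have hzero : ∃ y ∈ Uge D F (m + 1), xGL hG1 hm (0 : F) * y ∈ X :=
    ⟨1, one_mem _, by rw [xGL_zero, mul_one]; exact one_mem _⟩
  have h0 : ∃ y ∈ Uge D F (m + 1), xGL hG1 hm t₀ * y ∈ X := ⟨y₀, hy₀, hx⟩
  have hsq' : ∀ c : F, ∃ y ∈ Uge D F (m + 1), xGL hG1 hm (c ^ 2 * t₀) * y ∈ X := by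
    intro c
    by_cases hc : c = 0
    · rw [hc]
      have : (0 : F) ^ 2 * t₀ = 0 := by ring
      rw [this]
      exact hzero
    · exact hsq c t₀ hc h0
  intro t
  obtain ⟨a, b, hab⟩ := wc_exists_sq_add_sq (t / t₀)
  have e : t = a ^ 2 * t₀ + b ^ 2 * t₀ := by
    rw [← add_mul, hab, div_mul_cancel₀ _ ht₀]
  rw [e]
  exact hadd _ _ (hsq' a) (hsq' b)

include hG hT h3 h4 h7 hB in
/-- Removing the next factor when its root subgroup lies in `X`. -/
theorem wc_step_mem {m j : ℕ} (hm : m < D.nroots) (hj1 : D.nroots / 2 ≤ j) (hjS : j ∈ wcS D X) {t : F}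
    {y : GL D.Idx F} (hy : y ∈ Uge D F j) (hx : xGL hG.toGood1 hm t * y ∈ X) :
    ∃ z ∈ Uge D F (j + 1), xGL hG.toGood1 hm t * z ∈ X := by
  have hG1 := hG.toGood1
  have hj := hjS.2.1
  obtain ⟨c, z, hz, rfl⟩ := Uge_decomp hG hT h3 h4 h7 hj1 hj hy
  refine ⟨z, hz, ?_⟩
  have hzB : z ∈ D.borelSubgroup F :=
    (le_sup_left : _ ≤ D.borelSubgroup F) (Uge_le_posUnipotent hT (by omega) hz)
  have h1 : z⁻¹ * (xGL hG1 hj c)⁻¹ * z ∈ X :=
    conj_inv_mem_of_mem_normalizer (hB hzB) (inv_mem (xGL_mem_of_mem_wcS hG1 hjS c))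
  have e : xGL hG1 hm t * z = xGL hG1 hm t * (xGL hG1 hj c * z) * (z⁻¹ * (xGL hG1 hj c)⁻¹ * z) := by
    group
  rw [e]
  exact mul_mem hx h1

include hG hT h3 h4 h7 h8 h26 hB in
/-- Removing the next factor with the help of a separating element of `H`. -/
theorem wc_step_torus {m j : ℕ} (hm : m < D.nroots) (hj1 : D.nroots / 2 ≤ j) (hj : j < D.nroots)
    (hjS : j ∉ wcS D X) (hIH : X ⊓ Uge D F j ≤ wcY D X j) (hsep : Sep D F m j) {t : F}
    {y : GL D.Idx F} (hy : y ∈ Uge D F j) (hx : xGL hG.toGood1 hm t * y ∈ X) :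
    y ∈ Uge D F (j + 1) := by
  have hG1 := hG.toGood1
  obtain ⟨r, hr, c, hc, hp0, hpj⟩ := hsep
  obtain ⟨a, z, hz, rfl⟩ := Uge_decomp hG hT h3 h4 h7 hj1 hj hy
  set h := hGL hG1 hr c hc with hh
  have hhd : h ∈ D.diagonalSubgroup F := hGL_mem_diagonal hG hr c hc
  have hhB : h ∈ D.borelSubgroup F := (le_sup_right : _ ≤ D.borelSubgroup F) hhd
  have hz' : h * z * h⁻¹ ∈ Uge D F (j + 1) :=
    conj_mem_of_mem_normalizer (diagonalSubgroup_le_normalizer_Uge hG (j + 1) hhd) hz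
  have hx' : h * (xGL hG1 hm t * (xGL hG1 hj a * z)) * h⁻¹ ∈ X :=
    conj_mem_of_mem_normalizer (hB hhB) hx
  have e1 := hGL_conj_xGL hG hr hc hm t
  rw [hp0, zpow_zero, one_mul, ← hh] at e1
  have e2 := hGL_conj_xGL hG hr hc hj a
  rw [← hh] at e2
  set b := (tabOf D).pairing r j with hb
  have e : h * (xGL hG1 hm t * (xGL hG1 hj a * z)) * h⁻¹ =
      xGL hG1 hm t * (xGL hG1 hj (c ^ b * a) * (h * z * h⁻¹)) := by
    conv_rhs => rw [← e1, ← e2]
    group
  rw [e] at hx'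
  -- the quotient of the two elements
  have hq : z⁻¹ * xGL hG1 hj ((c ^ b - 1) * a) * (h * z * h⁻¹) ∈ X := by
    have := mul_mem (inv_mem hx) hx'
    have e' : (xGL hG1 hm t * (xGL hG1 hj a * z))⁻¹ *
        (xGL hG1 hm t * (xGL hG1 hj (c ^ b * a) * (h * z * h⁻¹))) =
        z⁻¹ * xGL hG1 hj ((c ^ b - 1) * a) * (h * z * h⁻¹) := by
      have : (c ^ b - 1) * a = -a + c ^ b * a := by ring
      rw [this, ← xGL_mul, ← xGL_inv]; group
    rwa [e'] at this
  have hqU : z⁻¹ * xGL hG1 hj ((c ^ b - 1) * a) * (h * z * h⁻¹) ∈ Uge D F j :=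
    mul_mem (mul_mem (inv_mem (Uge_anti (by omega) hz)) (xGL_mem_Uge hG1 hj le_rfl _))
      (Uge_anti (by omega) hz')
  have hq1 : z⁻¹ * xGL hG1 hj ((c ^ b - 1) * a) * (h * z * h⁻¹) ∈ Uge D F (j + 1) :=
    wcY_le_Uge X (j + 1) (wcY_le_succ hjS (hIH ⟨hq, hqU⟩))
  have hx1 : xGL hG1 hj ((c ^ b - 1) * a) ∈ Uge D F (j + 1) := by
    have := mul_mem (mul_mem hz hq1) (inv_mem hz')
    have e' : z * (z⁻¹ * xGL hG1 hj ((c ^ b - 1) * a) * (h * z * h⁻¹)) * (h * z * h⁻¹)⁻¹ =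
        xGL hG1 hj ((c ^ b - 1) * a) := by group
    rwa [e'] at this
  have h0 := eq_zero_of_xGL_mem_Uge hG hT h8 hj1 hj hx1
  have ha : a = 0 := by
    rcases mul_eq_zero.mp h0 with h | h
    · exact absurd (sub_eq_zero.mp h) hpj
    · exact h
  rw [ha, xGL_zero, one_mul]
  exact hz

include hG hT h3 h4 h7 h8 h26 hB in
/-- If some element of `X` has leading root `m`, the root subgroup `X_m` lies in `X`. -/
theorem wc_L2 [Finite F] {m : ℕ} (hm1 : D.nroots / 2 ≤ m) (hm : m < D.nroots)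
    (hIH : ∀ m', m < m' → X ⊓ Uge D F m' ≤ wcY D X m')
    (hsep : ∀ j, m < j → j < D.nroots → j ∉ wcS D X →
      (∃ t : F, t ≠ 0 ∧ ∃ y ∈ Uge D F j, xGL hG.toGood1 hm t * y ∈ X) → Sep D F m j)
    {t₀ : F} (ht₀ : t₀ ≠ 0) {y₀ : GL D.Idx F} (hy₀ : y₀ ∈ Uge D F (m + 1))
    (hx : xGL hG.toGood1 hm t₀ * y₀ ∈ X) : m ∈ wcS D X := by
  have hG1 := hG.toGood1
  have hQ : ∀ d, m + 1 + d ≤ D.nroots →
      ∀ t : F, ∃ y ∈ Uge D F (m + 1 + d), xGL hG1 hm t * y ∈ X := by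
    intro d
    induction d with
    | zero =>
      intro _
      exact wc_lead_all hG hT h3 h4 h26 hB hm1 hm ht₀ hy₀ hx
    | succ d ih =>
      intro hd
      have ih' := ih (by omega)
      set j := m + 1 + d with hj
      have hjn : j < D.nroots := by omega
      have hj1 : D.nroots / 2 ≤ j := by omega
      have e : m + 1 + (d + 1) = j + 1 := by omega
      rw [e]
      intro t
      obtain ⟨y, hy, hxy⟩ := ih' t
      by_cases hjS : j ∈ wcS D X
      · exact wc_step_mem hG hT h3 h4 h7 hB hm hj1 hjS hy hxy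
      · obtain ⟨y1, hy1, hxy1⟩ := ih' 1
        have hs := hsep j (by omega) hjn hjS ⟨1, one_ne_zero, y1, hy1, hxy1⟩
        exact ⟨y, wc_step_torus hG hT h3 h4 h7 h8 h26 hB hm hj1 hjn hjS (hIH j (by omega)) hs hy hxy,
          hxy⟩
  apply mem_wcS_of_forall hG1 hm1 hm
  intro t
  obtain ⟨y, hy, hxy⟩ := hQ (D.nroots - (m + 1)) (by omega) t
  have e : m + 1 + (D.nroots - (m + 1)) = D.nroots := by omega
  rw [e, Uge_top, Subgroup.mem_bot] at hy
  rwa [hy, mul_one] at hxy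

include hG hT h3 h4 h7 h8 h26 hB in
/-- A subgroup of `U` normalised by `B` is generated by the root subgroups it contains. -/
theorem wc_L1 [Finite F]
    (hsep : ∀ m j, D.nroots / 2 ≤ m → ∀ hm : m < D.nroots, m < j → j < D.nroots →
      (∀ m', m < m' → X ⊓ Uge D F m' ≤ wcY D X m') → j ∉ wcS D X →
      (∃ t : F, t ≠ 0 ∧ ∃ y ∈ Uge D F j, xGL hG.toGood1 hm t * y ∈ X) → Sep D F m j) :
    ∀ d m, m + d = D.nroots → D.nroots / 2 ≤ m → X ⊓ Uge D F m ≤ wcY D X m := by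
  have hG1 := hG.toGood1
  intro d
  induction d using Nat.strong_induction_on with
  | _ d ih =>
    intro m hmd hm1
    have hIH : ∀ m', m < m' → X ⊓ Uge D F m' ≤ wcY D X m' := by
      intro m' hmm'
      by_cases hm' : m' ≤ D.nroots
      · exact ih (D.nroots - m') (by omega) m' (by omega) (by omega)
      · rw [Uge_eq_bot_of_le (by omega)]
        exact le_trans inf_le_right bot_le
    intro x hx
    rw [Subgroup.mem_inf] at hx
    obtain ⟨hxX, hxU⟩ := hx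
    by_cases hm : m < D.nroots
    · obtain ⟨t, y, hy, rfl⟩ := Uge_decomp hG hT h3 h4 h7 hm1 hm hxU
      by_cases ht : t = 0
      · rw [ht, xGL_zero, one_mul] at hxX ⊢
        exact wcY_anti X (Nat.le_succ m) (hIH (m + 1) (by omega) ⟨hxX, hy⟩)
      · have hmS : m ∈ wcS D X :=
          wc_L2 hG hT h3 h4 h7 h8 h26 hB hm1 hm hIH
            (fun j hmj hj hjS hex => hsep m j hm1 hm hmj hj hIH hjS hex) ht hy hxX
        have hxm : xGL hG1 hm t ∈ X := xGL_mem_of_mem_wcS hG1 hmS t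
        have hyX : y ∈ X := by
          have := mul_mem (inv_mem hxm) hxX
          rwa [inv_mul_cancel_left] at this
        exact mul_mem (xGL_mem_wcY hG1 hmS le_rfl t)
          (wcY_anti X (Nat.le_succ m) (hIH (m + 1) (by omega) ⟨hyX, hy⟩))
    · rw [Uge_eq_bot_of_le (by omega), Subgroup.mem_bot] at hxU
      rw [hxU]
      exact one_mem _

end main

end Cfsg.Agent.Helper7.Chev
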