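import Mathlib
import Cfsg.Agent.Helper7.WClosA

set_option autoImplicit false
set_option linter.unusedSectionVars false
set_option linter.unusedVariables false

/-!
Subgroups of `U` normalised by `B`, continued: the factors of an increasing word lying in `X`; separating elements
of `H` from the tables.
-/

namespace Cfsg.Agent.Helper7.Chev

open Cfsg Cfsg.Lie Matrix

/-- In a field with at least three elements some non-zero element is not `1`. -/
theorem exists_zpow_ne_one_of_three_le {K : Type*} [Field K] [Fintype K] (h : 3 ≤ Fintype.card K) {b : ℤ}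
    (hb : b = 1 ∨ b = -1) : ∃ c : K, c ≠ 0 ∧ c ^ b ≠ 1 := by
  classical
  have hex : ∃ c : K, c ≠ 0 ∧ c ≠ 1 := by
    by_contra hcon
    push Not at hcon
    have hsub : (Finset.univ : Finset K) ⊆ {0, 1} := by
      intro c _
      by_cases hc : c = 0
      · simp [hc]
      · simp [hcon c hc]
    have := Finset.card_le_card hsub
    rw [Finset.card_univ] at this
    have h2 : ({0, 1} : Finset K).card ≤ 2 := Finset.card_le_two
    omega
  obtain ⟨c, hc0, hc1⟩ := hex
  refine ⟨c, hc0, ?_⟩
  rcases hb with rfl | rfl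
  · simpa using hc1
  · intro h1
    rw [_root_.zpow_neg, zpow_one, inv_eq_one] at h1
    exact hc1 h1

/-- In a field with at least four elements some non-zero element has square different from `1`. -/
theorem exists_zpow_ne_one_of_four_le {K : Type*} [Field K] [Fintype K] (h : 4 ≤ Fintype.card K) {b : ℤ}
    (hb0 : b ≠ 0) (hb1 : -2 ≤ b) (hb2 : b ≤ 2) : ∃ c : K, c ≠ 0 ∧ c ^ b ≠ 1 := by
  classical
  have hex : ∃ c : K, c ≠ 0 ∧ c ≠ 1 ∧ c ≠ -1 := by
    by_contra hcon
    push Not at hcon
    have hsub : (Finset.univ : Finset K) ⊆ {0, 1, -1} := by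
      intro c _
      by_cases hc : c = 0
      · simp [hc]
      · by_cases hc1 : c = 1
        · simp [hc1]
        · simp [hcon c hc hc1]
    have := Finset.card_le_card hsub
    rw [Finset.card_univ] at this
    have h2 : ({0, 1, -1} : Finset K).card ≤ 3 := Finset.card_le_three
    omega
  obtain ⟨c, hc0, hc1, hc2⟩ := hex
  have hsq : c ^ 2 ≠ 1 := by
    intro h1
    have h2 : (c - 1) * (c + 1) = 0 := by linear_combination h1
    rcases mul_eq_zero.mp h2 with h | h
    · exact hc1 (sub_eq_zero.mp h)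
    · exact hc2 (eq_neg_of_add_eq_zero_left h)
  refine ⟨c, hc0, ?_⟩
  have hcases : b = 1 ∨ b = -1 ∨ b = 2 ∨ b = -2 := by omega
  rcases hcases with rfl | rfl | rfl | rfl
  · simpa using hc1
  · intro h1
    rw [_root_.zpow_neg, zpow_one, inv_eq_one] at h1
    exact hc1 h1
  · intro h1
    apply hsq
    exact_mod_cast h1
  · intro h1
    rw [_root_.zpow_neg, inv_eq_one] at h1
    apply hsq
    exact_mod_cast h1

variable {D : ChevalleyDatum} {F : Type*} [Field F]

/-- A separating element of `H` from the table. -/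
theorem sep_of_T50 {bmax : ℤ} {exc : List (ℕ × ℕ)} (h50 : (tabOf D).T50 bmax exc)
    (hF : ∀ b : ℤ, b ≠ 0 → -bmax ≤ b → b ≤ bmax → ∃ c : F, c ≠ 0 ∧ c ^ b ≠ 1) {m j : ℕ}
    (hm1 : D.nroots / 2 ≤ m) (hmj : m < j) (hj : j < D.nroots) (hexc : (m, j) ∉ exc) :
    Sep D F m j := by
  have hm : m < D.nroots := by omega
  rcases h50 m hm hm1 j hj hmj with h | h
  · exact absurd h hexc
  · rw [List.any_eq_true] at h
    obtain ⟨r, hr, hdec⟩ := h
    rw [List.mem_range] at hr
    obtain ⟨h0, hne, hlo, hhi⟩ := of_decide_eq_true hdec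
    obtain ⟨c, hc, hcb⟩ := hF _ hne hlo hhi
    exact ⟨r, hr, c, hc, h0, hcb⟩

section extract

variable (hG : Good2 D) (hT : T0 D) (h8 : (tabOf D).T8) {X : Subgroup (GL D.Idx F)}

include hG hT h8 in
/-- The factors of an increasing word lying in `X` lie in `X`. -/
theorem wc_extract {m₀ : ℕ} (hm₀ : D.nroots / 2 ≤ m₀)
    (hL : ∀ m', m₀ ≤ m' → X ⊓ Uge D F m' ≤ wcY D X m') :
    ∀ w : List (ℕ × F), w.Pairwise (fun a b => a.1 < b.1) → (∀ q ∈ w, m₀ ≤ q.1 ∧ q.1 < D.nroots) →
      (w.map (xGL' hG.toGood1)).prod ∈ X → ∀ q ∈ w, q.2 ≠ 0 → q.1 ∈ wcS D X := by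
  have hG1 := hG.toGood1
  intro w
  induction w with
  | nil => intro _ _ _ q hq; simp at hq
  | cons p w ih =>
    intro hpw hrange hprod q hq hq0
    rw [List.pairwise_cons] at hpw
    obtain ⟨hp1, hp2⟩ := hrange p List.mem_cons_self
    have hrange' : ∀ q ∈ w, m₀ ≤ q.1 ∧ q.1 < D.nroots :=
      fun q hq => hrange q (List.mem_cons_of_mem _ hq)
    rw [List.map_cons, List.prod_cons] at hprod
    have hxp : xGL' hG1 p = xGL hG1 hp2 p.2 := by
      unfold xGL'
      rw [dif_pos hp2]
    have hP' : (w.map (xGL' hG1)).prod ∈ Uge D F (p.1 + 1) := by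
      apply Subgroup.list_prod_mem
      intro x hx
      rw [List.mem_map] at hx
      obtain ⟨q', hq', rfl⟩ := hx
      have h1 := hpw.1 q' hq'
      have h2 := (hrange' q' hq').2
      exact Subgroup.subset_closure ⟨q'.1, q'.2, h1, h2, xGL'_coe hG1 q'⟩
    have hprodU : xGL' hG1 p * (w.map (xGL' hG1)).prod ∈ Uge D F p.1 := by
      apply mul_mem
      · rw [hxp]; exact xGL_mem_Uge hG1 hp2 le_rfl _
      · exact Uge_anti (Nat.le_succ _) hP'
    -- the tail lies in `X`, and the head lies in `X` if its parameter is not zero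
    have key : (p.2 ≠ 0 → p.1 ∈ wcS D X) ∧ (w.map (xGL' hG1)).prod ∈ X := by
      by_cases hS : p.1 ∈ wcS D X
      · refine ⟨fun _ => hS, ?_⟩
        have hx : xGL' hG1 p ∈ X := by rw [hxp]; exact xGL_mem_of_mem_wcS hG1 hS p.2
        have := mul_mem (inv_mem hx) hprod
        rwa [inv_mul_cancel_left] at this
      · have h1 : xGL' hG1 p * (w.map (xGL' hG1)).prod ∈ Uge D F (p.1 + 1) :=
          wcY_le_Uge X (p.1 + 1) (wcY_le_succ hS (hL p.1 hp1 ⟨hprod, hprodU⟩))
        have h2 : xGL hG1 hp2 p.2 ∈ Uge D F (p.1 + 1) := by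
          have := mul_mem h1 (inv_mem hP')
          rwa [mul_inv_cancel_right, hxp] at this
        have h0 := eq_zero_of_xGL_mem_Uge hG hT h8 (le_trans hm₀ hp1) hp2 h2
        refine ⟨fun h => absurd h0 h, ?_⟩
        rw [hxp, h0, xGL_zero, one_mul] at hprod
        exact hprod
    rcases List.mem_cons.mp hq with rfl | hq'
    · exact key.1 hq0
    · exact ih hpw.2 hrange' key.2 q hq' hq0

end extract

end Cfsg.Agent.Helper7.Chev
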