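import Mathlib
import Cfsg.Agent.Helper7.WClosB

set_option autoImplicit false
set_option linter.unusedSectionVars false
set_option linter.unusedVariables false

/-!
Weakly closed subgroups of `U` generated by root subgroups are unipotent radicals of standard parabolic subgroups.
-/

namespace Cfsg.Agent.Helper7.Chev

open Cfsg Cfsg.Lie Matrix

variable {D : ChevalleyDatum} {F : Type*} [Field F]

/-- The fundamental roots whose root subgroup does not lie in `X`. -/
def wcJ (D : ChevalleyDatum) {F : Type*} [Field F] (X : Subgroup (GL D.Idx F)) : Set ℕ :=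
  {i | i < D.rank ∧ D.simple i ∉ wcS D X}

/-- Conjugation of a root element by `n_i`. -/
theorem wc_nGL_conj_xGL (hG : Good2 D) {i : ℕ} (hi : i < D.rank) {s : ℕ} (hs : s < D.nroots) (t : F) :
    nGL hG.toGood1 (hG.toGood1.simple_lt hi) * xGL hG.toGood1 hs t *
        (nGL hG.toGood1 (hG.toGood1.simple_lt hi))⁻¹ =
      xGL hG.toGood1 (hG.refl_lt hi hs) ((((tabOf D).eta (D.simple i) s : ℤ) : F) * t) := by
  rw [mul_inv_eq_iff_eq_mul]
  apply Units.ext
  rw [Units.val_mul, Units.val_mul, nGL_coe, xGL_coe, xGL_coe, nMat_mul_x hG hi hs]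

section part2

variable (hG : Good2 D) (hT : T0 D) (h3 : (tabOf D).T3) (h4 : (tabOf D).T4 60) (h6 : (tabOf D).T6)
  (h8 : (tabOf D).T8) (h9 : (tabOf D).T9) (h26 : (tabOf D).T26) (h52 : (tabOf D).T52)
  {X : Subgroup (GL D.Idx F)} (hXU : X ≤ D.posUnipotent F)
  (hB : D.borelSubgroup F ≤ Subgroup.normalizer (X : Set (GL D.Idx F)))
  (hL : ∀ m, D.nroots / 2 ≤ m → X ⊓ Uge D F m ≤ wcY D X m)
  (hwc : ∀ g ∈ D.group F, X.map (MulAut.conj g).toMonoidHom ≤ D.posUnipotent F →
    X.map (MulAut.conj g).toMonoidHom = X)

include hT hXU hL in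
theorem wc_eq_wcY : X = wcY D X (D.nroots / 2) := by
  apply le_antisymm
  · intro x hx
    have hxU := hXU hx
    rw [posUnipotent_eq_Uge (F := F) hT] at hxU
    exact hL _ le_rfl ⟨hx, hxU⟩
  · exact wcY_le_self X _

include hG hT h6 hXU hL hwc in
/-- The set of roots of `X` is stable under the fundamental reflections whose root subgroup is not in `X`. -/
theorem wc_refl_mem {i : ℕ} (hi : i < D.rank) (hiS : D.simple i ∉ wcS D X) {k : ℕ} (hk : k ∈ wcS D X) :
    (tabOf D).refl (D.simple i) k ∈ wcS D X := by
  have hG1 := hG.toGood1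
  set n : GL D.Idx F := nGL hG1 (hG1.simple_lt hi) with hn
  have hnG : n ∈ D.group F := by
    apply monomialSubgroup_le_group hG1
    apply (le_sup_right : _ ≤ D.monomialSubgroup F)
    exact Subgroup.subset_closure ⟨D.simple i, hG1.simple_lt hi, nGL_coe hG1 _⟩
  have hne : ∀ k, k ∈ wcS D X → k ≠ D.simple i := by
    rintro k hk rfl
    exact hiS hk
  have hpos : ∀ k, k ∈ wcS D X → D.nroots / 2 ≤ (tabOf D).refl (D.simple i) k :=
    fun k hk => (h6 i hi k hk.2.1 hk.1 (hne k hk)).1
  have hmapU : X.map (MulAut.conj n).toMonoidHom ≤ D.posUnipotent F := by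
    rw [Subgroup.map_le_iff_le_comap]
    conv_lhs => rw [wc_eq_wcY hT hXU hL]
    unfold wcY
    rw [Subgroup.closure_le]
    rintro g ⟨k, t, _, hk, hg⟩
    have hkl := hk.2.1
    rw [eq_xGL hG1 hkl hg]
    change n * xGL hG1 hkl t * n⁻¹ ∈ D.posUnipotent F
    rw [hn, wc_nGL_conj_xGL hG hi hkl t]
    apply Subgroup.subset_closure
    exact ⟨_, _, (isPosRoot_iff hT (hG.refl_lt hi hkl)).mpr (hpos k hk), xGL_coe hG1 _ _⟩
  have hmap := hwc n hnG hmapU
  have hkl := hk.2.1
  apply mem_wcS_of_forall hG1 (hpos k hk) (hG.refl_lt hi hkl)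
  intro t
  have hη := eta_sq hG1 (hG1.simple_lt hi) hkl
  have h1 : n * xGL hG1 hkl ((((tabOf D).eta (D.simple i) k : ℤ) : F) * t) * n⁻¹ ∈
      X.map (MulAut.conj n).toMonoidHom :=
    ⟨_, xGL_mem_of_mem_wcS hG1 hk _, rfl⟩
  rw [hmap, hn, wc_nGL_conj_xGL hG hi hkl, ← mul_assoc, ← Int.cast_mul, hη, Int.cast_one, one_mul] at h1
  exact h1

include hG hT h6 h9 hXU hL hwc in
/-- No root of `X` lies in the root subsystem spanned by the fundamental roots outside `X`. -/
theorem wc_not_inRootSub : ∀ k, k ∈ wcS D X → ¬ D.InRootSub (wcJ D X) k := by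
  have hG1 := hG.toGood1
  intro k
  induction k using Nat.strong_induction_on with
  | _ k ih =>
    intro hk hkJ
    rcases h9 k hk.2.1 hk.1 with ⟨i, hi, his⟩ | ⟨i, hi, hcr, hpos', hlt⟩
    · have hi' : i < D.rank := hi
      have his' : D.simple i = k := his
      have hiJ : i ∈ wcJ D X := by
        by_contra hiJ
        have h0 : cr D k i = 0 := hkJ.2 i hi' hiJ
        rw [← his', hG1.cr_simple hi' hi', if_pos rfl] at h0
        exact one_ne_zero h0
      apply hiJ.2
      rw [his']
      exact hk
    · have hi' : i < D.rank := hi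
      have hiJ : i ∈ wcJ D X := by
        by_contra hiJ
        exact hcr (hkJ.2 i hi' hiJ)
      have h1 := wc_refl_mem hG hT h6 hXU hL hwc hi' hiJ.2 hk
      exact ih _ hlt h1 (inRootSub_refl hG hkJ hi' hiJ)

include hG hT h3 h4 h6 h8 h9 h26 h52 hXU hB hL hwc in
/-- Every positive root outside the root subsystem spanned by the fundamental roots outside `X` is a root of `X`. -/
theorem wc_mem_of_not_inRootSub : ∀ k, D.nroots / 2 ≤ k → k < D.nroots →
    ¬ D.InRootSub (wcJ D X) k → k ∈ wcS D X := by
  have hG1 := hG.toGood1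
  intro k
  induction k using Nat.strong_induction_on with
  | _ k ih =>
    intro hk1 hk hkJ
    rcases h9 k hk hk1 with ⟨i, hi, his⟩ | ⟨i, hi, hcr, hpos', hlt⟩
    · have hi' : i < D.rank := hi
      have his' : D.simple i = k := his
      by_contra hkS
      apply hkJ
      rw [← his']
      exact inRootSub_simple hG hi' ⟨hi', by rw [his']; exact hkS⟩
    · have hi' : i < D.rank := hi
      have hpos : D.nroots / 2 ≤ (tabOf D).refl (D.simple i) k := hpos'
      have hlt' : (tabOf D).refl (D.simple i) k < k := hlt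
      have hkne : k ≠ D.simple i := by
        intro h
        rw [h, refl_self] at hpos
        have hp := ((hT _ (hG1.simple_lt hi')).2.1
          ((isPosRoot_iff hT (hG1.simple_lt hi')).mpr (simple_pos hG1 hT hi'))).2
        omega
      by_cases hiS : D.simple i ∈ wcS D X
      · -- the commutator of `x_{p_i}` with the bottom of the string
        obtain ⟨hb1, hb2, hb3, hincr, hany⟩ := h52 i hi' k hk hk1 hkne hlt'
        set s := (tabOf D).bot (D.simple i) k with hs
        have hs1 : D.nroots / 2 ≤ s := hb1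
        have hsl : s < D.nroots := hb2
        have hsr : s ≠ D.simple i := hb3
        have hr := hG1.simple_lt hi'
        have hr1 := simple_pos hG1 hT hi'
        have hsn : s ≠ D.neg (D.simple i) := by
          have hp := ((hT _ hr).2.1 ((isPosRoot_iff hT hr).mpr hr1)).2
          omega
        have hc := comm_all (F := F) hG h3 h4 hr hsl hsr hsn (-1) 1
        set w := D.commWord F (D.simple i) s (-1) 1 with hw
        -- the commutator lies in `X`
        have hW : (w.map (xGL' hG1)).prod ∈ X := by
          have e : (w.map (xGL' hG1)).prod =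
              (xGL hG1 hsl 1)⁻¹ * (xGL hG1 hr (-1))⁻¹ * xGL hG1 hsl 1 * xGL hG1 hr (-1) := by
            have : xGL hG1 hsl 1 * xGL hG1 hr (-1) =
                xGL hG1 hr (-1) * xGL hG1 hsl 1 * (w.map (xGL' hG1)).prod := by
              apply Units.ext
              rw [Units.val_mul, Units.val_mul, Units.val_mul, xGL_coe, xGL_coe, wordGL_coe, hc]
            rw [mul_assoc _ (xGL hG1 hsl 1), this]
            group
          rw [e]
          have hsB : xGL hG1 hsl (1 : F) ∈ D.borelSubgroup F := by
            apply (le_sup_left : _ ≤ D.borelSubgroup F)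
            exact Subgroup.subset_closure ⟨s, 1, (isPosRoot_iff hT hsl).mpr hs1, xGL_coe hG1 hsl 1⟩
          exact mul_mem (conj_inv_mem_of_mem_normalizer (hB hsB)
            (inv_mem (xGL_mem_of_mem_wcS hG1 hiS (-1)))) (xGL_mem_of_mem_wcS hG1 hiS (-1))
        -- the word is increasing
        have hpw : w.Pairwise (fun a b => a.1 < b.1) := by
          rw [hw]
          unfold ChevalleyDatum.commWord
          rw [List.pairwise_map]
          have := incrB_pairwise _ hincr
          rw [List.pairwise_map, commTerms_eq] at this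
          exact this
        have hrange : ∀ q ∈ w, D.nroots / 2 ≤ q.1 ∧ q.1 < D.nroots := by
          intro q hq
          rw [hw] at hq
          unfold ChevalleyDatum.commWord at hq
          rw [List.mem_map] at hq
          obtain ⟨c, hc', rfl⟩ := hq
          have hterms := h26 (D.simple i) hr hr1 s hsl hs1
          rw [List.all_eq_true] at hterms
          rw [← commTerms_eq] at hc'
          have := of_decide_eq_true (hterms c hc')
          have h2 : c.1 < D.nroots := this.2.2
          exact ⟨by omega, h2⟩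
        rw [List.any_eq_true] at hany
        obtain ⟨c, hcmem, hcdec⟩ := hany
        obtain ⟨hck, hcpm⟩ := of_decide_eq_true hcdec
        rw [commTerms_eq] at hcmem
        have hq : (c.1, ((c.2.1 : ℤ) : F) * (-(-1 : F)) ^ c.2.2.1 * (1 : F) ^ c.2.2.2) ∈ w := by
          rw [hw]
          unfold ChevalleyDatum.commWord
          exact List.mem_map.mpr ⟨c, hcmem, rfl⟩
        have hq0 : ((c.2.1 : ℤ) : F) * (-(-1 : F)) ^ c.2.2.1 * (1 : F) ^ c.2.2.2 ≠ 0 := by
          rw [neg_neg, one_pow, one_pow, mul_one, mul_one]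
          rcases hcpm with h | h <;> rw [h] <;> simp
        have := wc_extract hG hT h8 le_rfl hL w hpw hrange hW _ hq hq0
        rw [← hck]
        exact this
      · have hiJ : i ∈ wcJ D X := ⟨hi', hiS⟩
        have hk0 : (tabOf D).refl (D.simple i) k ∈ wcS D X := by
          apply ih _ hlt' hpos (hG.refl_lt hi' hk)
          intro h
          apply hkJ
          have := inRootSub_refl hG h hi' hiJ
          rwa [hG.refl_refl hi' hk] at this
        have := wc_refl_mem hG hT h6 hXU hL hwc hi' hiS hk0
        rwa [hG.refl_refl hi' hk] at this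

end part2

end Cfsg.Agent.Helper7.Chev
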