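import Mathlib
import Cfsg.Agent.Helper7.WClosC

set_option autoImplicit false
set_option linter.unusedSectionVars false
set_option linter.unusedVariables false

/-!
Weakly closed subgroups of `U` are unipotent radicals of standard parabolic subgroups: the general statement,
given separating elements of `H`.
-/

namespace Cfsg.Agent.Helper7.Chev

open Cfsg Cfsg.Lie Matrix

variable {D : ChevalleyDatum} {F : Type*} [Field F]

section main

variable (hG : Good2 D) (hT : T0 D) (h3 : (tabOf D).T3) (h4 : (tabOf D).T4 60) (h6 : (tabOf D).T6)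
  (h7 : (tabOf D).T7) (h8 : (tabOf D).T8) (h9 : (tabOf D).T9) (h26 : (tabOf D).T26)
  (h52 : (tabOf D).T52)
  {X : Subgroup (GL D.Idx F)} (hXU : X ≤ D.posUnipotent F)
  (hwc : ∀ g ∈ D.group F, X.map (MulAut.conj g).toMonoidHom ≤ D.posUnipotent F →
    X.map (MulAut.conj g).toMonoidHom = X)

include hG hXU hwc in
/-- A weakly closed subgroup of `U` is normalised by `B`. -/
theorem wc_borel_le_normalizer : D.borelSubgroup F ≤ Subgroup.normalizer (X : Set (GL D.Idx F)) := by
  have hG1 := hG.toGood1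
  have hBU : D.borelSubgroup F ≤ Subgroup.normalizer (D.posUnipotent F : Set (GL D.Idx F)) :=
    sup_le Subgroup.le_normalizer (diagonalSubgroup_le_normalizer_pos hG)
  intro b hb
  have hbG : b ∈ D.group F := borelSubgroup_le_group hG1 hb
  have hmapU : X.map (MulAut.conj b).toMonoidHom ≤ D.posUnipotent F := by
    rintro _ ⟨x, hx, rfl⟩
    exact conj_mem_of_mem_normalizer (hBU hb) (hXU hx)
  have hmap := hwc b hbG hmapU
  rw [Subgroup.mem_normalizer_iff]
  intro x
  constructor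
  · intro hx
    have : b * x * b⁻¹ ∈ X.map (MulAut.conj b).toMonoidHom := ⟨x, hx, rfl⟩
    rwa [hmap] at this
  · intro hx
    rw [← hmap] at hx
    obtain ⟨x', hx', e⟩ := hx
    have e' : b * x' * b⁻¹ = b * x * b⁻¹ := e
    have : x' = x := by
      have := congrArg (fun g => b⁻¹ * g * b) e'
      simpa [mul_assoc] using this
    rwa [← this]

include hG hT h3 h4 h6 h7 h8 h9 h26 h52 hXU hwc in
/-- A weakly closed subgroup of `U` is the unipotent radical of a standard parabolic subgroup, provided the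
positive roots can be separated by elements of `H`. -/
theorem wc_main [Finite F]
    (hsep : ∀ m j, D.nroots / 2 ≤ m → ∀ hm : m < D.nroots, m < j → j < D.nroots →
      (∀ m', m < m' → X ⊓ Uge D F m' ≤ wcY D X m') → j ∉ wcS D X →
      (∃ t : F, t ≠ 0 ∧ ∃ y ∈ Uge D F j, xGL hG.toGood1 hm t * y ∈ X) → Sep D F m j) :
    ∃ J : Set ℕ, (∀ j ∈ J, j < D.rank) ∧ X = D.unipotentRadical F J := by
  have hG1 := hG.toGood1
  have hB := wc_borel_le_normalizer hG hXU hwc
  have hL : ∀ m, D.nroots / 2 ≤ m → X ⊓ Uge D F m ≤ wcY D X m := by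
    intro m hm1
    by_cases hm : m ≤ D.nroots
    · exact wc_L1 hG hT h3 h4 h7 h8 h26 hB hsep (D.nroots - m) m (by omega) hm1
    · rw [Uge_eq_bot_of_le (by omega)]
      exact le_trans inf_le_right bot_le
  refine ⟨wcJ D X, fun j hj => hj.1, ?_⟩
  rw [unipotentRadical_eq]
  conv_lhs => rw [wc_eq_wcY hT hXU hL]
  unfold wcY rootGen
  congr 1
  ext g
  constructor
  · rintro ⟨k, t, _, hk, hg⟩
    exact ⟨k, t, ⟨(isPosRoot_iff hT hk.2.1).mpr hk.1,
      wc_not_inRootSub hG hT h6 h9 hXU hL hwc k hk⟩, hg⟩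
  · rintro ⟨k, t, ⟨hkpos, hkJ⟩, hg⟩
    have hk1 := (isPosRoot_iff hT hkpos.1).mp hkpos
    exact ⟨k, t, hk1, wc_mem_of_not_inRootSub hG hT h3 h4 h6 h8 h9 h26 h52 hXU hB hL hwc k hk1
      hkpos.1 hkJ, hg⟩

include hG hT h3 h4 h6 h7 h8 h9 h26 h52 hXU hwc in
/-- The case where all pairs of positive roots are separated according to the table. -/
theorem wc_main_of_T50 [Finite F] {bmax : ℤ} (h50 : (tabOf D).T50 bmax [])
    (hF : ∀ b : ℤ, b ≠ 0 → -bmax ≤ b → b ≤ bmax → ∃ c : F, c ≠ 0 ∧ c ^ b ≠ 1) :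
    ∃ J : Set ℕ, (∀ j ∈ J, j < D.rank) ∧ X = D.unipotentRadical F J :=
  wc_main hG hT h3 h4 h6 h7 h8 h9 h26 h52 hXU hwc
    (fun m j hm1 hm hmj hj _ _ _ => sep_of_T50 h50 hF hm1 hmj hj (by simp))

end main

end Cfsg.Agent.Helper7.Chev
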