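import Mathlib
import Cfsg.Agent.Helper7.WClosD

set_option autoImplicit false
set_option linter.unusedSectionVars false
set_option linter.unusedVariables false

/-!
Weakly closed subgroups of `U`: the pairs of long roots of `G₂`, which are separated by commutators instead of
elements of `H`, and the final statement.
-/

namespace Cfsg.Agent.Helper7.Chev

open Cfsg Cfsg.Lie Matrix

variable {D : ChevalleyDatum} {F : Type*} [Field F]

section comm

variable (hG : Good2 D) (hT : T0 D) (h3 : (tabOf D).T3) (h4 : (tabOf D).T4 60)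
  {X : Subgroup (GL D.Idx F)}
  (hB : D.borelSubgroup F ≤ Subgroup.normalizer (X : Set (GL D.Idx F)))

include hG hT h3 h4 in
/-- A positive root element commutes with `U_{≥ j}` if its commutator terms with the roots from `j` on are empty. -/
theorem wc_commute_Uge {s j : ℕ} (hs1 : D.nroots / 2 ≤ s) (hs : s < D.nroots) (hj1 : D.nroots / 2 ≤ j)
    (hterms : ∀ k, j ≤ k → k < D.nroots → k ≠ s ∧ D.commTerms s k = []) (u : F) :
    ∀ y ∈ Uge D F j, y * xGL hG.toGood1 hs u = xGL hG.toGood1 hs u * y := by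
  have hG1 := hG.toGood1
  have hle : Uge D F j ≤ Subgroup.centralizer {xGL hG1 hs u} := by
    unfold Uge
    rw [Subgroup.closure_le]
    rintro g ⟨k, v, hjk, hk, hg⟩
    rw [eq_xGL hG1 hk hg]
    obtain ⟨hks, ht⟩ := hterms k hjk hk
    have hkn : k ≠ D.neg s := by
      intro h
      have hspos : D.IsPosRoot s := (isPosRoot_iff hT hs).mpr hs1
      have := ((hT s hs).2.1 hspos).2
      omega
    have hc := comm_all (F := F) hG h3 h4 hs hk hks hkn u v
    rw [SetLike.mem_coe, Subgroup.mem_centralizer_iff]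
    intro h hh
    rw [Set.mem_singleton_iff] at hh
    rw [hh]
    apply Units.ext
    rw [Units.val_mul, Units.val_mul, xGL_coe, xGL_coe]
    unfold ChevalleyDatum.commWord at hc
    rw [ht, List.map_nil, wordMat_nil, mul_one] at hc
    exact hc.symm
  intro y hy
  have := hle hy
  rw [Subgroup.mem_centralizer_iff] at this
  exact (this _ rfl).symm

include hG hT h3 h4 hB in
/-- The commutator word of `x_m(t)` with a root element commuting with the tail `y` of `x_m(t) y ∈ X` lies in `X`. -/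
theorem wc_comm_word_mem {m s : ℕ} (hm1 : D.nroots / 2 ≤ m) (hm : m < D.nroots)
    (hs1 : D.nroots / 2 ≤ s) (hs : s < D.nroots) (hsm : s ≠ m) {t u : F} {y : GL D.Idx F}
    (hyU : y ∈ D.posUnipotent F) (hcomm : y * xGL hG.toGood1 hs u = xGL hG.toGood1 hs u * y)
    (hx : xGL hG.toGood1 hm t * y ∈ X) :
    ((D.commWord F m s t u).map (xGL' hG.toGood1)).prod ∈ X := by
  have hG1 := hG.toGood1
  have hsn : s ≠ D.neg m := by
    intro h
    have hmpos : D.IsPosRoot m := (isPosRoot_iff hT hm).mpr hm1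
    have := ((hT m hm).2.1 hmpos).2
    omega
  have hc := comm_all (F := F) hG h3 h4 hm hs hsm hsn t u
  set a := xGL hG1 hs u with ha
  set b := xGL hG1 hm t with hb
  set W := ((D.commWord F m s t u).map (xGL' hG1)).prod with hW
  have e1 : a * b = b * a * W := by
    apply Units.ext
    rw [Units.val_mul, Units.val_mul, Units.val_mul, xGL_coe, xGL_coe, wordGL_coe, hc]
  have haB : a ∈ D.borelSubgroup F := by
    apply (le_sup_left : _ ≤ D.borelSubgroup F)
    exact Subgroup.subset_closure ⟨s, u, (isPosRoot_iff hT hs).mpr hs1, xGL_coe hG1 hs u⟩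
  have hyB : y ∈ D.borelSubgroup F := (le_sup_left : _ ≤ D.borelSubgroup F) hyU
  have h1 : a⁻¹ * (b * y)⁻¹ * a ∈ X := conj_inv_mem_of_mem_normalizer (hB haB) (inv_mem hx)
  have h2 : y * (a⁻¹ * (b * y)⁻¹ * a * (b * y)) * y⁻¹ ∈ X :=
    conj_mem_of_mem_normalizer (hB hyB) (mul_mem h1 hx)
  have e2 : y * (a⁻¹ * (b * y)⁻¹ * a * (b * y)) * y⁻¹ = W := by
    have hW' : W = a⁻¹ * b⁻¹ * a * b := by
      have : a⁻¹ * b⁻¹ * (a * b) = W := by rw [e1]; group
      rw [← this]; group
    have hya : y * a⁻¹ = a⁻¹ * y := by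
      calc y * a⁻¹ = a⁻¹ * (a * y) * a⁻¹ := by group
        _ = a⁻¹ * (y * a) * a⁻¹ := by rw [hcomm]
        _ = a⁻¹ * y := by group
    rw [hW']
    have : y * (a⁻¹ * (b * y)⁻¹ * a * (b * y)) * y⁻¹ = (y * a⁻¹) * y⁻¹ * b⁻¹ * a * b := by group
    rw [this, hya]
    group
  rwa [e2] at h2

end comm

/-! ### The long roots of `G₂` -/

section g2

theorem g2_wc_terms :
    chevG2.commTerms 6 7 = [(8, 1, 1, 1), (9, 1, 1, 2), (10, -1, 1, 3), (11, -2, 2, 3)] ∧
    chevG2.commTerms 10 6 = [(11, -1, 1, 1)] ∧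
    chevG2.commTerms 7 10 = [] ∧ chevG2.commTerms 7 11 = [] ∧ chevG2.commTerms 6 11 = [] := by
  decide +kernel

variable {K : Type*} [Field K] {X : Subgroup (GL chevG2.Idx K)}
  (hB : chevG2.borelSubgroup K ≤ Subgroup.normalizer (X : Set (GL chevG2.Idx K)))

include hB in
/-- If `X_{3a+b} ≤ X` then `X_{3a+2b} ≤ X`. -/
theorem g2_wc_11_of_10 (h10 : 10 ∈ wcS chevG2 X) : 11 ∈ wcS chevG2 X := by
  have hG := good3_G2.toGood2
  have hG1 := hG.toGood1
  have hT := T0_G2
  have h10' : (10 : ℕ) < chevG2.nroots := by decide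
  have h6' : (6 : ℕ) < chevG2.nroots := by decide
  have h11' : (11 : ℕ) < chevG2.nroots := by decide
  apply mem_wcS_of_forall hG1 (by decide) h11'
  intro t
  have hx : xGL hG1 h10' (1 : K) * 1 ∈ X := by
    rw [mul_one]; exact xGL_mem_of_mem_wcS hG1 h10 1
  have := wc_comm_word_mem hG hT good3_G2.t3 good3_G2.t4 hB (m := 10) (s := 6) (by decide) h10'
    (by decide) h6' (by decide) (t := 1) (u := t) (one_mem _) (by rw [one_mul, mul_one]) hx
  unfold ChevalleyDatum.commWord at this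
  rw [g2_wc_terms.2.1] at this
  simp only [List.map_cons, List.map_nil, List.prod_cons, List.prod_nil, mul_one] at this
  have e : xGL' hG1 ((11 : ℕ), (((-1 : ℤ) : K)) * (-1 : K) ^ 1 * t ^ 1) = xGL hG1 h11' t := by
    unfold xGL'
    rw [dif_pos h11']
    congr 1
    push_cast
    ring
  rwa [e] at this

include hB in
/-- The pairs `(b, 3a+b)` and `(b, 3a+2b)`. -/
theorem g2_wc_pair_6 {j : ℕ} (hj : j = 10 ∨ j = 11)
    (hIH : ∀ m', 6 < m' → X ⊓ Uge chevG2 K m' ≤ wcY chevG2 X m')
    (hex : ∃ t : K, t ≠ 0 ∧ ∃ y ∈ Uge chevG2 K j,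
      xGL good3_G2.toGood2.toGood1 (by decide : (6 : ℕ) < chevG2.nroots) t * y ∈ X) :
    j ∈ wcS chevG2 X := by
  have hG := good3_G2.toGood2
  have hG1 := hG.toGood1
  have hT := T0_G2
  obtain ⟨t, ht, y, hy, hx⟩ := hex
  have hy10 : y ∈ Uge chevG2 K 10 := by
    rcases hj with rfl | rfl
    · exact hy
    · exact Uge_anti (by omega) hy
  have h7' : (7 : ℕ) < chevG2.nroots := by decide
  have hcomm := wc_commute_Uge hG hT good3_G2.t3 good3_G2.t4 (s := 7) (j := 10) (by decide) h7'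
    (by decide) (by
      intro k hk1 hk2
      have hk2' : k < 12 := hk2
      have : k = 10 ∨ k = 11 := by omega
      rcases this with rfl | rfl
      · exact ⟨by decide, g2_wc_terms.2.2.1⟩
      · exact ⟨by decide, g2_wc_terms.2.2.2.1⟩) (1 : K) y hy10
  have hyU : y ∈ chevG2.posUnipotent K := Uge_le_posUnipotent hT (by decide) hy10
  have hW := wc_comm_word_mem hG hT good3_G2.t3 good3_G2.t4 hB (m := 6) (s := 7) (by decide)
    (by decide) (by decide) h7' (by decide) (t := t) (u := 1) hyU hcomm hx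
  have h10 : 10 ∈ wcS chevG2 X := by
    have hext := wc_extract hG hT T8_G2 (m₀ := 7) (by decide) (fun m' hm' => hIH m' (by omega))
      (chevG2.commWord K 6 7 t 1)
      (by
        unfold ChevalleyDatum.commWord
        rw [g2_wc_terms.1]
        simp)
      (by
        unfold ChevalleyDatum.commWord
        rw [g2_wc_terms.1]
        intro q hq
        simp only [List.map_cons, List.map_nil, List.mem_cons, List.not_mem_nil, or_false] at hq
        rcases hq with rfl | rfl | rfl | rfl <;> dsimp only <;> exact ⟨by decide, by decide⟩)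
      hW ((10 : ℕ), (((-1 : ℤ) : K)) * (-t) ^ 1 * (1 : K) ^ 3)
      (by
        unfold ChevalleyDatum.commWord
        rw [g2_wc_terms.1]
        simp)
      (by
        simp only [one_pow, mul_one]
        intro h
        apply ht
        have : ((-1 : ℤ) : K) * (-t) ^ 1 = t := by push_cast; ring
        rw [this] at h
        exact h)
    exact hext
  rcases hj with rfl | rfl
  · exact h10
  · exact g2_wc_11_of_10 hB h10

include hB in
/-- The pair `(3a+b, 3a+2b)`. -/
theorem g2_wc_pair_10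
    (hex : ∃ t : K, t ≠ 0 ∧ ∃ y ∈ Uge chevG2 K 11,
      xGL good3_G2.toGood2.toGood1 (by decide : (10 : ℕ) < chevG2.nroots) t * y ∈ X) :
    11 ∈ wcS chevG2 X := by
  have hG := good3_G2.toGood2
  have hG1 := hG.toGood1
  have hT := T0_G2
  obtain ⟨t, ht, y, hy, hx⟩ := hex
  have h6' : (6 : ℕ) < chevG2.nroots := by decide
  have h10' : (10 : ℕ) < chevG2.nroots := by decide
  have h11' : (11 : ℕ) < chevG2.nroots := by decide
  have hyU : y ∈ chevG2.posUnipotent K := Uge_le_posUnipotent hT (by decide) hy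
  apply mem_wcS_of_forall hG1 (by decide) h11'
  intro t'
  have hcomm := wc_commute_Uge hG hT good3_G2.t3 good3_G2.t4 (s := 6) (j := 11) (by decide) h6'
    (by decide) (by
      intro k hk1 hk2
      have hk2' : k < 12 := hk2
      have : k = 11 := by omega
      subst this
      exact ⟨by decide, g2_wc_terms.2.2.2.2⟩) (t' / t) y hy
  have := wc_comm_word_mem hG hT good3_G2.t3 good3_G2.t4 hB (m := 10) (s := 6) (by decide) h10'
    (by decide) h6' (by decide) (t := t) (u := t' / t) hyU hcomm hx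
  unfold ChevalleyDatum.commWord at this
  rw [g2_wc_terms.2.1] at this
  simp only [List.map_cons, List.map_nil, List.prod_cons, List.prod_nil, mul_one] at this
  have e : xGL' hG1 ((11 : ℕ), (((-1 : ℤ) : K)) * (-t) ^ 1 * (t' / t) ^ 1) = xGL hG1 h11' t' := by
    unfold xGL'
    rw [dif_pos h11']
    congr 1
    push_cast
    field_simp
  rwa [e] at this

include hB in
/-- Separation of the positive roots of `G₂`, the pairs of long roots being excluded by commutators. -/
theorem g2_wc_sep [Fintype K] (h4 : 4 ≤ Fintype.card K) :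
    ∀ m j, chevG2.nroots / 2 ≤ m → ∀ hm : m < chevG2.nroots, m < j → j < chevG2.nroots →
      (∀ m', m < m' → X ⊓ Uge chevG2 K m' ≤ wcY chevG2 X m') → j ∉ wcS chevG2 X →
      (∃ t : K, t ≠ 0 ∧ ∃ y ∈ Uge chevG2 K j, xGL good3_G2.toGood2.toGood1 hm t * y ∈ X) →
      Sep chevG2 K m j := by
  intro m j hm1 hm hmj hj hIH hjS hex
  by_cases hexc : (m, j) ∈ [(6, 10), (6, 11), (10, 11)]
  · exfalso
    apply hjS
    simp only [List.mem_cons, Prod.mk.injEq, List.not_mem_nil, or_false] at hexc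
    rcases hexc with ⟨rfl, rfl⟩ | ⟨rfl, rfl⟩ | ⟨rfl, rfl⟩
    · exact g2_wc_pair_6 hB (Or.inl rfl) hIH hex
    · exact g2_wc_pair_6 hB (Or.inr rfl) hIH hex
    · exact g2_wc_pair_10 hB hex
  · exact sep_of_T50 T50_G2
      (fun b hb0 hb1 hb2 => exists_zpow_ne_one_of_four_le h4 hb0 hb1 hb2) hm1 hmj hj hexc

end g2

/-- The statement S2244. -/
theorem chev_S2244 {F : Type*} [Field F] [Fintype F] (D : ChevalleyDatum)
    (hD : D ∈ [chevG2, chevB2, chevD4, chevF4, chevE6, chevE7, chevE8])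
    (h2 : Fintype.card F ≠ 2)
    (h3 : D ∈ [chevG2, chevB2, chevD4, chevF4] → Fintype.card F ≠ 3)
    (X : Subgroup (GL D.Idx F)) (hXU : X ≤ D.posUnipotent F)
    (hwc : ∀ g ∈ D.group F, X.map (MulAut.conj g).toMonoidHom ≤ D.posUnipotent F →
      X.map (MulAut.conj g).toMonoidHom = X) :
    ∃ J : Set ℕ, (∀ j ∈ J, j < D.rank) ∧ X = D.unipotentRadical F J := by
  have hG := good3_of_mem D hD
  have hT := T0_of_mem D hD
  have h6 := T6_of_mem D hD
  have h7 := T7_of_mem D hD
  have h8 := T8_of_mem D hD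
  have h9 := T9_of_mem D hD
  have h26 := T26_of_mem D hD
  have h52 := T52_of_mem D hD
  have hc1 : 1 < Fintype.card F := Fintype.one_lt_card
  have hc3 : 3 ≤ Fintype.card F := by omega
  have hF1 : ∀ b : ℤ, b ≠ 0 → -1 ≤ b → b ≤ 1 → ∃ c : F, c ≠ 0 ∧ c ^ b ≠ 1 :=
    fun b hb0 hb1 hb2 => exists_zpow_ne_one_of_three_le hc3 (by omega)
  simp only [List.mem_cons, List.not_mem_nil, or_false] at hD
  rcases hD with rfl | rfl | rfl | rfl | rfl | rfl | rfl
  · have hc4 : 4 ≤ Fintype.card F := by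
      have := h3 (by simp)
      omega
    exact wc_main hG.toGood2 hT hG.t3 hG.t4 h6 h7 h8 h9 h26 h52 hXU hwc
      (g2_wc_sep (wc_borel_le_normalizer hG.toGood2 hXU hwc) hc4)
  · have hc4 : 4 ≤ Fintype.card F := by
      have := h3 (by simp)
      omega
    exact wc_main_of_T50 hG.toGood2 hT hG.t3 hG.t4 h6 h7 h8 h9 h26 h52 hXU hwc T50_B2
      (fun b hb0 hb1 hb2 => exists_zpow_ne_one_of_four_le hc4 hb0 hb1 hb2)
  · have hc4 : 4 ≤ Fintype.card F := by
      have := h3 (by simp)
      omega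
    exact wc_main_of_T50 hG.toGood2 hT hG.t3 hG.t4 h6 h7 h8 h9 h26 h52 hXU hwc T50_D4
      (fun b hb0 hb1 hb2 => exists_zpow_ne_one_of_four_le hc4 hb0 hb1 hb2)
  · have hc4 : 4 ≤ Fintype.card F := by
      have := h3 (by simp)
      omega
    exact wc_main_of_T50 hG.toGood2 hT hG.t3 hG.t4 h6 h7 h8 h9 h26 h52 hXU hwc T50_F4
      (fun b hb0 hb1 hb2 => exists_zpow_ne_one_of_four_le hc4 hb0 hb1 hb2)
  · exact wc_main_of_T50 hG.toGood2 hT hG.t3 hG.t4 h6 h7 h8 h9 h26 h52 hXU hwc T50_E6 hF1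
  · exact wc_main_of_T50 hG.toGood2 hT hG.t3 hG.t4 h6 h7 h8 h9 h26 h52 hXU hwc T50_E7 hF1
  · exact wc_main_of_T50 hG.toGood2 hT hG.t3 hG.t4 h6 h7 h8 h9 h26 h52 hXU hwc T50_E8 hF1

end Cfsg.Agent.Helper7.Chev
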