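import Mathlib

set_option autoImplicit false

/-!
The stabiliser in `Sym(Ω)` of a partition into `b ≥ 2` blocks of equal size `a ≥ 2` is a maximal subgroup.
-/

namespace Cfsg.Agent.Helper7.WMax

open Equiv MulAction
open scoped Pointwise

variable {Ω : Type*} [Fintype Ω] [DecidableEq Ω] {b : ℕ}

/-- The stabiliser of the partition into fibres of `f`. -/
def partStab (f : Ω → Fin b) : Subgroup (Perm Ω) where
  carrier := {g : Perm Ω | ∀ x y : Ω, f x = f y ↔ f (g x) = f (g y)}
  mul_mem' := by
    intro g h hg hh x y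
    rw [Perm.mul_apply, Perm.mul_apply, ← hg, ← hh]
  one_mem' := by
    intro x y
    rfl
  inv_mem' := by
    intro g hg x y
    have := hg (g⁻¹ x) (g⁻¹ y)
    have e : ∀ z : Ω, g (g⁻¹ z) = z := fun z => by
      rw [← Perm.mul_apply, mul_inv_cancel, Perm.one_apply]
    rw [e, e] at this
    exact this.symm

theorem mem_partStab (f : Ω → Fin b) (g : Perm Ω) :
    g ∈ partStab f ↔ ∀ x y : Ω, f x = f y ↔ f (g x) = f (g y) := Iff.rfl

theorem closure_eq (f : Ω → Fin b) :
    Subgroup.closure {g : Perm Ω | ∀ x y : Ω, f x = f y ↔ f (g x) = f (g y)} = partStab f :=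
  Subgroup.closure_eq (partStab f)

theorem swap_mem (f : Ω → Fin b) {x y : Ω} (h : f x = f y) : swap x y ∈ partStab f := by
  have key : ∀ u : Ω, f (swap x y u) = f u := by
    intro u
    by_cases hx : u = x
    · rw [hx, swap_apply_left, h]
    · by_cases hy : u = y
      · rw [hy, swap_apply_right, h]
      · rw [swap_apply_of_ne_of_ne hx hy]
  intro u v
  rw [key, key]

section coords

variable {a : ℕ} (f : Ω → Fin b) (hf : ∀ i : Fin b, Nat.card {x : Ω // f x = i} = a)

/-- Coordinates on `Ω` adapted to the partition. -/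
noncomputable def coord : Ω ≃ Fin b × Fin a :=
  (Equiv.sigmaFiberEquiv f).symm.trans
    ((Equiv.sigmaCongrRight fun i => Finite.equivFinOfCardEq (hf i)).trans
      (Equiv.sigmaEquivProd (Fin b) (Fin a)))

theorem coord_fst (x : Ω) : (coord f hf x).1 = f x := rfl

/-- The lift of a permutation of the blocks. -/
noncomputable def lift (π : Perm (Fin b)) : Perm Ω :=
  (coord f hf).trans ((Equiv.prodCongr π (Equiv.refl (Fin a))).trans (coord f hf).symm)

theorem coord_lift (π : Perm (Fin b)) (x : Ω) :
    coord f hf (lift f hf π x) = (π (f x), (coord f hf x).2) := by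
  unfold lift
  simp only [Equiv.trans_apply, Equiv.apply_symm_apply, Equiv.prodCongr_apply, Prod.map_apply,
    Equiv.refl_apply]
  rfl

theorem f_lift (π : Perm (Fin b)) (x : Ω) : f (lift f hf π x) = π (f x) := by
  rw [← coord_fst f hf, coord_lift]

theorem lift_fix (π : Perm (Fin b)) {x : Ω} (h : π (f x) = f x) : lift f hf π x = x := by
  apply (coord f hf).injective
  rw [coord_lift, h]
  rfl

theorem lift_mem (π : Perm (Fin b)) : lift f hf π ∈ partStab f := by
  intro x y
  rw [f_lift f hf, f_lift f hf]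
  exact (π.injective.eq_iff).symm

end coords

section blocks

variable {a : ℕ} (f : Ω → Fin b) (hf : ∀ i : Fin b, Nat.card {x : Ω // f x = i} = a)

include hf in
theorem isPretransitive_partStab : IsPretransitive (partStab f) Ω := by
  constructor
  intro x y
  have h1 : f (lift f hf (swap (f x) (f y)) x) = f y := by
    rw [f_lift f hf, swap_apply_left]
  refine ⟨⟨swap (lift f hf (swap (f x) (f y)) x) y * lift f hf (swap (f x) (f y)), ?_⟩, ?_⟩
  · exact (partStab f).mul_mem (swap_mem f h1) (lift_mem f hf _)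
  · change (swap (lift f hf (swap (f x) (f y)) x) y * lift f hf (swap (f x) (f y))) x = y
    rw [Perm.mul_apply, swap_apply_left]

variable {f}

/-- An element of `G` fixing a point of the block `B` maps `B` into itself. -/
theorem mem_of_fix {G : Subgroup (Perm Ω)} {B : Set Ω} (hB : IsBlock G B) {k : Perm Ω} (hk : k ∈ G)
    {x : Ω} (hx : x ∈ B) (hkx : k x = x) {y : Ω} (hy : y ∈ B) : k y ∈ B := by
  have h1 : (⟨k, hk⟩ : G) • B = B := by
    apply hB.smul_eq_of_mem hx
    change k x ∈ B
    rw [hkx]; exact hx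
  rw [← h1]
  exact ⟨y, hy, rfl⟩

/-- If a block contains points `x`, `y` of different fibres, it contains the fibre of `y`. -/
theorem fibre_subset_of_ne {G : Subgroup (Perm Ω)} (hG : partStab f ≤ G) {B : Set Ω}
    (hB : IsBlock G B) {x y : Ω} (hx : x ∈ B) (hy : y ∈ B) (hxy : f y ≠ f x) {z : Ω}
    (hz : f z = f y) : z ∈ B := by
  by_cases hzy : z = y
  · rw [hzy]; exact hy
  · have hxy' : x ≠ y := fun h => hxy (by rw [h])
    have hxz : x ≠ z := fun h => hxy (by rw [← hz, h])
    have := mem_of_fix hB (hG (swap_mem f hz.symm)) hx (swap_apply_of_ne_of_ne hxy' hxz) hy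
    rwa [swap_apply_left] at this

/-- If a block contains two points of the same fibre, it contains that fibre. -/
theorem fibre_subset_of_eq {G : Subgroup (Perm Ω)} (hG : partStab f ≤ G) {B : Set Ω}
    (hB : IsBlock G B) {x y : Ω} (hx : x ∈ B) (hy : y ∈ B) (hne : y ≠ x) (hxy : f y = f x) {z : Ω}
    (hz : f z = f x) : z ∈ B := by
  by_cases hzx : z = x
  · rw [hzx]; exact hx
  by_cases hzy : z = y
  · rw [hzy]; exact hy
  · have := mem_of_fix hB (hG (swap_mem f (hxy.trans hz.symm))) hx
      (swap_apply_of_ne_of_ne hne.symm (fun h => hzx h.symm)) hy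
    rwa [swap_apply_left] at this

include hf in
/-- A block containing points of different fibres is everything. -/
theorem eq_univ_of_ne {G : Subgroup (Perm Ω)} (hG : partStab f ≤ G) {B : Set Ω}
    (hB : IsBlock G B) {x y : Ω} (hx : x ∈ B) (hy : y ∈ B) (hxy : f y ≠ f x) : B = Set.univ := by
  rw [Set.eq_univ_iff_forall]
  intro w
  by_cases hwx : f w = f x
  · exact fibre_subset_of_ne hG hB hy hx (Ne.symm hxy) hwx
  by_cases hwy : f w = f y
  · exact fibre_subset_of_ne hG hB hx hy hxy hwy
  · have hfix : lift f hf (swap (f y) (f w)) x = x := by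
      apply lift_fix
      exact swap_apply_of_ne_of_ne (Ne.symm hxy) (Ne.symm hwx)
    have hy' := mem_of_fix hB (hG (lift_mem f hf (swap (f y) (f w)))) hx hfix hy
    have hfy' : f (lift f hf (swap (f y) (f w)) y) = f w := by
      rw [f_lift f hf, swap_apply_left]
    exact fibre_subset_of_ne hG hB hx hy' (by rw [hfy']; exact hwx) hfy'.symm

include hf in
/-- Nontrivial blocks are fibres. -/
theorem mem_block_iff {G : Subgroup (Perm Ω)} (hG : partStab f ≤ G) {B : Set Ω}
    (hB : IsBlock G B) (hnt : ¬ IsTrivialBlock B) {x : Ω} (hx : x ∈ B) (z : Ω) :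
    z ∈ B ↔ f z = f x := by
  have hsub : ¬ B.Subsingleton := fun h => hnt (Or.inl h)
  have huniv : B ≠ Set.univ := fun h => hnt (Or.inr h)
  have h1 : ∀ y ∈ B, f y = f x := by
    intro y hy
    by_contra hne
    exact huniv (eq_univ_of_ne hf hG hB hx hy hne)
  constructor
  · exact h1 z
  · intro hz
    rw [Set.not_subsingleton_iff] at hsub
    obtain ⟨y, hy, hyx⟩ := hsub.exists_ne x
    exact fibre_subset_of_eq hG hB hx hy hyx (h1 y hy) hz

end blocks

section main

variable {a : ℕ}

/-- The stabiliser of a partition into `b ≥ 2` parts of size `a ≥ 2` is maximal. -/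
theorem isCoatom_partStab (ha : 2 ≤ a) (hb : 2 ≤ b) (f : Ω → Fin b)
    (hf : ∀ i : Fin b, Nat.card {x : Ω // f x = i} = a) : IsCoatom (partStab f) := by
  -- two points in one fibre and a point in another
  have hnt0 : Nontrivial {x : Ω // f x = (⟨0, by omega⟩ : Fin b)} := by
    rw [← Finite.one_lt_card_iff_nontrivial, hf]
    omega
  obtain ⟨x₀, x₁, h01⟩ := hnt0
  have hne1 : Nonempty {x : Ω // f x = (⟨1, by omega⟩ : Fin b)} := by
    rw [← Finite.card_pos_iff, hf]
    omega
  obtain ⟨y⟩ := hne1
  have h01' : (x₀ : Ω) ≠ x₁ := fun h => h01 (Subtype.ext h)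
  have hi : (⟨0, by omega⟩ : Fin b) ≠ ⟨1, by omega⟩ := by
    intro h
    have := congrArg Fin.val h
    simp at this
  have hx0y : (x₀ : Ω) ≠ y := fun h => hi (by rw [← x₀.2, ← y.2, h])
  have hx1y : (x₁ : Ω) ≠ y := fun h => hi (by rw [← x₁.2, ← y.2, h])
  refine ⟨?_, ?_⟩
  · intro htop
    have hmem : swap (x₁ : Ω) y ∈ partStab f := by rw [htop]; exact Subgroup.mem_top _
    have := (hmem x₀ x₁).mp (by rw [x₀.2, x₁.2])
    rw [swap_apply_of_ne_of_ne h01' hx0y, swap_apply_left, x₀.2, y.2] at this
    exact hi this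
  · intro G hKG
    have hswap : swap (x₀ : Ω) x₁ ∈ G := hKG.le (swap_mem f (by rw [x₀.2, x₁.2]))
    refine Equiv.Perm.subgroup_eq_top_of_isPreprimitive_of_isSwap_mem ?_ _ ⟨x₀, x₁, h01', rfl⟩ hswap
    have htrans : IsPretransitive G Ω := by
      have := isPretransitive_partStab f hf
      constructor
      intro x y
      obtain ⟨k, hk⟩ := exists_smul_eq (partStab f) x y
      exact ⟨⟨k.1, hKG.le k.2⟩, hk⟩
    refine { toIsPretransitive := htrans, isTrivialBlock_of_isBlock := ?_ }
    intro B hB
    by_contra hnt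
    have hne : B.Nonempty := by
      by_contra hempty
      rw [Set.not_nonempty_iff_eq_empty] at hempty
      exact hnt (Or.inl (by rw [hempty]; exact Set.subsingleton_empty))
    obtain ⟨x, hx⟩ := hne
    have key : ∀ g : G, ∀ x' y' : Ω, f x' = f y' → f ((g : Perm Ω) x') = f ((g : Perm Ω) y') := by
      intro g x' y' hxy
      obtain ⟨h, hh⟩ := exists_smul_eq G x x'
      have hB₁ : IsBlock G (h • B) := hB.translate h
      have hnt₁ : ¬ IsTrivialBlock (h • B) := fun H => hnt ((IsTrivialBlock.smul_iff h).mp H)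
      have hx' : x' ∈ h • B := by
        rw [← hh]; exact Set.smul_mem_smul_set hx
      have hy' : y' ∈ h • B := (mem_block_iff hf hKG.le hB₁ hnt₁ hx' y').mpr hxy.symm
      have hB₂ : IsBlock G (g • (h • B)) := hB₁.translate g
      have hnt₂ : ¬ IsTrivialBlock (g • (h • B)) := fun H => hnt₁ ((IsTrivialBlock.smul_iff g).mp H)
      have hgx' : (g : Perm Ω) x' ∈ g • (h • B) := Set.smul_mem_smul_set (a := g) hx'
      have hgy' : (g : Perm Ω) y' ∈ g • (h • B) := Set.smul_mem_smul_set (a := g) hy'
      exact ((mem_block_iff hf hKG.le hB₂ hnt₂ hgx' _).mp hgy').symm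
    have hle : G ≤ partStab f := by
      intro g hg x' y'
      constructor
      · exact key ⟨g, hg⟩ x' y'
      · intro h
        have := key ⟨g⁻¹, G.inv_mem hg⟩ (g x') (g y') h
        simpa using this
    exact absurd hle (not_le_of_gt hKG)

end main

end Cfsg.Agent.Helper7.WMax
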